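import Mathlib
import Cfsg.Prelude.Def_OddOrderLocal
set_option linter.all false

set_option autoImplicit false

/-!
`p`-rank of quotients by normal `p'`-subgroups, and lifting of elementary abelian subgroups.
-/

namespace Cfsg.Agent.OddOrderLocal.RankQuot

open Cfsg

universe u v

/-- A subgroup all of whose elements have order dividing `p` is a `p`-group. -/
theorem isPGroup_of_pow_eq_one {G : Type u} [Group G] {p : ℕ} {A : Subgroup G}
    (h : ∀ a ∈ A, a ^ p = 1) : IsPGroup p A := by
  intro a
  refine ⟨1, ?_⟩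
  rw [pow_one]
  exact Subtype.ext (h a a.2)

/-- If `f` is injective on the subgroup `T` and maps `T` into an elementary abelian `A`, then `T` is
elementary abelian. -/
theorem elementary_of_map_le {G : Type u} {H : Type v} [Group G] [Group H] {p : ℕ} (f : G →* H)
    (T : Subgroup G) (A : Subgroup H) (hA : IsMulCommutative A) (hAp : ∀ a ∈ A, a ^ p = 1)
    (hle : T.map f ≤ A) (hinj : ∀ x ∈ T, f x = 1 → x = 1) :
    IsMulCommutative T ∧ ∀ a ∈ T, a ^ p = 1 := by
  have hmem : ∀ x ∈ T, f x ∈ A := fun x hx => hle ⟨x, hx, rfl⟩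
  refine ⟨⟨⟨fun a b => ?_⟩⟩, ?_⟩
  · have h1 : f ((a : G) * b * (a : G)⁻¹ * (b : G)⁻¹) = 1 := by
      have h2 := hA.is_comm.comm (⟨f a, hmem a a.2⟩ : A) ⟨f b, hmem b b.2⟩
      have h3 : f a * f b = f b * f a := congrArg Subtype.val h2
      rw [map_mul, map_mul, map_mul, map_inv, map_inv, h3]
      group
    have h4 := hinj _ (T.mul_mem (T.mul_mem (T.mul_mem a.2 b.2) (T.inv_mem a.2)) (T.inv_mem b.2)) h1
    apply Subtype.ext
    show (a : G) * b = b * a
    have h5 : (a : G) * b * (a : G)⁻¹ * (b : G)⁻¹ * (b * a) = 1 * (b * a) := by rw [h4]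
    rw [one_mul] at h5
    rw [← h5]; group
  · intro a ha
    apply hinj _ (T.pow_mem ha p)
    rw [map_pow]
    exact hAp _ (hmem a ha)

/-- Lifting: every `p`-subgroup `A` of the quotient by a normal `p'`-subgroup `N` is the isomorphic
image of a `p`-subgroup. -/
theorem exists_lift_of_not_dvd {G : Type u} [Group G] [Finite G] {p : ℕ} [hp : Fact p.Prime]
    (N : Subgroup G) [N.Normal] (hN : ¬ p ∣ Nat.card N) (A : Subgroup (G ⧸ N))
    (hA : IsPGroup p A) :
    ∃ T : Subgroup G, IsPGroup p T ∧ T.map (QuotientGroup.mk' N) = A ∧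
      (∀ x ∈ T, QuotientGroup.mk' N x = 1 → x = 1) ∧ Nat.card T = Nat.card A := by
  obtain ⟨S⟩ : Nonempty (Sylow p (A.comap (QuotientGroup.mk' N))) := inferInstance
  set B := A.comap (QuotientGroup.mk' N) with hB
  set T : Subgroup G := (S : Subgroup B).map B.subtype with hT
  have hTp : IsPGroup p T := S.isPGroup'.map _
  have hinj : ∀ x ∈ T, QuotientGroup.mk' N x = 1 → x = 1 := by
    intro x hx h1
    have hxN : x ∈ N := by rwa [← MonoidHom.mem_ker, QuotientGroup.ker_mk'] at h1
    obtain ⟨k, hk⟩ := hTp ⟨x, hx⟩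
    have hk' : x ^ p ^ k = 1 := congrArg Subtype.val hk
    have h2 : orderOf x ∣ p ^ k := orderOf_dvd_of_pow_eq_one hk'
    have h3 : orderOf x ∣ Nat.card N := by
      have := orderOf_dvd_natCard (⟨x, hxN⟩ : N)
      rwa [Subgroup.orderOf_mk] at this
    have h4 : Nat.Coprime (p ^ k) (Nat.card N) :=
      Nat.Coprime.pow_left k ((Nat.Prime.coprime_iff_not_dvd hp.out).mpr hN)
    have h5 : orderOf x = 1 := Nat.eq_one_of_dvd_coprimes h4 h2 h3
    exact orderOf_eq_one_iff.mp h5
  have hle : T.map (QuotientGroup.mk' N) ≤ A := by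
    rw [Subgroup.map_le_iff_le_comap]
    exact Subgroup.map_subtype_le _
  -- orders
  have hcardB : Nat.card N * Nat.card A = Nat.card B := by
    have hle' : N ≤ B := by
      intro x hx
      rw [hB, Subgroup.mem_comap]
      have : QuotientGroup.mk' N x = 1 := by
        rw [← MonoidHom.mem_ker, QuotientGroup.ker_mk']; exact hx
      rw [this]; exact A.one_mem
    have h1 : Nat.card N * N.relIndex B = Nat.card B := by
      have := Subgroup.relIndex_mul_relIndex (⊥ : Subgroup G) N B bot_le hle'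
      simpa using this
    rw [← h1]
    congr 1
    have h2 := Subgroup.relIndex_ker (K := B) (QuotientGroup.mk' N)
    rw [QuotientGroup.ker_mk', hB, Subgroup.map_comap_eq_self_of_surjective
      (QuotientGroup.mk'_surjective N)] at h2
    exact h2.symm
  have hcardTle : Nat.card A ∣ Nat.card T := by
    obtain ⟨n, hn⟩ := hA.exists_card_eq
    have h1 : p ^ n ∣ Nat.card B := by
      rw [← hcardB, hn]; exact dvd_mul_left _ _
    have h2 := S.pow_dvd_card_of_pow_dvd_card h1
    have h3 : Nat.card T = Nat.card S :=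
      Nat.card_congr ((S : Subgroup B).equivMapOfInjective _ B.subtype_injective).toEquiv.symm
    rw [hn, h3]
    exact h2
  have hcardmap : Nat.card (T.map (QuotientGroup.mk' N)) = Nat.card T := by
    have hinj' : Function.Injective ((QuotientGroup.mk' N).comp T.subtype) := by
      rw [injective_iff_map_eq_one]
      intro a ha
      exact Subtype.ext (hinj a a.2 ha)
    have h1 : ((QuotientGroup.mk' N).comp T.subtype).range = T.map (QuotientGroup.mk' N) := by
      rw [MonoidHom.range_comp, Subgroup.range_subtype]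
    rw [← h1]
    exact Nat.card_congr (MonoidHom.ofInjective hinj').toEquiv.symm
  have heq : T.map (QuotientGroup.mk' N) = A := by
    apply Subgroup.eq_of_le_of_card_ge hle
    rw [hcardmap]
    exact Nat.le_of_dvd Nat.card_pos hcardTle
  exact ⟨T, hTp, heq, hinj, by rw [← hcardmap, heq]⟩

/-- The `p`-rank does not increase in the quotient by a normal `p'`-subgroup. -/
theorem pRankLE_quotient_of_not_dvd {G : Type u} [Group G] [Finite G] {p k : ℕ}
    [hp : Fact p.Prime] (N : Subgroup G) [N.Normal] (hN : ¬ p ∣ Nat.card N)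
    (h : Cfsg.PRankLE p k G) : Cfsg.PRankLE p k (G ⧸ N) := by
  intro A hA hAp
  obtain ⟨T, _, hT2, hT3, hT4⟩ :=
    exists_lift_of_not_dvd N hN A (isPGroup_of_pow_eq_one hAp)
  obtain ⟨h1, h2⟩ := elementary_of_map_le (QuotientGroup.mk' N) T A hA hAp hT2.le hT3
  rw [← hT4]
  exact h T h1 h2

/-- If `p` does not divide the order of `G` then the `p`-rank of `G` is `0`. -/
theorem pRankLE_of_not_dvd {G : Type u} [Group G] [Finite G] {p k : ℕ} [hp : Fact p.Prime]
    (h : ¬ p ∣ Nat.card G) : Cfsg.PRankLE p k G := by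
  intro A _ hAp
  obtain ⟨n, hn⟩ := (isPGroup_of_pow_eq_one hAp).exists_card_eq
  rcases Nat.eq_zero_or_pos n with h0 | h0
  · rw [hn, h0, pow_zero]
    exact Nat.one_le_pow _ _ hp.out.pos
  · exact absurd ((dvd_pow_self p h0.ne').trans (hn ▸ Subgroup.card_subgroup_dvd_card A)) h

/-- Transport of the rank bound along an injection. -/
theorem pRankLE_of_injective' {G : Type u} {H : Type v} [Group G] [Group H] {p k : ℕ}
    (f : G →* H) (hf : Function.Injective f) (h : Cfsg.PRankLE p k H) : Cfsg.PRankLE p k G := by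
  intro A hA hAp
  have h1 : Nat.card A = Nat.card (A.map f) :=
    Nat.card_congr (A.equivMapOfInjective f hf).toEquiv
  rw [h1]
  refine h (A.map f) ⟨⟨?_⟩⟩ ?_
  · rintro ⟨_, a, ha, rfl⟩ ⟨_, b, hb, rfl⟩
    apply Subtype.ext
    show f a * f b = f b * f a
    rw [← map_mul, ← map_mul]
    have := hA.is_comm.comm (⟨a, ha⟩ : A) ⟨b, hb⟩
    exact congrArg f (congrArg Subtype.val this)
  · rintro _ ⟨a, ha, rfl⟩
    rw [← map_pow, hAp a ha, map_one]

end Cfsg.Agent.OddOrderLocal.RankQuot
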