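import Mathlib
import Cfsg.Prelude.Def_OddOrderLocal
import Cfsg.Agent.Solvable.Hall
set_option linter.all false

/-!
Hall `π`-subgroups of a solvable subgroup `M` of `G`, in the form of the predicate
`Cfsg.IsPiHallOf π K M`: existence, dominance, conjugacy; complements (`Cfsg.IsComplIn`) of a normal
Hall subgroup; a normal Hall `π`-subgroup contains all `π`-subgroups and `π`-elements.
-/

set_option autoImplicit false
set_option linter.unusedSectionVars false

namespace Cfsg.Agent.OddOrderLocal.HallPi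

open Cfsg

/-! ### π-parts of natural numbers -/

/-- every nonzero `n` is the product of a `π`-number and a `π'`-number. -/
theorem exists_pi_factor (π : Set ℕ) (n : ℕ) (hn : n ≠ 0) :
    ∃ a b : ℕ, n = a * b ∧ (∀ p : ℕ, p.Prime → p ∣ a → p ∈ π) ∧
      (∀ p : ℕ, p.Prime → p ∣ b → p ∉ π) := by
  classical
  revert hn
  induction n using Nat.recOnMul with
  | zero => intro h; exact absurd rfl h
  | one =>
    intro _
    refine ⟨1, 1, rfl, ?_, ?_⟩
    · intro p hp h; exact absurd (Nat.dvd_one.mp h) hp.one_lt.ne'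
    · intro p hp h; exact absurd (Nat.dvd_one.mp h) hp.one_lt.ne'
  | prime q hq =>
    intro _
    by_cases h : q ∈ π
    · refine ⟨q, 1, (mul_one q).symm, ?_, ?_⟩
      · intro p hp hd
        rw [(Nat.prime_dvd_prime_iff_eq hp hq).mp hd]; exact h
      · intro p hp h; exact absurd (Nat.dvd_one.mp h) hp.one_lt.ne'
    · refine ⟨1, q, (one_mul q).symm, ?_, ?_⟩
      · intro p hp h; exact absurd (Nat.dvd_one.mp h) hp.one_lt.ne'
      · intro p hp hd
        rw [(Nat.prime_dvd_prime_iff_eq hp hq).mp hd]; exact h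
  | mul x y hx hy =>
    intro hxy
    obtain ⟨a, b, hab, ha, hb⟩ := hx (left_ne_zero_of_mul hxy)
    obtain ⟨c, d, hcd, hc, hd⟩ := hy (right_ne_zero_of_mul hxy)
    refine ⟨a * c, b * d, ?_, ?_, ?_⟩
    · rw [hab, hcd]; ring
    · intro p hp h
      rcases (hp.dvd_mul).mp h with h | h
      · exact ha p hp h
      · exact hc p hp h
    · intro p hp h
      rcases (hp.dvd_mul).mp h with h | h
      · exact hb p hp h
      · exact hd p hp h

/-- a `π`-number and a `π'`-number are coprime. -/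
theorem coprime_of_pi {π : Set ℕ} {a b : ℕ} (ha : ∀ p : ℕ, p.Prime → p ∣ a → p ∈ π)
    (hb : ∀ p : ℕ, p.Prime → p ∣ b → p ∉ π) : a.Coprime b := by
  by_contra h
  obtain ⟨p, hp, h1, h2⟩ := Nat.Prime.not_coprime_iff_dvd.mp h
  exact hb p hp h2 (ha p hp h1)

/-! ### Basic facts on `IsPiHallOf` -/

section

variable {G : Type*} [Group G]

theorem isPiHallOf_def {π : Set ℕ} {H M : Subgroup G} : Cfsg.IsPiHallOf π H M ↔
    H ≤ M ∧ (∀ p : ℕ, p.Prime → p ∣ Nat.card H → p ∈ π) ∧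
      ∀ p : ℕ, p.Prime → p ∈ π → ¬ p ∣ H.relIndex M := Iff.rfl

/-- card H * [M : H] = card M for H ≤ M. -/
theorem card_mul_relIndex {H M : Subgroup G} (h : H ≤ M) :
    Nat.card H * H.relIndex M = Nat.card M := by
  have := Subgroup.relIndex_mul_relIndex (⊥ : Subgroup G) H M bot_le h
  simpa using this

theorem relIndex_map_subtype {M : Subgroup G} (H : Subgroup M) :
    (H.map M.subtype).relIndex M = H.index := by
  rw [Subgroup.relIndex, Subgroup.subgroupOf,
    Subgroup.comap_map_eq_self_of_injective M.subtype_injective]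

theorem isPiHallOf_map_subtype {π : Set ℕ} {M : Subgroup G} {H : Subgroup M} :
    Cfsg.IsPiHallOf π (H.map M.subtype) M ↔
      (∀ p : ℕ, p.Prime → p ∣ Nat.card H → p ∈ π) ∧
      ∀ p : ℕ, p.Prime → p ∈ π → ¬ p ∣ H.index := by
  rw [isPiHallOf_def, Subgroup.card_subtype, relIndex_map_subtype]
  exact ⟨fun h => h.2, fun h => ⟨Subgroup.map_subtype_le H, h⟩⟩

theorem coprime_card_relIndex {π : Set ℕ} {H M : Subgroup G} (h : Cfsg.IsPiHallOf π H M) :
    (Nat.card H).Coprime (H.relIndex M) :=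
  coprime_of_pi h.2.1 (fun p hp hd hπ => h.2.2 p hp hπ hd)

/-- a Hall `π`-subgroup has order the `π`-part: any `π`-number dividing `card M` divides
`card H`. -/
theorem dvd_card_of_pi {π : Set ℕ} {H M : Subgroup G} (h : Cfsg.IsPiHallOf π H M) {n : ℕ}
    (hn : n ∣ Nat.card M) (hπ : ∀ p : ℕ, p.Prime → p ∣ n → p ∈ π) : n ∣ Nat.card H := by
  rw [← card_mul_relIndex h.1] at hn
  exact (coprime_of_pi hπ (fun p hp hd h' => h.2.2 p hp h' hd)).dvd_of_dvd_mul_right hn

/-- a prime of `π` dividing `card M` divides the order of a Hall `π`-subgroup. -/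
theorem prime_dvd_card {π : Set ℕ} {H M : Subgroup G} (h : Cfsg.IsPiHallOf π H M) {p : ℕ}
    (hp : p.Prime) (hπ : p ∈ π) (hd : p ∣ Nat.card M) : p ∣ Nat.card H := by
  refine dvd_card_of_pi h hd (fun q hq hqd => ?_)
  rwa [(Nat.prime_dvd_prime_iff_eq hq hp).mp hqd]

/-- two Hall `π`-subgroups of `M` have the same order. -/
theorem card_eq_of_isPiHallOf {π : Set ℕ} {H K M : Subgroup G} (hH : Cfsg.IsPiHallOf π H M)
    (hK : Cfsg.IsPiHallOf π K M) : Nat.card H = Nat.card K :=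
  Nat.dvd_antisymm (dvd_card_of_pi hK (Subgroup.card_dvd_of_le hH.1) hH.2.1)
    (dvd_card_of_pi hH (Subgroup.card_dvd_of_le hK.1) hK.2.1)

/-- the predicate only depends on the primes of `π`. -/
theorem isPiHallOf_congr {π ρ : Set ℕ} {H M : Subgroup G}
    (h : ∀ p : ℕ, p.Prime → (p ∈ π ↔ p ∈ ρ)) :
    Cfsg.IsPiHallOf π H M ↔ Cfsg.IsPiHallOf ρ H M := by
  constructor
  · rintro ⟨h1, h2, h3⟩
    exact ⟨h1, fun p hp hd => (h p hp).mp (h2 p hp hd),
      fun p hp hρ => h3 p hp ((h p hp).mpr hρ)⟩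
  · rintro ⟨h1, h2, h3⟩
    exact ⟨h1, fun p hp hd => (h p hp).mpr (h2 p hp hd),
      fun p hp hρ => h3 p hp ((h p hp).mp hρ)⟩

/-- the predicate only depends on the primes of `π` dividing `card M`. -/
theorem isPiHallOf_congr' {π ρ : Set ℕ} {H M : Subgroup G}
    (h : ∀ p : ℕ, p.Prime → p ∣ Nat.card M → (p ∈ π ↔ p ∈ ρ)) :
    Cfsg.IsPiHallOf π H M ↔ Cfsg.IsPiHallOf ρ H M := by
  have key : ∀ {π ρ : Set ℕ}, (∀ p : ℕ, p.Prime → p ∣ Nat.card M → (p ∈ π ↔ p ∈ ρ)) →
      Cfsg.IsPiHallOf π H M → Cfsg.IsPiHallOf ρ H M := by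
    rintro π ρ h ⟨h1, h2, h3⟩
    refine ⟨h1, fun p hp hd => (h p hp (hd.trans (Subgroup.card_dvd_of_le h1))).mp (h2 p hp hd),
      fun p hp hρ hd => ?_⟩
    have hdM : p ∣ Nat.card M := hd.trans (Subgroup.relIndex_dvd_card H M)
    exact h3 p hp ((h p hp hdM).mpr hρ) hd
  exact ⟨key h, key (fun p hp hd => (h p hp hd).symm)⟩

/-- If `H ≤ M` is a Hall `π`-subgroup of `M` and `K` a subgroup with `H ≤ K ≤ M`, then `H` is a
Hall `π`-subgroup of `K`. -/
theorem isPiHallOf_mono {π : Set ℕ} {H K M : Subgroup G} (h : Cfsg.IsPiHallOf π H M)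
    (hHK : H ≤ K) (hKM : K ≤ M) : Cfsg.IsPiHallOf π H K := by
  refine ⟨hHK, h.2.1, fun p hp hπ hd => h.2.2 p hp hπ ?_⟩
  exact hd.trans ⟨_, (Subgroup.relIndex_mul_relIndex H K M hHK hKM).symm⟩

/-- Transitivity: a Hall `π`-subgroup of a Hall `ρ`-subgroup of `M`, `π ⊆ ρ`, is a Hall
`π`-subgroup of `M`. -/
theorem isPiHallOf_trans {π ρ : Set ℕ} {H K M : Subgroup G} (hH : Cfsg.IsPiHallOf π H K)
    (hK : Cfsg.IsPiHallOf ρ K M) (hπρ : ∀ p : ℕ, p.Prime → p ∈ π → p ∈ ρ) :
    Cfsg.IsPiHallOf π H M := by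
  refine ⟨hH.1.trans hK.1, hH.2.1, fun p hp hπ hd => ?_⟩
  rw [← Subgroup.relIndex_mul_relIndex H K M hH.1 hK.1] at hd
  rcases (hp.dvd_mul).mp hd with h | h
  · exact hH.2.2 p hp hπ h
  · exact hK.2.2 p hp (hπρ p hp hπ) h

/-- Conjugates of Hall subgroups. -/
theorem isPiHallOf_conj {π : Set ℕ} {H M : Subgroup G} (h : Cfsg.IsPiHallOf π H M) {m : G}
    (hm : m ∈ M) : Cfsg.IsPiHallOf π (H.map (MulAut.conj m).toMonoidHom) M := by
  have hMm : M.map (MulAut.conj m).toMonoidHom = M := by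
    apply le_antisymm
    · rintro _ ⟨x, hx, rfl⟩
      exact M.mul_mem (M.mul_mem hm hx) (M.inv_mem hm)
    · intro x hx
      exact ⟨m⁻¹ * x * m, M.mul_mem (M.mul_mem (M.inv_mem hm) hx) hm, by simp [mul_assoc]⟩
  have hinj : Function.Injective (MulAut.conj m).toMonoidHom := (MulAut.conj m).injective
  refine ⟨?_, ?_, ?_⟩
  · rw [← hMm]; exact Subgroup.map_mono h.1
  · rw [Subgroup.card_map_of_injective hinj]; exact h.2.1
  · intro p hp hπ
    have : (H.map (MulAut.conj m).toMonoidHom).relIndex M = H.relIndex M := by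
      conv_lhs => rw [← hMm]
      rw [Subgroup.relIndex_map_map_of_injective _ _ hinj]
    rw [this]
    exact h.2.2 p hp hπ

end

/-! ### Hall's theorem -/

section

variable {G : Type*} [Group G] [Finite G]

/-- In a finite solvable group a `π`-subgroup lies in a Hall `π`-subgroup. -/
theorem exists_hall_ge_top [Group.IsSolvable G] (π : Set ℕ) {X : Subgroup G}
    (hX : ∀ p : ℕ, p.Prime → p ∣ Nat.card X → p ∈ π) :
    ∃ K : Subgroup G, (∀ p : ℕ, p.Prime → p ∣ Nat.card K → p ∈ π) ∧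
      (∀ p : ℕ, p.Prime → p ∈ π → ¬ p ∣ K.index) ∧ X ≤ K := by
  obtain ⟨a, b, hab, ha, hb⟩ := exists_pi_factor π (Nat.card G) Nat.card_pos.ne'
  obtain ⟨K, hK, hXK⟩ := Cfsg.Agent.Solvable.Hall.hall_dominance a b hab (coprime_of_pi ha hb) X
    (coprime_of_pi hX hb)
  refine ⟨K, hK ▸ ha, ?_, hXK⟩
  intro p hp hπ hd
  have h1 := Subgroup.card_mul_index K
  rw [hab, hK] at h1
  have ha0 : 0 < a := hK ▸ Nat.card_pos
  rw [Nat.eq_of_mul_eq_mul_left ha0 h1] at hd
  exact hb p hp hd hπ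

/-- A `π`-subgroup `X` of a solvable subgroup `M` lies in a Hall `π`-subgroup of `M`. -/
theorem exists_isPiHallOf_ge {M : Subgroup G} (hM : Group.IsSolvable M) (π : Set ℕ)
    {X : Subgroup G} (hXM : X ≤ M) (hX : ∀ p : ℕ, p.Prime → p ∣ Nat.card X → p ∈ π) :
    ∃ K : Subgroup G, Cfsg.IsPiHallOf π K M ∧ X ≤ K := by
  have := hM
  have hcard : Nat.card (X.subgroupOf M) = Nat.card X :=
    Nat.card_congr (Subgroup.subgroupOfEquivOfLe hXM).toEquiv
  obtain ⟨K, h1, h2, h3⟩ := exists_hall_ge_top (G := M) π (X := X.subgroupOf M)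
    (by rw [hcard]; exact hX)
  refine ⟨K.map M.subtype, isPiHallOf_map_subtype.mpr ⟨h1, h2⟩, ?_⟩
  intro x hx
  exact ⟨⟨x, hXM hx⟩, h3 (Subgroup.mem_subgroupOf.mpr hx), rfl⟩

/-- Hall `π`-subgroups of a solvable subgroup `M` exist. -/
theorem exists_isPiHallOf {M : Subgroup G} (hM : Group.IsSolvable M) (π : Set ℕ) :
    ∃ K : Subgroup G, Cfsg.IsPiHallOf π K M := by
  obtain ⟨K, hK, -⟩ := exists_isPiHallOf_ge hM π (X := ⊥) bot_le (by
    intro p hp hd
    rw [Subgroup.card_bot] at hd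
    exact absurd (Nat.dvd_one.mp hd) hp.one_lt.ne')
  exact ⟨K, hK⟩

/-- A `π`-subgroup of a solvable subgroup `M` is conjugate in `M` into any given Hall
`π`-subgroup of `M`. -/
theorem exists_conj_le_of_isPiHallOf {M : Subgroup G} (hM : Group.IsSolvable M) {π : Set ℕ}
    {K : Subgroup G} (hK : Cfsg.IsPiHallOf π K M) {X : Subgroup G} (hXM : X ≤ M)
    (hX : ∀ p : ℕ, p.Prime → p ∣ Nat.card X → p ∈ π) :
    ∃ m ∈ M, X.map (MulAut.conj m).toMonoidHom ≤ K := by
  have := hM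
  have hcardX : Nat.card (X.subgroupOf M) = Nat.card X :=
    Nat.card_congr (Subgroup.subgroupOfEquivOfLe hXM).toEquiv
  have hcardK : Nat.card (K.subgroupOf M) = Nat.card K :=
    Nat.card_congr (Subgroup.subgroupOfEquivOfLe hK.1).toEquiv
  obtain ⟨g, hg⟩ := Cfsg.Agent.Solvable.Hall.hall_conj_le (G := M) (Nat.card K) (K.relIndex M)
    (card_mul_relIndex hK.1).symm (coprime_card_relIndex hK) (K.subgroupOf M) (X.subgroupOf M)
    hcardK (by
      rw [hcardX]
      exact coprime_of_pi hX (fun p hp hd hπ => hK.2.2 p hp hπ hd))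
  refine ⟨g, g.2, ?_⟩
  rintro _ ⟨x, hx, rfl⟩
  have h1 : (⟨x, hXM hx⟩ : M) ∈ X.subgroupOf M := Subgroup.mem_subgroupOf.mpr hx
  have h2 := hg (Subgroup.smul_mem_pointwise_smul _ _ _ h1)
  rw [Subgroup.mem_subgroupOf] at h2
  exact h2

/-- Two Hall `π`-subgroups of a solvable subgroup `M` are conjugate in `M`. -/
theorem conj_of_isPiHallOf {M : Subgroup G} (hM : Group.IsSolvable M) {π : Set ℕ}
    {H K : Subgroup G} (hH : Cfsg.IsPiHallOf π H M) (hK : Cfsg.IsPiHallOf π K M) :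
    ∃ m ∈ M, H.map (MulAut.conj m).toMonoidHom = K := by
  obtain ⟨m, hm, hle⟩ := exists_conj_le_of_isPiHallOf hM hK hH.1 hH.2.1
  refine ⟨m, hm, Subgroup.eq_of_le_of_card_ge hle ?_⟩
  rw [Subgroup.card_map_of_injective (MulAut.conj m).injective]
  exact (card_eq_of_isPiHallOf hK hH).le

/-- Frattini argument: if `N ⊴ M` (that is `N ≤ M ≤ N_G(N)`) and `H` is a Hall `π`-subgroup of the
solvable group `N`, then every `m ∈ M` is a product `n * k` with `n ∈ N` and `k ∈ M` normalizing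
`H`. -/
theorem frattini {M N : Subgroup G} (hN : Group.IsSolvable N) (hNM : N ≤ M)
    (hnorm : M ≤ Subgroup.normalizer (N : Set G)) {π : Set ℕ} {H : Subgroup G}
    (hH : Cfsg.IsPiHallOf π H N) :
    ∀ m ∈ M, ∃ n ∈ N, ∃ k ∈ M ⊓ Subgroup.normalizer (H : Set G), m = n * k := by
  intro m hm
  have hinj : Function.Injective (MulAut.conj m).toMonoidHom := (MulAut.conj m).injective
  have hNm : N.map (MulAut.conj m).toMonoidHom = N :=
    Subgroup.mem_normalizer_iff_map_conj_eq.mp (hnorm hm)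
  have h1 : Cfsg.IsPiHallOf π (H.map (MulAut.conj m).toMonoidHom) N := by
    refine ⟨?_, ?_, ?_⟩
    · rw [← hNm]; exact Subgroup.map_mono hH.1
    · rw [Subgroup.card_map_of_injective hinj]; exact hH.2.1
    · intro p hp hπ
      have : (H.map (MulAut.conj m).toMonoidHom).relIndex N = H.relIndex N := by
        conv_lhs => rw [← hNm]
        rw [Subgroup.relIndex_map_map_of_injective _ _ hinj]
      rw [this]
      exact hH.2.2 p hp hπ
  obtain ⟨n, hn, hn'⟩ := conj_of_isPiHallOf hN h1 hH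
  refine ⟨n⁻¹, N.inv_mem hn, n * m, Subgroup.mem_inf.mpr ⟨M.mul_mem (hNM hn) hm, ?_⟩, by group⟩
  rw [Subgroup.mem_normalizer_iff_map_conj_eq]
  rw [Subgroup.map_map] at hn'
  convert hn' using 2
  ext x
  simp [mul_assoc]

end

/-! ### Normal Hall subgroups and complements -/

section

variable {G : Type*} [Group G] [Finite G]

/-- The prime divisors of the order of an element of `H` divide the order of `H`. -/
theorem orderOf_dvd_card_of_mem {H : Subgroup G} {x : G} (hx : x ∈ H) : orderOf x ∣ Nat.card H := by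
  have := orderOf_dvd_natCard (⟨x, hx⟩ : H)
  rwa [Subgroup.orderOf_mk] at this

/-- A normal Hall `π`-subgroup `N` of `M` contains every `π`-subgroup of `M`. -/
theorem le_of_normal_isPiHallOf {M N : Subgroup G} {π : Set ℕ} (hN : Cfsg.IsPiHallOf π N M)
    (hnorm : M ≤ Subgroup.normalizer (N : Set G)) {X : Subgroup G} (hXM : X ≤ M)
    (hX : ∀ p : ℕ, p.Prime → p ∣ Nat.card X → p ∈ π) : X ≤ N := by
  have hXn : X ≤ Subgroup.normalizer (N : Set G) := hXM.trans hnorm
  have h1 : N.relIndex (X ⊔ N) = N.relIndex X := by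
    have hXN : X ⊔ N ≤ Subgroup.normalizer (N : Set G) := sup_le hXn Subgroup.le_normalizer
    have : (N.subgroupOf (X ⊔ N)).Normal := Subgroup.normal_subgroupOf_of_le_normalizer hXN
    have h3 := Subgroup.relIndex_sup_right (X.subgroupOf (X ⊔ N)) (N.subgroupOf (X ⊔ N))
    rwa [← Subgroup.subgroupOf_sup le_sup_left le_sup_right,
      Subgroup.relIndex_subgroupOf le_rfl, Subgroup.relIndex_subgroupOf le_sup_left] at h3
  have h2 : N.relIndex X ∣ N.relIndex M := by
    rw [← h1]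
    exact ⟨_, (Subgroup.relIndex_mul_relIndex N (X ⊔ N) M le_sup_right
      (sup_le hXM hN.1)).symm⟩
  have h3 : N.relIndex X ∣ Nat.card X := Subgroup.relIndex_dvd_card N X
  have h4 : N.relIndex X = 1 := by
    by_contra h
    obtain ⟨p, hp, hd⟩ := Nat.exists_prime_and_dvd h
    exact hN.2.2 p hp (hX p hp (hd.trans h3)) (hd.trans h2)
  exact Subgroup.relIndex_eq_one.mp h4

/-- A normal Hall `π`-subgroup `N` of `M` contains every `π`-element of `M`. -/
theorem mem_of_normal_isPiHallOf {M N : Subgroup G} {π : Set ℕ} (hN : Cfsg.IsPiHallOf π N M)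
    (hnorm : M ≤ Subgroup.normalizer (N : Set G)) {x : G} (hx : x ∈ M)
    (hπ : ∀ p : ℕ, p.Prime → p ∣ orderOf x → p ∈ π) : x ∈ N := by
  have h := le_of_normal_isPiHallOf hN hnorm (X := Subgroup.zpowers x)
    (by rwa [Subgroup.zpowers_le]) (by rw [Nat.card_zpowers]; exact hπ)
  exact h (Subgroup.mem_zpowers x)

/-- Two normal Hall `π`-subgroups coincide. -/
theorem eq_of_normal_isPiHallOf {M N H : Subgroup G} {π : Set ℕ} (hN : Cfsg.IsPiHallOf π N M)
    (hnorm : M ≤ Subgroup.normalizer (N : Set G)) (hH : Cfsg.IsPiHallOf π H M) : H = N :=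
  Subgroup.eq_of_le_of_card_ge (le_of_normal_isPiHallOf hN hnorm hH.1 hH.2.1)
    (card_eq_of_isPiHallOf hN hH).le

/-- Subgroups of coprime orders meet trivially. -/
theorem inf_eq_bot_of_pi {π : Set ℕ} {H K : Subgroup G}
    (hH : ∀ p : ℕ, p.Prime → p ∣ Nat.card H → p ∈ π)
    (hK : ∀ p : ℕ, p.Prime → p ∣ Nat.card K → p ∉ π) : H ⊓ K = ⊥ :=
  disjoint_iff.mp (Subgroup.disjoint_of_coprime_natCard (coprime_of_pi hH hK))

/-- In terms of cardinalities: subgroups `A`, `B` of `M` with trivial intersection and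
`|A| |B| = |M|` are complements of each other in `M`. -/
theorem isComplIn_of_card {A B M : Subgroup G} (hA : A ≤ M) (hB : B ≤ M) (hAB : A ⊓ B = ⊥)
    (hc : Nat.card A * Nat.card B = Nat.card M) : Cfsg.IsComplIn A B M := by
  refine ⟨hA, hB, hAB, ?_⟩
  have hinj : Function.Injective (fun x : A × B => (⟨(x.1 : G) * x.2,
      M.mul_mem (hA x.1.2) (hB x.2.2)⟩ : M)) := by
    rintro ⟨a, b⟩ ⟨c, d⟩ h
    have h1 : (a : G) * b = c * d := congrArg Subtype.val h
    have h2 : (c : G)⁻¹ * a = d * (b : G)⁻¹ := by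
      rw [inv_mul_eq_iff_eq_mul, ← mul_assoc, ← h1, mul_inv_cancel_right]
    have h3 : (c : G)⁻¹ * a ∈ A ⊓ B :=
      ⟨A.mul_mem (A.inv_mem c.2) a.2, by rw [h2]; exact B.mul_mem d.2 (B.inv_mem b.2)⟩
    rw [hAB, Subgroup.mem_bot] at h3
    have h4 : (a : G) = c := by
      rw [inv_mul_eq_one] at h3; exact h3.symm
    rw [h3] at h2
    have h5 : (d : G) = b := by
      rw [eq_comm, mul_inv_eq_one] at h2; exact h2
    exact Prod.ext (Subtype.ext h4) (Subtype.ext h5.symm)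
  have hsurj : Function.Surjective (fun x : A × B => (⟨(x.1 : G) * x.2,
      M.mul_mem (hA x.1.2) (hB x.2.2)⟩ : M)) := by
    have hbij := (Nat.bijective_iff_injective_and_card _).mpr ⟨hinj, by
      rw [Nat.card_prod]; exact hc⟩
    exact hbij.2
  intro m hm
  obtain ⟨⟨a, b⟩, hab⟩ := hsurj ⟨m, hm⟩
  exact ⟨a, a.2, b, b.2, (congrArg Subtype.val hab).symm⟩

theorem isComplIn_card {A B M : Subgroup G} (h : Cfsg.IsComplIn A B M) :
    Nat.card A * Nat.card B = Nat.card M := by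
  obtain ⟨hA, hB, hAB, hm⟩ := h
  rw [← Nat.card_prod]
  apply Nat.card_congr
  refine Equiv.ofBijective (fun x : A × B => (⟨(x.1 : G) * x.2,
      M.mul_mem (hA x.1.2) (hB x.2.2)⟩ : M)) ⟨?_, ?_⟩
  · rintro ⟨a, b⟩ ⟨c, d⟩ h
    have h1 : (a : G) * b = c * d := congrArg Subtype.val h
    have h2 : (c : G)⁻¹ * a = d * (b : G)⁻¹ := by
      rw [inv_mul_eq_iff_eq_mul, ← mul_assoc, ← h1, mul_inv_cancel_right]
    have h3 : (c : G)⁻¹ * a ∈ A ⊓ B :=
      ⟨A.mul_mem (A.inv_mem c.2) a.2, by rw [h2]; exact B.mul_mem d.2 (B.inv_mem b.2)⟩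
    rw [hAB, Subgroup.mem_bot] at h3
    have h4 : (a : G) = c := by
      rw [inv_mul_eq_one] at h3; exact h3.symm
    rw [h3] at h2
    have h5 : (d : G) = b := by
      rw [eq_comm, mul_inv_eq_one] at h2; exact h2
    exact Prod.ext (Subtype.ext h4) (Subtype.ext h5.symm)
  · rintro ⟨m, hmM⟩
    obtain ⟨a, ha, b, hb, rfl⟩ := hm m hmM
    exact ⟨(⟨a, ha⟩, ⟨b, hb⟩), rfl⟩

theorem isComplIn_symm {A B M : Subgroup G} (h : Cfsg.IsComplIn A B M) :
    Cfsg.IsComplIn B A M :=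
  isComplIn_of_card h.2.1 h.1 (by rw [inf_comm]; exact h.2.2.1)
    (by rw [mul_comm]; exact isComplIn_card h)

/-- The order of a complement of a Hall `π`-subgroup is the index. -/
theorem card_compl_eq_relIndex {A B M : Subgroup G} (h : Cfsg.IsComplIn A B M) :
    Nat.card A = B.relIndex M := by
  have h1 := isComplIn_card h
  have h2 := card_mul_relIndex h.2.1
  rw [mul_comm] at h1
  rw [← h2] at h1
  exact Nat.eq_of_mul_eq_mul_left Nat.card_pos h1

/-- `E` is a complement of the Hall `π`-subgroup `N` of `M` iff it is a Hall `π'`-subgroup. -/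
theorem isPiHallOf_compl_iff {π : Set ℕ} {M N E : Subgroup G} (hN : Cfsg.IsPiHallOf π N M) :
    Cfsg.IsComplIn E N M ↔ Cfsg.IsPiHallOf {p | p.Prime ∧ p ∉ π} E M := by
  constructor
  · intro h
    have h1 := card_compl_eq_relIndex h
    have h2 := card_compl_eq_relIndex (isComplIn_symm h)
    refine ⟨h.1, fun p hp hd => ⟨hp, fun hπ => hN.2.2 p hp hπ (h1 ▸ hd)⟩, ?_⟩
    rintro p hp ⟨-, hπ⟩ hd
    rw [← h2] at hd
    exact hπ (hN.2.1 p hp hd)
  · intro h
    refine isComplIn_of_card h.1 hN.1 ?_ ?_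
    · rw [inf_comm]
      exact inf_eq_bot_of_pi hN.2.1 (fun p hp hd => (h.2.1 p hp hd).2)
    · have h1 := card_mul_relIndex h.1
      have h2 := card_mul_relIndex hN.1
      have h3 : N.relIndex M ∣ Nat.card E := by
        refine dvd_card_of_pi h (Subgroup.relIndex_dvd_card N M) ?_
        exact fun p hp hd => ⟨hp, fun hπ => hN.2.2 p hp hπ hd⟩
      have h4 : Nat.card E ∣ N.relIndex M := by
        have h5 : Nat.card E ∣ Nat.card N * N.relIndex M := by
          rw [h2]; exact Subgroup.card_dvd_of_le h.1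
        exact (coprime_of_pi hN.2.1
          (fun p hp hd => (h.2.1 p hp hd).2)).symm.dvd_of_dvd_mul_left h5
      rw [Nat.dvd_antisymm h4 h3, mul_comm, h2]

/-- If `N` is a Hall `π`-subgroup of the solvable group `M`, every `π'`-subgroup `X` of `M` lies in
a complement of `N` in `M`. -/
theorem exists_isComplIn_ge {M N : Subgroup G} (hM : Group.IsSolvable M) {π : Set ℕ}
    (hN : Cfsg.IsPiHallOf π N M) {X : Subgroup G} (hXM : X ≤ M)
    (hX : ∀ p : ℕ, p.Prime → p ∣ Nat.card X → p ∉ π) :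
    ∃ E : Subgroup G, Cfsg.IsComplIn E N M ∧ X ≤ E := by
  obtain ⟨E, hE, hXE⟩ := exists_isPiHallOf_ge hM {p | p.Prime ∧ p ∉ π} hXM
    (fun p hp hd => ⟨hp, hX p hp hd⟩)
  exact ⟨E, (isPiHallOf_compl_iff hN).mpr hE, hXE⟩

/-- A Hall subgroup of the solvable group `M` has a complement. -/
theorem exists_isComplIn {M N : Subgroup G} (hM : Group.IsSolvable M) {π : Set ℕ}
    (hN : Cfsg.IsPiHallOf π N M) : ∃ E : Subgroup G, Cfsg.IsComplIn E N M := by
  obtain ⟨E, hE⟩ := exists_isPiHallOf hM {p | p.Prime ∧ p ∉ π}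
  exact ⟨E, (isPiHallOf_compl_iff hN).mpr hE⟩

/-- Any two complements of a Hall subgroup `N` of the solvable group `M` are conjugate in `M`. -/
theorem conj_of_isComplIn {M N E F : Subgroup G} (hM : Group.IsSolvable M) {π : Set ℕ}
    (hN : Cfsg.IsPiHallOf π N M) (hE : Cfsg.IsComplIn E N M) (hF : Cfsg.IsComplIn F N M) :
    ∃ m ∈ M, E.map (MulAut.conj m).toMonoidHom = F :=
  conj_of_isPiHallOf hM ((isPiHallOf_compl_iff hN).mp hE) ((isPiHallOf_compl_iff hN).mp hF)

/-- Any `π'`-subgroup of the solvable group `M` is conjugate in `M` into a given complement of the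
Hall `π`-subgroup `N`. -/
theorem exists_conj_le_of_isComplIn {M N E X : Subgroup G} (hM : Group.IsSolvable M) {π : Set ℕ}
    (hN : Cfsg.IsPiHallOf π N M) (hE : Cfsg.IsComplIn E N M) (hXM : X ≤ M)
    (hX : ∀ p : ℕ, p.Prime → p ∣ Nat.card X → p ∉ π) :
    ∃ m ∈ M, X.map (MulAut.conj m).toMonoidHom ≤ E :=
  exists_conj_le_of_isPiHallOf hM ((isPiHallOf_compl_iff hN).mp hE) hXM
    (fun p hp hd => ⟨hp, hX p hp hd⟩)

end

/-! ### `M_σ`, `M_α`, `O_π(M)` are normal in `M` -/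

section

variable {G : Type*} [Group G]

/-- the image in `G` of a normal subgroup of `M` is normalized by `M`. -/
theorem le_normalizer_map_subtype {M : Subgroup G} (H : Subgroup M) [hH : H.Normal] :
    M ≤ Subgroup.normalizer ((H.map M.subtype : Subgroup G) : Set G) := by
  rw [Subgroup.le_normalizer_iff]
  rintro m hm _ ⟨x, hx, rfl⟩
  exact ⟨⟨m, hm⟩ * x * ⟨m, hm⟩⁻¹, hH.conj_mem x hx ⟨m, hm⟩, rfl⟩

theorem sigmaCore_le (M : Subgroup G) : Cfsg.sigmaCore M ≤ M := Subgroup.map_subtype_le _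

theorem le_normalizer_sigmaCore (M : Subgroup G) :
    M ≤ Subgroup.normalizer (Cfsg.sigmaCore M : Set G) := le_normalizer_map_subtype _

theorem alphaCore_le (M : Subgroup G) : Cfsg.alphaCore M ≤ M := Subgroup.map_subtype_le _

theorem le_normalizer_alphaCore (M : Subgroup G) :
    M ≤ Subgroup.normalizer (Cfsg.alphaCore M : Set G) := le_normalizer_map_subtype _

theorem piCoreOf_le (π : Set ℕ) (M : Subgroup G) : Cfsg.piCoreOf π M ≤ M :=
  Subgroup.map_subtype_le _

theorem le_normalizer_piCoreOf (π : Set ℕ) (M : Subgroup G) :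
    M ≤ Subgroup.normalizer (Cfsg.piCoreOf π M : Set G) := le_normalizer_map_subtype _

end

end Cfsg.Agent.OddOrderLocal.HallPi
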