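import Mathlib
import Cfsg.Prelude.Def_OddOrderLocal
import Cfsg.Agent.Lib.Cores
set_option linter.all false

/-!
Basic facts on `fittingOf M`, `fittingHallOf M` in ambient-subgroup form: membership criteria.
-/

set_option autoImplicit false
open Cfsg

namespace Cfsg.Agent.OddOrderLocal.FitAux

open Subgroup

variable {G : Type*} [Group G]

theorem card_mul_relIndex {H K : Subgroup G} (h : H ≤ K) :
    Nat.card H * H.relIndex K = Nat.card K := by
  have := Subgroup.relIndex_mul_relIndex (⊥ : Subgroup G) H K bot_le h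
  simpa [Subgroup.relIndex_bot_left] using this

/-- the image in `G` of a normal subgroup of `M` is normalised by `M`. -/
theorem le_normalizer_map_subtype {M : Subgroup G} {N : Subgroup M} (hN : N.Normal) :
    M ≤ Subgroup.normalizer ((N.map M.subtype : Subgroup G) : Set G) := by
  have key : ∀ (a : G) (ha : a ∈ M) (x : G), x ∈ N.map M.subtype → a * x * a⁻¹ ∈ N.map M.subtype := by
    intro a ha x hx
    obtain ⟨y, hy, rfl⟩ := Subgroup.mem_map.mp hx
    refine Subgroup.mem_map.mpr ⟨⟨a, ha⟩ * y * ⟨a, ha⟩⁻¹, ?_, rfl⟩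
    exact hN.conj_mem y hy ⟨a, ha⟩
  intro m hm
  rw [Subgroup.mem_normalizer_iff]
  intro x
  constructor
  · exact key m hm x
  · intro hx
    have := key m⁻¹ (inv_mem hm) _ hx
    simpa [mul_assoc] using this

/-- A subgroup of `M` normalised by `M` gives a normal subgroup of `M`. -/
theorem subgroupOf_normal {M N : Subgroup G} (hn : M ≤ Subgroup.normalizer (N : Set G)) :
    (N.subgroupOf M).Normal := by
  constructor
  intro n hn' g
  rw [Subgroup.mem_subgroupOf] at hn' ⊢
  exact (Subgroup.mem_normalizer_iff.mp (hn g.2) n).mp hn'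

theorem fittingOf_le (M : Subgroup G) : fittingOf M ≤ M := Subgroup.map_subtype_le _

theorem fittingHallOf_le (M : Subgroup G) : fittingHallOf M ≤ M := Subgroup.map_subtype_le _

theorem sigmaCore_le (M : Subgroup G) : sigmaCore M ≤ M := Subgroup.map_subtype_le _

theorem le_normalizer_fittingOf (M : Subgroup G) :
    M ≤ Subgroup.normalizer (fittingOf M : Set G) :=
  le_normalizer_map_subtype Cfsg.Agent.Lib.Cores.fittingSubgroup_normal

theorem le_normalizer_fittingHallOf (M : Subgroup G) :
    M ≤ Subgroup.normalizer (fittingHallOf M : Set G) :=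
  le_normalizer_map_subtype (fittingHall_normal M)

theorem le_normalizer_sigmaCore (M : Subgroup G) :
    M ≤ Subgroup.normalizer (sigmaCore M : Set G) :=
  le_normalizer_map_subtype (piCore_normal (sigma M) M)

theorem isNilpotent_of_le {H K : Subgroup G} (h : H ≤ K) (hK : Group.IsNilpotent K) :
    Group.IsNilpotent H := by
  haveI := hK
  exact (Group.isNilpotent_congr (Subgroup.subgroupOfEquivOfLe h)).mp inferInstance

theorem isNilpotent_subgroupOf {H M : Subgroup G} (hH : Group.IsNilpotent H) (h : H ≤ M) :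
    Group.IsNilpotent (H.subgroupOf M) :=
  (Group.isNilpotent_congr (Subgroup.subgroupOfEquivOfLe h)).mpr hH

/-- The Fitting subgroup of a finite group is nilpotent (ambient form). -/
theorem isNilpotent_fittingOf [Finite G] (M : Subgroup G) : Group.IsNilpotent (fittingOf M) :=
  (Cfsg.Agent.Lib.Cores.isNilpotent_map_equiv M.subtype_injective _).2
    Cfsg.Agent.Lib.Cores.fittingSubgroup_isNilpotent

/-- A nilpotent subgroup of `M` normalised by `M` is in `F(M)`. -/
theorem le_fittingOf {M N : Subgroup G} (hNM : N ≤ M)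
    (hn : M ≤ Subgroup.normalizer (N : Set G)) (hN : Group.IsNilpotent N) : N ≤ fittingOf M := by
  have h1 : N.subgroupOf M ≤ fittingSubgroup M :=
    Cfsg.Agent.Lib.Cores.le_fittingSubgroup (subgroupOf_normal hn) (isNilpotent_subgroupOf hN hNM)
  have h2 := Subgroup.map_mono (f := M.subtype) h1
  rwa [Subgroup.subgroupOf_map_subtype, inf_eq_left.mpr hNM] at h2

/-- A nilpotent subgroup of `M` normalised by `M` of order prime to its index is in `M_F`. -/
theorem le_fittingHallOf {M N : Subgroup G} (hNM : N ≤ M)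
    (hn : M ≤ Subgroup.normalizer (N : Set G)) (hN : Group.IsNilpotent N)
    (hc : (Nat.card N).Coprime (N.relIndex M)) : N ≤ fittingHallOf M := by
  have h1 : N.subgroupOf M ≤ fittingHall M := by
    refine le_sSup ⟨subgroupOf_normal hn, isNilpotent_subgroupOf hN hNM, ?_⟩
    rw [Nat.card_congr (Subgroup.subgroupOfEquivOfLe hNM).toEquiv]
    exact hc
  have h2 := Subgroup.map_mono (f := M.subtype) h1
  rwa [Subgroup.subgroupOf_map_subtype, inf_eq_left.mpr hNM] at h2

/-- `M_F` is nilpotent. -/
theorem fittingHallOf_le_fittingOf (M : Subgroup G) : fittingHallOf M ≤ fittingOf M := by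
  refine Subgroup.map_mono ?_
  exact sSup_le_sSup fun N hN => ⟨hN.1, hN.2.1⟩

theorem isNilpotent_fittingHallOf [Finite G] (M : Subgroup G) :
    Group.IsNilpotent (fittingHallOf M) :=
  isNilpotent_of_le (fittingHallOf_le_fittingOf M) (isNilpotent_fittingOf M)

/-- A Hall subgroup in the sense of `IsPiHallOf` has order prime to its index. -/
theorem coprime_of_isPiHallOf {π : Set ℕ} {H M : Subgroup G} (h : IsPiHallOf π H M) :
    (Nat.card H).Coprime (H.relIndex M) := by
  rw [Nat.coprime_iff_gcd_eq_one]
  by_contra hne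
  obtain ⟨p, hp, hd⟩ := Nat.exists_prime_and_dvd hne
  exact h.2.2 p hp (h.2.1 p hp (hd.trans (Nat.gcd_dvd_left _ _))) (hd.trans (Nat.gcd_dvd_right _ _))

/-- If `M_σ` is nilpotent and a Hall subgroup of `M` then `M_σ ≤ M_F`. -/
theorem sigmaCore_le_fittingHallOf {M : Subgroup G} (h : IsPiHallOf (sigma M) (sigmaCore M) M)
    (hn : Group.IsNilpotent (sigmaCore M)) : sigmaCore M ≤ fittingHallOf M :=
  le_fittingHallOf (sigmaCore_le M) (le_normalizer_sigmaCore M) hn (coprime_of_isPiHallOf h)

end Cfsg.Agent.OddOrderLocal.FitAux
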