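import Mathlib
import Cfsg.Prelude.Def_OddOrderLocal
set_option linter.all false

/-!
Basic facts about the standing hypothesis `Cfsg.IsMinSimpleOddOrder G`.
-/

set_option autoImplicit false
set_option linter.style.haveILetI false
set_option linter.unusedSectionVars false

namespace Cfsg.Agent.OddOrderLocal.MinSimpleBasic

open Cfsg

section

variable {G : Type*} [Group G]

theorem odd_card (hG : IsMinSimpleOddOrder G) : Odd (Nat.card G) := hG.1

theorem isSimple (hG : IsMinSimpleOddOrder G) : IsSimpleGroup G := hG.2.1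

theorem not_comm (hG : IsMinSimpleOddOrder G) : ¬ IsMulCommutative G := hG.2.2.1

theorem nontrivial' (hG : IsMinSimpleOddOrder G) : Nontrivial G := hG.2.1.toNontrivial

theorem isSolvable_of_ne_top (hG : IsMinSimpleOddOrder G) {H : Subgroup G} (hH : H ≠ ⊤) :
    Group.IsSolvable H := hG.2.2.2 H hH

/-- every normal subgroup is trivial or everything. -/
theorem eq_bot_or_eq_top_of_normal (hG : IsMinSimpleOddOrder G) (H : Subgroup G) [hn : H.Normal] :
    H = ⊥ ∨ H = ⊤ := by
  haveI := isSimple hG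
  exact hn.eq_bot_or_eq_top

theorem commutator_eq_top (hG : IsMinSimpleOddOrder G) : commutator G = ⊤ := by
  rcases eq_bot_or_eq_top_of_normal hG (commutator G) with h | h
  · exfalso
    apply not_comm hG
    rw [commutator_def, Subgroup.commutator_eq_bot_iff_le_centralizer] at h
    refine ⟨⟨fun a b => ?_⟩⟩
    have := h (Subgroup.mem_top b)
    rw [Subgroup.mem_centralizer_iff] at this
    exact this a (Subgroup.mem_top a)
  · exact h

theorem not_isSolvable (hG : IsMinSimpleOddOrder G) : ¬ Group.IsSolvable G := by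
  intro hs
  haveI := nontrivial' hG
  obtain ⟨n, hn⟩ := hs.solvable
  have h : ∀ k : ℕ, derivedSeries G k = ⊤ := by
    intro k
    induction k with
    | zero => rfl
    | succ k ih =>
      rw [derivedSeries_succ, ih]
      exact commutator_eq_top hG
  rw [h n] at hn
  exact top_ne_bot hn

/-- a solvable subgroup is proper. -/
theorem ne_top_of_isSolvable (hG : IsMinSimpleOddOrder G) {H : Subgroup G}
    (hs : Group.IsSolvable H) : H ≠ ⊤ := by
  rintro rfl
  apply not_isSolvable hG
  haveI := hs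
  exact Group.isSolvable_of_surjective (f := (Subgroup.topEquiv : (⊤ : Subgroup G) ≃* G).toMonoidHom)
    (Subgroup.topEquiv : (⊤ : Subgroup G) ≃* G).surjective

theorem ne_top_of_isNilpotent (hG : IsMinSimpleOddOrder G) {H : Subgroup G}
    (hs : Group.IsNilpotent H) : H ≠ ⊤ :=
  ne_top_of_isSolvable hG (by haveI := hs; infer_instance)

theorem ne_top_of_isMulCommutative (hG : IsMinSimpleOddOrder G) {H : Subgroup G}
    (hs : IsMulCommutative H) : H ≠ ⊤ := by
  rintro rfl
  apply not_comm hG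
  refine ⟨⟨fun a b => ?_⟩⟩
  have := hs.is_comm.comm (⟨a, Subgroup.mem_top a⟩ : (⊤ : Subgroup G)) ⟨b, Subgroup.mem_top b⟩
  exact congrArg Subtype.val this

theorem ne_top_of_isPGroup (hG : IsMinSimpleOddOrder G) [Finite G] {p : ℕ} [Fact p.Prime]
    {H : Subgroup G} (hs : IsPGroup p H) : H ≠ ⊤ :=
  ne_top_of_isNilpotent hG hs.isNilpotent

theorem sylow_ne_top (hG : IsMinSimpleOddOrder G) [Finite G] {p : ℕ} [Fact p.Prime]
    (P : Sylow p G) : (P : Subgroup G) ≠ ⊤ :=
  ne_top_of_isPGroup hG P.isPGroup'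

theorem normalizer_ne_top (hG : IsMinSimpleOddOrder G) {H : Subgroup G} (h1 : H ≠ ⊥)
    (h2 : H ≠ ⊤) : Subgroup.normalizer (H : Set G) ≠ ⊤ := by
  intro h
  haveI : H.Normal := Subgroup.normalizer_eq_top_iff.mp h
  rcases eq_bot_or_eq_top_of_normal hG H with h' | h'
  · exact h1 h'
  · exact h2 h'

theorem center_eq_bot (hG : IsMinSimpleOddOrder G) : Subgroup.center G = ⊥ := by
  rcases eq_bot_or_eq_top_of_normal hG (Subgroup.center G) with h | h
  · exact h
  · exfalso
    apply not_comm hG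
    refine ⟨⟨fun a b => ?_⟩⟩
    have ha : b ∈ Subgroup.center G := by rw [h]; trivial
    exact (Subgroup.mem_center_iff.mp ha) a

theorem centralizer_ne_top (hG : IsMinSimpleOddOrder G) {H : Subgroup G} (h1 : H ≠ ⊥) :
    Subgroup.centralizer (H : Set G) ≠ ⊤ := by
  intro h
  apply h1
  rw [eq_bot_iff, ← center_eq_bot hG]
  intro x hx
  rw [Subgroup.mem_center_iff]
  intro g
  have : g ∈ Subgroup.centralizer (H : Set G) := by rw [h]; trivial
  exact (Subgroup.mem_centralizer_iff.mp this x hx).symm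

theorem centralizer_singleton_ne_top (hG : IsMinSimpleOddOrder G) {x : G} (h1 : x ≠ 1) :
    Subgroup.centralizer ({x} : Set G) ≠ ⊤ := by
  intro h
  apply h1
  have hx : x ∈ Subgroup.center G := by
    rw [Subgroup.mem_center_iff]
    intro g
    have : g ∈ Subgroup.centralizer ({x} : Set G) := by rw [h]; trivial
    exact (Subgroup.mem_centralizer_iff.mp this x rfl).symm
  rw [center_eq_bot hG] at hx
  exact Subgroup.mem_bot.mp hx

/-- every proper subgroup lies in a maximal subgroup. -/
theorem exists_coatom_ge [Finite G] {H : Subgroup G} (hH : H ≠ ⊤) :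
    ∃ M : Subgroup G, IsCoatom M ∧ H ≤ M := by
  rcases eq_top_or_exists_le_coatom H with h | h
  · exact absurd h hH
  · exact h

theorem exists_coatom_normalizer_le [Finite G] (hG : IsMinSimpleOddOrder G) {H : Subgroup G}
    (h1 : H ≠ ⊥) (h2 : H ≠ ⊤) :
    ∃ M : Subgroup G, IsCoatom M ∧ Subgroup.normalizer (H : Set G) ≤ M :=
  exists_coatom_ge (normalizer_ne_top hG h1 h2)

theorem isSolvable_of_isCoatom (hG : IsMinSimpleOddOrder G) {M : Subgroup G} (hM : IsCoatom M) :
    Group.IsSolvable M := isSolvable_of_ne_top hG hM.1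

theorem coatom_ne_bot (hG : IsMinSimpleOddOrder G) [Finite G] {M : Subgroup G} (hM : IsCoatom M) :
    M ≠ ⊥ := by
  rintro rfl
  haveI := nontrivial' hG
  obtain ⟨x, hx⟩ := exists_ne (1 : G)
  have h1 : (⊥ : Subgroup G) < Subgroup.zpowers x := by
    rw [bot_lt_iff_ne_bot]
    simpa using hx
  have h2 := hM.2 _ h1
  exact ne_top_of_isMulCommutative hG (H := Subgroup.zpowers x) inferInstance h2

/-- If `H ≠ 1` is normalized by the maximal subgroup `M`, and `H` is proper, then `N_G(H) = M`. -/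
theorem normalizer_eq_of_coatom (hG : IsMinSimpleOddOrder G) {M H : Subgroup G}
    (hM : IsCoatom M) (h1 : H ≠ ⊥) (h2 : H ≠ ⊤) (hn : M ≤ Subgroup.normalizer (H : Set G)) :
    Subgroup.normalizer (H : Set G) = M := by
  by_contra hne
  exact normalizer_ne_top hG h1 h2 (hM.2 _ (lt_of_le_of_ne hn (Ne.symm hne)))

/-- If `H ≠ 1` is a normal subgroup of `M` (in the sense `H ≤ M ≤ N_G(H)`), `M` maximal, then
`N_G(H) = M`. -/
theorem normalizer_eq_of_le_coatom (hG : IsMinSimpleOddOrder G) {M H : Subgroup G}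
    (hM : IsCoatom M) (h1 : H ≠ ⊥) (h2 : H ≤ M) (hn : M ≤ Subgroup.normalizer (H : Set G)) :
    Subgroup.normalizer (H : Set G) = M :=
  normalizer_eq_of_coatom hG hM h1 (fun h => hM.1 (top_le_iff.mp (h ▸ h2))) hn

theorem normalizer_coatom (hG : IsMinSimpleOddOrder G) [Finite G] {M : Subgroup G}
    (hM : IsCoatom M) : Subgroup.normalizer (M : Set G) = M :=
  normalizer_eq_of_le_coatom hG hM (coatom_ne_bot hG hM) le_rfl Subgroup.le_normalizer

theorem odd_card_subgroup (hG : IsMinSimpleOddOrder G) [Finite G] (H : Subgroup G) :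
    Odd (Nat.card H) :=
  Odd.of_dvd_nat hG.1 (Subgroup.card_subgroup_dvd_card H)

theorem prime_ne_two_of_dvd (hG : IsMinSimpleOddOrder G) {p : ℕ}
    (hp : p ∣ Nat.card G) : p ≠ 2 := by
  rintro rfl
  exact (Nat.not_even_iff_odd.mpr hG.1) (even_iff_two_dvd.mpr hp)

theorem prime_ne_two_of_isPGroup (hG : IsMinSimpleOddOrder G) [Finite G] {p : ℕ}
    [Fact p.Prime] {H : Subgroup G} (hH : IsPGroup p H) (h1 : H ≠ ⊥) : p ≠ 2 := by
  apply prime_ne_two_of_dvd hG
  haveI : Nontrivial H := (Subgroup.nontrivial_iff_ne_bot H).mpr h1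
  obtain ⟨n, hn, hc⟩ := hH.nontrivial_iff_card.mp inferInstance
  exact (dvd_pow_self p hn.ne').trans (hc ▸ Subgroup.card_subgroup_dvd_card H)

end

section Conj

variable {G : Type*} [Group G]

theorem isCoatom_map_conj {M : Subgroup G} (hM : IsCoatom M) (g : G) :
    IsCoatom (M.map (MulAut.conj g).toMonoidHom) := by
  have h := (OrderIso.isCoatom_iff (MulEquiv.mapSubgroup (MulAut.conj g)) M).mpr hM
  exact h

theorem mem_map_conj_iff {H : Subgroup G} {g x : G} :
    x ∈ H.map (MulAut.conj g).toMonoidHom ↔ g⁻¹ * x * g ∈ H := by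
  constructor
  · rintro ⟨y, hy, rfl⟩
    simpa [mul_assoc] using hy
  · intro h
    exact ⟨_, h, by simp [mul_assoc]⟩

theorem conj_mem_map_conj {H : Subgroup G} {g x : G} (hx : x ∈ H) :
    g * x * g⁻¹ ∈ H.map (MulAut.conj g).toMonoidHom :=
  ⟨x, hx, rfl⟩

theorem map_conj_mul (H : Subgroup G) (g h : G) :
    H.map (MulAut.conj (g * h)).toMonoidHom =
      (H.map (MulAut.conj h).toMonoidHom).map (MulAut.conj g).toMonoidHom := by
  rw [Subgroup.map_map]
  congr 1
  ext x
  simp [mul_assoc]

theorem map_conj_one (H : Subgroup G) :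
    H.map (MulAut.conj (1 : G)).toMonoidHom = H := by
  ext x
  rw [mem_map_conj_iff]
  simp

theorem map_conj_of_mem {H : Subgroup G} {g : G} (hg : g ∈ H) :
    H.map (MulAut.conj g).toMonoidHom = H := by
  ext x
  rw [mem_map_conj_iff]
  constructor
  · intro h
    have := H.mul_mem (H.mul_mem hg h) (H.inv_mem hg)
    simpa [mul_assoc] using this
  · intro h
    exact H.mul_mem (H.mul_mem (H.inv_mem hg) h) hg

theorem mem_normalizer_iff_map_conj {H : Subgroup G} {g : G} :
    g ∈ Subgroup.normalizer (H : Set G) ↔ H.map (MulAut.conj g).toMonoidHom = H :=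
  Subgroup.mem_normalizer_iff_map_conj_eq

theorem card_map_conj (H : Subgroup G) (g : G) :
    Nat.card (H.map (MulAut.conj g).toMonoidHom) = Nat.card H :=
  Nat.card_congr (Subgroup.equivMapOfInjective H _ (MulAut.conj g).injective).toEquiv.symm

theorem map_conj_le_iff {H K : Subgroup G} {g : G} :
    H.map (MulAut.conj g).toMonoidHom ≤ K.map (MulAut.conj g).toMonoidHom ↔ H ≤ K :=
  Subgroup.map_le_map_iff_of_injective (MulAut.conj g).injective

theorem map_conj_inv_le_iff {H K : Subgroup G} {g : G} :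
    H.map (MulAut.conj g).toMonoidHom ≤ K ↔ H ≤ K.map (MulAut.conj g⁻¹).toMonoidHom := by
  constructor
  · intro h
    rw [← map_conj_le_iff (g := g), ← map_conj_mul, mul_inv_cancel, map_conj_one]
    exact h
  · intro h
    rw [← map_conj_le_iff (g := g⁻¹), ← map_conj_mul, inv_mul_cancel, map_conj_one]
    exact h

/-- Conjugation by an element centralizing `H` fixes `H`. -/
theorem map_conj_of_mem_centralizer {H : Subgroup G} {g : G}
    (hg : g ∈ Subgroup.centralizer (H : Set G)) :
    H.map (MulAut.conj g).toMonoidHom = H := by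
  ext x
  rw [mem_map_conj_iff]
  constructor
  · intro h
    have h1 := Subgroup.mem_centralizer_iff.mp hg _ h
    have : g⁻¹ * x * g = x := by
      have h2 : g * (g⁻¹ * x * g) = (g⁻¹ * x * g) * g := h1.symm
      have h3 : x * g = g⁻¹ * x * g * g := by
        simpa [mul_assoc] using h2
      exact (mul_right_cancel h3).symm
    rwa [this] at h
  · intro h
    have h1 := Subgroup.mem_centralizer_iff.mp hg _ h
    have : g⁻¹ * x * g = x := by
      rw [mul_assoc, h1]; simp
    rwa [this]

/-- A `p`-subgroup is conjugate into any Sylow `p`-subgroup. -/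
theorem exists_map_conj_le_sylow [Finite G] {p : ℕ} [Fact p.Prime] (P : Sylow p G)
    {Q : Subgroup G} (hQ : IsPGroup p Q) :
    ∃ g : G, Q.map (MulAut.conj g).toMonoidHom ≤ (P : Subgroup G) := by
  obtain ⟨S, hS⟩ := hQ.exists_le_sylow
  obtain ⟨g, hg⟩ := MulAction.exists_smul_eq G S P
  refine ⟨g, ?_⟩
  rw [← hg]
  exact Subgroup.map_mono hS

end Conj

section Sigma

variable {G : Type*} [Group G] [Finite G]

/-- A Sylow `p`-subgroup `P` of `G` contained in `M`, as a Sylow `p`-subgroup of `M`. -/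
theorem exists_sylow_subtype {p : ℕ} [Fact p.Prime] (P : Sylow p G) {M : Subgroup G}
    (hPM : (P : Subgroup G) ≤ M) :
    ∃ P' : Sylow p M, ((P' : Subgroup M).map M.subtype : Subgroup G) = (P : Subgroup G) := by
  refine ⟨P.subtype hPM, ?_⟩
  rw [Sylow.coe_subtype, Subgroup.subgroupOf_map_subtype, inf_eq_left.mpr hPM]

/-- If `N_G(P) ≤ M` for the Sylow `p`-subgroup `P ≠ 1` of `G`, then `p ∈ σ(M)`. -/
theorem mem_sigma_of_normalizer_le {p : ℕ} [hp : Fact p.Prime] (P : Sylow p G)
    (hP : (P : Subgroup G) ≠ ⊥) {M : Subgroup G}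
    (hPM : Subgroup.normalizer ((P : Subgroup G) : Set G) ≤ M) :
    p ∈ sigma M := by
  have hle : (P : Subgroup G) ≤ M := Subgroup.le_normalizer.trans hPM
  refine ⟨hp.out, ?_, ?_⟩
  · haveI : Nontrivial (P : Subgroup G) := (Subgroup.nontrivial_iff_ne_bot _).mpr hP
    obtain ⟨n, hn, hc⟩ := P.isPGroup'.nontrivial_iff_card.mp inferInstance
    exact (dvd_pow_self p hn.ne').trans (hc ▸ Subgroup.card_dvd_of_le hle)
  · obtain ⟨P', hP'⟩ := exists_sylow_subtype P hle
    exact ⟨P', by rw [hP']; exact hPM⟩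

end Sigma

end Cfsg.Agent.OddOrderLocal.MinSimpleBasic
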