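import Mathlib
import Cfsg.Prelude.Def_OddOrderLocal
import Cfsg.Agent.OddOrderLocal.PiCoreOf
import Cfsg.Agent.OddOrderLocal.MinSimpleBasic
set_option linter.all false

/-!
Basic facts on `Cfsg.invSubgroups`, `Cfsg.maxInvSubgroups` and `Cfsg.TransitivityHypothesis`
(Bender-Glauberman, Section 7).
-/

set_option autoImplicit false
open Cfsg

namespace Cfsg.Agent.OddOrderLocal.Transitivity

open Cfsg.Agent.OddOrderLocal.PiCoreOf

variable {G : Type*} [Group G]

theorem mem_inv_iff {H A Y : Subgroup G} {π : Set ℕ} :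
    Y ∈ invSubgroups H A π ↔ Y ≤ H ∧ IsPi π Y ∧ A ≤ Subgroup.normalizer (Y : Set G) := Iff.rfl

theorem mem_maxInv_iff {H A Q : Subgroup G} {π : Set ℕ} :
    Q ∈ maxInvSubgroups H A π ↔
      Q ∈ invSubgroups H A π ∧ ∀ R ∈ invSubgroups H A π, Q ≤ R → R = Q := Iff.rfl

theorem inv_mono {H H' A : Subgroup G} {π : Set ℕ} (h : H ≤ H') :
    invSubgroups H A π ⊆ invSubgroups H' A π :=
  fun _ hY => ⟨hY.1.trans h, hY.2.1, hY.2.2⟩

theorem inv_anti {H A B : Subgroup G} {π : Set ℕ} (h : A ≤ B) :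
    invSubgroups H B π ⊆ invSubgroups H A π :=
  fun _ hY => ⟨hY.1, hY.2.1, h.trans hY.2.2⟩

theorem inv_pi_mono {H A : Subgroup G} {π ρ : Set ℕ} (h : π ⊆ ρ) :
    invSubgroups H A π ⊆ invSubgroups H A ρ :=
  fun _ hY => ⟨hY.1, fun p hp hd => h (hY.2.1 p hp hd), hY.2.2⟩

theorem bot_mem_inv (H A : Subgroup G) (π : Set ℕ) : (⊥ : Subgroup G) ∈ invSubgroups H A π :=
  ⟨bot_le, isPi_bot π, by rw [Subgroup.normalizer_eq_top]; exact le_top⟩

/-- Every member of `И_H(A; π)` lies in a maximal one. -/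
theorem exists_maxInv_ge [Finite G] {H A Y : Subgroup G} {π : Set ℕ}
    (hY : Y ∈ invSubgroups H A π) : ∃ Q ∈ maxInvSubgroups H A π, Y ≤ Q := by
  have hfin : (invSubgroups H A π).Finite := Set.toFinite _
  obtain ⟨M, hYM, hM⟩ := hfin.exists_le_maximal hY
  exact ⟨M, ⟨hM.prop, fun R hR hMR => le_antisymm (hM.le_of_ge hR hMR) hMR⟩, hYM⟩

theorem map_conj_mem_inv {H A Y : Subgroup G} {π : Set ℕ} (hY : Y ∈ invSubgroups H A π) (g : G) :
    Y.map (MulAut.conj g).toMonoidHom ∈
      invSubgroups (H.map (MulAut.conj g).toMonoidHom) (A.map (MulAut.conj g).toMonoidHom) π := by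
  refine ⟨Subgroup.map_mono hY.1, isPi_map hY.2.1 _, ?_⟩
  rw [← Subgroup.map_equiv_normalizer_eq]
  exact Subgroup.map_mono hY.2.2

theorem map_conj_inv_map_conj (Y : Subgroup G) (g : G) :
    (Y.map (MulAut.conj g).toMonoidHom).map (MulAut.conj g⁻¹).toMonoidHom = Y := by
  ext x
  simp only [Subgroup.mem_map]
  constructor
  · rintro ⟨y, ⟨z, hz, rfl⟩, rfl⟩
    simpa [mul_assoc] using hz
  · intro hx
    exact ⟨g * x * g⁻¹, ⟨x, hx, by simp⟩, by simp [mul_assoc]⟩

theorem map_conj_map_conj_inv (Y : Subgroup G) (g : G) :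
    (Y.map (MulAut.conj g⁻¹).toMonoidHom).map (MulAut.conj g).toMonoidHom = Y := by
  simpa using map_conj_inv_map_conj Y g⁻¹

theorem map_conj_mem_maxInv {H A Q : Subgroup G} {π : Set ℕ} (hQ : Q ∈ maxInvSubgroups H A π)
    (g : G) :
    Q.map (MulAut.conj g).toMonoidHom ∈
      maxInvSubgroups (H.map (MulAut.conj g).toMonoidHom) (A.map (MulAut.conj g).toMonoidHom) π := by
  refine ⟨map_conj_mem_inv hQ.1 g, fun R hR hle => ?_⟩
  have h1 := map_conj_mem_inv hR g⁻¹
  rw [map_conj_inv_map_conj, map_conj_inv_map_conj] at h1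
  have h2 : Q ≤ R.map (MulAut.conj g⁻¹).toMonoidHom := by
    have := Subgroup.map_mono (f := (MulAut.conj g⁻¹).toMonoidHom) hle
    rwa [map_conj_inv_map_conj] at this
  have h3 := hQ.2 _ h1 h2
  rw [← h3, map_conj_map_conj_inv]

/-- `N_G(A)` permutes the maximal `A`-invariant `π`-subgroups of `G`. -/
theorem conj_mem_maxInv_top {A Q : Subgroup G} {π : Set ℕ} (hQ : Q ∈ maxInvSubgroups ⊤ A π)
    {g : G} (hg : g ∈ Subgroup.normalizer (A : Set G)) :
    Q.map (MulAut.conj g).toMonoidHom ∈ maxInvSubgroups ⊤ A π := by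
  have h := map_conj_mem_maxInv hQ g
  rwa [mem_normalizer_iff_conj.mp hg, ← MonoidHom.range_eq_map,
    MonoidHom.range_eq_top_of_surjective _ (MulAut.conj g).surjective] at h

/-! ### The transitivity hypothesis -/

/-- `O_{π(A)'}(C_G(A))` -/
def coreK (A : Subgroup G) : Subgroup G :=
  piCoreOf (primesNotDvd (Nat.card A)) (Subgroup.centralizer (A : Set G))

theorem coreK_def (A : Subgroup G) :
    coreK A = piCoreOf (primesNotDvd (Nat.card A)) (Subgroup.centralizer (A : Set G)) := rfl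

theorem coreK_le_centralizer (A : Subgroup G) : coreK A ≤ Subgroup.centralizer (A : Set G) :=
  piCoreOf_le _ _

theorem coreK_le_normalizer (A : Subgroup G) : coreK A ≤ Subgroup.normalizer (A : Set G) :=
  (coreK_le_centralizer A).trans (Subgroup.centralizer_le_normalizer _)

theorem coreK_coprime [Finite G] (A : Subgroup G) : (Nat.card (coreK A)).Coprime (Nat.card A) :=
  coprime_of_isPi_primesNotDvd (piCoreOf_isPi _ _)

/-- Hypothesis 7.1 in the form in which it is used. -/
theorem le_piCoreOf_of_hyp [Finite G] {A : Subgroup G} (hA : TransitivityHypothesis A)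
    {X Y : Subgroup G} (hX : X ≠ ⊤) (hAX : A ≤ X) (hYX : Y ≤ X)
    (hY : (Nat.card Y).Coprime (Nat.card A)) (hAY : A ≤ Subgroup.normalizer (Y : Set G)) :
    Y ≤ piCoreOf (primesNotDvd (Nat.card A)) X := by
  rw [← hA.2.2 X hX hAX]
  exact le_sSup ⟨hYX, (isPi_primesNotDvd_iff Y).mpr hY, hAY⟩

theorem normalizer_centralizer_ge (A : Subgroup G) :
    Subgroup.normalizer (A : Set G) ≤ Subgroup.normalizer (Subgroup.centralizer (A : Set G) : Set G) := by
  intro g hg
  rw [Subgroup.mem_normalizer_iff] at hg ⊢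
  intro x
  rw [Subgroup.mem_centralizer_iff, Subgroup.mem_centralizer_iff]
  constructor
  · intro h a ha
    have h1 : g⁻¹ * a * g ∈ A := by
      rw [hg]; simpa [mul_assoc] using ha
    have h2 := h _ h1
    have h3 : a * (g * x * g⁻¹) = g * ((g⁻¹ * a * g) * x) * g⁻¹ := by group
    rw [h3, h2]; group
  · intro h a ha
    have h1 : g * a * g⁻¹ ∈ A := (hg a).mp ha
    have h2 := h _ h1
    have h3 : a * x = g⁻¹ * ((g * a * g⁻¹) * (g * x * g⁻¹)) * g := by group
    rw [h3, h2]; group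

theorem coreK_normalized [Finite G] (A : Subgroup G) :
    Subgroup.normalizer (A : Set G) ≤ Subgroup.normalizer (coreK A : Set G) :=
  (normalizer_centralizer_ge A).trans (normalizer_le_normalizer_piCoreOf _ _)

/-- Two subgroups normalising each other and meeting trivially commute. -/
theorem le_centralizer_of_normalize {H K : Subgroup G} (hHK : H ≤ Subgroup.normalizer (K : Set G))
    (hKH : K ≤ Subgroup.normalizer (H : Set G)) (hd : H ⊓ K = ⊥) :
    H ≤ Subgroup.centralizer (K : Set G) := by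
  intro x hx
  rw [Subgroup.mem_centralizer_iff]
  intro y hy
  have h1 : y * x * y⁻¹ * x⁻¹ ∈ H :=
    H.mul_mem ((Subgroup.mem_normalizer_iff.mp (hKH hy) x).mp hx) (H.inv_mem hx)
  have h2 : y * x * y⁻¹ * x⁻¹ ∈ K := by
    have h3 := (Subgroup.mem_normalizer_iff.mp (hHK hx) y⁻¹).mp (K.inv_mem hy)
    have h4 : y * x * y⁻¹ * x⁻¹ = y * (x * y⁻¹ * x⁻¹) := by group
    rw [h4]; exact K.mul_mem hy h3
  have h5 : y * x * y⁻¹ * x⁻¹ ∈ H ⊓ K := ⟨h1, h2⟩
  rw [hd, Subgroup.mem_bot] at h5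
  calc y * x = (y * x * y⁻¹ * x⁻¹) * (x * y) := by group
    _ = x * y := by rw [h5, one_mul]

/-- Under the transitivity hypothesis, `K = O_{π(A)'}(C_G(A))` contains every `π(A)'`-subgroup of
`C_G(A)`: it is a normal Hall subgroup of `C_G(A)`. -/
theorem le_coreK [Finite G] (hG : IsMinSimpleOddOrder G) {A : Subgroup G}
    (hA : TransitivityHypothesis A) {Y : Subgroup G} (hY : Y ≤ Subgroup.centralizer (A : Set G))
    (hc : (Nat.card Y).Coprime (Nat.card A)) : Y ≤ coreK A := by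
  set N := Subgroup.normalizer (A : Set G) with hN
  have hNtop : N ≠ ⊤ := MinSimpleBasic.normalizer_ne_top hG hA.1 hA.2.1
  have hAN : A ≤ N := Subgroup.le_normalizer
  have hCN : Subgroup.centralizer (A : Set G) ≤ N := Subgroup.centralizer_le_normalizer _
  have hAY : A ≤ Subgroup.normalizer (Y : Set G) := by
    have h1 : A ≤ Subgroup.centralizer (Y : Set G) := by
      rw [Subgroup.le_centralizer_iff]; exact hY
    exact h1.trans (Subgroup.centralizer_le_normalizer _)
  have h1 : Y ≤ piCoreOf (primesNotDvd (Nat.card A)) N :=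
    le_piCoreOf_of_hyp hA hNtop hAN (hY.trans hCN) hc hAY
  have h2 : piCoreOf (primesNotDvd (Nat.card A)) N ≤ Subgroup.centralizer (A : Set G) := by
    apply le_centralizer_of_normalize (piCoreOf_le _ _)
    · exact hAN.trans (le_normalizer_piCoreOf _ _)
    · exact Subgroup.inf_eq_bot_of_coprime (coprime_of_isPi_primesNotDvd (piCoreOf_isPi _ _))
  have h3 : piCoreOf (primesNotDvd (Nat.card A)) N ≤ coreK A :=
    le_piCoreOf h2 (hCN.trans (le_normalizer_piCoreOf _ _)) (piCoreOf_isPi _ _)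
  exact h1.trans h3

theorem mem_coreK [Finite G] (hG : IsMinSimpleOddOrder G) {A : Subgroup G}
    (hA : TransitivityHypothesis A) {x : G} (hx : x ∈ Subgroup.centralizer (A : Set G))
    (hc : (orderOf x).Coprime (Nat.card A)) : x ∈ coreK A := by
  have h : Subgroup.zpowers x ≤ coreK A := by
    apply le_coreK hG hA
    · rwa [Subgroup.zpowers_le]
    · rwa [Nat.card_zpowers]
  exact h (Subgroup.mem_zpowers x)

theorem primesNotDvd_eq [Finite G] {A P : Subgroup G} (hAP : A ≤ P)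
    (hPπ : ∀ r : ℕ, r.Prime → r ∣ Nat.card P → r ∣ Nat.card A) :
    primesNotDvd (Nat.card P) = primesNotDvd (Nat.card A) := by
  ext r
  constructor
  · rintro ⟨h1, h2⟩
    exact ⟨h1, fun h => h2 (h.trans (Subgroup.card_dvd_of_le hAP))⟩
  · rintro ⟨h1, h2⟩
    exact ⟨h1, fun h => h2 (hPπ r h1 h)⟩

/-- The transitivity hypothesis passes to overgroups with the same primes. -/
theorem hyp_overgroup [Finite G] {A P : Subgroup G} (hA : TransitivityHypothesis A) (hAP : A ≤ P)
    (hP : P ≠ ⊤) (hPπ : ∀ r : ℕ, r.Prime → r ∣ Nat.card P → r ∣ Nat.card A) :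
    TransitivityHypothesis P := by
  refine ⟨fun h => hA.1 (le_bot_iff.mp (h ▸ hAP)), hP, fun X hX hPX => ?_⟩
  rw [primesNotDvd_eq hAP hPπ]
  apply le_antisymm
  · rw [← hA.2.2 X hX (hAP.trans hPX)]
    exact sSup_le_sSup (inv_anti hAP)
  · exact le_sSup ⟨piCoreOf_le _ _, piCoreOf_isPi _ _, hPX.trans (le_normalizer_piCoreOf _ _)⟩

/-- `C_K(P) = O_{π(A)'}(C_G(P))` for a `π(A)`-overgroup `P` of `A`. -/
theorem coreK_inf_centralizer [Finite G] (hG : IsMinSimpleOddOrder G) {A P : Subgroup G}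
    (hA : TransitivityHypothesis A) (hAP : A ≤ P)
    (hPπ : ∀ r : ℕ, r.Prime → r ∣ Nat.card P → r ∣ Nat.card A) :
    coreK A ⊓ Subgroup.centralizer (P : Set G) = coreK P := by
  have hCC : Subgroup.centralizer (P : Set G) ≤ Subgroup.centralizer (A : Set G) :=
    Subgroup.centralizer_le hAP
  apply le_antisymm
  · rw [coreK_def P, primesNotDvd_eq hAP hPπ]
    refine le_piCoreOf inf_le_right ?_ (isPi_mono inf_le_left (piCoreOf_isPi _ _))
    have h1 : Subgroup.centralizer (P : Set G) ≤ Subgroup.normalizer (coreK A : Set G) :=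
      hCC.trans (le_normalizer_piCoreOf _ _)
    intro g hg
    rw [mem_normalizer_iff_conj, Subgroup.map_inf_eq _ _ _ (MulAut.conj g).injective,
      mem_normalizer_iff_conj.mp (h1 hg),
      mem_normalizer_iff_conj.mp (Subgroup.le_normalizer hg)]
  · refine le_inf ?_ (coreK_le_centralizer P)
    apply le_coreK hG hA ((coreK_le_centralizer P).trans hCC)
    have h := coreK_coprime P
    exact h.coprime_dvd_right (Subgroup.card_dvd_of_le hAP)

end Cfsg.Agent.OddOrderLocal.Transitivity
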