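import Mathlib
import Cfsg.Prelude.Def_OddOrderLocal
import Cfsg.Agent.OddOrderLocal.PiCoreOf
import Cfsg.Agent.OddOrderLocal.Transitivity
import Cfsg.Agent.OddOrderLocal.FitAux
import Cfsg.Agent.Lib.Cores
import Cfsg.Agent.Lib.SolvableMinNormal
import Cfsg.Agent.Lib.PGroupCoprimeAction
import Cfsg.Agent.S0044
import Cfsg.Agent.S0552
set_option linter.all false

/-!
Relative cores `piCoreOf {q} H`, `piCoreOf (primesNotDvd q) H` and the Fitting subgroup
`fittingOf H` of a subgroup `H` (ambient-subgroup form).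
-/

set_option autoImplicit false
set_option linter.style.haveILetI false
set_option linter.unusedSectionVars false
open Cfsg

namespace Cfsg.Agent.OddOrderLocal.FitCores

open Cfsg.Agent.OddOrderLocal
open Cfsg.Agent.OddOrderLocal.PiCoreOf

variable {G : Type*} [Group G] [Finite G]

/-- `O_q(H)` as the image of `pCore`. -/
theorem map_pCore_eq {q : ℕ} (hq : q.Prime) (H : Subgroup G) :
    (pCore q H).map H.subtype = piCoreOf {q} H := by
  have h : pCore q H = piCore {q} H := by
    apply le_antisymm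
    · refine le_piCore inferInstance ((isPi_singleton_iff hq _).mpr ?_)
      exact Cfsg.Agent.Lib.Cores.pCore_isPGroup q
    · exact Cfsg.Agent.Lib.Cores.le_pCore inferInstance
        ((isPi_singleton_iff hq _).mp (piCore_isPi _))
  rw [h]
  rfl

/-- `F(H)` is the join of the `O_q(H)`. -/
theorem fittingOf_eq_iSup (H : Subgroup G) :
    fittingOf H = ⨆ q : Nat.Primes, piCoreOf {(q : ℕ)} H := by
  unfold fittingOf
  rw [Cfsg.Agent.Lib.Cores.fittingSubgroup_eq_iSup_pCore, Subgroup.map_iSup]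
  exact iSup_congr fun q => map_pCore_eq q.2 H

/-- To bound `F(H)` it is enough to bound every `O_q(H)`. -/
theorem fittingOf_le_iff {H K : Subgroup G} :
    fittingOf H ≤ K ↔ ∀ q : ℕ, q.Prime → piCoreOf {q} H ≤ K := by
  rw [fittingOf_eq_iSup, iSup_le_iff]
  exact ⟨fun h q hq => h ⟨q, hq⟩, fun h q => h q q.2⟩

theorem isPGroup_piCoreOf {q : ℕ} (hq : q.Prime) (H : Subgroup G) :
    IsPGroup q (piCoreOf {q} H) :=
  (isPi_singleton_iff hq _).mp (piCoreOf_isPi _ _)

theorem coprime_piCoreOf (n : ℕ) (H : Subgroup G) :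
    (Nat.card (piCoreOf (primesNotDvd n) H)).Coprime n :=
  coprime_of_isPi_primesNotDvd (piCoreOf_isPi _ _)

/-- a normalized `q`-subgroup of `H` lies in `O_q(H)`. -/
theorem le_core_of_isPGroup {q : ℕ} (hq : q.Prime) {H N : Subgroup G} (hNH : N ≤ H)
    (hn : H ≤ Subgroup.normalizer (N : Set G)) (hN : IsPGroup q N) : N ≤ piCoreOf {q} H :=
  le_piCoreOf hNH hn ((isPi_singleton_iff hq _).mpr hN)

/-- a normalized subgroup of `H` of order prime to `n` lies in `O_{π(n)'}(H)`. -/
theorem le_core_of_coprime {n : ℕ} {H N : Subgroup G} (hNH : N ≤ H)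
    (hn : H ≤ Subgroup.normalizer (N : Set G)) (hN : (Nat.card N).Coprime n) :
    N ≤ piCoreOf (primesNotDvd n) H :=
  le_piCoreOf hNH hn ((isPi_primesNotDvd_iff _).mpr hN)

theorem coprime_of_isPGroup {q n : ℕ} (hq : q.Prime) (hn : ¬ q ∣ n) {N : Subgroup G}
    (hN : IsPGroup q N) : (Nat.card N).Coprime n := by
  haveI := Fact.mk hq
  obtain ⟨m, hm⟩ := IsPGroup.iff_card.mp hN
  rw [hm]
  exact Nat.Coprime.pow_left m ((Nat.Prime.coprime_iff_not_dvd hq).mpr hn)

theorem disjoint_of_coprime {H K : Subgroup G} (h : (Nat.card H).Coprime (Nat.card K)) :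
    H ⊓ K = ⊥ := (Subgroup.disjoint_of_coprime_natCard h).eq_bot

theorem piCoreOf_singleton_le_fittingOf {q : ℕ} (hq : q.Prime) (H : Subgroup G) :
    piCoreOf {q} H ≤ fittingOf H := by
  haveI := Fact.mk hq
  exact FitAux.le_fittingOf (piCoreOf_le _ _) (le_normalizer_piCoreOf _ _)
    (isPGroup_piCoreOf hq H).isNilpotent

/-- `O_q(H)` and a normalized subgroup of order prime to `q` commute. -/
theorem core_le_centralizer_of_coprime {q : ℕ} (hq : q.Prime) {H K : Subgroup G}
    (hKH : K ≤ H) (hn : H ≤ Subgroup.normalizer (K : Set G)) (hK : (Nat.card K).Coprime q) :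
    piCoreOf {q} H ≤ Subgroup.centralizer (K : Set G) := by
  haveI := Fact.mk hq
  refine Transitivity.le_centralizer_of_normalize ((piCoreOf_le _ _).trans hn)
    (hKH.trans (le_normalizer_piCoreOf _ _)) (disjoint_of_coprime ?_)
  obtain ⟨m, hm⟩ := IsPGroup.iff_card.mp (isPGroup_piCoreOf hq H)
  rw [hm]
  exact (Nat.Coprime.pow_right m hK).symm

theorem core_le_centralizer_core {q r : ℕ} (hq : q.Prime) (hr : r.Prime) (hqr : q ≠ r)
    (H : Subgroup G) : piCoreOf {q} H ≤ Subgroup.centralizer (piCoreOf {r} H : Set G) := by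
  refine core_le_centralizer_of_coprime hq (piCoreOf_le _ _) (le_normalizer_piCoreOf _ _) ?_
  exact coprime_of_isPGroup hr (fun h => hqr ((Nat.prime_dvd_prime_iff_eq hr hq).mp h).symm)
    (isPGroup_piCoreOf hr H)

/-- A `q`-subgroup of a nilpotent subgroup `X` lies in `O_q(X)`. -/
theorem le_core_of_nilpotent {X Y : Subgroup G} (hX : Group.IsNilpotent X) {q : ℕ}
    (hq : q.Prime) (hYX : Y ≤ X) (hY : IsPGroup q Y) : Y ≤ piCoreOf {q} X := by
  haveI := Fact.mk hq
  have h1 : IsPGroup q (Y.subgroupOf X) := hY.of_equiv (Subgroup.subgroupOfEquivOfLe hYX).symm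
  obtain ⟨S, hS⟩ := h1.exists_le_sylow
  have hSn : (S : Subgroup X).Normal :=
    (Group.isNilpotent_of_finite_tfae (G := X)).out 0 3 rfl rfl |>.mp hX q inferInstance S
  have h2 : (S : Subgroup X) ≤ pCore q X := Cfsg.Agent.Lib.Cores.le_pCore hSn S.isPGroup'
  have h3 := Subgroup.map_mono (f := X.subtype) (hS.trans h2)
  rwa [Subgroup.map_subgroupOf_eq_of_le hYX, map_pCore_eq hq] at h3

/-- A `q`-subgroup of `F(H)` lies in `O_q(H)`. -/
theorem le_core_of_le_fittingOf {H Y : Subgroup G} {q : ℕ} (hq : q.Prime)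
    (hYH : Y ≤ fittingOf H) (hY : IsPGroup q Y) : Y ≤ piCoreOf {q} H := by
  haveI := Fact.mk hq
  refine (le_core_of_nilpotent (FitAux.isNilpotent_fittingOf H) hq hYH hY).trans ?_
  refine le_core_of_isPGroup hq ((piCoreOf_le _ _).trans (FitAux.fittingOf_le H)) ?_
    (isPGroup_piCoreOf hq _)
  exact (FitAux.le_normalizer_fittingOf H).trans (normalizer_le_normalizer_piCoreOf _ _)

theorem exists_mem_orderOf {X : Subgroup G} {q : ℕ} (hq : q.Prime) (h : q ∣ Nat.card X) :
    ∃ x ∈ X, orderOf x = q := by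
  haveI := Fact.mk hq
  obtain ⟨x, hx⟩ := exists_prime_orderOf_dvd_card' q h
  exact ⟨x, x.2, by rw [← hx]; exact (Subgroup.orderOf_coe x)⟩

theorem isPGroup_zpowers {q : ℕ} (hq : q.Prime) {x : G} (hx : orderOf x = q) :
    IsPGroup q (Subgroup.zpowers x) := by
  haveI := Fact.mk hq
  rw [IsPGroup.iff_card]
  exact ⟨1, by rw [Nat.card_zpowers, hx, pow_one]⟩

/-- if `q` divides `#F(H)` then `O_q(H) ≠ 1` -/
theorem core_ne_bot_of_dvd {H : Subgroup G} {q : ℕ} (hq : q.Prime)
    (h : q ∣ Nat.card (fittingOf H)) : piCoreOf {q} H ≠ ⊥ := by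
  obtain ⟨x, hx, hxo⟩ := exists_mem_orderOf hq h
  intro hbot
  have h1 := le_core_of_le_fittingOf (H := H) hq ((Subgroup.zpowers_le).mpr hx)
    (isPGroup_zpowers hq hxo)
  rw [hbot, Subgroup.zpowers_le, Subgroup.mem_bot] at h1
  rw [h1, orderOf_one] at hxo
  exact hq.one_lt.ne hxo

theorem dvd_card_of_ne_bot {q : ℕ} (hq : q.Prime) {N K : Subgroup G} (hN : IsPGroup q N)
    (h1 : N ≠ ⊥) (hNK : N ≤ K) : q ∣ Nat.card K := by
  haveI := Fact.mk hq
  haveI : Nontrivial N := (Subgroup.nontrivial_iff_ne_bot N).mpr h1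
  obtain ⟨n, hn, hc⟩ := hN.nontrivial_iff_card.mp inferInstance
  exact (dvd_pow_self q hn.ne').trans (hc ▸ Subgroup.card_dvd_of_le hNK)

/-- A nontrivial solvable subgroup `W` normalized by `H ≥ W` meets `F(H)` in a nontrivial
`q`-subgroup, for some prime `q`. -/
theorem exists_pgroup_le_of_solvable {W : Subgroup G} (hW : Group.IsSolvable W) (hW1 : W ≠ ⊥) :
    ∃ q : ℕ, q.Prime ∧ ∃ V : Subgroup G, V ≤ W ∧ V ≠ ⊥ ∧ IsPGroup q V ∧
      Subgroup.normalizer (W : Set G) ≤ Subgroup.normalizer (V : Set G) := by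
  haveI : Nontrivial W := (Subgroup.nontrivial_iff_ne_bot W).mpr hW1
  haveI := hW
  obtain ⟨q, hq, N, hNc, -, hNp, hN1⟩ :=
    Cfsg.Agent.Lib.SolvableMinNormal.exists_characteristic_pgroup (G := W)
  refine ⟨q, hq, N.map W.subtype, Subgroup.map_subtype_le _, ?_, hNp.map _, ?_⟩
  · rwa [Ne, Subgroup.map_eq_bot_iff_of_injective _ W.subtype_injective]
  · -- N_G(W) normalizes the characteristic subgroup N
    apply conj_mem_normalizer_of_forall_map_le
    intro g hg
    rintro _ ⟨_, ⟨x, hx, rfl⟩, rfl⟩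
    -- conjugation by g as an automorphism of W
    let φ : MulAut W := W.normalizerMonoidHom ⟨g, hg⟩
    have hφ : ∀ y : W, ((φ y : W) : G) = g * y * g⁻¹ := fun y => rfl
    have h1 : φ x ∈ N := by
      have := (Subgroup.characteristic_iff_map_le.mp hNc) φ
      exact this (Subgroup.mem_map_of_mem _ hx)
    exact ⟨φ x, h1, hφ x⟩

/-- If `W ≤ H` is solvable, normalized by `H`, and of order prime to `#F(H)`, then `W = 1`. -/
theorem eq_bot_of_coprime_fittingOf {H W : Subgroup G} (hWH : W ≤ H)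
    (hn : H ≤ Subgroup.normalizer (W : Set G)) (hW : Group.IsSolvable W)
    (hc : (Nat.card W).Coprime (Nat.card (fittingOf H))) : W = ⊥ := by
  by_contra hW1
  obtain ⟨q, hq, V, hVW, hV1, hVq, hVn⟩ := exists_pgroup_le_of_solvable hW hW1
  haveI := Fact.mk hq
  have h1 : V ≤ fittingOf H :=
    FitAux.le_fittingOf (hVW.trans hWH) (hn.trans hVn) hVq.isNilpotent
  have h2 := dvd_card_of_ne_bot hq hVq hV1 hVW
  have h3 := dvd_card_of_ne_bot hq hVq hV1 h1
  have h4 := Nat.dvd_gcd h2 h3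
  rw [hc.gcd_eq_one] at h4
  exact hq.one_lt.ne' (Nat.dvd_one.mp h4)

/-- A subgroup `A` of order prime to that of the solvable subgroup `O` it normalizes, and
centralizing `F(O)`, centralizes `O`. -/
theorem le_centralizer_of_centralizes_fitting {A O : Subgroup G}
    (hAO : A ≤ Subgroup.normalizer (O : Set G)) (hO : Group.IsSolvable O)
    (hc : (Nat.card A).Coprime (Nat.card O))
    (hF : A ≤ Subgroup.centralizer (fittingOf O : Set G)) :
    A ≤ Subgroup.centralizer (O : Set G) := by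
  intro a ha
  let φ : MulAut O := O.normalizerMonoidHom ⟨a, hAO ha⟩
  have hφ : ∀ y : O, ((φ y : O) : G) = a * y * a⁻¹ := fun y => rfl
  haveI := hO
  have h1 : φ = MulEquiv.refl O := by
    by_contra hne
    refine Cfsg.Agent.S0552.result (G := O) φ ?_ hne ?_
    · intro x hx
      apply Subtype.ext
      rw [hφ]
      have h2 := Subgroup.mem_centralizer_iff.mp (hF ha) x (Subgroup.mem_map_of_mem _ hx)
      have h3 : (x : G) * a = a * x := h2
      rw [← h3]; group
    · have h2 : orderOf φ ∣ Nat.card A := by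
        have h3 : orderOf φ ∣ orderOf (⟨a, hAO ha⟩ : Subgroup.normalizer (O : Set G)) :=
          orderOf_map_dvd _ _
        refine h3.trans ?_
        have h4 : orderOf (⟨a, hAO ha⟩ : Subgroup.normalizer (O : Set G)) = orderOf a :=
          (Subgroup.orderOf_coe _).symm
        rw [h4, ← Subgroup.orderOf_mk a ha]
        exact orderOf_dvd_natCard _
      exact Nat.Coprime.coprime_dvd_left h2 hc
  rw [Subgroup.mem_centralizer_iff]
  intro y hy
  have h5 := hφ ⟨y, hy⟩
  rw [h1] at h5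
  have h6 : y = a * y * a⁻¹ := h5
  calc y * a = a * y * a⁻¹ * a := by rw [← h6]
    _ = a * y := by group

/-- `C_M(F(M)) ≤ F(M)` for solvable `M`. -/
theorem inf_centralizer_fittingOf_le {M : Subgroup G} (hM : Group.IsSolvable M) :
    M ⊓ Subgroup.centralizer (fittingOf M : Set G) ≤ fittingOf M := by
  haveI := hM
  rintro x ⟨hxM, hxc⟩
  have h1 : (⟨x, hxM⟩ : M) ∈ Subgroup.centralizer (fittingSubgroup M : Set M) := by
    rw [Subgroup.mem_centralizer_iff]
    intro y hy
    apply Subtype.ext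
    exact (Subgroup.mem_centralizer_iff.mp hxc) y (Subgroup.mem_map_of_mem _ hy)
  exact ⟨_, Cfsg.Agent.S0044.result h1, rfl⟩

/-- The intersection of the `O_{q'}(X)`, `q ∣ n`, is contained in `O_{π(n)'}(X)`. -/
theorem le_core_of_forall {X S : Subgroup G} {n : ℕ} (hSX : S ≤ X)
    (h : ∀ q : ℕ, q.Prime → q ∣ n → S ≤ piCoreOf (primesNotDvd q) X) :
    S ≤ piCoreOf (primesNotDvd n) X := by
  let f : {q : ℕ // q.Prime ∧ q ∣ n} → Subgroup G := fun q => piCoreOf (primesNotDvd (q : ℕ)) X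
  let I : Subgroup G := X ⊓ iInf f
  have hSI : S ≤ I := le_inf hSX (le_iInf fun q => h q q.2.1 q.2.2)
  refine hSI.trans (le_piCoreOf inf_le_left ?_ ?_)
  · -- X normalizes I
    apply conj_mem_normalizer_of_forall_map_le
    intro g hg
    refine le_inf ?_ (le_iInf fun q => ?_)
    · rintro _ ⟨x, hx, rfl⟩
      exact X.mul_mem (X.mul_mem hg (hx.1)) (X.inv_mem hg)
    · rintro _ ⟨x, hx, rfl⟩
      have h2 : x ∈ piCoreOf (primesNotDvd (q : ℕ)) X := (iInf_le f q) hx.2
      exact (Subgroup.mem_normalizer_iff.mp (le_normalizer_piCoreOf _ X hg) x).mp h2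
  · intro q hq hqI
    refine ⟨hq, fun hqn => ?_⟩
    have h1 : I ≤ piCoreOf (primesNotDvd q) X := inf_le_right.trans (iInf_le f ⟨q, hq, hqn⟩)
    have h2 := hqI.trans (Subgroup.card_dvd_of_le h1)
    have h3 := Nat.dvd_gcd h2 (dvd_refl q)
    rw [(coprime_piCoreOf q X).gcd_eq_one] at h3
    exact hq.one_lt.ne' (Nat.dvd_one.mp h3)

/-- A `p'`-subgroup `Y` normalized by the `p`-group `A` lies in `Q` if every `A`-invariant
`q`-subgroup (`q ≠ p`) does. -/
theorem le_of_forall_invariant {p : ℕ} [Fact p.Prime] {A Y Q : Subgroup G} (hAp : IsPGroup p A)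
    (hY : (Nat.card Y).Coprime p) (hAY : A ≤ Subgroup.normalizer (Y : Set G))
    (hq : ∀ q : ℕ, q.Prime → q ≠ p → ∀ T : Subgroup G, IsPGroup q T → T ≤ Y →
      A ≤ Subgroup.normalizer (T : Set G) → T ≤ Q) : Y ≤ Q := by
  have hpp : p.Prime := Fact.out
  have hYn : ∀ b ∈ A, ∀ u ∈ Y, b * u * b⁻¹ ∈ Y := fun b hb u hu =>
    (Subgroup.mem_normalizer_iff.mp (hAY hb) u).mp hu
  have hpY : ¬ p ∣ Nat.card Y := fun h => by
    have h1 := Nat.dvd_gcd h (dvd_refl p)
    rw [hY.gcd_eq_one] at h1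
    exact hpp.one_lt.ne' (Nat.dvd_one.mp h1)
  have htop : Q.subgroupOf Y = ⊤ := by
    apply Cfsg.Agent.Lib.Cores.eq_top_of_sylow_le
    intro q hqf
    obtain ⟨T, ⟨T', hT'⟩, hTA⟩ :=
      Cfsg.Agent.Lib.PGroupCoprimeAction.exists_invariant_sylow hAp hpY hYn q
    refine ⟨T', ?_⟩
    intro x hx
    rw [Subgroup.mem_subgroupOf]
    by_cases hqp : q = p
    · subst hqp
      have h1 : (T' : Subgroup Y) = ⊥ := by
        rw [← Subgroup.card_eq_one]
        rw [T'.card_eq_multiplicity, Nat.factorization_eq_zero_of_not_dvd hpY, pow_zero]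
      rw [h1, Subgroup.mem_bot] at hx
      rw [hx]
      exact Q.one_mem
    · refine hq q hqf.out hqp T ?_ ?_ ?_ ?_
      · rw [← hT']; exact T'.isPGroup'.map _
      · rw [← hT']; exact Subgroup.map_subtype_le _
      · intro b hb
        rw [Subgroup.mem_normalizer_iff]
        intro y
        constructor
        · exact hTA b hb y
        · intro h
          have := hTA b⁻¹ (A.inv_mem hb) _ h
          simpa [mul_assoc] using this
      · rw [← hT']; exact Subgroup.mem_map_of_mem _ hx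
  rwa [Subgroup.subgroupOf_eq_top] at htop

end Cfsg.Agent.OddOrderLocal.FitCores
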