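import Mathlib
import Cfsg.Prelude.Def_OddOrderLocal
import Cfsg.Prelude.Def_PLocal
set_option linter.all false

set_option autoImplicit false

namespace Cfsg.Agent.OddOrderLocal.Metacyclic

theorem isMetacyclic_of_surjective {R S : Type*} [Group R] [Group S] (f : R →* S)
    (hf : Function.Surjective f) (h : Cfsg.IsMetacyclic R) : Cfsg.IsMetacyclic S := by
  obtain ⟨N, hN, hc, hq⟩ := h
  have hn : (N.map f).Normal := hN.map f hf
  refine ⟨N.map f, hn, ?_, ?_⟩
  · exact isCyclic_of_surjective (f.subgroupMap N) (f.subgroupMap_surjective N)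
  · let g : R ⧸ N →* S ⧸ N.map f := QuotientGroup.map N (N.map f) f (Subgroup.le_comap_map f N)
    refine isCyclic_of_surjective g ?_
    intro x
    obtain ⟨s, rfl⟩ := QuotientGroup.mk_surjective x
    obtain ⟨r, rfl⟩ := hf s
    exact ⟨QuotientGroup.mk r, rfl⟩

theorem isMetacyclic_of_injective {R S : Type*} [Group R] [Group S] (f : S →* R)
    (hf : Function.Injective f) (h : Cfsg.IsMetacyclic R) : Cfsg.IsMetacyclic S := by
  obtain ⟨N, hN, hc, hq⟩ := h
  refine ⟨N.comap f, inferInstance, ?_, ?_⟩
  · let g : N.comap f →* N := f.subgroupComap N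
    refine isCyclic_of_injective g ?_
    intro x y hxy
    apply Subtype.ext
    apply hf
    exact congrArg Subtype.val hxy
  · let g : S ⧸ N.comap f →* R ⧸ N := QuotientGroup.map (N.comap f) N f le_rfl
    refine isCyclic_of_injective g ?_
    rw [injective_iff_map_eq_one]
    intro x
    obtain ⟨s, rfl⟩ := QuotientGroup.mk_surjective x
    intro hs
    have : f s ∈ N := (QuotientGroup.eq_one_iff _).1 hs
    exact (QuotientGroup.eq_one_iff _).2 this

theorem isMetacyclic_of_le {G : Type*} [Group G] {R S : Subgroup G} (h : Cfsg.IsMetacyclic R)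
    (hSR : S ≤ R) : Cfsg.IsMetacyclic S :=
  isMetacyclic_of_injective (Subgroup.inclusion hSR) (Subgroup.inclusion_injective hSR) h

end Cfsg.Agent.OddOrderLocal.Metacyclic
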