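import Mathlib
set_option linter.all false

/-!
Weight spaces of a (commutative) subgroup `K` of `G` in a representation of `G`, and the action of `G` on the
weights when `K` is normal.
-/

set_option autoImplicit false

namespace Cfsg.Agent.OddOrderLocal.Thm34Weights

open Module

variable {F : Type*} [Field F] {G : Type*} [Group G] {V : Type*} [AddCommGroup V] [Module F V]

/-- the simultaneous eigenspace -/
def wt (ρ : Representation F G V) (K : Subgroup G) (χ : K → F) : Submodule F V :=
  ⨅ k : K, End.eigenspace (ρ k) (χ k)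

theorem mem_wt {ρ : Representation F G V} {K : Subgroup G} {χ : K → F} {v : V} :
    v ∈ wt ρ K χ ↔ ∀ k : K, ρ k v = χ k • v := by
  unfold wt
  rw [Submodule.mem_iInf]
  exact forall_congr' (fun k => End.mem_eigenspace_iff)

theorem isSemisimple_of_pow (f : End F V) {n : ℕ} (hn : (n : F) ≠ 0) (hf : f ^ n = 1) :
    f.IsSemisimple := by
  have hsq : Squarefree (Polynomial.X ^ n - 1 : Polynomial F) := by
    apply Polynomial.Separable.squarefree
    have := Polynomial.separable_X_pow_sub_C (1 : F) hn one_ne_zero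
    simpa using this
  apply Module.End.isSemisimple_of_squarefree_aeval_eq_zero hsq
  simp [hf]

variable [FiniteDimensional F V]

omit [FiniteDimensional F V] in
theorem wt_eq (ρ : Representation F G V) (K : Subgroup G) [Finite K] (hK : (Nat.card K : F) ≠ 0)
    (χ : K → F) : wt ρ K χ = ⨅ k : K, End.maxGenEigenspace (ρ k) (χ k) := by
  unfold wt
  congr 1
  funext k
  have hs : Module.End.IsSemisimple (ρ k : End F V) := by
    apply isSemisimple_of_pow _ hK
    rw [← map_pow]
    have : (k : G) ^ Nat.card K = 1 := by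
      have := pow_card_eq_one' (x := k)
      exact_mod_cast congrArg Subtype.val this
    rw [this, map_one]
  exact (hs.isFinitelySemisimple.maxGenEigenspace_eq_eigenspace _).symm

omit [FiniteDimensional F V] in
theorem commute_of_comm (ρ : Representation F G V) (K : Subgroup G)
    (hcomm : ∀ a ∈ K, ∀ b ∈ K, a * b = b * a) (a b : K) : Commute (ρ a) (ρ b) := by
  show ρ a * ρ b = ρ b * ρ a
  rw [← map_mul, ← map_mul, hcomm a a.2 b b.2]

omit [FiniteDimensional F V] in
theorem indep_wt (ρ : Representation F G V) (K : Subgroup G) [Finite K] (hK : (Nat.card K : F) ≠ 0)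
    (hcomm : ∀ a ∈ K, ∀ b ∈ K, a * b = b * a) : iSupIndep (wt ρ K) := by
  have h1 := Module.End.independent_iInf_maxGenEigenspace_of_forall_mapsTo (fun k : K => ρ (k : G))
    (fun i j φ => Module.End.mapsTo_maxGenEigenspace_of_comm (commute_of_comm ρ K hcomm j i) φ)
  have h2 : wt ρ K = fun χ : K → F => ⨅ k : K, End.maxGenEigenspace (ρ k) (χ k) := by
    funext χ; exact wt_eq ρ K hK χ
  rw [h2]; exact h1

theorem iSup_wt [IsAlgClosed F] (ρ : Representation F G V) (K : Subgroup G) [Finite K]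
    (hK : (Nat.card K : F) ≠ 0) (hcomm : ∀ a ∈ K, ∀ b ∈ K, a * b = b * a) :
    ⨆ χ : K → F, wt ρ K χ = ⊤ := by
  have h2 : ∀ χ : K → F, wt ρ K χ = ⨅ k : K, End.maxGenEigenspace (ρ k) (χ k) :=
    fun χ => wt_eq ρ K hK χ
  simp only [h2]
  apply Module.End.iSup_iInf_maxGenEigenspace_eq_top_of_iSup_maxGenEigenspace_eq_top_of_commute
    (fun k : K => ρ (k : G))
  · intro i j _
    exact commute_of_comm ρ K hcomm i j
  · intro k
    exact Module.End.iSup_maxGenEigenspace_eq_top _

omit [FiniteDimensional F V] in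
/-- a nonzero weight is a homomorphism -/
theorem wt_mul {ρ : Representation F G V} {K : Subgroup G} {χ : K → F} (h : wt ρ K χ ≠ ⊥) (a b : K) :
    χ (a * b) = χ a * χ b := by
  obtain ⟨v, hv, hv0⟩ := Submodule.exists_mem_ne_zero_of_ne_bot h
  rw [mem_wt] at hv
  have h1 := hv (a * b)
  rw [Subgroup.coe_mul, map_mul, End.mul_apply, hv b, map_smul, hv a, smul_smul] at h1
  have h2 : (χ b * χ a - χ (a * b)) • v = 0 := by rw [sub_smul, h1, sub_self]
  rcases smul_eq_zero.1 h2 with h3 | h3
  · rw [← sub_eq_zero.1 h3, mul_comm]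
  · exact absurd h3 hv0

omit [FiniteDimensional F V] in
theorem wt_one {ρ : Representation F G V} {K : Subgroup G} {χ : K → F} (h : wt ρ K χ ≠ ⊥) :
    χ 1 = 1 := by
  obtain ⟨v, hv, hv0⟩ := Submodule.exists_mem_ne_zero_of_ne_bot h
  rw [mem_wt] at hv
  have h1 := hv 1
  rw [Subgroup.coe_one, map_one, End.one_apply] at h1
  have h2 : (1 - χ 1) • v = 0 := by rw [sub_smul, one_smul, ← h1, sub_self]
  rcases smul_eq_zero.1 h2 with h3 | h3
  · exact (sub_eq_zero.1 h3).symm
  · exact absurd h3 hv0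

/-- the action of `G` on the functions on a normal subgroup -/
@[reducible] def wtAction (F : Type*) (K : Subgroup G) [K.Normal] : MulAction G (K → F) where
  smul g χ := fun k => χ (MulAut.conjNormal g⁻¹ k)
  one_smul χ := by
    funext k
    show χ (MulAut.conjNormal (1 : G)⁻¹ k) = χ k
    rw [inv_one, map_one]; rfl
  mul_smul g h χ := by
    funext k
    show χ (MulAut.conjNormal (g * h)⁻¹ k) = χ (MulAut.conjNormal h⁻¹ (MulAut.conjNormal g⁻¹ k))
    rw [mul_inv_rev, map_mul]; rfl

attribute [local instance] wtAction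

omit [Field F] in
theorem wt_smul_def (K : Subgroup G) [K.Normal] (g : G) (χ : K → F) (k : K) :
    (g • χ) k = χ (MulAut.conjNormal g⁻¹ k) := rfl

omit [FiniteDimensional F V] in
theorem smul_mem_wt {ρ : Representation F G V} {K : Subgroup G} [K.Normal] {χ : K → F} {v : V}
    (hv : v ∈ wt ρ K χ) (g : G) : ρ g v ∈ wt ρ K (g • χ) := by
  rw [mem_wt] at hv ⊢
  intro k
  have h1 := hv (MulAut.conjNormal g⁻¹ k)
  rw [wt_smul_def, ← map_smul, ← h1, MulAut.conjNormal_apply]
  rw [← End.mul_apply, ← End.mul_apply, ← map_mul, ← map_mul]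
  congr 2
  group

omit [FiniteDimensional F V] in
theorem wt_smul_ne_bot {ρ : Representation F G V} {K : Subgroup G} [K.Normal] {χ : K → F}
    (h : wt ρ K χ ≠ ⊥) (g : G) : wt ρ K (g • χ) ≠ ⊥ := by
  obtain ⟨v, hv, hv0⟩ := Submodule.exists_mem_ne_zero_of_ne_bot h
  intro hbot
  have h1 := smul_mem_wt hv g
  rw [hbot, Submodule.mem_bot] at h1
  apply hv0
  have : ρ g⁻¹ (ρ g v) = v := by
    rw [← End.mul_apply, ← map_mul, inv_mul_cancel, map_one, End.one_apply]
  rw [← this, h1, map_zero]

/-- the sum over the powers of `x` -/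
def orb (ρ : Representation F G V) (x : G) (r : ℕ) (v : V) : V :=
  ∑ j ∈ Finset.range r, (ρ x ^ j) v

omit [FiniteDimensional F V] in
theorem orb_fixed (ρ : Representation F G V) (x : G) {r : ℕ} (hxr : x ^ r = 1) (v : V) :
    ρ x (orb ρ x r v) = orb ρ x r v := by
  unfold orb
  have hXr : (ρ x) ^ r = 1 := by rw [← map_pow, hxr, map_one]
  rw [map_sum]
  have h1 : ∀ n : ℕ, ρ x ((ρ x ^ n) v) = (ρ x ^ (n + 1)) v := by
    intro n; rw [pow_succ', End.mul_apply]
  simp only [h1]
  have h2 := Finset.sum_range_succ' (fun n => (ρ x ^ n) v) r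
  have h3 := Finset.sum_range_succ (fun n => (ρ x ^ n) v) r
  rw [h3] at h2
  simp only [pow_zero, hXr, End.one_apply] at h2
  exact (add_right_cancel h2).symm

omit [Field F] in
theorem smul_pow_injOn {K : Subgroup G} [K.Normal] {χ : K → F} {x : G} {r : ℕ} (hr : r.Prime)
    (hxr : x ^ r = 1) (hx : x • χ ≠ χ) {i j : ℕ} (hi : i < r) (hj : j < r)
    (h : x ^ i • χ = x ^ j • χ) : i = j := by
  have h0 : ∀ n : ℕ, (fun χ : K → F => x • χ)^[n] χ = x ^ n • χ := by
    intro n
    induction n with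
    | zero => rw [Function.iterate_zero, id_eq, pow_zero, one_smul]
    | succ n ih => rw [Function.iterate_succ_apply', ih, pow_succ', mul_smul]
  have hper : Function.IsPeriodicPt (fun χ : K → F => x • χ) r χ := by
    show (fun χ : K → F => x • χ)^[r] χ = χ
    rw [h0, hxr, one_smul]
  have hmin : Function.minimalPeriod (fun χ : K → F => x • χ) χ = r := by
    have h1 := hper.minimalPeriod_dvd
    rcases (Nat.dvd_prime hr).1 h1 with h2 | h2
    · exfalso; apply hx
      exact Function.minimalPeriod_eq_one_iff_isFixedPt.1 h2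
    · exact h2
  apply Function.iterate_injOn_Iio_minimalPeriod (f := fun χ : K → F => x • χ) (x := χ)
  · rw [hmin]; exact hi
  · rw [hmin]; exact hj
  · show (fun χ : K → F => x • χ)^[i] χ = (fun χ : K → F => x • χ)^[j] χ
    rw [h0, h0, h]

/-- vectors of pairwise distinct weights are linearly independent: a vanishing sum has vanishing terms -/
theorem eq_zero_of_sum_wt {ρ : Representation F G V} {K : Subgroup G} [Finite K]
    (hK : (Nat.card K : F) ≠ 0) (hcomm : ∀ a ∈ K, ∀ b ∈ K, a * b = b * a)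
    {ι : Type*} (s : Finset ι) (χ : ι → (K → F)) (v : ι → V)
    (hχ : ∀ i ∈ s, ∀ j ∈ s, χ i = χ j → i = j)
    (hv : ∀ i ∈ s, v i ∈ wt ρ K (χ i)) (h : ∑ i ∈ s, v i = 0) : ∀ i ∈ s, v i = 0 := by
  classical
  have hind := indep_wt ρ K hK hcomm
  have hind' : iSupIndep (fun i : s => wt ρ K (χ i)) := by
    apply hind.comp
    intro a b hab
    exact Subtype.ext (hχ a a.2 b b.2 hab)
  intro i hi
  by_contra hne
  have h1 := hind' ⟨i, hi⟩
  rw [Submodule.disjoint_def] at h1
  apply hne
  apply h1 (v i) (hv i hi)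
  have h2 : v i = - ∑ j ∈ s.erase i, v j := by
    rw [← Finset.add_sum_erase s v hi] at h
    exact eq_neg_of_add_eq_zero_left h
  rw [h2]
  apply Submodule.neg_mem
  apply Submodule.sum_mem
  intro j hj
  have hj' := Finset.mem_of_mem_erase hj
  have hji : (⟨j, hj'⟩ : s) ≠ ⟨i, hi⟩ := by
    intro h3
    exact Finset.ne_of_mem_erase hj (congrArg Subtype.val h3)
  have h4 : wt ρ K (χ j) ≤ ⨆ (j' : s) (_ : j' ≠ ⟨i, hi⟩), wt ρ K (χ j') :=
    le_iSup₂_of_le (f := fun (j' : s) (_ : j' ≠ ⟨i, hi⟩) => wt ρ K (χ j')) ⟨j, hj'⟩ hji le_rfl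
  exact h4 (hv j hj')

/-- the orbit sum of a weight vector whose weight is not fixed by `x` does not vanish -/
theorem orb_ne_zero {ρ : Representation F G V} {K : Subgroup G} [K.Normal] [Finite K]
    (hK : (Nat.card K : F) ≠ 0) (hcomm : ∀ a ∈ K, ∀ b ∈ K, a * b = b * a) {χ : K → F} {x : G} {r : ℕ}
    (hr : r.Prime) (hxr : x ^ r = 1) (hx : x • χ ≠ χ) {v : V} (hv : v ∈ wt ρ K χ) (hv0 : v ≠ 0) :
    orb ρ x r v ≠ 0 := by
  intro h
  have h1 := eq_zero_of_sum_wt hK hcomm (Finset.range r) (fun j => x ^ j • χ)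
    (fun j => (ρ x ^ j) v) (by
      intro i hi j hj hij
      exact smul_pow_injOn hr hxr hx (Finset.mem_range.1 hi) (Finset.mem_range.1 hj) hij) (by
      intro j _
      show (ρ x ^ j) v ∈ _
      rw [← map_pow]
      exact smul_mem_wt hv (x ^ j)) h 0 (Finset.mem_range.2 hr.pos)
  apply hv0
  simpa using h1

end Cfsg.Agent.OddOrderLocal.Thm34Weights
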