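import Mathlib
import Cfsg.Agent.OddOrderLocal.Thm34Base
import Cfsg.Agent.OddOrderLocal.Thm34Weights
import Cfsg.Agent.Lib.CoprimeCommutator
import Cfsg.Agent.Lib.SolvableMinNormal
import Cfsg.Agent.S1459
set_option linter.all false

/-!
B&G Theorem 3.4: `R = ⟨x⟩` of odd prime order `r` acting on `K` of odd order prime to `r`, `K` solvable, `KR`
acting on a vector space `V` in characteristic not dividing `|K| r`; if `C_V(R) = 0` then `[K, R]` acts
trivially on `V` (`comm_of_no_fixed`), with a version for elementary abelian groups (`elem_version`).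
-/

set_option autoImplicit false

namespace Cfsg.Agent.OddOrderLocal.Thm34

open Module
open Cfsg.Agent.OddOrderLocal.Thm34Base Cfsg.Agent.OddOrderLocal.Thm34Weights

attribute [local instance] wtAction

section AlgClosed

variable {F : Type*} [Field F] {G : Type*} [Group G] {V : Type*} [AddCommGroup V] [Module F V]
variable [IsAlgClosed F] [FiniteDimensional F V]

theorem nonabelian_false [Finite G] (ρ : Representation F G V) [hρ : ρ.IsIrreducible]
    (K Z : Subgroup G) (x : G) (hZK : Z ≤ K) (hZc : ∀ z ∈ Z, ∀ k ∈ K, z * k = k * z)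
    (hZmax : ∀ k ∈ K, (∀ k' ∈ K, k * k' = k' * k) → k ∈ Z)
    (hKK : ∀ k ∈ K, ∀ k' ∈ K, k * k' * k⁻¹ * k'⁻¹ ∈ Z)
    (hZx : ∀ z ∈ Z, x * z = z * x) (hxK : ∀ k ∈ K, x * k * x⁻¹ ∈ K)
    (hxK' : ∀ k ∈ K, x⁻¹ * k * x ∈ K)
    (hxZ : ∀ k ∈ K, k⁻¹ * (x * k * x⁻¹) ∈ Z → k ∈ Z)
    (hG : K ⊔ Subgroup.zpowers x = ⊤) {r : ℕ} (hr : r.Prime) (hr2 : r ≠ 2) (hrF : (r : F) ≠ 0)
    (hKF : (Nat.card K : F) ≠ 0) (hxr : x ^ r = 1) (hfaith : ∀ z ∈ Z, ρ z = 1 → z = 1)
    (hodd : Odd (Nat.card K)) (hne : Z ≠ K) (hfix : ∀ v, ρ x v = v → v = 0) : False := by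
  classical
  have hVn := nontrivial_of_irr ρ
  have := Fintype.ofFinite G
  have hinv : ∀ g : G, ρ g * ρ g⁻¹ = 1 := by intro g; rw [← map_mul, mul_inv_cancel, map_one]
  have hinv' : ∀ g : G, ρ g⁻¹ * ρ g = 1 := by intro g; rw [← map_mul, inv_mul_cancel, map_one]
  obtain ⟨v₀, hv₀⟩ := exists_ne (0 : V)
  obtain ⟨f₀, hf₀⟩ : ∃ f₀ : V →ₗ[F] F, f₀ v₀ = 1 := Module.Projective.exists_dual_eq_one F hv₀
  let avg : End F V →ₗ[F] End F V :=
    (Nat.card K : F)⁻¹ • ∑ k : K, (LinearMap.mulLeft F (ρ k) ∘ₗ LinearMap.mulRight F (ρ (k : G)⁻¹))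
  have havg : ∀ T, avg T = (Nat.card K : F)⁻¹ • ∑ k : K, ρ k * T * ρ (k : G)⁻¹ := by
    intro T
    show ((Nat.card K : F)⁻¹ • ∑ k : K, (LinearMap.mulLeft F (ρ k) ∘ₗ LinearMap.mulRight F (ρ (k : G)⁻¹))) T = _
    rw [LinearMap.smul_apply, LinearMap.sum_apply]
    simp only [LinearMap.comp_apply, LinearMap.mulLeft_apply, LinearMap.mulRight_apply, mul_assoc]
  have havgK : ∀ T, ∀ k ∈ K, avg T * ρ k = ρ k * avg T := by
    intro T k hk
    rw [havg, smul_mul_assoc, mul_smul_comm, Finset.sum_mul, Finset.mul_sum]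
    congr 1
    apply Fintype.sum_equiv (Equiv.mulLeft (⟨k, hk⟩⁻¹ : K))
    intro k'
    simp only [Equiv.coe_mulLeft, Subgroup.coe_mul, Subgroup.coe_inv, mul_inv_rev, inv_inv, map_mul]
    simp only [← mul_assoc, hinv, one_mul]
  have hscal : ∀ T, ∃ a : F, avg T = a • 1 := fun T =>
    scalar_of_comm ρ K x hG hxK' hr hrF hxr hfix (avg T) (havgK T)
  let c : End F V →ₗ[F] F := f₀ ∘ₗ (LinearMap.applyₗ v₀) ∘ₗ avg
  have hc : ∀ T, avg T = c T • 1 := by
    intro T
    obtain ⟨a, ha⟩ := hscal T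
    have : c T = a := by
      show f₀ ((avg T) v₀) = a
      rw [ha, LinearMap.smul_apply, End.one_apply, map_smul, hf₀, smul_eq_mul, mul_one]
    rw [this, ha]
  have hc' : ∀ T (a : F), avg T = a • 1 → c T = a := by
    intro T a ha
    show f₀ ((avg T) v₀) = a
    rw [ha, LinearMap.smul_apply, End.one_apply, map_smul, hf₀, smul_eq_mul, mul_one]
  have hcard : ∀ T : End F V, (Nat.card K : F)⁻¹ • ∑ _k : K, T = T := by
    intro T
    rw [Finset.sum_const, Finset.card_univ, ← Nat.card_eq_fintype_card, ← Nat.cast_smul_eq_nsmul F,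
      smul_smul, inv_mul_cancel₀ hKF, one_smul]
  have hc1 : c 1 = 1 := by
    apply hc'
    rw [havg, one_smul]
    simp only [mul_one, hinv]
    exact hcard 1
  -- scalars from Z
  have hZscal : ∀ z ∈ Z, ρ z = c (ρ z) • 1 := by
    intro z hz
    rw [← hc, havg]
    have : ∀ k : K, ρ k * ρ z * ρ (k : G)⁻¹ = ρ z := by
      intro k
      rw [← map_mul, ← hZc z hz k k.2, map_mul, mul_assoc, hinv, mul_one]
    simp only [this]
    exact (hcard _).symm
  have hc0 : ∀ T T' : End F V, ∀ z ∈ Z, c (ρ z * T) = c (ρ z) * c T := by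
    intro T T' z hz
    rw [hZscal z hz, smul_mul_assoc, one_mul, map_smul, smul_eq_mul]
    rw [map_smul, hc1, smul_eq_mul, mul_one]
  -- conj by K
  have hc2 : ∀ k ∈ K, ∀ T, c (ρ k * T * ρ k⁻¹) = c T := by
    intro k hk T
    apply hc'
    rw [← hc, havg, havg]
    congr 1
    apply Fintype.sum_equiv (Equiv.mulRight (⟨k, hk⟩ : K))
    intro k'
    simp only [Equiv.coe_mulRight, Subgroup.coe_mul, mul_inv_rev, map_mul, mul_assoc]
  have hc3 : ∀ T, c (ρ x * T * ρ x⁻¹) = c T := by
    intro T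
    apply hc'
    have : c T • (1 : End F V) = ρ x * (c T • 1) * ρ x⁻¹ := by
      rw [mul_smul_comm, mul_one, smul_mul_assoc, hinv]
    rw [this, ← hc, havg, havg, mul_smul_comm, smul_mul_assoc, Finset.mul_sum, Finset.sum_mul]
    congr 1
    apply Fintype.sum_equiv ⟨fun k : K => ⟨x⁻¹ * k * x, hxK' k k.2⟩, fun k : K => ⟨x * k * x⁻¹, hxK k k.2⟩,
      fun k => Subtype.ext (by simp only; group), fun k => Subtype.ext (by simp only; group)⟩
    intro k
    simp only [Equiv.coe_fn_mk, mul_inv_rev, inv_inv, map_mul]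
    simp only [← mul_assoc, hinv, one_mul]
    simp only [mul_assoc, hinv, mul_one]
  have hc4 : ∀ s ∈ K, s ∉ Z → c (ρ s) = 0 := by
    intro s hs hsZ
    have : ∃ k ∈ K, k * s ≠ s * k := by
      by_contra hcon
      push Not at hcon
      exact hsZ (hZmax s hs (fun k' hk' => (hcon k' hk').symm))
    obtain ⟨k, hk, hks⟩ := this
    have hz := hKK k hk s hs
    set z := k * s * k⁻¹ * s⁻¹ with hzdef
    have hz1 : c (ρ z) ≠ 1 := by
      intro h1
      have := hfaith z hz (by rw [hZscal z hz, h1, one_smul])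
      apply hks
      have h2 : k * s = z * (s * k) := by rw [hzdef]; group
      rw [h2, this, one_mul]
    have h3 := hc2 k hk (ρ s)
    have h4 : ρ k * ρ s * ρ k⁻¹ = ρ z * ρ s := by
      rw [← map_mul, ← map_mul, ← map_mul]; congr 1; rw [hzdef]; group
    rw [h4, hc0 _ 0 z hz] at h3
    have h5 : (c (ρ z) - 1) * c (ρ s) = 0 := by rw [sub_mul, h3, one_mul, sub_self]
    rcases mul_eq_zero.1 h5 with h6 | h6
    · exact absurd (sub_eq_zero.1 h6) hz1
    · exact h6
  have hc0' : ∀ z ∈ Z, ∀ T : End F V, c (ρ z * T) = c (ρ z) * c T := fun z hz T => hc0 T T z hz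
  -- the spanning formula
  have hchar : ∀ k ∈ K, ∑ t : K, c (ρ (t * k * (t : G)⁻¹ * k⁻¹)) = if k ∈ Z then (Nat.card K : F) else 0 := by
    intro k hk
    let χ : K →* F :=
      { toFun := fun t => c (ρ (t * k * (t : G)⁻¹ * k⁻¹))
        map_one' := by
          simp only [Subgroup.coe_one, one_mul, inv_one, mul_one, mul_inv_cancel, map_one, hc1]
        map_mul' := by
          intro s t
          have h1 := hKK t t.2 k hk
          have h2 := hKK s s.2 k hk
          have h3 : ((s * t : K) : G) * k * ((s * t : K) : G)⁻¹ * k⁻¹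
              = (s * k * (s : G)⁻¹ * k⁻¹) * (t * k * (t : G)⁻¹ * k⁻¹) := by
            have h4 := hZc _ h1 s s.2
            have h5 := hZc _ h2 _ (hZK h1)
            calc ((s * t : K) : G) * k * ((s * t : K) : G)⁻¹ * k⁻¹
                = (s : G) * (t * k * (t : G)⁻¹ * k⁻¹) * k * (s : G)⁻¹ * k⁻¹ := by
                  rw [Subgroup.coe_mul]; group
              _ = (t * k * (t : G)⁻¹ * k⁻¹) * (s * k * (s : G)⁻¹ * k⁻¹) := by rw [← h4]; group
              _ = _ := by rw [h5]
          show c (ρ _) = c (ρ _) * c (ρ _)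
          rw [h3, map_mul, hc0' _ h2] }
    split_ifs with hkZ
    · have : ∀ t : K, c (ρ (t * k * (t : G)⁻¹ * k⁻¹)) = 1 := by
        intro t
        rw [← hZc k hkZ t t.2, mul_inv_cancel_right, mul_inv_cancel, map_one, hc1]
      simp only [this, Finset.sum_const, Finset.card_univ, ← Nat.card_eq_fintype_card, nsmul_eq_mul,
        mul_one]
    · have hχ : χ ≠ 1 := by
        intro h
        apply hkZ
        apply hZmax k hk
        intro t ht
        have h1 : c (ρ (t * k * t⁻¹ * k⁻¹)) = 1 := DFunLike.congr_fun h (⟨t, ht⟩ : K)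
        have h2 := hfaith _ (hKK t ht k hk) (by rw [hZscal _ (hKK t ht k hk), h1, one_smul])
        have h3 : t * k = (t * k * t⁻¹ * k⁻¹) * (k * t) := by group
        rw [h3, h2, one_mul]
      exact sum_hom_units_eq_zero χ hχ
  have hZF : (Nat.card Z : F) ≠ 0 := by
    intro h
    apply hKF
    obtain ⟨m, hm⟩ := Subgroup.card_dvd_of_le hZK
    rw [hm, Nat.cast_mul, h, zero_mul]
  have hc5 : ∀ T : End F V, ∑ t : K, c (ρ (t : G)⁻¹ * T) • ρ t = (Nat.card Z : F) • T := by
    intro T
    have h1 : ∀ t : K, c (ρ (t : G)⁻¹ * T) • ρ (t : G) =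
        (Nat.card K : F)⁻¹ • ∑ k : K, c (ρ (t * k * (t : G)⁻¹ * (k : G)⁻¹)) • (ρ k * T * ρ (k : G)⁻¹) := by
      intro t
      have h2 : c (ρ (t : G)⁻¹ * T) • ρ (t : G) = ρ t * (c (ρ (t : G)⁻¹ * T) • 1) := by
        rw [mul_smul_comm, mul_one]
      rw [h2, ← hc, havg, mul_smul_comm, Finset.mul_sum]
      congr 1
      apply Finset.sum_congr rfl
      intro k _
      have h3 : c (ρ (t * k * (t : G)⁻¹ * (k : G)⁻¹)) • (ρ k * T * ρ (k : G)⁻¹) =
          ρ (t * k * (t : G)⁻¹ * (k : G)⁻¹) * (ρ k * T * ρ (k : G)⁻¹) := by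
        conv_rhs => rw [hZscal _ (hKK t t.2 k k.2)]
        rw [smul_mul_assoc, one_mul]
      rw [h3]
      simp only [map_mul, mul_assoc]
      congr 3
      rw [← mul_assoc (ρ (k : G)⁻¹), hinv', one_mul]
    simp only [h1]
    rw [← Finset.smul_sum, Finset.sum_comm]
    simp only [← Finset.sum_smul]
    have h4 : ∀ k : K, (∑ t : K, c (ρ (t * k * (t : G)⁻¹ * (k : G)⁻¹))) • (ρ k * T * ρ (k : G)⁻¹) =
        if (k : G) ∈ Z then (Nat.card K : F) • T else 0 := by
      intro k
      rw [hchar k k.2]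
      split_ifs with hk
      · rw [hZscal k hk]
        have h5 : ρ (k : G) * ρ (k : G)⁻¹ = 1 := hinv k
        rw [hZscal k hk] at h5
        rw [smul_mul_assoc, one_mul] at h5
        rw [smul_mul_assoc, smul_mul_assoc, one_mul, ← mul_smul_comm, h5, mul_one]
      · rw [zero_smul]
    simp only [h4]
    rw [← Finset.sum_filter, Finset.sum_const, ← Nat.cast_smul_eq_nsmul F, smul_smul, smul_smul]
    congr 1
    have h6 : (Finset.univ.filter (fun k : K => (k : G) ∈ Z)).card = Nat.card Z := by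
      rw [← Fintype.card_subtype, ← Nat.card_eq_fintype_card]
      apply Nat.card_congr
      exact ⟨fun k => ⟨k.1.1, k.2⟩, fun z => ⟨⟨z.1, hZK z.2⟩, z.2⟩, fun _ => rfl, fun _ => rfl⟩
    rw [h6]
    field_simp
  -- the quotient
  let ZK : Subgroup K := Z.subgroupOf K
  have hZn : ZK.Normal := by
    constructor
    intro z hz k
    rw [Subgroup.mem_subgroupOf] at hz ⊢
    have : ((k * z * k⁻¹ : K) : G) = z := by
      rw [Subgroup.coe_mul, Subgroup.coe_mul, Subgroup.coe_inv, ← hZc z hz k k.2, mul_inv_cancel_right]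
    rw [this]; exact hz
  let Φ : End F V →ₗ[F] (K ⧸ ZK → F) :=
    LinearMap.pi (fun q => c ∘ₗ LinearMap.mulLeft F (ρ ((q.out : K) : G)⁻¹))
  have hΦ : ∀ T q, Φ T q = c (ρ ((q.out : K) : G)⁻¹ * T) := fun T q => rfl
  -- vanishing is constant on cosets
  have hvan : ∀ T, ∀ t ∈ K, ∀ z ∈ Z, c (ρ t⁻¹ * T) = 0 → c (ρ (t * z)⁻¹ * T) = 0 := by
    intro T t ht z hz h
    have h1 : ρ (t * z)⁻¹ = ρ z⁻¹ * ρ t⁻¹ := by rw [mul_inv_rev, map_mul]
    rw [h1, mul_assoc, hc0' _ (inv_mem hz), h, mul_zero]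
  have hvan2 : ∀ T, (∀ t ∈ K, c (ρ t⁻¹ * T) = 0) → T = 0 := by
    intro T h
    have h1 := hc5 T
    have h2 : ∀ t : K, c (ρ (t : G)⁻¹ * T) • ρ (t : G) = 0 := fun t => by rw [h t t.2, zero_smul]
    simp only [h2, Finset.sum_const_zero] at h1
    rcases smul_eq_zero.1 h1.symm with h3 | h3
    · exact absurd h3 hZF
    · exact h3
  have hΦinj : Function.Injective Φ := by
    rw [← LinearMap.ker_eq_bot, LinearMap.ker_eq_bot']
    intro T hT
    apply hvan2
    intro t ht
    have h1 : (QuotientGroup.mk (⟨t, ht⟩ : K) : K ⧸ ZK).out⁻¹ * ⟨t, ht⟩ ∈ ZK := by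
      rw [← QuotientGroup.eq]
      exact Quotient.out_eq' _
    rw [Subgroup.mem_subgroupOf] at h1
    have h2 := congrFun hT (QuotientGroup.mk (⟨t, ht⟩ : K) : K ⧸ ZK)
    rw [hΦ] at h2
    have h3 := hvan T _ ((QuotientGroup.mk (⟨t, ht⟩ : K) : K ⧸ ZK).out).2 _ h1 h2
    have h4 : (((QuotientGroup.mk (⟨t, ht⟩ : K) : K ⧸ ZK).out : K) : G) *
        (((QuotientGroup.mk (⟨t, ht⟩ : K) : K ⧸ ZK).out⁻¹ * ⟨t, ht⟩ : K) : G) = t := by
      simp
    rw [h4] at h3
    exact h3
  have hΦsurj : Function.Surjective Φ := by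
    intro g
    refine ⟨∑ q : K ⧸ ZK, g q • ρ ((q.out : K) : G), ?_⟩
    funext q
    rw [hΦ, Finset.mul_sum, map_sum, Finset.sum_eq_single q]
    · rw [mul_smul_comm, hinv', map_smul, hc1, smul_eq_mul, mul_one]
    · intro q' _ hq
      rw [mul_smul_comm, map_smul, ← map_mul, hc4, smul_zero]
      · exact K.mul_mem (K.inv_mem q.out.2) q'.out.2
      · intro h
        apply hq
        have h1 : (q.out)⁻¹ * q'.out ∈ ZK := by
          rw [Subgroup.mem_subgroupOf]; exact h
        rw [← QuotientGroup.eq] at h1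
        have h2 : (QuotientGroup.mk q.out : K ⧸ ZK) = q := Quotient.out_eq' q
        have h3 : (QuotientGroup.mk q'.out : K ⧸ ZK) = q' := Quotient.out_eq' q'
        rw [h2, h3] at h1
        exact h1.symm
    · intro h; exact absurd (Finset.mem_univ q) h
  have hM : (finrank F V) ^ 2 = Nat.card (K ⧸ ZK) := by
    have h1 := (LinearEquiv.ofBijective Φ ⟨hΦinj, hΦsurj⟩).finrank_eq
    rw [Module.finrank_fintype_fun_eq_card, Module.finrank_linearMap] at h1
    rw [sq, h1, Nat.card_eq_fintype_card]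
  -- the automorphism of K induced by x and the permutation of K / Z
  let φ : K ≃* K :=
    { toFun := fun k => ⟨x * k * x⁻¹, hxK k k.2⟩
      invFun := fun k => ⟨x⁻¹ * k * x, hxK' k k.2⟩
      left_inv := fun k => Subtype.ext (by simp only; group)
      right_inv := fun k => Subtype.ext (by simp only; group)
      map_mul' := fun k k' => Subtype.ext (by
        simp only [Subgroup.coe_mul]; group) }
  have hφ : ∀ k : K, ((φ k : K) : G) = x * k * x⁻¹ := fun k => rfl
  have hφZ : ZK.map (φ : K →* K) = ZK := by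
    ext k
    rw [Subgroup.mem_map]
    constructor
    · rintro ⟨z, hz, rfl⟩
      rw [Subgroup.mem_subgroupOf] at hz ⊢
      have : ((φ z : K) : G) = z := by rw [hφ, hZx z hz, mul_inv_cancel_right]
      show ((φ z : K) : G) ∈ Z
      rw [this]; exact hz
    · intro hk
      refine ⟨k, hk, ?_⟩
      rw [Subgroup.mem_subgroupOf] at hk
      apply Subtype.ext
      show ((φ k : K) : G) = k
      rw [hφ, hZx k hk, mul_inv_cancel_right]
  let σ : Equiv.Perm (K ⧸ ZK) := (QuotientGroup.congr ZK ZK φ hφZ).toEquiv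
  have hσ : ∀ k : K, σ (QuotientGroup.mk k) = QuotientGroup.mk (φ k) := fun k => rfl
  have hσn : ∀ (n : ℕ) (k : K), (σ ^ n) (QuotientGroup.mk k) =
      QuotientGroup.mk ((φ ^ n : MulAut K) k) := by
    intro n
    induction n with
    | zero => intro k; rfl
    | succ n ih => intro k; rw [pow_succ', Equiv.Perm.mul_apply, ih, hσ, pow_succ']; rfl
  have hφn : ∀ (n : ℕ) (k : K), (((φ ^ n : MulAut K) k : K) : G) = x ^ n * k * (x ^ n)⁻¹ := by
    intro n
    induction n with
    | zero => intro k; simp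
    | succ n ih =>
      intro k
      rw [pow_succ']
      show ((φ ((φ ^ n : MulAut K) k) : K) : G) = _
      rw [hφ, ih, pow_succ']
      group
  have hσr : σ ^ r = 1 := by
    ext q
    obtain ⟨k, rfl⟩ := QuotientGroup.mk_surjective q
    rw [hσn]
    have : ((φ ^ r : MulAut K) k : K) = k := by
      apply Subtype.ext
      rw [hφn, hxr]; simp
    rw [this]; rfl
  have hσfix : ∀ q : K ⧸ ZK, σ q = q → q = (QuotientGroup.mk (1 : K)) := by
    intro q hq
    obtain ⟨k, rfl⟩ := QuotientGroup.mk_surjective q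
    rw [hσ, eq_comm, QuotientGroup.eq, Subgroup.mem_subgroupOf] at hq
    rw [eq_comm, QuotientGroup.eq, Subgroup.mem_subgroupOf]
    have h1 := hxZ k k.2 (by
      rw [Subgroup.coe_mul, Subgroup.coe_inv, hφ] at hq
      exact hq)
    simpa using h1
  have hσ1 : σ (QuotientGroup.mk (1 : K)) = QuotientGroup.mk (1 : K) := by
    rw [hσ, map_one]
  have hσne : σ ≠ 1 := by
    intro h
    apply hne
    apply le_antisymm hZK
    intro k hk
    have h1 := hσfix (QuotientGroup.mk (⟨k, hk⟩ : K)) (by rw [h]; rfl)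
    rw [eq_comm, QuotientGroup.eq, Subgroup.mem_subgroupOf] at h1
    simpa using h1
  have hcount := orbit_count σ hr hσr (QuotientGroup.mk (1 : K)) hσfix hσ1 hσne
  -- bound for the centralizer of x
  set Ex := LinearMap.ker (LinearMap.mulLeft F (ρ x) - LinearMap.mulRight F (ρ x)) with hEx
  have hmemEx : ∀ T, T ∈ Ex → ρ x * T = T * ρ x := by
    intro T hT
    rw [hEx, LinearMap.mem_ker, LinearMap.sub_apply, sub_eq_zero] at hT
    exact hT
  let Ω := MulAction.orbitRel.Quotient (Subgroup.zpowers σ) (K ⧸ ZK)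
  have hvanx : ∀ T ∈ Ex, ∀ t : G, c (ρ t⁻¹ * T) = 0 → c (ρ (x * t * x⁻¹)⁻¹ * T) = 0 := by
    intro T hT t h
    have h1 : ρ (x * t * x⁻¹)⁻¹ * T = ρ x * (ρ t⁻¹ * T) * ρ x⁻¹ := by
      have h2 : ρ x⁻¹ * T = T * ρ x⁻¹ := by
        calc ρ x⁻¹ * T = ρ x⁻¹ * T * (ρ x * ρ x⁻¹) := by rw [hinv, mul_one]
          _ = ρ x⁻¹ * (T * ρ x) * ρ x⁻¹ := by simp only [mul_assoc]
          _ = ρ x⁻¹ * (ρ x * T) * ρ x⁻¹ := by rw [hmemEx T hT]
          _ = T * ρ x⁻¹ := by rw [← mul_assoc (ρ x⁻¹), hinv', one_mul]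
      have h3 : (x * t * x⁻¹)⁻¹ = x * t⁻¹ * x⁻¹ := by group
      rw [h3, map_mul, map_mul, mul_assoc, h2]
      simp only [mul_assoc]
    rw [h1, hc3]
    exact h
  let Ψ : Ex →ₗ[F] (Ω → F) :=
    LinearMap.pi (fun ω => c ∘ₗ LinearMap.mulLeft F (ρ (((ω.out).out : K) : G)⁻¹) ∘ₗ Ex.subtype)
  have hΨinj : Function.Injective Ψ := by
    rw [← LinearMap.ker_eq_bot, LinearMap.ker_eq_bot']
    rintro ⟨T, hT⟩ hT0
    apply Subtype.ext
    apply hvan2 T
    -- the set of classes on which everything vanishes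
    have key : ∀ q : K ⧸ ZK, c (ρ ((q.out : K) : G)⁻¹ * T) = 0 →
        ∀ t : K, (QuotientGroup.mk t : K ⧸ ZK) = q → c (ρ (t : G)⁻¹ * T) = 0 := by
      intro q hq t ht
      have h1 : (q.out)⁻¹ * t ∈ ZK := by
        rw [← QuotientGroup.eq, ht]; exact Quotient.out_eq' _
      rw [Subgroup.mem_subgroupOf] at h1
      have h3 := hvan T _ (q.out).2 _ h1 hq
      have h4 : ((q.out : K) : G) * (((q.out)⁻¹ * t : K) : G) = t := by simp
      rw [h4] at h3
      exact h3
    have key2 : ∀ q : K ⧸ ZK, (∀ t : K, (QuotientGroup.mk t : K ⧸ ZK) = q → c (ρ (t : G)⁻¹ * T) = 0) →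
        ∀ n : ℕ, ∀ t : K, (QuotientGroup.mk t : K ⧸ ZK) = (σ ^ n) q → c (ρ (t : G)⁻¹ * T) = 0 := by
      intro q hq n
      induction n with
      | zero => intro t ht; exact hq t (by simpa using ht)
      | succ n ih =>
        intro t ht
        have h1 : t = φ (φ.symm t) := by simp
        have h2 : (QuotientGroup.mk (φ.symm t) : K ⧸ ZK) = (σ ^ n) q := by
          apply σ.injective
          rw [hσ, ← h1, ht, pow_succ', Equiv.Perm.mul_apply]
        have h3 := hvanx T hT _ (ih _ h2)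
        have h4 : (t : G) = x * ((φ.symm t : K) : G) * x⁻¹ := by rw [← hφ, ← h1]
        rw [h4]; exact h3
    intro t ht
    set q : K ⧸ ZK := QuotientGroup.mk (⟨t, ht⟩ : K) with hq
    set ω : Ω := Quotient.mk'' q with hω
    have h1 : c (ρ (((ω.out).out : K) : G)⁻¹ * T) = 0 := congrFun hT0 ω
    have h2 := key (ω.out) h1
    have h3 : (MulAction.orbitRel (Subgroup.zpowers σ) (K ⧸ ZK)) q (ω.out) := by
      apply Quotient.exact
      rw [Quotient.out_eq]
    rw [MulAction.orbitRel_apply, MulAction.mem_orbit_iff] at h3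
    obtain ⟨⟨a, ha⟩, haq⟩ := h3
    obtain ⟨n, rfl⟩ := (mem_powers_iff_mem_zpowers.2 ha)
    have h4 : (σ ^ n) (ω.out) = q := haq
    exact key2 (ω.out) h2 n ⟨t, ht⟩ (by rw [h4])
  have hExle : finrank F Ex ≤ Nat.card Ω := by
    have h1 := LinearMap.finrank_le_finrank_of_injective hΨinj
    rw [Module.finrank_fintype_fun_eq_card] at h1
    rw [Nat.card_eq_fintype_card]
    exact h1
  have hXr : (ρ x) ^ r = 1 := by rw [← map_pow, hxr, map_one]
  have h4 := sq_finrank_le (ρ x) r hr.pos hrF hXr hfix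
  have hMdvd : Nat.card (K ⧸ ZK) ∣ Nat.card K := Subgroup.card_quotient_dvd_card ZK
  have hModd : Odd (Nat.card (K ⧸ ZK)) := Odd.of_dvd_nat hodd hMdvd
  refine arith hr hr2 hM hExle hcount h4 hModd ?_
  intro h1
  apply hσne
  have : Subsingleton (K ⧸ ZK) := (Nat.card_eq_one_iff_unique.1 h1).1
  exact Subsingleton.elim _ _


theorem abelian_comm [Finite G] (ρ : Representation F G V) [hρ : ρ.IsIrreducible]
    (K : Subgroup G) [K.Normal] (x : G) (hcomm : ∀ a ∈ K, ∀ b ∈ K, a * b = b * a)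
    (hG : K ⊔ Subgroup.zpowers x = ⊤) {r : ℕ} (hr : r.Prime)
    (hKF : (Nat.card K : F) ≠ 0) (hxr : x ^ r = 1) (hfix : ∀ v, ρ x v = v → v = 0) :
    ∀ k ∈ K, ρ (x * k) = ρ (k * x) := by
  have hVn := nontrivial_of_irr ρ
  have htop := iSup_wt ρ K hKF hcomm
  obtain ⟨χ, hχ⟩ : ∃ χ : K → F, wt ρ K χ ≠ ⊥ := by
    by_contra h
    push Not at h
    rw [iSup_congr h, iSup_bot] at htop
    exact bot_ne_top htop
  by_cases hx : x • χ = χ
  · have h1 := irr_cases ρ (wt ρ K χ) (inv_of_gen ρ K x hG _ (by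
      intro k hk w hw
      rw [mem_wt.1 hw ⟨k, hk⟩]
      exact Submodule.smul_mem _ _ hw) (by
      intro w hw
      have := smul_mem_wt hw x
      rwa [hx] at this))
    rcases h1 with h1 | h1
    · exact absurd h1 hχ
    · intro k hk
      have h2 : ∀ k' : K, ρ (k' : G) = χ k' • 1 := by
        intro k'
        ext v
        have hv : v ∈ wt ρ K χ := by rw [h1]; trivial
        rw [mem_wt.1 hv k']; rfl
      rw [map_mul, map_mul, h2 ⟨k, hk⟩, smul_mul_assoc, mul_smul_comm, mul_one, one_mul]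
  · obtain ⟨v, hv, hv0⟩ := Submodule.exists_mem_ne_zero_of_ne_bot hχ
    exact absurd (hfix _ (orb_fixed ρ x hxr v)) (orb_ne_zero hKF hcomm hr hxr hx hv hv0)

end AlgClosed

open Cfsg.Agent.Lib.CoprimeCommutator
open scoped TensorProduct

universe u v

theorem core {F : Type*} [Field F] [IsAlgClosed F] {r : ℕ} (hr : r.Prime) (hr2 : r ≠ 2)
    (hrF : (r : F) ≠ 0) : ∀ n : ℕ, ∀ (G : Type u) [Group G] [Finite G] (V : Type v) [AddCommGroup V]
    [Module F V] [FiniteDimensional F V] (ρ : Representation F G V) (K : Subgroup G) [K.Normal]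
    (x : G), Nat.card K + finrank F V = n → Group.IsSolvable K → K ⊔ Subgroup.zpowers x = ⊤ →
    x ^ r = 1 → Odd (Nat.card K) → ¬ r ∣ Nat.card K → (Nat.card K : F) ≠ 0 →
    (∀ v, ρ x v = v → v = 0) → ∀ k ∈ K, ρ (x * k) = ρ (k * x) := by
  intro n
  induction n using Nat.strong_induction_on with
  | _ n ih =>
  intro G _ _ V _ _ _ ρ K hKn x hn hsol hG hxr hodd hrK hKF hfix
  classical
  have hX : Nat.card (Subgroup.zpowers x) ∣ r := by
    rw [Nat.card_zpowers]; exact orderOf_dvd_of_pow_eq_one hxr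
  -- invertibility of the order of G
  have hGF : (Nat.card G : F) ≠ 0 := by
    have h1 : K.index ∣ r := by
      have h2 : K.index = K.relIndex (Subgroup.zpowers x) := by
        rw [← Subgroup.relIndex_top_right, ← hG, Subgroup.relIndex_sup_left]
      rw [h2]
      exact (Subgroup.relIndex_dvd_card _ _).trans hX
    rw [← K.card_mul_index, Nat.cast_mul]
    apply mul_ne_zero hKF
    rcases (Nat.dvd_prime hr).1 h1 with h2 | h2
    · rw [h2, Nat.cast_one]; exact one_ne_zero
    · rw [h2]; exact hrF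
  have : NeZero (Nat.card G : F) := ⟨hGF⟩
  -- trivial space
  by_cases hV : Subsingleton V
  · intro k _
    exact LinearMap.ext fun v => Subsingleton.elim _ _
  rw [not_subsingleton_iff_nontrivial] at hV
  by_cases hirr : ρ.IsIrreducible
  swap
  · -- reducible case
    obtain ⟨S, hS1, hS2⟩ : ∃ S : Subrepresentation ρ, S ≠ ⊥ ∧ S ≠ ⊤ := by
      by_contra hcon
      push Not at hcon
      apply hirr
      have : Nontrivial (Subrepresentation ρ) := by
        refine ⟨⊥, ⊤, ?_⟩
        intro h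
        have h1 : (⊥ : Submodule F V) = ⊤ := congrArg Subrepresentation.toSubmodule h
        exact bot_ne_top h1
      exact { eq_bot_or_eq_top := fun S => by
                by_cases h : S = ⊥
                · exact Or.inl h
                · exact Or.inr (hcon S h) }
    obtain ⟨S', hS'⟩ := exists_isCompl S
    have hS1' : S.toSubmodule ≠ ⊥ := fun h => hS1 (Subrepresentation.toSubmodule_injective h)
    have hS2' : S.toSubmodule ≠ ⊤ := fun h => hS2 (Subrepresentation.toSubmodule_injective h)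
    have hS'2 : S'.toSubmodule ≠ ⊤ := by
      intro h
      have h1 : S' = ⊤ := Subrepresentation.toSubmodule_injective h
      rw [h1] at hS'
      exact hS1 (by simpa using hS'.inf_eq_bot)
    have hstep : ∀ S : Subrepresentation ρ, S.toSubmodule ≠ ⊤ → ∀ k ∈ K, ∀ v ∈ S.toSubmodule,
        ρ (x * k) v = ρ (k * x) v := by
      intro S hS k hk v hv
      have hlt : finrank F S.toSubmodule < finrank F V := Submodule.finrank_lt hS
      have h1 := ih (Nat.card K + finrank F S.toSubmodule) (by omega) G S.toSubmodule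
        S.toRepresentation K x rfl hsol hG hxr hodd hrK hKF (by
          intro w hw
          apply Subtype.ext
          exact hfix w (congrArg Subtype.val hw)) k hk
      exact congrArg Subtype.val (LinearMap.congr_fun h1 ⟨v, hv⟩)
    intro k hk
    ext v
    have hv : v ∈ S.toSubmodule ⊔ S'.toSubmodule := by
      have h1 : S ⊔ S' = ⊤ := hS'.sup_eq_top
      have h2 : S.toSubmodule ⊔ S'.toSubmodule = ⊤ := congrArg Subrepresentation.toSubmodule h1
      rw [h2]; trivial
    obtain ⟨a, ha, b, hb, rfl⟩ := Submodule.mem_sup.1 hv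
    rw [map_add, map_add, hstep S hS2' k hk a ha, hstep S' hS'2 k hk b hb]
  -- irreducible case
  by_cases hker : ∀ k ∈ K, ρ k = 1 → k = 1
  swap
  · -- quotient by the kernel
    push Not at hker
    obtain ⟨k₀, hk₀, hk₀1, hk₀2⟩ := hker
    let N : Subgroup G := MonoidHom.ker ρ
    have hNn : N.Normal := MonoidHom.normal_ker ρ
    have hlt : Nat.card (K.map (QuotientGroup.mk' N)) < Nat.card K := by
      refine lt_of_le_of_ne (Nat.le_of_dvd Nat.card_pos (Subgroup.card_map_dvd K _)) ?_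
      intro heq
      have hsurj := (QuotientGroup.mk' N).subgroupMap_surjective K
      have hinj : Function.Injective ((QuotientGroup.mk' N).subgroupMap K) :=
        ((Nat.bijective_iff_surjective_and_card _).2 ⟨hsurj, heq.symm⟩).1
      apply hk₀2
      have h1 : (QuotientGroup.mk' N).subgroupMap K ⟨k₀, hk₀⟩ = (QuotientGroup.mk' N).subgroupMap K 1 := by
        apply Subtype.ext
        show QuotientGroup.mk' N k₀ = QuotientGroup.mk' N 1
        rw [map_one]
        exact (QuotientGroup.eq_one_iff k₀).2 (MonoidHom.mem_ker.2 hk₀1)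
      exact congrArg Subtype.val (hinj h1)
    have hdvd : Nat.card (K.map (QuotientGroup.mk' N)) ∣ Nat.card K := Subgroup.card_map_dvd K _
    have hKn' : (K.map (QuotientGroup.mk' N)).Normal :=
      Subgroup.Normal.map hKn _ (QuotientGroup.mk'_surjective N)
    intro k hk
    have h1 := ih (Nat.card (K.map (QuotientGroup.mk' N)) + finrank F V) (by omega) (G ⧸ N) V
      (QuotientGroup.lift N ρ le_rfl) (K.map (QuotientGroup.mk' N)) (QuotientGroup.mk' N x) rfl
      (Group.isSolvable_of_surjective ((QuotientGroup.mk' N).subgroupMap_surjective K))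
      (by
        have h2 : (Subgroup.zpowers (QuotientGroup.mk' N x)) = (Subgroup.zpowers x).map (QuotientGroup.mk' N) :=
          (MonoidHom.map_zpowers _ _).symm
        rw [h2, ← Subgroup.map_sup, hG, Subgroup.map_top_of_surjective _ (QuotientGroup.mk'_surjective N)])
      (by rw [← map_pow, hxr, map_one])
      (Odd.of_dvd_nat hodd hdvd) (fun h => hrK (h.trans hdvd))
      (by
        intro h
        apply hKF
        obtain ⟨m, hm⟩ := hdvd
        rw [hm, Nat.cast_mul, h, zero_mul])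
      hfix (QuotientGroup.mk' N k) (Subgroup.mem_map_of_mem _ hk)
    exact h1
  -- K acts faithfully: proper invariant subgroups commute with x
  have hx_inv : ∀ H : Subgroup G, (∀ k ∈ H, x * k * x⁻¹ ∈ H) → ∀ k ∈ H, x⁻¹ * k * x ∈ H := by
    intro H hH k hk
    have h1 : ∀ m : ℕ, ∀ k ∈ H, x ^ m * k * (x ^ m)⁻¹ ∈ H := by
      intro m
      induction m with
      | zero => intro k hk; simpa using hk
      | succ m ihm =>
        intro k hk
        have : x ^ (m + 1) * k * (x ^ (m + 1))⁻¹ = x * (x ^ m * k * (x ^ m)⁻¹) * x⁻¹ := by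
          rw [pow_succ']; group
        rw [this]; exact hH _ (ihm k hk)
    have h2 : x⁻¹ = x ^ (r - 1) := by
      rw [eq_comm, eq_inv_iff_mul_eq_one, ← pow_succ, Nat.sub_add_cancel hr.one_le, hxr]
    have h3 := h1 (r - 1) k hk
    rw [← h2, inv_inv] at h3
    exact h3
  have hxn : ∀ H : Subgroup G, (∀ k ∈ H, x * k * x⁻¹ ∈ H) → x ∈ Subgroup.normalizer (H : Set G) := by
    intro H hH
    rw [Subgroup.mem_normalizer_iff]
    intro k
    refine ⟨fun hk => hH k hk, fun hk => ?_⟩
    have := hx_inv H hH _ hk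
    have h2 : x⁻¹ * (x * k * x⁻¹) * x = k := by group
    rwa [h2] at this
  have hproper : ∀ H : Subgroup G, H ≤ K → H ≠ K → (∀ k ∈ H, x * k * x⁻¹ ∈ H) → ∀ k ∈ H, x * k = k * x := by
    intro H hHK hne hHx
    set G₁ : Subgroup G := H ⊔ Subgroup.zpowers x with hG₁
    have hHG₁ : H ≤ G₁ := le_sup_left
    have hxG₁ : x ∈ G₁ := (le_sup_right : Subgroup.zpowers x ≤ G₁) (Subgroup.mem_zpowers x)
    have hHn : H.subgroupOf G₁ |>.Normal := by
      apply Subgroup.normal_subgroupOf_of_le_normalizer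
      apply sup_le Subgroup.le_normalizer
      rw [Subgroup.zpowers_le]
      exact hxn H hHx
    have hcard : Nat.card (H.subgroupOf G₁) = Nat.card H :=
      Nat.card_congr (Subgroup.subgroupOfEquivOfLe hHG₁).toEquiv
    have hlt : Nat.card H < Nat.card K := by
      refine lt_of_le_of_ne (Subgroup.card_le_of_le hHK) ?_
      intro heq
      exact hne (Subgroup.eq_of_le_of_card_ge hHK heq.ge)
    have hdvd : Nat.card H ∣ Nat.card K := Subgroup.card_dvd_of_le hHK
    intro k hk
    have h1 := ih (Nat.card (H.subgroupOf G₁) + finrank F V) (by omega) G₁ V (ρ.comp G₁.subtype)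
      (H.subgroupOf G₁) ⟨x, hxG₁⟩ rfl
      (Group.isSolvable_of_isSolvable_injective (f := (Subgroup.inclusion hHK).comp
        (Subgroup.subgroupOfEquivOfLe hHG₁).toMonoidHom) (by
          intro a b hab
          exact (Subgroup.subgroupOfEquivOfLe hHG₁).injective (Subgroup.inclusion_injective hHK hab)))
      (by
        rw [eq_top_iff]
        rintro ⟨g, hg⟩ _
        have h2 : G₁ ≤ ((H.subgroupOf G₁ ⊔ Subgroup.zpowers ⟨x, hxG₁⟩ : Subgroup G₁)).map G₁.subtype := by
          rw [Subgroup.map_sup, MonoidHom.map_zpowers]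
          refine le_trans (le_of_eq hG₁) (sup_le_sup ?_ ?_)
          · intro h hh
            exact ⟨⟨h, hHG₁ hh⟩, hh, rfl⟩
          · exact le_rfl
        obtain ⟨g', hg', hgg⟩ := h2 hg
        have : g' = ⟨g, hg⟩ := Subtype.ext hgg
        rwa [this] at hg')
      (Subtype.ext (by simpa using hxr))
      (by rw [hcard]; exact Odd.of_dvd_nat hodd hdvd) (by rw [hcard]; exact fun h => hrK (h.trans hdvd))
      (by
        rw [hcard]
        intro h
        apply hKF
        obtain ⟨m, hm⟩ := hdvd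
        rw [hm, Nat.cast_mul, h, zero_mul])
      hfix ⟨k, hHG₁ hk⟩ hk
    have h3 : ρ (x * k) = ρ (k * x) := h1
    have h4 : ρ (x * k * x⁻¹ * k⁻¹) = 1 := by
      have : x * k * x⁻¹ * k⁻¹ = (x * k) * (k * x)⁻¹ := by group
      rw [this, map_mul, h3, ← map_mul, mul_inv_cancel, map_one]
    have h5 := hker _ (K.mul_mem (hHK (hHx k hk)) (K.inv_mem (hHK hk))) h4
    have h6 : x * k = (x * k * x⁻¹ * k⁻¹) * (k * x) := by group
    rw [h6, h5, one_mul]
  by_contra hcon
  have hXK : Subgroup.zpowers x ≤ Subgroup.normalizer (K : Set G) := by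
    rw [Subgroup.zpowers_le]
    exact hxn K (fun k hk => hKn.conj_mem k hk x)
  have hcop : (Nat.card (Subgroup.zpowers x)).Coprime (Nat.card K) :=
    Nat.Coprime.coprime_dvd_left hX ((Nat.Prime.coprime_iff_not_dvd hr).2 hrK)
  -- elements commuting with x
  have hcx : ∀ H : Subgroup G, (∀ k ∈ H, x * k = k * x) → ⁅H, Subgroup.zpowers x⁆ = ⊥ := by
    intro H hH
    rw [Subgroup.commutator_comm, Subgroup.commutator_eq_bot_iff_le_centralizer, Subgroup.zpowers_le,
      Subgroup.mem_centralizer_iff]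
    intro k hk
    exact (hH k hk).symm
  have hcomm1 : ⁅K, Subgroup.zpowers x⁆ ≤ K := commutator_le_left hXK
  have hcomm2 : ⁅K, Subgroup.zpowers x⁆ = K := by
    by_contra hne
    have h1 := hproper _ hcomm1 hne (fun k hk =>
      ((Subgroup.mem_normalizer_iff).1 (right_le_normalizer_commutator K (Subgroup.zpowers x)
        (Subgroup.mem_zpowers x)) k).1 hk)
    have h2 := hcx _ h1
    rw [commutator_commutator_eq _ _ hXK hcop] at h2
    apply hcon
    intro k hk
    rw [Subgroup.commutator_comm, Subgroup.commutator_eq_bot_iff_le_centralizer, Subgroup.zpowers_le,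
      Subgroup.mem_centralizer_iff] at h2
    rw [h2 k hk]
  by_cases habel : ∀ a ∈ K, ∀ b ∈ K, a * b = b * a
  · exact hcon (abelian_comm ρ K x habel hG hr hKF hxr hfix)
  -- the nonabelian case
  have hZx : ∀ k ∈ K ⊓ Subgroup.centralizer (K : Set G), x * k = k * x := by
    apply hproper _ inf_le_left
    · intro h
      apply habel
      intro a ha b hb
      have h1 : b ∈ K ⊓ Subgroup.centralizer (K : Set G) := by rw [h]; exact hb
      exact (Subgroup.mem_centralizer_iff.1 h1.2) a ha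
    · intro k hk
      refine Subgroup.mem_inf.2 ⟨hKn.conj_mem k hk.1 x, ?_⟩
      rw [Subgroup.mem_centralizer_iff]
      intro a ha
      have h1 := hx_inv K (fun k hk => hKn.conj_mem k hk x) a ha
      have h2 := (Subgroup.mem_centralizer_iff.1 hk.2) _ h1
      calc a * (x * k * x⁻¹) = x * ((x⁻¹ * a * x) * k) * x⁻¹ := by group
        _ = x * (k * (x⁻¹ * a * x)) * x⁻¹ := by rw [h2]
        _ = x * k * x⁻¹ * a := by group
  have hKne : ⁅K, K⁆ ≠ K := by
    intro h
    have hK1 : K ≠ ⊥ := by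
      rintro rfl
      apply habel
      intro a ha b hb
      rw [Subgroup.mem_bot.1 ha, Subgroup.mem_bot.1 hb]
    have : Nontrivial K := (Subgroup.nontrivial_iff_ne_bot K).2 hK1
    have h1 := Group.IsSolvable.commutator_lt_top_of_nontrivial K
    apply h1.ne
    rw [commutator_def]
    apply Subgroup.map_injective K.subtype_injective
    rw [Subgroup.map_commutator, ← MonoidHom.range_eq_map, Subgroup.range_subtype, h]
  have hK'x : ∀ k ∈ ⁅K, K⁆, x * k = k * x := by
    apply hproper _ (Subgroup.commutator_le_self K) hKne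
    intro k hk
    exact (Subgroup.commutator_normal K K).conj_mem k hk x
  have hK'Z : ⁅K, K⁆ ≤ K ⊓ Subgroup.centralizer (K : Set G) := by
    refine le_inf (Subgroup.commutator_le_self K) ?_
    rw [← Subgroup.commutator_eq_bot_iff_le_centralizer]
    have h1 : ⁅⁅Subgroup.zpowers x, K⁆, ⁅K, K⁆⁆ = ⊥ := by
      apply Subgroup.commutator_commutator_eq_bot_of_rotate
      · -- [[K, K'], X]
        rw [eq_bot_iff]
        have h2 : ⁅K, ⁅K, K⁆⁆ ≤ ⁅K, K⁆ := Subgroup.commutator_mono le_rfl (Subgroup.commutator_le_self K)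
        calc ⁅⁅K, ⁅K, K⁆⁆, Subgroup.zpowers x⁆ ≤ ⁅⁅K, K⁆, Subgroup.zpowers x⁆ :=
              Subgroup.commutator_mono h2 le_rfl
          _ = ⊥ := hcx _ hK'x
      · -- [[K', X], K]
        rw [hcx _ hK'x, Subgroup.commutator_bot_left]
    rw [Subgroup.commutator_comm (Subgroup.zpowers x) K, hcomm2, Subgroup.commutator_comm] at h1
    exact h1
  have hCK : K ⊓ Subgroup.centralizer ((Subgroup.zpowers x : Subgroup G) : Set G) ≤
      K ⊓ Subgroup.centralizer (K : Set G) :=
    (S1459.centralizer_le K (Subgroup.zpowers x) hKn hcop.symm hcomm2.symm).trans hK'Z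
  refine nonabelian_false ρ K (K ⊓ Subgroup.centralizer (K : Set G)) x inf_le_left ?_ ?_ ?_ hZx
    (fun k hk => hKn.conj_mem k hk x) (hx_inv K (fun k hk => hKn.conj_mem k hk x)) ?_ hG hr hr2 hrF hKF
    hxr (fun z hz h => hker z hz.1 h) hodd ?_ hfix
  · intro z hz k hk
    exact ((Subgroup.mem_centralizer_iff.1 hz.2) k hk).symm
  · intro k hk h
    refine Subgroup.mem_inf.2 ⟨hk, ?_⟩
    rw [Subgroup.mem_centralizer_iff]
    intro a ha
    exact (h a ha).symm
  · intro k hk k' hk'
    apply hK'Z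
    have := Subgroup.commutator_mem_commutator hk hk'
    rwa [commutatorElement_def] at this
  · intro k hk hz
    set z := k⁻¹ * (x * k * x⁻¹) with hzdef
    have h1 : x * k * x⁻¹ = k * z := by rw [hzdef]; group
    have hzx : x * z = z * x := hZx z hz
    have h2 : ∀ m : ℕ, x ^ m * k * (x ^ m)⁻¹ = k * z ^ m := by
      intro m
      induction m with
      | zero => simp
      | succ m ihm =>
        calc x ^ (m + 1) * k * (x ^ (m + 1))⁻¹ = x * (x ^ m * k * (x ^ m)⁻¹) * x⁻¹ := by
              rw [pow_succ']; group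
          _ = x * (k * z ^ m) * x⁻¹ := by rw [ihm]
          _ = (x * k * x⁻¹) * (x * z ^ m * x⁻¹) := by group
          _ = k * z * z ^ m := by
              have h3 : x * z ^ m = z ^ m * x := ((show Commute x z from hzx).pow_right m)
              rw [h1, h3, mul_inv_cancel_right]
          _ = k * z ^ (m + 1) := by rw [pow_succ', mul_assoc]
    have h3 := h2 r
    rw [hxr] at h3
    have h4 : z ^ r = 1 := by simpa using h3
    have h5 : z = 1 := by
      have h6 : orderOf z ∣ r := orderOf_dvd_of_pow_eq_one h4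
      have h7 : orderOf z ∣ Nat.card K := by
        have := orderOf_dvd_natCard (⟨z, hz.1⟩ : K)
        rwa [Subgroup.orderOf_mk] at this
      have h8 : orderOf z = 1 :=
        Nat.eq_one_of_dvd_coprimes ((Nat.Prime.coprime_iff_not_dvd hr).2 hrK) h6 h7
      exact orderOf_eq_one_iff.1 h8
    apply hCK
    refine Subgroup.mem_inf.2 ⟨hk, ?_⟩
    have h9 : x * k = k * x := by
      have : x * k = (x * k * x⁻¹) * x := by group
      rw [this, h1, h5, mul_one]
    have h10 : Subgroup.zpowers x ≤ Subgroup.centralizer ({k} : Set G) := by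
      rw [Subgroup.zpowers_le, Subgroup.mem_centralizer_iff]
      intro a ha
      rw [Set.mem_singleton_iff.1 ha]; exact h9.symm
    rw [Subgroup.mem_centralizer_iff]
    intro a ha
    exact ((Subgroup.mem_centralizer_iff.1 (h10 ha)) k rfl).symm
  · intro h
    apply habel
    intro a ha b hb
    have h1 : b ∈ K ⊓ Subgroup.centralizer (K : Set G) := by rw [h]; exact hb
    exact (Subgroup.mem_centralizer_iff.1 h1.2) a ha

theorem inv_conj_mem {G : Type*} [Group G] {x : G} {r : ℕ} (hr : 0 < r) (hxr : x ^ r = 1)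
    (H : Subgroup G) (hH : ∀ k ∈ H, x * k * x⁻¹ ∈ H) : ∀ k ∈ H, x⁻¹ * k * x ∈ H := by
  intro k hk
  have h1 : ∀ m : ℕ, ∀ k ∈ H, x ^ m * k * (x ^ m)⁻¹ ∈ H := by
    intro m
    induction m with
    | zero => intro k hk; simpa using hk
    | succ m ihm =>
      intro k hk
      have : x ^ (m + 1) * k * (x ^ (m + 1))⁻¹ = x * (x ^ m * k * (x ^ m)⁻¹) * x⁻¹ := by
        rw [pow_succ']; group
      rw [this]; exact hH _ (ihm k hk)
  have h2 : x⁻¹ = x ^ (r - 1) := by
    rw [eq_comm, eq_inv_iff_mul_eq_one, ← pow_succ, Nat.sub_add_cancel hr, hxr]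
  have h3 := h1 (r - 1) k hk
  rw [← h2, inv_inv] at h3
  exact h3

theorem mem_normalizer_of_conj {G : Type*} [Group G] {x : G} {r : ℕ} (hr : 0 < r) (hxr : x ^ r = 1)
    (H : Subgroup G) (hH : ∀ k ∈ H, x * k * x⁻¹ ∈ H) : x ∈ Subgroup.normalizer (H : Set G) := by
  rw [Subgroup.mem_normalizer_iff]
  intro k
  refine ⟨fun hk => hH k hk, fun hk => ?_⟩
  have := inv_conj_mem hr hxr H hH _ hk
  have h2 : x⁻¹ * (x * k * x⁻¹) * x = k := by group
  rwa [h2] at this

/-- B&G Theorem 3.4 over an algebraically closed field -/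
theorem comm_of_no_fixed_algClosed {F : Type*} [Field F] [IsAlgClosed F] {G : Type u} [Group G]
    [Finite G] {V : Type v} [AddCommGroup V] [Module F V] [FiniteDimensional F V]
    (ρ : Representation F G V) (K : Subgroup G) (x : G) {r : ℕ} (hr : r.Prime) (hr2 : r ≠ 2)
    (hxr : x ^ r = 1) (hxK : ∀ k ∈ K, x * k * x⁻¹ ∈ K) (hsol : Group.IsSolvable K)
    (hodd : Odd (Nat.card K)) (hrK : ¬ r ∣ Nat.card K) (hKF : (Nat.card K : F) ≠ 0)
    (hrF : (r : F) ≠ 0) (hfix : ∀ v, ρ x v = v → v = 0) : ∀ k ∈ K, ρ (x * k) = ρ (k * x) := by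
  set G₁ : Subgroup G := K ⊔ Subgroup.zpowers x with hG₁
  have hHG₁ : K ≤ G₁ := le_sup_left
  have hxG₁ : x ∈ G₁ := (le_sup_right : Subgroup.zpowers x ≤ G₁) (Subgroup.mem_zpowers x)
  have hHn : (K.subgroupOf G₁).Normal := by
    apply Subgroup.normal_subgroupOf_of_le_normalizer
    apply sup_le Subgroup.le_normalizer
    rw [Subgroup.zpowers_le]
    exact mem_normalizer_of_conj hr.pos hxr K hxK
  have hcard : Nat.card (K.subgroupOf G₁) = Nat.card K :=
    Nat.card_congr (Subgroup.subgroupOfEquivOfLe hHG₁).toEquiv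
  intro k hk
  have h1 := core hr hr2 hrF (Nat.card (K.subgroupOf G₁) + finrank F V) G₁ V (ρ.comp G₁.subtype)
    (K.subgroupOf G₁) ⟨x, hxG₁⟩ rfl
    (Group.isSolvable_of_isSolvable_injective (f := (Subgroup.subgroupOfEquivOfLe hHG₁).toMonoidHom)
      (Subgroup.subgroupOfEquivOfLe hHG₁).injective)
    (by
      rw [eq_top_iff]
      rintro ⟨g, hg⟩ _
      have h2 : G₁ ≤ ((K.subgroupOf G₁ ⊔ Subgroup.zpowers ⟨x, hxG₁⟩ : Subgroup G₁)).map G₁.subtype := by
        rw [Subgroup.map_sup, MonoidHom.map_zpowers]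
        refine le_trans (le_of_eq hG₁) (sup_le_sup ?_ ?_)
        · intro h hh
          exact ⟨⟨h, hHG₁ hh⟩, hh, rfl⟩
        · exact le_rfl
      obtain ⟨g', hg', hgg⟩ := h2 hg
      have : g' = ⟨g, hg⟩ := Subtype.ext hgg
      rwa [this] at hg')
    (Subtype.ext (by simpa using hxr))
    (by rw [hcard]; exact hodd) (by rw [hcard]; exact hrK)
    (by rw [hcard]; exact hKF)
    hfix ⟨k, hHG₁ hk⟩ hk
  exact h1

/-- the base change of a representation -/
noncomputable def bc {F : Type*} [Field F] (F' : Type*) [Field F'] [Algebra F F'] {G : Type*} [Group G]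
    {V : Type*} [AddCommGroup V] [Module F V] (ρ : Representation F G V) :
    Representation F' G (F' ⊗[F] V) :=
  ((Module.End.baseChangeHom F F' V : Module.End F V →ₐ[F] Module.End F' (F' ⊗[F] V)) :
    Module.End F V →* Module.End F' (F' ⊗[F] V)).comp ρ

theorem bc_apply {F : Type*} [Field F] (F' : Type*) [Field F'] [Algebra F F'] {G : Type*} [Group G]
    {V : Type*} [AddCommGroup V] [Module F V] (ρ : Representation F G V) (g : G) :
    bc F' ρ g = (ρ g).baseChange F' := rfl

theorem bc_tmul {F : Type*} [Field F] (F' : Type*) [Field F'] [Algebra F F'] {G : Type*} [Group G]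
    {V : Type*} [AddCommGroup V] [Module F V] (ρ : Representation F G V) (g : G) (a : F') (v : V) :
    bc F' ρ g (a ⊗ₜ v) = a ⊗ₜ (ρ g v) := rfl

theorem eq_of_bc {F : Type*} [Field F] {F' : Type*} [Field F'] [Algebra F F'] {G : Type*} [Group G]
    {V : Type*} [AddCommGroup V] [Module F V] {ρ : Representation F G V} {g h : G}
    (hgh : bc F' ρ g = bc F' ρ h) : ρ g = ρ h := by
  ext v
  have h1 := LinearMap.congr_fun hgh (1 ⊗ₜ v)
  rw [bc_tmul, bc_tmul, ← sub_eq_zero, ← TensorProduct.tmul_sub,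
    Module.FaithfullyFlat.one_tmul_eq_zero_iff, sub_eq_zero] at h1
  exact h1

/-- B&G Theorem 3.4 over any field of coprime characteristic -/
theorem comm_of_no_fixed {F : Type*} [Field F] {G : Type u} [Group G]
    [Finite G] {V : Type v} [AddCommGroup V] [Module F V] [FiniteDimensional F V]
    (ρ : Representation F G V) (K : Subgroup G) (x : G) {r : ℕ} (hr : r.Prime) (hr2 : r ≠ 2)
    (hxr : x ^ r = 1) (hxK : ∀ k ∈ K, x * k * x⁻¹ ∈ K) (hsol : Group.IsSolvable K)
    (hodd : Odd (Nat.card K)) (hrK : ¬ r ∣ Nat.card K) (hKF : (Nat.card K : F) ≠ 0)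
    (hrF : (r : F) ≠ 0) (hfix : ∀ v, ρ x v = v → v = 0) : ∀ k ∈ K, ρ (x * k) = ρ (k * x) := by
  have hcast : ∀ n : ℕ, (n : F) ≠ 0 → (n : AlgebraicClosure F) ≠ 0 := by
    intro n hn h
    apply hn
    have h1 : algebraMap F (AlgebraicClosure F) (n : F) = 0 := by rw [map_natCast, h]
    exact (map_eq_zero _).1 h1
  have hsum : ∑ j ∈ Finset.range r, ρ x ^ j = 0 := by
    ext v
    rw [LinearMap.sum_apply]
    exact hfix _ (orb_fixed ρ x hxr v)
  have hsum' : ∑ j ∈ Finset.range r, bc (AlgebraicClosure F) ρ x ^ j = 0 := by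
    have h1 := congrArg (Module.End.baseChangeHom F (AlgebraicClosure F) V) hsum
    rw [map_sum, map_zero] at h1
    simp only [map_pow] at h1
    exact h1
  intro k hk
  apply eq_of_bc (F' := AlgebraicClosure F)
  apply comm_of_no_fixed_algClosed (bc (AlgebraicClosure F) ρ) K x hr hr2 hxr hxK hsol hodd hrK
    (hcast _ hKF) (hcast _ hrF) _ k hk
  intro w hw
  have h1 := LinearMap.congr_fun hsum' w
  rw [LinearMap.sum_apply] at h1
  have h2 : ∀ j : ℕ, (bc (AlgebraicClosure F) ρ x ^ j) w = w := by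
    intro j
    induction j with
    | zero => simp
    | succ j ih => rw [pow_succ', Module.End.mul_apply, ih, hw]
  simp only [h2, Finset.sum_const, Finset.card_range, LinearMap.zero_apply] at h1
  rw [← Nat.cast_smul_eq_nsmul (AlgebraicClosure F)] at h1
  rcases smul_eq_zero.1 h1 with h3 | h3
  · exact absurd h3 (hcast _ hrF)
  · exact h3

/-- the representation attached to an action on an elementary abelian group -/
noncomputable def elemRep {G : Type*} [Group G] {A : Type*} [CommGroup A] (p : ℕ)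
    [Module (ZMod p) (Additive A)] (φ : G →* MulAut A) : Representation (ZMod p) G (Additive A) where
  toFun g := AddMonoidHom.toZModLinearMap p (MonoidHom.toAdditive (φ g : A →* A))
  map_one' := by
    ext a
    show Additive.ofMul ((φ 1) a.toMul) = a
    rw [map_one]; rfl
  map_mul' g h := by
    ext a
    show Additive.ofMul ((φ (g * h)) a.toMul) = Additive.ofMul (φ g (φ h a.toMul))
    rw [map_mul]; rfl

theorem elemRep_apply {G : Type*} [Group G] {A : Type*} [CommGroup A] (p : ℕ)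
    [Module (ZMod p) (Additive A)] (φ : G →* MulAut A) (g : G) (a : A) :
    elemRep p φ g (Additive.ofMul a) = Additive.ofMul (φ g a) := rfl

theorem elem_version {G : Type u} [Group G] [Finite G] {A : Type v} [CommGroup A] [Finite A] (p : ℕ)
    [Fact p.Prime] (hA : ∀ a : A, a ^ p = 1) (φ : G →* MulAut A) (K : Subgroup G) (x : G) {r : ℕ}
    (hr : r.Prime) (hr2 : r ≠ 2) (hxr : x ^ r = 1) (hxK : ∀ k ∈ K, x * k * x⁻¹ ∈ K)
    (hsol : Group.IsSolvable K) (hodd : Odd (Nat.card K)) (hrK : ¬ r ∣ Nat.card K)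
    (hKp : ¬ p ∣ Nat.card K) (hrp : r ≠ p) (hfix : ∀ a, φ x a = a → a = 1) :
    ∀ k ∈ K, ∀ a, φ (x * k) a = φ (k * x) a := by
  let _inst : Module (ZMod p) (Additive A) := AddCommGroup.zmodModule (by
    intro a
    exact hA a.toMul)
  have hfinA : Finite (Additive A) := inferInstanceAs (Finite A)
  have hfd : FiniteDimensional (ZMod p) (Additive A) := Module.Finite.of_finite
  have hpF : ∀ n : ℕ, ¬ p ∣ n → (n : ZMod p) ≠ 0 := by
    intro n hn h
    exact hn ((ZMod.natCast_eq_zero_iff n p).1 h)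
  have hrp' : ¬ p ∣ r := by
    intro h
    exact hrp ((Nat.prime_dvd_prime_iff_eq (Fact.out : p.Prime) hr).1 h).symm
  intro k hk a
  have h1 := @comm_of_no_fixed (ZMod p) _ G _ _ (Additive A) _ _inst hfd (elemRep p φ) K x r hr hr2
    hxr hxK hsol hodd hrK (hpF _ hKp) (hpF _ hrp') (fun v hv => hfix v.toMul hv) k hk
  exact LinearMap.congr_fun h1 (Additive.ofMul a)

open scoped commutatorElement

theorem commutator_zpowers_le {G : Type*} [Group G] (K : Subgroup G) (x : G) (C : Subgroup G)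
    [C.Normal] (h : ∀ k ∈ K, ⁅k, x⁆ ∈ C) : ⁅K, Subgroup.zpowers x⁆ ≤ C := by
  rw [Subgroup.commutator_le]
  intro k hk y hy
  obtain ⟨j, rfl⟩ := Subgroup.mem_zpowers_iff.1 hy
  have h1 : Commute (QuotientGroup.mk' C k) (QuotientGroup.mk' C x) := by
    rw [← commutatorElement_eq_one_iff_commute, ← map_commutatorElement]
    exact (QuotientGroup.eq_one_iff _).2 (h k hk)
  have h2 : Commute (QuotientGroup.mk' C k) (QuotientGroup.mk' C (x ^ j)) := by
    rw [map_zpow]
    exact h1.zpow_right j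
  rw [← commutatorElement_eq_one_iff_commute, ← map_commutatorElement] at h2
  exact (QuotientGroup.eq_one_iff _).1 h2

theorem group_core {r : ℕ} (hr : r.Prime) (hr2 : r ≠ 2) : ∀ n : ℕ, ∀ (G : Type u) [Group G]
    [Finite G] (V K : Subgroup G) [V.Normal] (x : G), Nat.card V = n → Group.IsSolvable K →
    Group.IsSolvable V → x ^ r = 1 → (∀ k ∈ K, x * k * x⁻¹ ∈ K) →
    Odd (Nat.card K) → ¬ r ∣ Nat.card K → (Nat.card V).Coprime (Nat.card K) → ¬ r ∣ Nat.card V →
    (∀ v ∈ V, x * v * x⁻¹ = v → v = 1) →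
    ⁅K, Subgroup.zpowers x⁆ ≤ Subgroup.centralizer (V : Set G) := by
  intro n
  induction n using Nat.strong_induction_on with
  | _ n ih =>
  intro G _ _ V K hVn x hn hKs hVs hxr hxK hodd hrK hVK hrV hfix
  classical
  by_cases hVb : V = ⊥
  · rw [hVb]
    intro g _
    rw [Subgroup.mem_centralizer_iff]
    intro v hv
    rw [SetLike.mem_coe, Subgroup.mem_bot] at hv
    rw [hv, one_mul, mul_one]
  have hVnt : Nontrivial V := (Subgroup.nontrivial_iff_ne_bot V).2 hVb
  obtain ⟨p, hp, N, hNc, hNm, hNp, hN⟩ :=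
    Cfsg.Agent.Lib.SolvableMinNormal.exists_characteristic_pgroup (G := V)
  have : Fact p.Prime := ⟨hp⟩
  -- the subgroup `W = Ω₁(N)`
  let W : Subgroup G :=
    { carrier := {g | g ∈ N.map V.subtype ∧ g ^ p = 1}
      one_mem' := ⟨Subgroup.one_mem _, one_pow _⟩
      mul_mem' := by
        rintro a b ⟨⟨a, ha, rfl⟩, hap⟩ ⟨⟨b, hb, rfl⟩, hbp⟩
        refine ⟨Subgroup.mul_mem _ ⟨a, ha, rfl⟩ ⟨b, hb, rfl⟩, ?_⟩
        have hc : Commute a b := by
          have := hNm.is_comm.comm ⟨a, ha⟩ ⟨b, hb⟩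
          exact congrArg Subtype.val this
        have hc' : Commute (V.subtype a) (V.subtype b) := hc.map V.subtype
        rw [hc'.mul_pow, hap, hbp, one_mul]
      inv_mem' := by
        rintro a ⟨ha, hap⟩
        exact ⟨Subgroup.inv_mem _ ha, by rw [inv_pow, hap, inv_one]⟩ }
  have hWmem : ∀ g, g ∈ W ↔ g ∈ N.map V.subtype ∧ g ^ p = 1 := fun g => Iff.rfl
  have hNn : (N.map V.subtype).Normal := ConjAct.normal_of_characteristic_of_normal
  have hWn : W.Normal := by
    constructor
    intro a ha g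
    rw [hWmem] at ha ⊢
    exact ⟨hNn.conj_mem a ha.1 g, by rw [conj_pow, ha.2, mul_one, mul_inv_cancel]⟩
  have hWV : W ≤ V := by
    rintro g ⟨⟨a, _, rfl⟩, _⟩
    exact a.2
  have hWc : ∀ a b : W, a * b = b * a := by
    rintro ⟨_, ⟨a, ha, rfl⟩, hap⟩ ⟨_, ⟨b, hb, rfl⟩, hbp⟩
    apply Subtype.ext
    show (a : G) * b = b * a
    have := hNm.is_comm.comm ⟨a, ha⟩ ⟨b, hb⟩
    exact congrArg (fun z => ((z : V) : G)) (congrArg Subtype.val this)
  have hpN : p ∣ Nat.card N := by
    obtain ⟨m, hm⟩ := IsPGroup.iff_card.1 hNp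
    rw [hm]
    apply dvd_pow_self
    rintro rfl
    rw [pow_zero] at hm
    exact hN (Subgroup.card_eq_one.1 hm)
  have hW : W ≠ ⊥ := by
    obtain ⟨a, ha⟩ := exists_prime_orderOf_dvd_card' p hpN
    intro h
    have h1 : ((a : V) : G) ∈ W := by
      refine ⟨⟨a, a.2, rfl⟩, ?_⟩
      have := pow_orderOf_eq_one a
      rw [ha] at this
      exact congrArg (fun z : N => ((z : V) : G)) this
    rw [h, Subgroup.mem_bot] at h1
    have h2 : a = 1 := by
      apply Subtype.ext; apply Subtype.ext; exact h1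
    rw [h2, orderOf_one] at ha
    exact hp.one_lt.ne ha
  have hWcard : Nat.card W ∣ Nat.card V := Subgroup.card_dvd_of_le hWV
  have hpV : p ∣ Nat.card V := hpN.trans (Subgroup.card_subgroup_dvd_card N)
  have hpK : ¬ p ∣ Nat.card K := fun h => hp.one_lt.ne' (Nat.dvd_one.1 (hVK ▸ Nat.dvd_gcd hpV h))
  have hrp : r ≠ p := by rintro rfl; exact hrV hpV
  have hgrp : ⁅K, Subgroup.zpowers x⁆ ≤ Subgroup.centralizer (W : Set G) := by
    let _inst : CommGroup W := { (inferInstance : Group W) with mul_comm := hWc }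
    have h1 := elem_version (G := G) (A := W) p (fun a => Subtype.ext a.2.2)
      (MulAut.conjNormal : G →* MulAut W) K x hr hr2 hxr hxK hKs hodd hrK hpK hrp (by
        intro a ha
        apply Subtype.ext
        apply hfix _ (hWV a.2)
        exact congrArg Subtype.val ha)
    have : (Subgroup.centralizer (W : Set G)).Normal := Subgroup.normal_centralizer
    apply commutator_zpowers_le
    intro k hk
    rw [Subgroup.mem_centralizer_iff]
    intro a ha
    have hxW : x⁻¹ * a * x ∈ W := by simpa using hWn.conj_mem a ha x⁻¹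
    have hxW2 : k⁻¹ * (x⁻¹ * a * x) * k ∈ W := by simpa using hWn.conj_mem _ hxW k⁻¹
    have h2 := h1 k hk ⟨_, hxW2⟩
    have h3 : (x * k) * (k⁻¹ * (x⁻¹ * a * x) * k) * (x * k)⁻¹ =
      (k * x) * (k⁻¹ * (x⁻¹ * a * x) * k) * (k * x)⁻¹ := congrArg Subtype.val h2
    have h4 : (x * k) * (k⁻¹ * (x⁻¹ * a * x) * k) * (x * k)⁻¹ = a := by group
    rw [h4] at h3
    have h5 : (k * x) * (k⁻¹ * (x⁻¹ * a * x) * k) * (k * x)⁻¹ = ⁅k, x⁆ * a * ⁅k, x⁆⁻¹ := by
      rw [commutatorElement_def]; group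
    rw [h5] at h3
    rw [eq_mul_inv_iff_mul_eq] at h3
    exact h3
  -- the quotient by `W`
  have hKc : Nat.card (K.map (QuotientGroup.mk' W)) ∣ Nat.card K := Subgroup.card_map_dvd _ _
  have hVc : Nat.card (V.map (QuotientGroup.mk' W)) ∣ Nat.card V := Subgroup.card_map_dvd _ _
  have hlt : Nat.card (V.map (QuotientGroup.mk' W)) < n := by
    rw [← hn]
    refine lt_of_le_of_ne (Nat.le_of_dvd Nat.card_pos hVc) ?_
    intro h
    have h1 := Subgroup.card_mul_index (V.map (QuotientGroup.mk' W))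
    have h2 : (V.map (QuotientGroup.mk' W)).index = V.index := by
      rw [Subgroup.index_map_eq]
      · exact QuotientGroup.mk'_surjective _
      · rw [QuotientGroup.ker_mk']; exact hWV
    rw [h2, h, V.card_mul_index, Subgroup.card_eq_card_quotient_mul_card_subgroup W] at h1
    have h3 : Nat.card W = 1 := by
      have : 0 < Nat.card (G ⧸ W) := Nat.card_pos
      nlinarith [Nat.card_pos (α := G ⧸ W), Nat.card_pos (α := W)]
    exact hW (Subgroup.card_eq_one.1 h3)
  have hVn' : (V.map (QuotientGroup.mk' W)).Normal := hVn.map _ (QuotientGroup.mk'_surjective _)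
  have : Fact r.Prime := ⟨hr⟩
  have hxX : IsPGroup r (Subgroup.zpowers x) := by
    apply IsPGroup.of_card_dvd_pow (n := 1)
    rw [Nat.card_zpowers, pow_one]
    exact orderOf_dvd_of_pow_eq_one hxr
  have hcomm_zpow : ∀ v : G, Commute (QuotientGroup.mk' W v) (QuotientGroup.mk' W x) →
      ∀ a ∈ Subgroup.zpowers x, v⁻¹ * (a * v * a⁻¹) ∈ W := by
    intro v hv a ha
    obtain ⟨j, rfl⟩ := Subgroup.mem_zpowers_iff.1 ha
    have h2 : Commute (QuotientGroup.mk' W v) (QuotientGroup.mk' W (x ^ j)) := by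
      rw [map_zpow]
      exact hv.zpow_right j
    apply (QuotientGroup.eq_one_iff _).1
    show QuotientGroup.mk' W _ = 1
    rw [map_mul, map_mul, map_mul, map_inv, map_inv, ← h2.eq]
    group
  have h := ih _ hlt (G ⧸ W) (V.map (QuotientGroup.mk' W)) (K.map (QuotientGroup.mk' W))
    (QuotientGroup.mk' W x) rfl
    (Group.isSolvable_of_surjective (f := (QuotientGroup.mk' W).subgroupMap K)
      ((QuotientGroup.mk' W).subgroupMap_surjective K))
    (Group.isSolvable_of_surjective (f := (QuotientGroup.mk' W).subgroupMap V)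
      ((QuotientGroup.mk' W).subgroupMap_surjective V))
    (by rw [← map_pow, hxr, map_one])
    (by
      rintro _ ⟨k, hk, rfl⟩
      exact ⟨_, hxK k hk, by rw [map_mul, map_mul, map_inv]⟩)
    (hodd.of_dvd_nat hKc) (fun h => hrK (h.trans hKc))
    (Nat.Coprime.coprime_dvd_left hVc (Nat.Coprime.coprime_dvd_right hKc hVK))
    (fun h => hrV (h.trans hVc))
    (by
      rintro _ ⟨v, hv, rfl⟩ hfixv
      have h1 : Commute (QuotientGroup.mk' W v) (QuotientGroup.mk' W x) := by
        rw [mul_inv_eq_iff_eq_mul] at hfixv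
        exact hfixv.symm
      obtain ⟨c, hc, hvc⟩ := exists_fixed_in_coset r (Subgroup.zpowers x) W hxX
        (by rw [Subgroup.normalizer_eq_top]; exact le_top)
        (fun h => hrV (h.trans hWcard)) v (hcomm_zpow v h1)
      have hcV : c ∈ V := by
        have := V.mul_mem hv (hWV hvc)
        rwa [mul_inv_cancel_left] at this
      have hc1 : c = 1 := by
        apply hfix c hcV
        have := Subgroup.mem_centralizer_iff.1 hc x (Subgroup.mem_zpowers x)
        rw [this, mul_inv_cancel_right]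
      rw [hc1, mul_one] at hvc
      have : v ∈ W := by simpa using W.inv_mem hvc
      exact (QuotientGroup.eq_one_iff _).2 this)
  have hHK : ⁅K, Subgroup.zpowers x⁆ ≤ K := by
    apply commutator_le_left
    rw [Subgroup.zpowers_le]
    exact mem_normalizer_of_conj hr.pos hxr K hxK
  apply le_centralizer_of_commutator_le _ V W
  · rw [Subgroup.normalizer_eq_top]; exact le_top
  · exact (Nat.Coprime.coprime_dvd_right (Subgroup.card_dvd_of_le hHK) hVK).symm
  · rw [Subgroup.commutator_le]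
    intro v hv g hg
    have h1 : QuotientGroup.mk' W g ∈ Subgroup.centralizer
        ((V.map (QuotientGroup.mk' W) : Subgroup (G ⧸ W)) : Set (G ⧸ W)) := by
      apply h
      have h2 : (⁅K, Subgroup.zpowers x⁆).map (QuotientGroup.mk' W) =
          ⁅K.map (QuotientGroup.mk' W), Subgroup.zpowers (QuotientGroup.mk' W x)⁆ := by
        rw [Subgroup.map_commutator, MonoidHom.map_zpowers]
      rw [← h2]
      exact ⟨g, hg, rfl⟩
    have h2 : Commute (QuotientGroup.mk' W v) (QuotientGroup.mk' W g) :=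
      Subgroup.mem_centralizer_iff.1 h1 _ ⟨v, hv, rfl⟩
    rw [← commutatorElement_eq_one_iff_commute, ← map_commutatorElement] at h2
    exact (QuotientGroup.eq_one_iff _).1 h2
  · exact hgrp

/-- B&G Theorem 3.4, group form (`R` of odd prime order acting without fixed points on `V`). -/
theorem commutator_le_centralizer_of_fixedFree {G : Type u} [Group G] [Finite G]
    (K R V : Subgroup G) (hK : Group.IsSolvable K) (hodd : Odd (Nat.card K))
    (hR : (Nat.card R).Prime) (hR2 : Nat.card R ≠ 2) (hRK : R ≤ Subgroup.normalizer (K : Set G))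
    (hcop : (Nat.card K).Coprime (Nat.card R)) (hKV : K ≤ Subgroup.normalizer (V : Set G))
    (hRV : R ≤ Subgroup.normalizer (V : Set G)) (hV : Group.IsSolvable V)
    (hVK : (Nat.card V).Coprime (Nat.card K)) (hVR : (Nat.card V).Coprime (Nat.card R))
    (hfix : V ⊓ Subgroup.centralizer (R : Set G) = ⊥) :
    ⁅K, R⁆ ≤ Subgroup.centralizer (V : Set G) := by
  have : Fact (Nat.card R).Prime := ⟨hR⟩
  -- a generator of `R`
  have hcyc : IsCyclic R := isCyclic_of_prime_card rfl
  obtain ⟨⟨x, hxR⟩, hx⟩ := IsCyclic.exists_generator (α := R)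
  have hRx : R = Subgroup.zpowers x := by
    apply le_antisymm
    · intro g hg
      obtain ⟨j, hj⟩ := Subgroup.mem_zpowers_iff.1 (hx ⟨g, hg⟩)
      exact Subgroup.mem_zpowers_iff.2 ⟨j, congrArg Subtype.val hj⟩
    · rw [Subgroup.zpowers_le]; exact hxR
  have hxr : x ^ Nat.card R = 1 := by
    have := pow_card_eq_one' (x := (⟨x, hxR⟩ : R))
    exact congrArg Subtype.val this
  have hcop' : ∀ {m : ℕ}, m.Coprime (Nat.card R) → ¬ Nat.card R ∣ m := by
    intro m hm h
    exact hR.one_lt.ne' (Nat.dvd_one.1 (hm ▸ Nat.dvd_gcd h dvd_rfl))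
  -- pass to the normalizer of `V`
  set M : Subgroup G := Subgroup.normalizer (V : Set G) with hM
  have hVM : V ≤ M := Subgroup.le_normalizer
  have hVn : (V.subgroupOf M).Normal := Subgroup.normal_in_normalizer
  have hcard : ∀ H : Subgroup G, H ≤ M → Nat.card (H.subgroupOf M) = Nat.card H := fun H h =>
    Nat.card_congr (Subgroup.subgroupOfEquivOfLe h).toEquiv
  have hxM : x ∈ M := hRV hxR
  have h := group_core hR hR2 _ M (V.subgroupOf M) (K.subgroupOf M) ⟨x, hxM⟩ rfl
    (Group.isSolvable_of_isSolvable_injective (f := (Subgroup.subgroupOfEquivOfLe hKV).toMonoidHom)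
      (Subgroup.subgroupOfEquivOfLe hKV).injective)
    (Group.isSolvable_of_isSolvable_injective (f := (Subgroup.subgroupOfEquivOfLe hVM).toMonoidHom)
      (Subgroup.subgroupOfEquivOfLe hVM).injective)
    (Subtype.ext hxr)
    (by
      intro k hk
      rw [Subgroup.mem_subgroupOf] at hk ⊢
      exact (Subgroup.mem_normalizer_iff.1 (hRK hxR) _).1 hk)
    (by rw [hcard _ hKV]; exact hodd) (by rw [hcard _ hKV]; exact hcop' hcop)
    (by rw [hcard _ hKV, hcard _ hVM]; exact hVK) (by rw [hcard _ hVM]; exact hcop' hVR)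
    (by
      intro v hv hxv
      rw [Subgroup.mem_subgroupOf] at hv
      have h1 : (v : G) ∈ V ⊓ Subgroup.centralizer (R : Set G) := by
        refine Subgroup.mem_inf.2 ⟨hv, ?_⟩
        have h2 : x * v * x⁻¹ = v := congrArg Subtype.val hxv
        rw [hRx, Subgroup.mem_centralizer_iff]
        intro y hy
        obtain ⟨j, rfl⟩ := Subgroup.mem_zpowers_iff.1 hy
        have h3 : Commute x (v : G) := by
          rw [mul_inv_eq_iff_eq_mul] at h2
          exact h2
        exact h3.zpow_left j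
      rw [hfix, Subgroup.mem_bot] at h1
      exact Subtype.ext h1)
  rw [Subgroup.commutator_le]
  intro k hk y hy
  have h1 := h (Subgroup.commutator_mem_commutator (g₁ := ⟨k, hKV hk⟩) (g₂ := ⟨y, hRV hy⟩)
    (Subgroup.mem_subgroupOf.2 hk) (by
      rw [hRx] at hy
      obtain ⟨j, rfl⟩ := Subgroup.mem_zpowers_iff.1 hy
      exact Subgroup.mem_zpowers_iff.2 ⟨j, Subtype.ext (by simp)⟩))
  rw [Subgroup.mem_centralizer_iff] at h1 ⊢
  intro v hv
  have h2 := h1 ⟨v, hVM hv⟩ (Subgroup.mem_subgroupOf.2 hv)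
  exact congrArg Subtype.val h2

end Cfsg.Agent.OddOrderLocal.Thm34
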