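import Mathlib
import Cfsg.Agent.OddOrderLocal.PiCoreOf
set_option linter.all false

/-!
`IsSyl p P X`: for subgroups `P`, `X` of `G`, `P` is a Sylow `p`-subgroup of `X`
(ambient-subgroup form), with the basic facts.
-/

set_option autoImplicit false
set_option linter.style.haveILetI false
set_option linter.unusedSectionVars false
open Cfsg

namespace Cfsg.Agent.OddOrderLocal.SylIn

open Cfsg.Agent.OddOrderLocal

variable {G : Type*} [Group G]

/-- `P` is a Sylow `p`-subgroup of `X` (both subgroups of `G`). -/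
structure IsSyl (p : ℕ) (P X : Subgroup G) : Prop where
  le : P ≤ X
  isPGroup : IsPGroup p P
  not_dvd : ¬ p ∣ P.relIndex X

theorem card_mul_relIndex {H K : Subgroup G} (h : H ≤ K) :
    Nat.card H * H.relIndex K = Nat.card K := by
  have := Subgroup.relIndex_mul_relIndex (⊥ : Subgroup G) H K bot_le h
  simpa [Subgroup.relIndex_bot_left] using this

variable [Finite G] {p : ℕ} [hp : Fact p.Prime]

theorem isSyl_of_sylow {X : Subgroup G} (S : Sylow p X) :
    IsSyl p ((S : Subgroup X).map X.subtype) X := by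
  refine ⟨Subgroup.map_subtype_le _, S.isPGroup'.map _, ?_⟩
  have h : ((S : Subgroup X).map X.subtype).relIndex X = (S : Subgroup X).index := by
    rw [Subgroup.relIndex, Subgroup.subgroupOf, Subgroup.comap_map_eq_self_of_injective
      X.subtype_injective]
  rw [h]
  exact S.not_dvd_index

theorem IsSyl.exists_sylow {P X : Subgroup G} (h : IsSyl p P X) :
    ∃ S : Sylow p X, (S : Subgroup X).map X.subtype = P := by
  have h1 : IsPGroup p (P.subgroupOf X) :=
    h.isPGroup.of_equiv (Subgroup.subgroupOfEquivOfLe h.le).symm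
  have h2 : ¬ p ∣ (P.subgroupOf X).index := h.not_dvd
  exact ⟨h1.toSylow h2, Subgroup.map_subgroupOf_eq_of_le h.le⟩

theorem exists_isSyl_ge {Q X : Subgroup G} (hQX : Q ≤ X) (hQ : IsPGroup p Q) :
    ∃ P : Subgroup G, IsSyl p P X ∧ Q ≤ P := by
  have h1 : IsPGroup p (Q.subgroupOf X) := hQ.of_equiv (Subgroup.subgroupOfEquivOfLe hQX).symm
  obtain ⟨S, hS⟩ := h1.exists_le_sylow
  refine ⟨_, isSyl_of_sylow S, ?_⟩
  rw [← Subgroup.map_subgroupOf_eq_of_le hQX]
  exact Subgroup.map_mono hS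

theorem exists_isSyl (p : ℕ) [Fact p.Prime] (X : Subgroup G) : ∃ P : Subgroup G, IsSyl p P X := by
  obtain ⟨P, hP, -⟩ := exists_isSyl_ge (p := p) (bot_le : (⊥ : Subgroup G) ≤ X) IsPGroup.of_bot
  exact ⟨P, hP⟩

theorem IsSyl.mono {P X Y : Subgroup G} (h : IsSyl p P X) (hPY : P ≤ Y) (hYX : Y ≤ X) :
    IsSyl p P Y := by
  refine ⟨hPY, h.isPGroup, fun hd => h.not_dvd (hd.trans ?_)⟩
  have := Subgroup.relIndex_mul_relIndex P Y X hPY hYX
  exact Dvd.intro _ this

theorem IsSyl.card_eq {P Q X : Subgroup G} (hP : IsSyl p P X) (hQ : IsSyl p Q X) :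
    Nat.card P = Nat.card Q := by
  obtain ⟨S, rfl⟩ := hP.exists_sylow
  obtain ⟨T, rfl⟩ := hQ.exists_sylow
  rw [Subgroup.card_map_of_injective X.subtype_injective,
    Subgroup.card_map_of_injective X.subtype_injective, S.card_eq_multiplicity,
    T.card_eq_multiplicity]

theorem IsSyl.card_dvd {P Q X : Subgroup G} (hP : IsSyl p P X) (hQX : Q ≤ X)
    (hQ : IsPGroup p Q) : Nat.card Q ∣ Nat.card P := by
  obtain ⟨R, hR, hQR⟩ := exists_isSyl_ge hQX hQ
  rw [hP.card_eq hR]
  exact Subgroup.card_dvd_of_le hQR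

theorem IsSyl.card_le {P Q X : Subgroup G} (hP : IsSyl p P X) (hQX : Q ≤ X)
    (hQ : IsPGroup p Q) : Nat.card Q ≤ Nat.card P :=
  Nat.le_of_dvd Nat.card_pos (hP.card_dvd hQX hQ)

/-- A `p`-subgroup of `X` of the order of a Sylow subgroup is Sylow. -/
theorem IsSyl.of_card_le {P Q X : Subgroup G} (hP : IsSyl p P X) (hQX : Q ≤ X)
    (hQ : IsPGroup p Q) (hc : Nat.card P ≤ Nat.card Q) : IsSyl p Q X := by
  obtain ⟨R, hR, hQR⟩ := exists_isSyl_ge hQX hQ
  have : Q = R := Subgroup.eq_of_le_of_card_ge hQR (by rw [← hP.card_eq hR]; exact hc)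
  rw [this]
  exact hR

theorem IsSyl.eq_of_le {P Q X : Subgroup G} (hP : IsSyl p P X) (hQX : Q ≤ X)
    (hQ : IsPGroup p Q) (hPQ : P ≤ Q) : P = Q :=
  Subgroup.eq_of_le_of_card_ge hPQ (hP.card_le hQX hQ)

/-- Sylow subgroups of `X` are conjugate under `X`. -/
theorem IsSyl.exists_conj {P Q X : Subgroup G} (hP : IsSyl p P X) (hQ : IsSyl p Q X) :
    ∃ x ∈ X, P.map (MulAut.conj x).toMonoidHom = Q := by
  obtain ⟨S, rfl⟩ := hP.exists_sylow
  obtain ⟨T, rfl⟩ := hQ.exists_sylow
  obtain ⟨g, hg⟩ := MulAction.exists_smul_eq X S T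
  refine ⟨g, g.2, ?_⟩
  have h1 : (T : Subgroup X) = (S : Subgroup X).map (MulAut.conj g).toMonoidHom := by
    rw [← hg]; rfl
  rw [h1, Subgroup.map_map, Subgroup.map_map]
  congr 1

/-- A `p`-subgroup `Q ≤ X` is conjugate under `X` to a subgroup of a Sylow `p`-subgroup. -/
theorem IsSyl.exists_conj_le {P Q X : Subgroup G} (hP : IsSyl p P X) (hQX : Q ≤ X)
    (hQ : IsPGroup p Q) : ∃ x ∈ X, Q.map (MulAut.conj x).toMonoidHom ≤ P := by
  obtain ⟨R, hR, hQR⟩ := exists_isSyl_ge hQX hQ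
  obtain ⟨x, hx, h⟩ := hR.exists_conj hP
  exact ⟨x, hx, h ▸ Subgroup.map_mono hQR⟩

/-- If a Sylow `p`-subgroup of `X` has the same order as `P ≤ Y ≤ X`. -/
theorem IsSyl.of_le {P X Y : Subgroup G} (hP : IsSyl p P X) (hXY : X ≤ Y)
    {Q : Subgroup G} (hQ : IsSyl p Q Y) (hc : Nat.card Q ≤ Nat.card P) : IsSyl p P Y :=
  hQ.of_card_le (hP.le.trans hXY) hP.isPGroup hc

/-- In a `p`-group, a proper subgroup is properly contained in its normalizer. -/
theorem exists_normalizing_gt {P Q : Subgroup G} (hP : IsPGroup p P) (hQP : Q < P) :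
    Q < P ⊓ Subgroup.normalizer (Q : Set G) := by
  haveI : Group.IsNilpotent P := hP.isNilpotent
  have h1 : Q.subgroupOf P < Subgroup.normalizer ((Q.subgroupOf P : Subgroup P) : Set P) := by
    apply Group.normalizerCondition_of_isNilpotent
    rw [lt_top_iff_ne_top]
    intro h
    rw [Subgroup.subgroupOf_eq_top] at h
    exact absurd h (not_le_of_gt hQP)
  have h2 := (Subgroup.map_lt_map_iff_of_injective P.subtype_injective).mpr h1
  rw [Subgroup.map_subgroupOf_eq_of_le hQP.le] at h2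
  refine lt_of_lt_of_le h2 ?_
  rintro _ ⟨x, hx, rfl⟩
  refine Subgroup.mem_inf.mpr ⟨x.2, ?_⟩
  rw [SetLike.mem_coe, Subgroup.mem_normalizer_iff] at hx
  rw [Subgroup.mem_normalizer_iff]
  intro y
  constructor
  · intro hy
    have := (hx ⟨y, hQP.le hy⟩).mp (Subgroup.mem_subgroupOf.mpr hy)
    exact Subgroup.mem_subgroupOf.mp this
  · intro hy
    have hyP : y ∈ P := by
      have h3 := P.mul_mem (P.mul_mem (P.inv_mem x.2) (hQP.le hy)) x.2
      simpa [mul_assoc] using h3
    have := (hx ⟨y, hyP⟩).mpr (Subgroup.mem_subgroupOf.mpr hy)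
    exact Subgroup.mem_subgroupOf.mp this

/-- If the `p`-subgroup `P` of `X` is Sylow in `Y` where `X ⊓ N(P) ≤ Y`, then it is Sylow in `X`. -/
theorem isSyl_of_normalizer_le {P X Y : Subgroup G} (hPX : P ≤ X) (hP : IsSyl p P Y)
    (hN : X ⊓ Subgroup.normalizer (P : Set G) ≤ Y) : IsSyl p P X := by
  obtain ⟨S, hS, hPS⟩ := exists_isSyl_ge hPX hP.isPGroup
  rcases eq_or_lt_of_le hPS with h | h
  · rw [h]; exact hS
  · exfalso
    have h1 := exists_normalizing_gt hS.isPGroup h
    have h2 : S ⊓ Subgroup.normalizer (P : Set G) ≤ Y :=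
      (inf_le_inf_right _ hS.le).trans hN
    have h3 := hP.eq_of_le h2 (hS.isPGroup.to_le inf_le_left) h1.le
    exact absurd h3 (ne_of_lt h1)

/-- Frattini argument in ambient form: if `N` is normal in `X` and `P` is a Sylow `p`-subgroup of
`N` then `X ≤ N ⊔ (X ⊓ N(P))`. -/
theorem le_sup_of_isSyl_normal {P N X : Subgroup G} (hNX : N ≤ X)
    (hn : X ≤ Subgroup.normalizer (N : Set G)) (hP : IsSyl p P N) :
    X ≤ N ⊔ (X ⊓ Subgroup.normalizer (P : Set G)) := by
  intro x hx
  have h1 : IsSyl p (P.map (MulAut.conj x).toMonoidHom) N := by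
    have hN : N.map (MulAut.conj x).toMonoidHom = N :=
      PiCoreOf.mem_normalizer_iff_conj.mp (hn hx)
    refine ⟨?_, hP.isPGroup.map _, ?_⟩
    · rw [← hN]; exact Subgroup.map_mono hP.le
    · have : (P.map (MulAut.conj x).toMonoidHom).relIndex N = P.relIndex N := by
        have h2 := card_mul_relIndex hP.le
        have h3 : P.map (MulAut.conj x).toMonoidHom ≤ N := by
          rw [← hN]; exact Subgroup.map_mono hP.le
        have h4 := card_mul_relIndex h3
        rw [Subgroup.card_map_of_injective (MulAut.conj x).injective, ← h2] at h4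
        exact Nat.eq_of_mul_eq_mul_left Nat.card_pos h4
      rw [this]
      exact hP.not_dvd
  obtain ⟨n, hn', hn2⟩ := h1.exists_conj hP
  have h3 : n * x ∈ Subgroup.normalizer (P : Set G) := by
    rw [PiCoreOf.mem_normalizer_iff_conj]
    rw [Subgroup.map_map] at hn2
    have h5 : (MulAut.conj (n * x)).toMonoidHom =
        (MulAut.conj n).toMonoidHom.comp (MulAut.conj x).toMonoidHom := by
      ext y; simp [mul_assoc]
    rw [h5, hn2]
  have h4 : n * x ∈ X ⊓ Subgroup.normalizer (P : Set G) :=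
    ⟨X.mul_mem (hNX hn') hx, h3⟩
  have : x = n⁻¹ * (n * x) := by group
  rw [this]
  exact Subgroup.mul_mem _ (Subgroup.mem_sup_left (N.inv_mem hn')) (Subgroup.mem_sup_right h4)

end Cfsg.Agent.OddOrderLocal.SylIn
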