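import Mathlib
import Cfsg.Prelude.Def_OddOrderLocal
set_option linter.all false

/-!
Basic facts about the Puig step, the Puig series, `L(G)` and `L_*(G)`.
-/

set_option autoImplicit false

namespace Cfsg.Agent.OddOrderLocal.Puig

open Cfsg

universe u

variable {G : Type u} [Group G]

/-- Membership form: an abelian subgroup normalised by `X` lies in `L_G(X)`. -/
theorem le_puigStep {X A : Subgroup G} (hA : IsMulCommutative A)
    (hX : X ≤ Subgroup.normalizer (A : Set G)) : A ≤ puigStep X :=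
  le_sSup ⟨hA, hX⟩

theorem puigStep_le {X Y : Subgroup G}
    (h : ∀ A : Subgroup G, IsMulCommutative A → X ≤ Subgroup.normalizer (A : Set G) → A ≤ Y) :
    puigStep X ≤ Y :=
  sSup_le fun A hA => h A hA.1 hA.2

/-- The Puig step reverses inclusions. -/
theorem puigStep_antitone : Antitone (puigStep : Subgroup G → Subgroup G) := by
  intro X Y hXY
  exact puigStep_le fun A hA hY => le_puigStep hA (hXY.trans hY)

theorem puigStep_bot : puigStep (⊥ : Subgroup G) = ⊤ := by
  rw [eq_top_iff]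
  intro g _
  have h : Subgroup.zpowers g ≤ puigStep (⊥ : Subgroup G) :=
    le_puigStep inferInstance bot_le
  exact h (Subgroup.mem_zpowers g)

theorem puigSeq_zero : puigSeq G 0 = ⊥ := rfl

theorem puigSeq_succ (n : ℕ) : puigSeq G (n + 1) = puigStep (puigSeq G n) := rfl

theorem puigSeq_one : puigSeq G 1 = ⊤ := puigStep_bot

/-- The basic zig-zag: `L_{2n} ≤ L_{2n+2} ≤ L_{2n+3} ≤ L_{2n+1}`. -/
theorem puigSeq_zigzag (n : ℕ) :
    puigSeq G (2 * n) ≤ puigSeq G (2 * n + 2) ∧ puigSeq G (2 * n + 2) ≤ puigSeq G (2 * n + 1) ∧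
      puigSeq G (2 * n + 3) ≤ puigSeq G (2 * n + 1) ∧ puigSeq G (2 * n) ≤ puigSeq G (2 * n + 1) := by
  induction n with
  | zero =>
    refine ⟨?_, ?_, ?_, ?_⟩
    · rw [Nat.mul_zero, puigSeq_zero]; exact bot_le
    · rw [Nat.mul_zero, Nat.zero_add, Nat.zero_add, puigSeq_one]; exact le_top
    · rw [Nat.mul_zero, Nat.zero_add, Nat.zero_add, puigSeq_one]; exact le_top
    · rw [Nat.mul_zero, puigSeq_zero]; exact bot_le
  | succ n ih =>
    obtain ⟨h1, h2, h3, h4⟩ := ih
    have e1 : puigSeq G (2 * (n + 1)) ≤ puigSeq G (2 * (n + 1) + 2) :=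
      puigStep_antitone h3
    have e4 : puigSeq G (2 * (n + 1)) ≤ puigSeq G (2 * (n + 1) + 1) :=
      puigStep_antitone h2
    have e2 : puigSeq G (2 * (n + 1) + 2) ≤ puigSeq G (2 * (n + 1) + 1) :=
      puigStep_antitone e4
    have e3 : puigSeq G (2 * (n + 1) + 3) ≤ puigSeq G (2 * (n + 1) + 1) :=
      puigStep_antitone e1
    exact ⟨e1, e2, e3, e4⟩

theorem puigSeq_even_monotone : Monotone fun n : ℕ => puigSeq G (2 * n) :=
  monotone_nat_of_le_succ fun n => (puigSeq_zigzag n).1

theorem puigSeq_odd_antitone : Antitone fun n : ℕ => puigSeq G (2 * n + 1) :=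
  antitone_nat_of_succ_le fun n => (puigSeq_zigzag n).2.2.1

theorem puigSeq_even_le_odd (n m : ℕ) : puigSeq G (2 * n) ≤ puigSeq G (2 * m + 1) := by
  have h1 : puigSeq G (2 * n) ≤ puigSeq G (2 * (max n m)) :=
    puigSeq_even_monotone (le_max_left n m)
  have h2 : puigSeq G (2 * (max n m)) ≤ puigSeq G (2 * (max n m) + 1) :=
    (puigSeq_zigzag _).2.2.2
  have h3 : puigSeq G (2 * (max n m) + 1) ≤ puigSeq G (2 * m + 1) :=
    puigSeq_odd_antitone (le_max_right n m)
  exact h1.trans (h2.trans h3)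

theorem puigLower_le_puigSubgroup : puigLower G ≤ puigSubgroup G :=
  iSup_le fun n => le_iInf fun m => puigSeq_even_le_odd n m

/-- In a finite group both subsequences of the Puig series are eventually constant. -/
theorem puigSeq_stabilizes [Finite G] :
    ∃ k : ℕ, ∀ n : ℕ, k ≤ n →
      puigSeq G (2 * n) = puigLower G ∧ puigSeq G (2 * n + 1) = puigSubgroup G := by
  obtain ⟨k1, h1⟩ := WellFoundedGT.monotone_chain_condition
    (⟨fun n : ℕ => puigSeq G (2 * n), puigSeq_even_monotone⟩ : ℕ →o Subgroup G)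
  obtain ⟨k2, h2⟩ := WellFoundedGT.monotone_chain_condition
    (⟨fun n : ℕ => OrderDual.toDual (puigSeq G (2 * n + 1)),
      fun _ _ h => puigSeq_odd_antitone h⟩ : ℕ →o (Subgroup G)ᵒᵈ)
  have h1' : ∀ m, k1 ≤ m → puigSeq G (2 * k1) = puigSeq G (2 * m) := fun m hm => h1 m hm
  have h2' : ∀ m, k2 ≤ m → puigSeq G (2 * k2 + 1) = puigSeq G (2 * m + 1) := fun m hm => h2 m hm
  refine ⟨max k1 k2, fun n hn => ⟨le_antisymm (le_iSup (fun n : ℕ => puigSeq G (2 * n)) n) ?_,
    le_antisymm ?_ (iInf_le (fun n : ℕ => puigSeq G (2 * n + 1)) n)⟩⟩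
  · refine iSup_le fun m => ?_
    have hk : k1 ≤ n := (le_max_left _ _).trans hn
    rw [← h1' n hk, h1' (max k1 m) (le_max_left _ _)]
    exact puigSeq_even_monotone (le_max_right _ _)
  · refine le_iInf fun m => ?_
    have hk : k2 ≤ n := (le_max_right _ _).trans hn
    rw [← h2' n hk, h2' (max k2 m) (le_max_left _ _)]
    exact puigSeq_odd_antitone (le_max_right _ _)

theorem puigStep_puigLower [Finite G] : puigStep (puigLower G) = puigSubgroup G := by
  obtain ⟨k, hk⟩ := puigSeq_stabilizes (G := G)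
  rw [← (hk k le_rfl).1, ← (hk k le_rfl).2, puigSeq_succ]

theorem puigStep_puigSubgroup [Finite G] : puigStep (puigSubgroup G) = puigLower G := by
  obtain ⟨k, hk⟩ := puigSeq_stabilizes (G := G)
  have h := (hk (k + 1) (Nat.le_succ k)).1
  rw [← (hk k le_rfl).2, ← puigSeq_succ, ← h]
  rfl

/-- Every abelian normal subgroup lies in every Puig step. -/
theorem normal_abelian_le_puigStep (X A : Subgroup G) [A.Normal] (hA : IsMulCommutative A) :
    A ≤ puigStep X :=
  le_puigStep hA (by rw [Subgroup.normalizer_eq_top]; exact le_top)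

theorem normal_abelian_le_puigSeq (A : Subgroup G) [A.Normal] (hA : IsMulCommutative A)
    {i : ℕ} (hi : 0 < i) : A ≤ puigSeq G i := by
  obtain ⟨j, rfl⟩ : ∃ j, i = j + 1 := ⟨i - 1, by omega⟩
  exact normal_abelian_le_puigStep _ A hA

theorem normal_abelian_le_puigSubgroup (A : Subgroup G) [A.Normal] (hA : IsMulCommutative A) :
    A ≤ puigSubgroup G :=
  le_iInf fun n => normal_abelian_le_puigSeq A hA (by omega)

theorem normal_abelian_le_puigLower (A : Subgroup G) [A.Normal] (hA : IsMulCommutative A) :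
    A ≤ puigLower G :=
  (normal_abelian_le_puigSeq A hA (i := 2 * 1) (by omega)).trans
    (le_iSup (fun n : ℕ => puigSeq G (2 * n)) 1)

end Cfsg.Agent.OddOrderLocal.Puig
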