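import Mathlib
import Cfsg.Prelude.Def_OddOrderLocal
import Cfsg.Agent.OddOrderLocal.Puig
import Cfsg.Agent.Lib.Cores
import Cfsg.Agent.Lib.NormalAbelian
import Cfsg.Agent.Lib.SylowNormalInf
set_option linter.all false

-- part: OddOrderLocal/PuigIn
section
/-!
The Puig series of a subgroup `S` of `G`, seen inside `G`: `stepIn S Y`, `seqIn S n`, `upperIn S` (= L(S)),
`lowerIn S` (= L_*(S)), their behaviour under homomorphisms injective on `S`, and the
fact that `L(S) ≤ H ≤ S` gives `L(H) = L(S)`.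
-/

set_option autoImplicit false

namespace Cfsg.Agent.OddOrderLocal.PuigIn

open Cfsg
open Cfsg.Agent.OddOrderLocal

universe u v

section Defs

variable {G : Type u} [Group G]

/-- The Puig step inside a subgroup `S` of `G`: the join of all abelian subgroups of `S` that are
normalised by `Y`. -/
def stepIn (S Y : Subgroup G) : Subgroup G :=
  sSup {A : Subgroup G | A ≤ S ∧ IsMulCommutative A ∧ Y ≤ Subgroup.normalizer (A : Set G)}

theorem stepIn_def (S Y : Subgroup G) : stepIn S Y =
    sSup {A : Subgroup G | A ≤ S ∧ IsMulCommutative A ∧ Y ≤ Subgroup.normalizer (A : Set G)} := rfl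

/-- The Puig series of `S` seen inside `G`. -/
def seqIn (S : Subgroup G) : ℕ → Subgroup G
  | 0 => ⊥
  | n + 1 => stepIn S (seqIn S n)

theorem seqIn_zero (S : Subgroup G) : seqIn S 0 = ⊥ := rfl

theorem seqIn_succ (S : Subgroup G) (n : ℕ) : seqIn S (n + 1) = stepIn S (seqIn S n) := rfl

/-- `L(S)` seen inside `G`. -/
def upperIn (S : Subgroup G) : Subgroup G := ⨅ n : ℕ, seqIn S (2 * n + 1)

theorem upperIn_def (S : Subgroup G) : upperIn S = ⨅ n : ℕ, seqIn S (2 * n + 1) := rfl

/-- `L_*(S)` seen inside `G`. -/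
def lowerIn (S : Subgroup G) : Subgroup G := ⨆ n : ℕ, seqIn S (2 * n)

theorem lowerIn_def (S : Subgroup G) : lowerIn S = ⨆ n : ℕ, seqIn S (2 * n) := rfl

theorem le_stepIn {S Y A : Subgroup G} (hS : A ≤ S) (hA : IsMulCommutative A)
    (hY : Y ≤ Subgroup.normalizer (A : Set G)) : A ≤ stepIn S Y :=
  le_sSup ⟨hS, hA, hY⟩

theorem stepIn_le_iff {S Y X : Subgroup G} : stepIn S Y ≤ X ↔
    ∀ A : Subgroup G, A ≤ S → IsMulCommutative A → Y ≤ Subgroup.normalizer (A : Set G) → A ≤ X := by
  refine ⟨fun h A h1 h2 h3 => (le_stepIn h1 h2 h3).trans h, fun h => sSup_le ?_⟩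
  rintro A ⟨h1, h2, h3⟩
  exact h A h1 h2 h3

theorem stepIn_le (S Y : Subgroup G) : stepIn S Y ≤ S :=
  stepIn_le_iff.mpr fun _ h _ _ => h

theorem stepIn_mono {S T X Y : Subgroup G} (hST : T ≤ S) (hXY : X ≤ Y) : stepIn T Y ≤ stepIn S X :=
  stepIn_le_iff.mpr fun _ h1 h2 h3 => le_stepIn (h1.trans hST) h2 (hXY.trans h3)

/-- If `stepIn S X ≤ H ≤ S` then `stepIn H X = stepIn S X`. -/
theorem stepIn_eq_of_le {S H X : Subgroup G} (hHS : H ≤ S) (h : stepIn S X ≤ H) :
    stepIn H X = stepIn S X :=
  le_antisymm (stepIn_mono hHS le_rfl)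
    (stepIn_le_iff.mpr fun _ h1 h2 h3 => le_stepIn ((le_stepIn h1 h2 h3).trans h) h2 h3)

theorem seqIn_le (S : Subgroup G) (n : ℕ) : seqIn S n ≤ S := by
  cases n with
  | zero => exact bot_le
  | succ n => exact stepIn_le _ _

theorem lowerIn_le (S : Subgroup G) : lowerIn S ≤ S := iSup_le fun _ => seqIn_le _ _

theorem upperIn_le (S : Subgroup G) : upperIn S ≤ S := (iInf_le _ 0).trans (seqIn_le _ _)

end Defs

section Map

variable {G : Type u} [Group G] {H : Type v} [Group H]

/-- The Puig step is compatible with injective homomorphisms. -/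
theorem map_puigStep (f : G →* H) (hf : Function.Injective f) (X : Subgroup G) :
    (puigStep X).map f = stepIn f.range (X.map f) := by
  apply le_antisymm
  · rw [Subgroup.map_le_iff_le_comap]
    refine Puig.puigStep_le fun A hA hX => ?_
    rw [← Subgroup.map_le_iff_le_comap]
    refine le_stepIn (Subgroup.map_le_range f A) ?_ ?_
    · exact Subgroup.map_isMulCommutative A f
    · exact (Subgroup.map_mono hX).trans (Subgroup.le_normalizer_map f)
  · refine stepIn_le_iff.mpr fun A hA hc hX => ?_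
    have hAm : (A.comap f).map f = A := Subgroup.map_comap_eq_self hA
    rw [← hAm]
    refine Subgroup.map_mono (Puig.le_puigStep ?_ ?_)
    · exact Subgroup.comap_injective_isMulCommutative A hf
    · intro x hx
      have h1 : f x ∈ Subgroup.normalizer (A : Set H) := hX (Subgroup.mem_map_of_mem f hx)
      rw [Subgroup.mem_normalizer_iff] at h1 ⊢
      intro y
      rw [Subgroup.mem_comap, Subgroup.mem_comap, h1 (f y), map_mul, map_mul, map_inv]

theorem map_puigSeq (f : G →* H) (hf : Function.Injective f) (n : ℕ) :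
    (puigSeq G n).map f = seqIn f.range n := by
  induction n with
  | zero => rw [Puig.puigSeq_zero, seqIn_zero, Subgroup.map_bot]
  | succ n ih => rw [Puig.puigSeq_succ, seqIn_succ, map_puigStep f hf, ih]

theorem map_puigSubgroup (f : G →* H) (hf : Function.Injective f) :
    (puigSubgroup G).map f = upperIn f.range := by
  have h : puigSubgroup G = ⨅ n : ℕ, puigSeq G (2 * n + 1) := rfl
  rw [h, Subgroup.map_iInf f hf, upperIn_def]
  exact iInf_congr fun n => map_puigSeq f hf _

theorem map_puigLower (f : G →* H) (hf : Function.Injective f) :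
    (puigLower G).map f = lowerIn f.range := by
  have h : puigLower G = ⨆ n : ℕ, puigSeq G (2 * n) := rfl
  rw [h, Subgroup.map_iSup, lowerIn_def]
  exact iSup_congr fun n => map_puigSeq f hf _

theorem map_subtype_puigStep (S : Subgroup G) (X : Subgroup S) :
    (puigStep X).map S.subtype = stepIn S (X.map S.subtype) := by
  rw [map_puigStep S.subtype S.subtype_injective, Subgroup.range_subtype]

theorem map_subtype_puigSeq (S : Subgroup G) (n : ℕ) :
    (puigSeq S n).map S.subtype = seqIn S n := by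
  rw [map_puigSeq S.subtype S.subtype_injective, Subgroup.range_subtype]

theorem map_subtype_puigSubgroup (S : Subgroup G) :
    (puigSubgroup S).map S.subtype = upperIn S := by
  rw [map_puigSubgroup S.subtype S.subtype_injective, Subgroup.range_subtype]

theorem map_subtype_puigLower (S : Subgroup G) :
    (puigLower S).map S.subtype = lowerIn S := by
  rw [map_puigLower S.subtype S.subtype_injective, Subgroup.range_subtype]

theorem injective_comp_subtype {S : Subgroup G} (f : G →* H)
    (hf : ∀ x ∈ S, f x = 1 → x = 1) : Function.Injective (f.comp S.subtype) := by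
  rw [injective_iff_map_eq_one]
  intro a ha
  exact Subtype.ext (hf a a.2 ha)

theorem range_comp_subtype (S : Subgroup G) (f : G →* H) : (f.comp S.subtype).range = S.map f := by
  rw [MonoidHom.range_eq_map, ← Subgroup.map_map, ← MonoidHom.range_eq_map, Subgroup.range_subtype]

theorem map_seqIn {S : Subgroup G} (f : G →* H) (hf : ∀ x ∈ S, f x = 1 → x = 1) (n : ℕ) :
    (seqIn S n).map f = seqIn (S.map f) n := by
  rw [← map_subtype_puigSeq, Subgroup.map_map, map_puigSeq _ (injective_comp_subtype f hf),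
    range_comp_subtype]

theorem map_upperIn {S : Subgroup G} (f : G →* H) (hf : ∀ x ∈ S, f x = 1 → x = 1) :
    (upperIn S).map f = upperIn (S.map f) := by
  rw [← map_subtype_puigSubgroup, Subgroup.map_map, map_puigSubgroup _ (injective_comp_subtype f hf),
    range_comp_subtype]

theorem map_lowerIn {S : Subgroup G} (f : G →* H) (hf : ∀ x ∈ S, f x = 1 → x = 1) :
    (lowerIn S).map f = lowerIn (S.map f) := by
  rw [← map_subtype_puigLower, Subgroup.map_map, map_puigLower _ (injective_comp_subtype f hf),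
    range_comp_subtype]

/-- The centre of a subgroup `K` of `S`, seen in `G`, under a homomorphism injective on `S`. -/
theorem map_center_map {S : Subgroup G} (K : Subgroup S) (f : G →* H)
    (hf : ∀ x ∈ S, f x = 1 → x = 1) :
    ((((Subgroup.center K).map K.subtype).map S.subtype).map f : Subgroup H) =
      ((K.map S.subtype).map f) ⊓ Subgroup.centralizer ((K.map S.subtype).map f : Set H) := by
  apply le_antisymm
  · rintro _ ⟨_, ⟨_, ⟨z, hz, rfl⟩, rfl⟩, rfl⟩
    refine ⟨⟨_, ⟨_, z.2, rfl⟩, rfl⟩, Subgroup.mem_centralizer_iff.mpr ?_⟩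
    rintro _ ⟨_, ⟨y, hy, rfl⟩, rfl⟩
    have h1 := Subgroup.mem_center_iff.mp hz ⟨y, hy⟩
    have h2 : y * (z : S) = z * y := congrArg Subtype.val h1
    have h3 : (y : G) * ((z : S) : G) = ((z : S) : G) * y := congrArg Subtype.val h2
    have h4 := congrArg f h3
    rw [map_mul, map_mul] at h4
    exact h4
  · rintro _ ⟨⟨_, ⟨z, hz, rfl⟩, rfl⟩, hc⟩
    refine ⟨_, ⟨_, ⟨⟨z, hz⟩, ?_, rfl⟩, rfl⟩, rfl⟩
    rw [SetLike.mem_coe, Subgroup.mem_center_iff]
    rintro ⟨y, hy⟩
    have h1 := Subgroup.mem_centralizer_iff.mp hc _ ⟨_, ⟨y, hy, rfl⟩, rfl⟩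
    have hinj := injective_comp_subtype f hf
    apply Subtype.ext
    change y * z = z * y
    apply hinj
    rw [map_mul, map_mul]
    exact h1

theorem map_center {S : Subgroup G} (K : Subgroup S) :
    (((Subgroup.center K).map K.subtype).map S.subtype : Subgroup G) =
      (K.map S.subtype) ⊓ Subgroup.centralizer (K.map S.subtype : Set G) := by
  have h := map_center_map K (MonoidHom.id G) (fun x _ hx => hx)
  rwa [Subgroup.map_id, Subgroup.map_id] at h

end Map

section Basic

variable {G : Type u} [Group G]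

theorem lowerIn_le_upperIn (S : Subgroup G) : lowerIn S ≤ upperIn S := by
  rw [← map_subtype_puigLower, ← map_subtype_puigSubgroup]
  exact Subgroup.map_mono Puig.puigLower_le_puigSubgroup

theorem seqIn_stabilizes [Finite G] (S : Subgroup G) :
    ∃ k : ℕ, ∀ n : ℕ, k ≤ n → seqIn S (2 * n) = lowerIn S ∧ seqIn S (2 * n + 1) = upperIn S := by
  obtain ⟨k, hk⟩ := Puig.puigSeq_stabilizes (G := S)
  refine ⟨k, fun n hn => ?_⟩
  rw [← map_subtype_puigSeq, ← map_subtype_puigSeq, (hk n hn).1, (hk n hn).2,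
    map_subtype_puigLower, map_subtype_puigSubgroup]
  exact ⟨rfl, rfl⟩

theorem stepIn_lowerIn [Finite G] (S : Subgroup G) : stepIn S (lowerIn S) = upperIn S := by
  rw [← map_subtype_puigLower, ← map_subtype_puigStep, Puig.puigStep_puigLower,
    map_subtype_puigSubgroup]

theorem stepIn_upperIn [Finite G] (S : Subgroup G) : stepIn S (upperIn S) = lowerIn S := by
  rw [← map_subtype_puigSubgroup, ← map_subtype_puigStep, Puig.puigStep_puigSubgroup,
    map_subtype_puigLower]

theorem lowerIn_le_seqIn_odd (S : Subgroup G) (n : ℕ) : lowerIn S ≤ seqIn S (2 * n + 1) :=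
  (lowerIn_le_upperIn S).trans (iInf_le (fun n : ℕ => seqIn S (2 * n + 1)) n)

/-- An abelian subgroup of `S` normalised by `S` lies in `L_*(S)`. -/
theorem normal_abelian_le_lowerIn {S A : Subgroup G} (hAS : A ≤ S) (hA : IsMulCommutative A)
    (hn : S ≤ Subgroup.normalizer (A : Set G)) : A ≤ lowerIn S := by
  refine le_trans ?_ (le_iSup (fun n : ℕ => seqIn S (2 * n)) 1)
  exact le_stepIn hAS hA ((seqIn_le S 1).trans hn)

/-- If `L(S) ≤ H ≤ S` then `L(H) = L(S)` and `L_*(H) = L_*(S)`. -/
theorem upperIn_eq_of_le [Finite G] {S H : Subgroup G} (hHS : H ≤ S) (hL : upperIn S ≤ H) :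
    upperIn H = upperIn S ∧ lowerIn H = lowerIn S := by
  -- first half
  have key1 : ∀ n : ℕ, seqIn H (2 * n) ≤ lowerIn S ∧ upperIn S ≤ seqIn H (2 * n + 1) := by
    have hodd : ∀ X : Subgroup G, X ≤ lowerIn S → upperIn S ≤ stepIn H X := by
      intro X hX
      have h1 : stepIn H (lowerIn S) = upperIn S := by
        rw [stepIn_eq_of_le hHS (by rw [stepIn_lowerIn]; exact hL), stepIn_lowerIn]
      rw [← h1]
      exact stepIn_mono le_rfl hX
    intro n
    induction n with
    | zero => exact ⟨bot_le, hodd _ bot_le⟩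
    | succ n ih =>
      have h2 : seqIn H (2 * (n + 1)) ≤ lowerIn S := by
        rw [← stepIn_upperIn]
        exact stepIn_mono hHS ih.2
      exact ⟨h2, hodd _ h2⟩
  have key2 : ∀ n : ℕ, seqIn S (2 * n) ≤ seqIn H (2 * n) ∧
      seqIn H (2 * n + 1) ≤ seqIn S (2 * n + 1) := by
    intro n
    induction n with
    | zero => exact ⟨bot_le, stepIn_mono hHS bot_le⟩
    | succ n ih =>
      have h3 : seqIn S (2 * (n + 1)) ≤ seqIn H (2 * (n + 1)) := by
        change stepIn S (seqIn S (2 * n + 1)) ≤ stepIn H (seqIn H (2 * n + 1))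
        have h4 : stepIn S (seqIn H (2 * n + 1)) ≤ H := by
          refine le_trans (stepIn_mono le_rfl (key1 n).2) ?_
          rw [stepIn_upperIn]
          exact (lowerIn_le_upperIn S).trans hL
        rw [stepIn_eq_of_le hHS h4]
        exact stepIn_mono le_rfl ih.2
      exact ⟨h3, stepIn_mono hHS h3⟩
  constructor
  · exact le_antisymm (iInf_mono fun n => (key2 n).2) (le_iInf fun n => (key1 n).2)
  · exact le_antisymm (iSup_le fun n => (key1 n).1) (iSup_mono fun n => (key2 n).1)

/-- Whatever normalises `S` normalises `L(S)`. -/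
theorem normalizer_le_normalizer_upperIn (S : Subgroup G) :
    Subgroup.normalizer (S : Set G) ≤ Subgroup.normalizer (upperIn S : Set G) := by
  intro g hg
  have h1 : S.map (MulAut.conj g).toMonoidHom = S := by
    rw [Subgroup.mem_normalizer_iff_conj_image_eq] at hg
    exact SetLike.coe_injective hg
  rw [Subgroup.mem_normalizer_iff_conj_image_eq]
  have h2 := map_upperIn (S := S) (MulAut.conj g).toMonoidHom
    (fun x _ hx => (MulAut.conj g).injective (hx.trans (map_one _).symm))
  rw [h1] at h2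
  exact congrArg (fun K : Subgroup G => (K : Set G)) h2

theorem normalizer_le_normalizer_seqIn (S : Subgroup G) (n : ℕ) :
    Subgroup.normalizer (S : Set G) ≤ Subgroup.normalizer (seqIn S n : Set G) := by
  intro g hg
  have h1 : S.map (MulAut.conj g).toMonoidHom = S := by
    rw [Subgroup.mem_normalizer_iff_conj_image_eq] at hg
    exact SetLike.coe_injective hg
  rw [Subgroup.mem_normalizer_iff_conj_image_eq]
  have h2 := map_seqIn (S := S) (MulAut.conj g).toMonoidHom
    (fun x _ hx => (MulAut.conj g).injective (hx.trans (map_one _).symm)) n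
  rw [h1] at h2
  exact congrArg (fun K : Subgroup G => (K : Set G)) h2

end Basic

end Cfsg.Agent.OddOrderLocal.PuigIn
end

-- part: OddOrderLocal/PuigMain
section
/-!
Puig's theorem (Bender-Glauberman, Appendix B), derived from two consequences of `p`-stability
(B-G, Theorem A.5) which enter as hypotheses.
-/

set_option autoImplicit false

namespace Cfsg.Agent.OddOrderLocal.PuigMain

open Cfsg
open Cfsg.Agent.OddOrderLocal
open Cfsg.Agent.OddOrderLocal.PuigIn

variable {G : Type*} [Group G] [Finite G] {p : ℕ} [Fact p.Prime]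

/-- A `p`-subgroup `S` has an abelian subgroup normalised by `S` and self-centralising in `S`. -/
theorem exists_selfCentralizing (S : Subgroup G) (hS : IsPGroup p S) :
    ∃ A : Subgroup G, A ≤ S ∧ IsMulCommutative A ∧ S ≤ Subgroup.normalizer (A : Set G) ∧
      S ⊓ Subgroup.centralizer (A : Set G) ≤ A := by
  have hnil : Group.IsNilpotent S := hS.isNilpotent
  obtain ⟨A, hA, hAc, hAA⟩ :=
    Cfsg.Agent.Lib.NormalAbelian.exists_normal_abelian_selfCentralizing (G := S)
  refine ⟨A.map S.subtype, Subgroup.map_subtype_le A, Subgroup.map_isMulCommutative A S.subtype,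
    ?_, ?_⟩
  · have h1 := Subgroup.le_normalizer_map (H := A) S.subtype
    rw [Subgroup.normalizer_eq_top, ← MonoidHom.range_eq_map, Subgroup.range_subtype] at h1
    exact h1
  · rintro x ⟨hxS, hxC⟩
    have h2 : (⟨x, hxS⟩ : S) ∈ Subgroup.centralizer (A : Set S) := by
      rw [Subgroup.mem_centralizer_iff]
      intro y hy
      have h3 := Subgroup.mem_centralizer_iff.mp hxC (y : G) ⟨y, hy, rfl⟩
      exact Subtype.ext h3
    rw [hAA] at h2
    exact ⟨_, h2, rfl⟩

omit [Finite G] in
theorem inf_centralizer_le {S X A : Subgroup G} (hA : S ⊓ Subgroup.centralizer (A : Set G) ≤ A)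
    (hAX : A ≤ X) : S ⊓ Subgroup.centralizer (X : Set G) ≤ X :=
  le_trans (le_inf inf_le_left (inf_le_right.trans (Subgroup.centralizer_le hAX))) (hA.trans hAX)

/-- `C_S(L_i(S)) ≤ L_i(S)` for `i > 0`. -/
theorem inf_centralizer_seqIn_le {S : Subgroup G} (hS : IsPGroup p S) (n : ℕ) :
    S ⊓ Subgroup.centralizer (seqIn S (n + 1) : Set G) ≤ seqIn S (n + 1) := by
  obtain ⟨A, h1, h2, h3, h4⟩ := exists_selfCentralizing S hS
  exact inf_centralizer_le h4 (le_stepIn h1 h2 ((seqIn_le S n).trans h3))

/-- `C_S(L_*(S)) ≤ L_*(S)`. -/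
theorem inf_centralizer_lowerIn_le {S : Subgroup G} (hS : IsPGroup p S) :
    S ⊓ Subgroup.centralizer (lowerIn S : Set G) ≤ lowerIn S := by
  obtain ⟨A, h1, h2, h3, h4⟩ := exists_selfCentralizing S hS
  exact inf_centralizer_le h4 (normal_abelian_le_lowerIn h1 h2 h3)

omit [Finite G] in
theorem normal_of_normalizer_le {T X : Subgroup G} [T.Normal]
    (h : Subgroup.normalizer (T : Set G) ≤ Subgroup.normalizer (X : Set G)) : X.Normal := by
  rw [← Subgroup.normalizer_eq_top_iff, eq_top_iff]
  rwa [Subgroup.normalizer_eq_top T] at h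

omit [Finite G] in
theorem normalizer_le_normalizer_centralizer (X : Subgroup G) :
    Subgroup.normalizer (X : Set G) ≤
      Subgroup.normalizer (Subgroup.centralizer (X : Set G) : Set G) := by
  have key : ∀ g ∈ Subgroup.normalizer (X : Set G), ∀ y ∈ Subgroup.centralizer (X : Set G),
      g * y * g⁻¹ ∈ Subgroup.centralizer (X : Set G) := by
    intro g hg y hy
    rw [Subgroup.mem_centralizer_iff]
    intro x hx
    have h1 : g⁻¹ * x * g⁻¹⁻¹ ∈ X :=
      (Subgroup.mem_normalizer_iff.mp ((Subgroup.normalizer (X : Set G)).inv_mem hg) x).mp hx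
    have h2 := Subgroup.mem_centralizer_iff.mp hy _ h1
    have h3 : g * (g⁻¹ * x * g⁻¹⁻¹ * y) * g⁻¹ = g * (y * (g⁻¹ * x * g⁻¹⁻¹)) * g⁻¹ := by rw [h2]
    calc x * (g * y * g⁻¹) = g * (g⁻¹ * x * g⁻¹⁻¹ * y) * g⁻¹ := by group
      _ = g * (y * (g⁻¹ * x * g⁻¹⁻¹)) * g⁻¹ := h3
      _ = g * y * g⁻¹ * x := by group
  intro g hg
  rw [Subgroup.mem_normalizer_iff]
  intro y
  refine ⟨key g hg y, fun h => ?_⟩
  have h4 := key g⁻¹ ((Subgroup.normalizer (X : Set G)).inv_mem hg) _ h
  have h5 : g⁻¹ * (g * y * g⁻¹) * g⁻¹⁻¹ = y := by group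
  rwa [h5] at h4

/-- B-G, Lemma B.3, from Theorem A.5(b). -/
theorem seqIn_compare (S : Sylow p G)
    (h2 : ∀ P : Subgroup G, P.Normal → IsPGroup p P →
      pCore p G ⊓ Subgroup.centralizer (P : Set G) ≤ P →
      ∀ F : Set (Subgroup G), (∀ B ∈ F, IsMulCommutative B ∧ IsPGroup p B ∧
        P ≤ Subgroup.normalizer (B : Set G)) → sSup F ≤ pCore p G) (k : ℕ) :
    seqIn (S : Subgroup G) (2 * k) ≤ seqIn (pCore p G) (2 * k) ∧
      seqIn (pCore p G) (2 * k + 1) ≤ seqIn (S : Subgroup G) (2 * k + 1) := by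
  have hTS : pCore p G ≤ (S : Subgroup G) := Cfsg.Agent.Lib.Cores.pCore_le_sylow S
  have hT : IsPGroup p (pCore p G) := Cfsg.Agent.Lib.Cores.pCore_isPGroup p
  have : (pCore p G).Normal := Cfsg.Agent.Lib.Cores.pCore_normal p
  induction k with
  | zero => exact ⟨bot_le, stepIn_mono hTS bot_le⟩
  | succ k ih =>
    have hN : (seqIn (pCore p G) (2 * k + 1)).Normal :=
      normal_of_normalizer_le (normalizer_le_normalizer_seqIn (pCore p G) (2 * k + 1))
    have hle : seqIn (S : Subgroup G) (2 * (k + 1)) ≤ pCore p G := by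
      refine h2 (seqIn (pCore p G) (2 * k + 1)) hN
        (hT.to_le (seqIn_le _ _)) (inf_centralizer_seqIn_le hT (2 * k)) _ ?_
      rintro B ⟨hB1, hB2, hB3⟩
      exact ⟨hB2, S.isPGroup'.to_le hB1, ih.2.trans hB3⟩
    have h3 : seqIn (S : Subgroup G) (2 * (k + 1)) ≤ seqIn (pCore p G) (2 * (k + 1)) := by
      refine stepIn_le_iff.mpr fun A hA1 hA2 hA3 => le_stepIn ?_ hA2 (ih.2.trans hA3)
      exact (le_stepIn hA1 hA2 hA3).trans hle
    exact ⟨h3, stepIn_mono hTS h3⟩

theorem lowerIn_le_upperIn_compare (S : Sylow p G)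
    (h2 : ∀ P : Subgroup G, P.Normal → IsPGroup p P →
      pCore p G ⊓ Subgroup.centralizer (P : Set G) ≤ P →
      ∀ F : Set (Subgroup G), (∀ B ∈ F, IsMulCommutative B ∧ IsPGroup p B ∧
        P ≤ Subgroup.normalizer (B : Set G)) → sSup F ≤ pCore p G) :
    lowerIn (S : Subgroup G) ≤ lowerIn (pCore p G) ∧
      upperIn (pCore p G) ≤ upperIn (S : Subgroup G) :=
  ⟨iSup_mono fun k => (seqIn_compare S h2 k).1, iInf_mono fun k => (seqIn_compare S h2 k).2⟩

/-- B-G, Theorem B.4(b), in abstract form. -/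
theorem center_upperIn_normal (S : Sylow p G)
    (h1 : ∀ P : Subgroup G, P.Normal → IsPGroup p P →
      ∀ F : Set (Subgroup G), (∀ B ∈ F, IsMulCommutative B ∧ IsPGroup p B ∧
        P ≤ Subgroup.normalizer (B : Set G)) →
      ∃ C : Subgroup G, C.Normal ∧ sSup F ≤ C ∧
        ∀ x ∈ C, ∃ k : ℕ, x ^ p ^ k ∈ Subgroup.centralizer (P : Set G))
    (hl : lowerIn (S : Subgroup G) ≤ lowerIn (pCore p G))
    (hu : upperIn (pCore p G) ≤ upperIn (S : Subgroup G)) :
    (upperIn (S : Subgroup G) ⊓
      Subgroup.centralizer (upperIn (S : Subgroup G) : Set G)).Normal := by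
  have hTn : (pCore p G).Normal := Cfsg.Agent.Lib.Cores.pCore_normal p
  have hT : IsPGroup p (pCore p G) := Cfsg.Agent.Lib.Cores.pCore_isPGroup p
  have hLTn : (upperIn (pCore p G)).Normal :=
    normal_of_normalizer_le (normalizer_le_normalizer_upperIn (pCore p G))
  -- the normal abelian subgroup Y = Z(L(T))
  obtain ⟨Y, hYdef⟩ : ∃ Y : Subgroup G, Y = upperIn (pCore p G) ⊓
    Subgroup.centralizer (upperIn (pCore p G) : Set G) := ⟨_, rfl⟩
  have hYn : Y.Normal := by
    rw [hYdef]
    have : (Subgroup.centralizer (upperIn (pCore p G) : Set G)).Normal := inferInstance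
    exact Subgroup.normal_inf_normal _ _
  have hYT : Y ≤ pCore p G := by
    rw [hYdef]; exact inf_le_left.trans (upperIn_le _)
  have hYp : IsPGroup p Y := hT.to_le hYT
  have hYc : IsMulCommutative Y := by
    refine ⟨⟨fun a b => Subtype.ext ?_⟩⟩
    have ha : (a : G) ∈ upperIn (pCore p G) ⊓
      Subgroup.centralizer (upperIn (pCore p G) : Set G) := hYdef ▸ a.2
    have hb : (b : G) ∈ upperIn (pCore p G) ⊓
      Subgroup.centralizer (upperIn (pCore p G) : Set G) := hYdef ▸ b.2
    exact (Subgroup.mem_centralizer_iff.mp hb.2 (a : G) ha.1)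
  have hYS : Y ≤ (S : Subgroup G) := hYT.trans (Cfsg.Agent.Lib.Cores.pCore_le_sylow S)
  have hYl : Y ≤ lowerIn (S : Subgroup G) :=
    normal_abelian_le_lowerIn hYS hYc (by rw [Subgroup.normalizer_eq_top]; exact le_top)
  -- Z(L(S)) ≤ Y
  have hZY : upperIn (S : Subgroup G) ⊓ Subgroup.centralizer (upperIn (S : Subgroup G) : Set G) ≤ Y := by
    rw [hYdef]
    refine le_inf ?_ (inf_le_right.trans (Subgroup.centralizer_le hu))
    calc upperIn (S : Subgroup G) ⊓ Subgroup.centralizer (upperIn (S : Subgroup G) : Set G)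
        ≤ (S : Subgroup G) ⊓ Subgroup.centralizer (lowerIn (S : Subgroup G) : Set G) :=
          inf_le_inf (upperIn_le _) (Subgroup.centralizer_le (lowerIn_le_upperIn _))
      _ ≤ lowerIn (S : Subgroup G) := inf_centralizer_lowerIn_le S.isPGroup'
      _ ≤ lowerIn (pCore p G) := hl
      _ ≤ upperIn (pCore p G) := lowerIn_le_upperIn _
  -- p-stability
  obtain ⟨C, hCn, hSC, hC⟩ := h1 Y hYn hYp
    {A : Subgroup G | A ≤ (S : Subgroup G) ∧ IsMulCommutative A ∧
      lowerIn (S : Subgroup G) ≤ Subgroup.normalizer (A : Set G)}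
    (fun B hB => ⟨hB.2.1, S.isPGroup'.to_le hB.1, hYl.trans hB.2.2⟩)
  have hLC : upperIn (S : Subgroup G) ≤ C := by
    rw [← stepIn_lowerIn]
    exact hSC
  have hLH : upperIn (S : Subgroup G) ≤ (S : Subgroup G) ⊓ C := le_inf (upperIn_le _) hLC
  have heq : upperIn ((S : Subgroup G) ⊓ C) = upperIn (S : Subgroup G) :=
    (upperIn_eq_of_le inf_le_left hLH).1
  -- whatever normalises L(S) normalises Z(L(S))
  have hNN : Subgroup.normalizer (upperIn (S : Subgroup G) : Set G) ≤
      Subgroup.normalizer ((upperIn (S : Subgroup G) ⊓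
        Subgroup.centralizer (upperIn (S : Subgroup G) : Set G) : Subgroup G) : Set G) := by
    refine le_trans (le_inf le_rfl ?_) Subgroup.inf_normalizer_le_normalizer_inf
    exact normalizer_le_normalizer_centralizer _
  have hSN : (S : Subgroup G) ≤ Subgroup.normalizer (upperIn (S : Subgroup G) : Set G) :=
    Subgroup.le_normalizer.trans (normalizer_le_normalizer_upperIn (S : Subgroup G))
  have hYcent : Subgroup.centralizer (Y : Set G) ≤
      Subgroup.normalizer ((upperIn (S : Subgroup G) ⊓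
        Subgroup.centralizer (upperIn (S : Subgroup G) : Set G) : Subgroup G) : Set G) :=
    (Subgroup.centralizer_le hZY).trans (Subgroup.centralizer_le_normalizer _)
  have hCle : C ≤ Subgroup.normalizer ((upperIn (S : Subgroup G) ⊓
        Subgroup.centralizer (upperIn (S : Subgroup G) : Set G) : Subgroup G) : Set G) := by
    refine (Cfsg.Agent.Lib.SylowNormalInf.le_sup_inf S C (Subgroup.centralizer (Y : Set G)) hC).trans
      (sup_le hYcent ?_)
    exact inf_le_left.trans (hSN.trans hNN)
  rw [← Subgroup.normalizer_eq_top_iff, eq_top_iff,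
    ← Cfsg.Agent.Lib.SylowNormalInf.normalizer_inf_sup_eq_top S C]
  refine sup_le ?_ hCle
  refine le_trans ?_ hNN
  have h3 := normalizer_le_normalizer_upperIn ((S : Subgroup G) ⊓ C)
  rwa [heq] at h3

end Cfsg.Agent.OddOrderLocal.PuigMain
end
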