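import Mathlib
import Cfsg.Prelude.Def_Solvable
import Cfsg.Agent.Lib.SolvableNormalP
set_option linter.all false

-- part: OddOrderLocal/BaerSuzukiSolvable
section
/-!
# The Baer–Suzuki theorem for finite solvable groups
-/

set_option autoImplicit false

namespace Cfsg.Agent.OddOrderLocal.BaerSuzukiSolvable

open Subgroup Cfsg.Agent.Lib.SolvableNormalP

/-- Baer–Suzuki for solvable groups: if `x` generates a `p`-group with each of its conjugates, then
`x` lies in a normal `p`-subgroup. -/
theorem exists_normal_of_solvable {G : Type*} [Group G] [Finite G] [hs : Group.IsSolvable G]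
    {p : ℕ} [hp : Fact p.Prime] (x : G)
    (h : ∀ g : G, IsPGroup p (Subgroup.closure {x, g * x * g⁻¹} : Subgroup G)) :
    ∃ N : Subgroup G, N.Normal ∧ IsPGroup p N ∧ x ∈ N := by
  revert hs x
  refine card_strong_induction (motive := fun G _ _ => ∀ [hs : Group.IsSolvable G] (x : G),
    (∀ g : G, IsPGroup p (Subgroup.closure {x, g * x * g⁻¹} : Subgroup G)) →
    ∃ N : Subgroup G, N.Normal ∧ IsPGroup p N ∧ x ∈ N) ?_ G
  intro G _ _ IH hs x h
  rcases subsingleton_or_nontrivial G with hsub | hnt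
  · exact ⟨⊥, inferInstance, IsPGroup.of_bot, by rw [mem_bot]; exact Subsingleton.elim _ _⟩
  obtain ⟨r, R, hr, hRn, hRr, hRc, hR⟩ := exists_normal_pSubgroup G
  have : Fact r.Prime := ⟨hr⟩
  -- the quotient
  obtain ⟨N, hN, hNp, hxN⟩ := IH (G ⧸ R) (card_quotient_lt hR) (x : G ⧸ R) (by
    intro g
    obtain ⟨g, rfl⟩ := QuotientGroup.mk_surjective g
    have h1 := (h g).map (QuotientGroup.mk' R)
    rw [MonoidHom.map_closure] at h1
    have h2 : (QuotientGroup.mk' R) '' {x, g * x * g⁻¹} =
        {(x : G ⧸ R), (g : G ⧸ R) * (x : G ⧸ R) * (g : G ⧸ R)⁻¹} := by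
      rw [Set.image_pair]; rfl
    rwa [h2] at h1)
  set K : Subgroup G := N.comap (QuotientGroup.mk' R) with hK
  have hKn : K.Normal := inferInstance
  have hxK : x ∈ K := hxN
  have hRK : R ≤ K := fun y hy => by
    rw [hK, mem_comap]
    have : (QuotientGroup.mk' R) y = 1 := by
      rw [QuotientGroup.mk'_apply]; exact (QuotientGroup.eq_one_iff y).mpr hy
    rw [this]; exact one_mem _
  by_cases hrp : r = p
  · subst hrp
    refine ⟨K, hKn, ?_, hxK⟩
    refine hNp.comap_of_ker_isPGroup (QuotientGroup.mk' R) ?_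
    rw [QuotientGroup.ker_mk']; exact hRr
  · -- `x` centralizes `R`
    have hxR : ∀ n ∈ R, Commute x n := by
      intro n hn
      have hc1 : x * n * x⁻¹ * n⁻¹ ∈ R :=
        mul_mem (hRn.conj_mem n hn x) (inv_mem hn)
      have hc2 : x * n * x⁻¹ * n⁻¹ ∈ Subgroup.closure {x, n * x * n⁻¹} := by
        have : x * n * x⁻¹ * n⁻¹ = x * (n * x * n⁻¹)⁻¹ := by group
        rw [this]
        exact mul_mem (subset_closure (Set.mem_insert _ _))
          (inv_mem (subset_closure (Set.mem_insert_of_mem _ rfl)))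
      obtain ⟨k, hk⟩ := hRr ⟨_, hc1⟩
      obtain ⟨m, hm⟩ := h n ⟨_, hc2⟩
      have hk' : (x * n * x⁻¹ * n⁻¹) ^ r ^ k = 1 := by
        simpa using congrArg Subtype.val hk
      have hm' : (x * n * x⁻¹ * n⁻¹) ^ p ^ m = 1 := by
        simpa using congrArg Subtype.val hm
      have hcop : Nat.gcd (r ^ k) (p ^ m) = 1 :=
        Nat.Coprime.pow _ _ ((Nat.coprime_primes hr hp.out).mpr hrp)
      have h1 : (x * n * x⁻¹ * n⁻¹) ^ Nat.gcd (r ^ k) (p ^ m) = 1 := pow_gcd_eq_one.mpr ⟨hk', hm'⟩
      rw [hcop, pow_one] at h1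
      rw [Commute, SemiconjBy]
      have h2 : x * n * x⁻¹ = n := by rwa [mul_inv_eq_one] at h1
      rwa [mul_inv_eq_iff_eq_mul] at h2
    set C : Subgroup G := K ⊓ centralizer (R : Set G) with hC
    have hCn : C.Normal := inferInstance
    have hxC : x ∈ C := mem_inf.mpr ⟨hxK, mem_centralizer_iff.mpr fun n hn => ((hxR n hn).eq).symm⟩
    let f : C →* N := ((QuotientGroup.mk' R).comp C.subtype).codRestrict N (fun c => c.2.1)
    have hnil : Group.IsNilpotent C := by
      have : Group.IsNilpotent N := hNp.isNilpotent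
      refine Subgroup.isNilpotent_of_ker_le_center f ?_
      intro c hc
      have h1 : (QuotientGroup.mk' R) (c : G) = 1 := congrArg Subtype.val (MonoidHom.mem_ker.mp hc)
      have h2 : (c : G) ∈ R := by
        rw [QuotientGroup.mk'_apply] at h1; exact (QuotientGroup.eq_one_iff _).mp h1
      rw [mem_center_iff]
      intro d
      apply Subtype.ext
      exact ((mem_centralizer_iff.mp d.2.2) c h2).symm
    have hz : IsPGroup p (zpowers (⟨x, hxC⟩ : C)) := by
      have h1 := h 1
      obtain ⟨k, hk⟩ := h1 ⟨x, subset_closure (Set.mem_insert _ _)⟩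
      have hk' : x ^ p ^ k = 1 := by simpa using congrArg Subtype.val hk
      intro z
      obtain ⟨z, hz⟩ := z
      obtain ⟨i, rfl⟩ := mem_zpowers_iff.mp hz
      refine ⟨k, ?_⟩
      apply Subtype.ext; apply Subtype.ext
      simp only [SubmonoidClass.coe_pow, SubgroupClass.coe_zpow, OneMemClass.coe_one]
      rw [← zpow_natCast, ← zpow_mul, mul_comm, zpow_mul, zpow_natCast, hk', one_zpow]
    obtain ⟨P, hP⟩ := hz.exists_le_sylow
    have hPn : (P : Subgroup C).Normal :=
      ((Group.isNilpotent_of_finite_tfae (G := C)).out 0 3 rfl rfl).mp hnil p hp P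
    have : (P : Subgroup C).Characteristic := P.characteristic_of_normal hPn
    refine ⟨(P : Subgroup C).map C.subtype, inferInstance, P.2.map _, ?_⟩
    exact ⟨⟨x, hxC⟩, hP (mem_zpowers _), rfl⟩

/-- Baer–Suzuki for solvable groups, in terms of `O_p(G)`. -/
theorem mem_pCore_of_solvable {G : Type*} [Group G] [Finite G] [Group.IsSolvable G]
    {p : ℕ} [Fact p.Prime] (x : G)
    (h : ∀ g : G, IsPGroup p (Subgroup.closure {x, g * x * g⁻¹} : Subgroup G)) :
    x ∈ Cfsg.pCore p G := by
  obtain ⟨N, hN, hNp, hx⟩ := exists_normal_of_solvable x h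
  exact (le_sSup (a := N) ⟨hN, hNp⟩ : N ≤ sSup {N : Subgroup G | N.Normal ∧ IsPGroup p N}) hx

end Cfsg.Agent.OddOrderLocal.BaerSuzukiSolvable
end

-- part: OddOrderLocal/QuadOdd
section
/-!
# `p`-stability of solvable groups of odd order
-/

set_option autoImplicit false

namespace Cfsg.Agent.OddOrderLocal.QuadOdd

open Subgroup

section Eigen

variable {F V G : Type*} [Field F] [AddCommGroup V] [Module F V] [Group G]

/-- The elements having the nonzero vector `v` as an eigenvector. -/
def lineStab (ρ : G →* Module.End F V) (v : V) (hv : v ≠ 0) : Subgroup G where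
  carrier := {g | ∃ c : F, ρ g v = c • v}
  one_mem' := ⟨1, by simp⟩
  mul_mem' := by
    rintro a b ⟨c, hc⟩ ⟨d, hd⟩
    exact ⟨d * c, by rw [map_mul, Module.End.mul_apply, hd, map_smul, hc, smul_smul]⟩
  inv_mem' := by
    rintro a ⟨c, hc⟩
    have h1 : ρ a⁻¹ (ρ a v) = v := by
      rw [← Module.End.mul_apply, ← map_mul, inv_mul_cancel, map_one, Module.End.one_apply]
    rw [hc, map_smul] at h1
    have hc0 : c ≠ 0 := by
      rintro rfl
      rw [zero_smul] at h1
      exact hv h1.symm
    exact ⟨c⁻¹, by rw [← h1, smul_smul, inv_mul_cancel₀ hc0, one_smul, h1]⟩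

theorem mem_lineStab {ρ : G →* Module.End F V} {v : V} {hv : v ≠ 0} {g : G} :
    g ∈ lineStab ρ v hv ↔ ∃ c : F, ρ g v = c • v := Iff.rfl

theorem mem_of_sq_mem_of_odd [Finite G] (hodd : Odd (Nat.card G)) {H : Subgroup G} {g : G}
    (h : g * g ∈ H) : g ∈ H := by
  obtain ⟨k, hk⟩ := hodd
  have h1 : (g * g) ^ (k + 1) = g := by
    rw [← pow_two, ← pow_mul]
    have : 2 * (k + 1) = Nat.card G + 1 := by omega
    rw [this, pow_succ, pow_card_eq_one', one_mul]
  rw [← h1]
  exact pow_mem h _

/-- A solvable group of odd order acting on a 2-dimensional space over an algebraically closed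
field has a common eigenvector. -/
theorem exists_common_eigenvector [IsAlgClosed F] (hV : Module.finrank F V = 2)
    [Finite G] [hs : Group.IsSolvable G] (hodd : Odd (Nat.card G)) (ρ : G →* Module.End F V) :
    ∃ v : V, v ≠ 0 ∧ ∀ g, ∃ c : F, ρ g v = c • v := by
  revert hs hodd ρ
  refine Cfsg.Agent.Lib.SolvableNormalP.card_strong_induction
    (motive := fun G _ _ => ∀ [hs : Group.IsSolvable G] (_ : Odd (Nat.card G))
      (ρ : G →* Module.End F V), ∃ v : V, v ≠ 0 ∧ ∀ g, ∃ c : F, ρ g v = c • v) ?_ G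
  intro G _ _ IH hs hodd ρ
  have hfd : FiniteDimensional F V := Module.finite_of_finrank_pos (by rw [hV]; norm_num)
  have hntV : Nontrivial V := Module.nontrivial_of_finrank_pos (R := F) (by rw [hV]; norm_num)
  rcases subsingleton_or_nontrivial G with hsub | hnt
  · obtain ⟨v, hv⟩ := exists_ne (0 : V)
    refine ⟨v, hv, fun g => ⟨1, ?_⟩⟩
    rw [Subsingleton.elim g 1, map_one, Module.End.one_apply, one_smul]
  -- a maximal subgroup containing the derived subgroup
  obtain ⟨M, hM, hcM⟩ : ∃ M : Subgroup G, IsCoatom M ∧ commutator G ≤ M := by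
    rcases eq_top_or_exists_le_coatom (commutator G) with h | h
    · exact absurd h (Group.IsSolvable.commutator_lt_top_of_nontrivial G).ne
    · exact h
  have hMn : ∀ m ∈ M, ∀ g : G, g * m * g⁻¹ ∈ M := by
    intro m hm g
    have h1 : g * m * g⁻¹ * m⁻¹ ∈ M := by
      apply hcM
      rw [commutator_def]
      exact commutator_mem_commutator (mem_top g) (mem_top m)
    have h2 := mul_mem h1 hm
    rwa [inv_mul_cancel_right] at h2
  obtain ⟨v, hv, hvM⟩ := IH M (Cfsg.Agent.Lib.SolvableNormalP.card_lt_of_ne_top hM.1)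
    (Odd.of_dvd_nat hodd M.card_subgroup_dvd_card) (ρ.comp M.subtype)
  replace hvM : ∀ m ∈ M, ∃ c : F, ρ m v = c • v := fun m hm => hvM ⟨m, hm⟩
  obtain ⟨g, hg⟩ : ∃ g : G, g ∉ M := by
    by_contra hcon
    push Not at hcon
    exact hM.1 (eq_top_iff.mpr fun g _ => hcon g)
  -- any subgroup containing `M` and `g` is everything
  have hgen : ∀ H : Subgroup G, M ≤ H → g ∈ H → ∀ x, x ∈ H := by
    intro H hMH hgH x
    have : H = ⊤ := hM.2 H (lt_of_le_of_ne hMH (fun h => hg (h ▸ hgH)))
    rw [this]; exact mem_top x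
  by_cases hgv : g ∈ lineStab ρ v hv
  · exact ⟨v, hv, fun x => hgen (lineStab ρ v hv) hvM hgv x⟩
  have hli : LinearIndependent F ![v, ρ g v] := by
    rw [LinearIndependent.pair_iff' hv]
    intro a ha
    exact hgv ⟨a, ha.symm⟩
  have hspan : ∀ w : V, ∃ a b : F, a • v + b • ρ g v = w := by
    intro w
    have h1 := hli.span_eq_top_of_card_eq_finrank (by rw [hV]; rfl)
    have h2 : w ∈ Submodule.span F (Set.range ![v, ρ g v]) := by rw [h1]; trivial
    rw [Matrix.range_cons, Matrix.range_cons, Matrix.range_empty, Set.union_empty] at h2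
    exact Submodule.mem_span_pair.mp h2
  obtain ⟨a, b, hab⟩ := hspan (ρ (g * g) v)
  have hb : b ≠ 0 := by
    rintro rfl
    rw [zero_smul, add_zero] at hab
    exact hgv (mem_of_sq_mem_of_odd hodd (H := lineStab ρ v hv) ⟨a, hab.symm⟩)
  have ha : a ≠ 0 := by
    rintro rfl
    rw [zero_smul, zero_add, map_mul, Module.End.mul_apply] at hab
    have h1 := congrArg (ρ g⁻¹) hab
    rw [map_smul, ← Module.End.mul_apply, ← Module.End.mul_apply, ← map_mul, inv_mul_cancel,
      map_one, Module.End.one_apply, Module.End.one_apply] at h1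
    exact hgv ⟨b, h1.symm⟩
  -- `M` acts by scalars
  have hscal : ∀ m ∈ M, ∃ c : F, ∀ w, ρ m w = c • w := by
    intro m hm
    obtain ⟨c, hc⟩ := hvM m hm
    have key : ∀ t : G, ∃ d : F, ρ m (ρ t v) = d • ρ t v := by
      intro t
      obtain ⟨d, hd⟩ := hvM (t⁻¹ * m * t⁻¹⁻¹) (hMn m hm t⁻¹)
      refine ⟨d, ?_⟩
      rw [← Module.End.mul_apply, ← map_mul]
      have h1 : m * t = t * (t⁻¹ * m * t⁻¹⁻¹) := by group
      rw [h1, map_mul, Module.End.mul_apply, hd, map_smul]
    obtain ⟨d, hd⟩ := key g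
    obtain ⟨e, he⟩ := key (g * g)
    rw [← hab, map_add, map_smul, map_smul, hc, hd] at he
    have h0 : (a * (c - e)) • v + (b * (d - e)) • ρ g v = 0 := by
      have := sub_eq_zero.mpr he
      rw [← this]
      module
    have h1 := (LinearIndependent.pair_iff.mp hli) _ _ h0
    have hce : c = e := by
      rcases mul_eq_zero.mp h1.1 with h | h
      · exact absurd h ha
      · exact sub_eq_zero.mp h
    have hde : d = e := by
      rcases mul_eq_zero.mp h1.2 with h | h
      · exact absurd h hb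
      · exact sub_eq_zero.mp h
    refine ⟨e, fun w => ?_⟩
    obtain ⟨s, t, rfl⟩ := hspan w
    rw [map_add, map_smul, map_smul, hc, hd, hce, hde]
    module
  obtain ⟨μ, hμ⟩ := Module.End.exists_eigenvalue (ρ g)
  obtain ⟨w, hw⟩ := hμ.exists_hasEigenvector
  refine ⟨w, hw.2, fun x => hgen (lineStab ρ w hw.2) ?_ ⟨μ, hw.apply_eq_smul⟩ x⟩
  intro m hm
  obtain ⟨c, hc⟩ := hscal m hm
  exact ⟨c, hc w⟩

end Eigen

section Fixed

variable {F V G : Type*} [Field F] [AddCommGroup V] [Module F V] [Group G]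

theorem apply_mem_of_closure [Finite G] (ρ : G →* Module.End F V) {x y : G}
    (hxy : Subgroup.closure {x, y} = ⊤) (W : Submodule F V)
    (hx : ∀ w ∈ W, ρ x w ∈ W) (hy : ∀ w ∈ W, ρ y w ∈ W) (g : G) : ∀ w ∈ W, ρ g w ∈ W := by
  have hg : g ∈ Subgroup.closure {x, y} := by rw [hxy]; exact mem_top g
  have hpow : ∀ t : G, (∀ w ∈ W, ρ t w ∈ W) → ∀ n : ℕ, ∀ w ∈ W, ρ (t ^ n) w ∈ W := by
    intro t ht n
    induction n with
    | zero => intro w hw; rwa [pow_zero, map_one, Module.End.one_apply]
    | succ n ih => intro w hw; rw [pow_succ, map_mul, Module.End.mul_apply]; exact ih _ (ht w hw)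
  induction hg using Subgroup.closure_induction with
  | mem t ht =>
    rcases ht with rfl | ht
    · exact hx
    · rw [Set.mem_singleton_iff] at ht; subst ht; exact hy
  | one => intro w hw; rwa [map_one, Module.End.one_apply]
  | mul a b _ _ iha ihb => intro w hw; rw [map_mul, Module.End.mul_apply]; exact iha _ (ihb w hw)
  | inv a _ iha =>
    have h1 : a⁻¹ = a ^ (orderOf a - 1) := by
      rw [inv_eq_iff_mul_eq_one, ← pow_succ', Nat.sub_add_cancel (orderOf_pos a), pow_orderOf_eq_one]
    rw [h1]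
    exact hpow a iha _

/-- Over an algebraically closed field: a solvable group of odd order generated by two elements
acting quadratically on a nonzero space fixes a nonzero vector. -/
theorem exists_fixed_of_isAlgClosed [IsAlgClosed F] [FiniteDimensional F V] [Nontrivial V]
    [Finite G] [Group.IsSolvable G] (hodd : Odd (Nat.card G)) (ρ : G →* Module.End F V) {x y : G}
    (hxy : Subgroup.closure {x, y} = ⊤)
    (hx : (ρ x - 1) ^ 2 = 0) (hy : (ρ y - 1) ^ 2 = 0) :
    ∃ v : V, v ≠ 0 ∧ ρ x v = v ∧ ρ y v = v := by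
  obtain ⟨X, hX⟩ : ∃ X, X = ρ x - 1 := ⟨_, rfl⟩
  obtain ⟨Y, hY⟩ : ∃ Y, Y = ρ y - 1 := ⟨_, rfl⟩
  have hρx : ∀ v, ρ x v = v + X v := fun v => by rw [hX]; simp
  have hρy : ∀ v, ρ y v = v + Y v := fun v => by rw [hY]; simp
  rw [← hX] at hx
  rw [← hY] at hy
  have hXX : ∀ v, X (X v) = 0 := fun v => by
    rw [← Module.End.mul_apply, ← pow_two, hx, LinearMap.zero_apply]
  have hYY : ∀ v, Y (Y v) = 0 := fun v => by
    rw [← Module.End.mul_apply, ← pow_two, hy, LinearMap.zero_apply]
  suffices h : ∃ v : V, v ≠ 0 ∧ X v = 0 ∧ Y v = 0 by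
    obtain ⟨v, hv, h1, h2⟩ := h
    exact ⟨v, hv, by rw [hρx, h1, add_zero], by rw [hρy, h2, add_zero]⟩
  by_cases hX0 : X = 0
  · obtain ⟨w, hw⟩ := exists_ne (0 : V)
    by_cases hYw : Y w = 0
    · exact ⟨w, hw, by rw [hX0, LinearMap.zero_apply], hYw⟩
    · exact ⟨Y w, hYw, by rw [hX0, LinearMap.zero_apply], hYY w⟩
  have hR : Nontrivial (LinearMap.range X) := by
    rw [Submodule.nontrivial_iff_ne_bot]
    intro h
    exact hX0 (LinearMap.range_eq_bot.mp h)
  let f : Module.End F (LinearMap.range X) :=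
    (X * Y).restrict (p := LinearMap.range X) (q := LinearMap.range X)
      (fun v _ => ⟨Y v, rfl⟩)
  obtain ⟨μ, hμ⟩ := Module.End.exists_eigenvalue f
  obtain ⟨⟨v, hvR⟩, hv⟩ := hμ.exists_hasEigenvector
  have hv0 : v ≠ 0 := fun h => hv.2 (by ext; exact h)
  have hfv : X (Y v) = μ • v := congrArg Subtype.val hv.apply_eq_smul
  have hXv : X v = 0 := by obtain ⟨w, rfl⟩ := hvR; exact hXX w
  by_cases hYv : Y v = 0
  · exact ⟨v, hv0, hXv, hYv⟩
  by_cases hμ0 : μ = 0
  · exact ⟨Y v, hYv, by rw [hfv, hμ0, zero_smul], hYY v⟩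
  -- the two-dimensional invariant subspace
  have hli : LinearIndependent F ![v, Y v] := by
    rw [LinearIndependent.pair_iff' hv0]
    intro a ha
    have h1 : X (Y v) = 0 := by rw [← ha, map_smul, hXv, smul_zero]
    rw [hfv] at h1
    rcases smul_eq_zero.mp h1 with h | h
    · exact hμ0 h
    · exact hv0 h
  let W : Submodule F V := Submodule.span F (Set.range ![v, Y v])
  have hWmem : ∀ w, w ∈ W ↔ ∃ a b : F, a • v + b • Y v = w := by
    intro w
    show w ∈ Submodule.span F (Set.range ![v, Y v]) ↔ _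
    rw [Matrix.range_cons, Matrix.range_cons, Matrix.range_empty, Set.union_empty]
    exact Submodule.mem_span_pair
  have hWfin : Module.finrank F W = 2 := by
    have := finrank_span_eq_card hli
    simpa using this
  have hWx : ∀ w ∈ W, ρ x w ∈ W := by
    intro w hw
    obtain ⟨a, b, rfl⟩ := (hWmem w).mp hw
    rw [hρx, map_add, map_smul, map_smul, hXv, hfv]
    exact (hWmem _).mpr ⟨a + b * μ, b, by module⟩
  have hWy : ∀ w ∈ W, ρ y w ∈ W := by
    intro w hw
    obtain ⟨a, b, rfl⟩ := (hWmem w).mp hw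
    rw [hρy, map_add, map_smul, map_smul, hYY]
    exact (hWmem _).mpr ⟨a, b + a, by module⟩
  have hWg := apply_mem_of_closure ρ hxy W hWx hWy
  let ρW : G →* Module.End F W :=
    { toFun := fun g => (ρ g).restrict (hWg g)
      map_one' := by
        ext w
        show ρ 1 (w : V) = w
        rw [map_one, Module.End.one_apply]
      map_mul' := by
        intro a b
        ext w
        show ρ (a * b) (w : V) = ρ a (ρ b w)
        rw [map_mul, Module.End.mul_apply] }
  obtain ⟨w, hw0, hw⟩ := exists_common_eigenvector hWfin hodd ρW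
  have hw0' : (w : V) ≠ 0 := fun h => hw0 (by ext; exact h)
  have hgen : ∀ (T : Module.End F V) (hT : ∀ v, T (T v) = 0) (c : F), T (w : V) = c • (w : V) →
      T (w : V) = 0 := by
    intro T hT c hc
    have h1 := hT w
    rw [hc, map_smul, hc, smul_smul] at h1
    rcases smul_eq_zero.mp h1 with h | h
    · rw [mul_self_eq_zero] at h
      rw [hc, h, zero_smul]
    · exact absurd h hw0'
  refine ⟨w, hw0', ?_, ?_⟩
  · obtain ⟨c, hc⟩ := hw x
    have hc' : ρ x (w : V) = c • (w : V) := congrArg Subtype.val hc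
    refine hgen X hXX (c - 1) ?_
    rw [hρx] at hc'
    rw [sub_smul, one_smul, ← hc', add_sub_cancel_left]
  · obtain ⟨c, hc⟩ := hw y
    have hc' : ρ y (w : V) = c • (w : V) := congrArg Subtype.val hc
    refine hgen Y hYY (c - 1) ?_
    rw [hρy] at hc'
    rw [sub_smul, one_smul, ← hc', add_sub_cancel_left]

open scoped TensorProduct in
/-- A solvable group of odd order generated by two elements acting quadratically on a nonzero
finite-dimensional space (over any field) fixes a nonzero vector. -/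
theorem exists_fixed_vector [FiniteDimensional F V] [Nontrivial V]
    [Finite G] [Group.IsSolvable G] (hodd : Odd (Nat.card G)) (ρ : G →* Module.End F V) {x y : G}
    (hxy : Subgroup.closure {x, y} = ⊤)
    (hx : (ρ x - 1) ^ 2 = 0) (hy : (ρ y - 1) ^ 2 = 0) :
    ∃ v : V, v ≠ 0 ∧ ρ x v = v ∧ ρ y v = v := by
  let K := AlgebraicClosure F
  let θ : Module.End F V →* Module.End K (K ⊗[F] V) := (Module.End.baseChangeHom F K V : _ →* _)
  have hθ : ∀ T : Module.End F V, θ (T - 1) = θ T - 1 := by
    intro T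
    show Module.End.baseChangeHom F K V (T - 1) = Module.End.baseChangeHom F K V T - 1
    rw [map_sub, map_one]
  have hθ2 : ∀ T : Module.End F V, (T - 1) ^ 2 = 0 → (θ T - 1) ^ 2 = 0 := by
    intro T hT
    rw [← hθ, ← map_pow, hT]
    exact map_zero (Module.End.baseChangeHom F K V)
  obtain ⟨v', hv', hx', hy'⟩ := exists_fixed_of_isAlgClosed hodd (θ.comp ρ) hxy
    (hθ2 _ hx) (hθ2 _ hy)
  by_contra hcon
  push Not at hcon
  let T : V →ₗ[F] V × V := (ρ x - 1).prod (ρ y - 1)
  have hT : Function.Injective T := by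
    rw [injective_iff_map_eq_zero]
    intro v hv
    by_contra hv0
    have h1 : (ρ x - 1) v = 0 := congrArg Prod.fst hv
    have h2 : (ρ y - 1) v = 0 := congrArg Prod.snd hv
    rw [LinearMap.sub_apply, Module.End.one_apply, sub_eq_zero] at h1 h2
    exact hcon v hv0 h1 h2
  have hT' := Module.Flat.lTensor_preserves_injective_linearMap (M := K) T hT
  have hz : ∀ S : Module.End F V, (θ S) v' = v' → (LinearMap.lTensor K (S - 1)) v' = 0 := by
    intro S hS
    have h1 : (θ (S - 1)) v' = 0 := by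
      rw [hθ, LinearMap.sub_apply, Module.End.one_apply, hS, sub_self]
    exact h1
  have hid : T = (LinearMap.inl F V V) ∘ₗ (ρ x - 1) + (LinearMap.inr F V V) ∘ₗ (ρ y - 1) := by
    ext v <;> simp [T]
  have h0 : (LinearMap.lTensor K T) v' = 0 := by
    rw [hid, LinearMap.lTensor_add, LinearMap.add_apply, LinearMap.lTensor_comp,
      LinearMap.lTensor_comp, LinearMap.comp_apply, LinearMap.comp_apply, hz _ hx', hz _ hy',
      map_zero, map_zero, add_zero]
  exact hv' (hT' (by rw [h0, map_zero]))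

end Fixed

end Cfsg.Agent.OddOrderLocal.QuadOdd
end
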