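import Mathlib
set_option linter.all false

/-!
# An automorphism of `p'`-order of a `p`-group whose fixed points contain their centralizer
-/

set_option autoImplicit false

namespace Cfsg.Agent.OddOrderLocal.SelfCentFixed

open Subgroup

/-- The fixed points of an automorphism. -/
def fixedBy {E : Type*} [Group E] (σ : MulAut E) : Subgroup E where
  carrier := {d | σ d = d}
  one_mem' := map_one σ
  mul_mem' := by
    intro a b ha hb
    show σ (a * b) = a * b
    rw [map_mul, show σ a = a from ha, show σ b = b from hb]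
  inv_mem' := by
    intro a ha
    show σ a⁻¹ = a⁻¹
    rw [map_inv, show σ a = a from ha]

theorem mem_fixedBy {E : Type*} [Group E] {σ : MulAut E} {d : E} : d ∈ fixedBy σ ↔ σ d = d :=
  Iff.rfl

/-- (Thompson; B&G 1.10 for cyclic groups.) Let `σ` be an automorphism of order prime to `p` of
a finite `p`-group `E` such that the fixed points of `σ` contain their centralizer. Then `σ = 1`. -/
theorem eq_one_of_centralizer_fixed {E : Type*} [Group E] [Finite E] {p : ℕ} [hp : Fact p.Prime]
    (hE : IsPGroup p E) (σ : MulAut E) {k : ℕ} (hk : σ ^ k = 1) (hkp : k.Coprime p)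
    (hcen : ∀ c : E, (∀ d, σ d = d → c * d = d * c) → σ c = c) : σ = 1 := by
  have hnil : Group.IsNilpotent E := hE.isNilpotent
  by_contra hne
  have hD : fixedBy σ ≠ ⊤ := by
    intro h
    apply hne
    apply MulEquiv.ext
    intro e
    have : e ∈ fixedBy σ := by rw [h]; exact mem_top e
    exact this
  obtain ⟨hle, hnle⟩ := Group.normalizerCondition_of_isNilpotent (G := E) (fixedBy σ)
    (lt_top_iff_ne_top.mpr hD)
  obtain ⟨n, hn, hnD⟩ := SetLike.not_le_iff_exists.mp hnle
  apply hnD
  have h1 : ∀ d, σ d = d → σ n * d * (σ n)⁻¹ = n * d * n⁻¹ := by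
    intro d hd
    have h2 : n * d * n⁻¹ ∈ fixedBy σ := (mem_normalizer_iff.mp hn d).mp hd
    have h3 : σ (n * d * n⁻¹) = n * d * n⁻¹ := h2
    rwa [map_mul, map_mul, map_inv, hd] at h3
  set c := n⁻¹ * σ n with hc
  have hσn : σ n = n * c := by rw [hc, mul_inv_cancel_left]
  have hσc : σ c = c := by
    apply hcen
    intro d hd
    have h2 := h1 d hd
    rw [hσn] at h2
    have h3 : n * (c * d * c⁻¹) * n⁻¹ = n * d * n⁻¹ := by rw [← h2]; group
    have h4 : c * d * c⁻¹ = d := mul_left_cancel (mul_right_cancel h3)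
    rwa [mul_inv_eq_iff_eq_mul] at h4
  have hpow : ∀ j : ℕ, (σ ^ j) n = n * c ^ j := by
    intro j
    induction j with
    | zero => rw [pow_zero, pow_zero, mul_one]; rfl
    | succ j ih =>
      rw [pow_succ', MulAut.mul_apply, ih, map_mul, hσn, map_pow, hσc, mul_assoc, ← pow_succ']
  have hck : c ^ k = 1 := by
    have h2 := hpow k
    rw [hk, MulAut.one_apply] at h2
    exact (mul_eq_left.mp h2.symm)
  obtain ⟨m, hm⟩ := hE c
  have hc1 : c ^ Nat.gcd k (p ^ m) = 1 := pow_gcd_eq_one.mpr ⟨hck, hm⟩
  rw [Nat.Coprime.pow_right m hkp, pow_one] at hc1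
  show σ n = n
  rw [hσn, hc1, mul_one]

/-- If `u` has order prime to `p`, normalizes the `p`-subgroup `Q`, centralizes the subgroup `P`
of `Q`, and `C_Q(P) ≤ P`, then `u` centralizes `Q`. -/
theorem mem_centralizer_of_inf_le {G : Type*} [Group G] [Finite G] {p : ℕ} [hp : Fact p.Prime]
    {P Q : Subgroup G} (hQ : IsPGroup p Q) (hPQ : P ≤ Q)
    (hcen : Q ⊓ centralizer (P : Set G) ≤ P) {u : G} (hu : (orderOf u).Coprime p)
    (huQ : u ∈ normalizer (Q : Set G)) (huP : u ∈ centralizer (P : Set G)) :
    u ∈ centralizer (Q : Set G) := by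
  have h1 : Q.normalizerMonoidHom ⟨u, huQ⟩ = 1 := by
    refine eq_one_of_centralizer_fixed hQ _ (k := orderOf u) ?_ hu ?_
    · rw [← map_pow]
      have : (⟨u, huQ⟩ : normalizer (Q : Set G)) ^ orderOf u = 1 := by
        apply Subtype.ext
        simp [pow_orderOf_eq_one]
      rw [this, map_one]
    · intro c hc
      have hcP : (c : G) ∈ centralizer (P : Set G) := by
        rw [mem_centralizer_iff]
        intro d hd
        have h2 := hc ⟨d, hPQ hd⟩ (Subtype.ext (by
          show u * d * u⁻¹ = d
          rw [← mem_centralizer_iff.mp huP d hd, mul_inv_cancel_right]))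
        exact (congrArg Subtype.val h2).symm
      have hcP' : (c : G) ∈ P := hcen ⟨c.2, hcP⟩
      apply Subtype.ext
      show u * (c : G) * u⁻¹ = c
      rw [← mem_centralizer_iff.mp huP c hcP', mul_inv_cancel_right]
  have h2 : (⟨u, huQ⟩ : normalizer (Q : Set G)) ∈ Q.normalizerMonoidHom.ker := h1
  rw [normalizerMonoidHom_ker] at h2
  exact h2

end Cfsg.Agent.OddOrderLocal.SelfCentFixed
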