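import Mathlib
import Cfsg.Prelude.Def_OddOrderLocal
import Cfsg.Agent.OddOrderLocal.Puig
import Cfsg.Agent.OddOrderLocal.PiCoreOf
import Cfsg.Agent.S1466
import Cfsg.Agent.OddOrderLocal.MinSimpleBasic
import Cfsg.Agent.OddOrderLocal.Transitivity
import Cfsg.Agent.OddOrderLocal.SylIn
import Cfsg.Agent.Lib.Cores
import Cfsg.Agent.Lib.HallHigman
import Cfsg.Agent.S1469
set_option linter.all false

-- part: OddOrderLocal/PuigZL
section
/-!
`Z(L(P))` (the centre of the Puig subgroup) of a subgroup `P` of `G`, as a subgroup of `G`: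
equivariance under isomorphisms, normalizers, nontriviality.
-/

set_option autoImplicit false
set_option linter.style.haveILetI false
open Cfsg

namespace Cfsg.Agent.OddOrderLocal.PuigZL

open Cfsg.Agent.OddOrderLocal

section Equiv

universe u v

variable {R : Type u} {R' : Type v} [Group R] [Group R']

theorem map_puigStep_le (e : R ≃* R') (X : Subgroup R) :
    (puigStep X).map e.toMonoidHom ≤ puigStep (X.map e.toMonoidHom) := by
  rw [Subgroup.map_le_iff_le_comap]
  refine Puig.puigStep_le fun A hA hX => ?_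
  rw [← Subgroup.map_le_iff_le_comap]
  refine Puig.le_puigStep inferInstance ?_
  refine (Subgroup.map_mono hX).trans ?_
  exact (Subgroup.map_equiv_normalizer_eq A e).le

theorem map_map_symm (e : R ≃* R') (X : Subgroup R) :
    (X.map e.toMonoidHom).map e.symm.toMonoidHom = X := by
  rw [Subgroup.map_map]
  have : e.symm.toMonoidHom.comp e.toMonoidHom = MonoidHom.id R := by
    ext x; simp
  rw [this, Subgroup.map_id]

theorem map_symm_map (e : R ≃* R') (X : Subgroup R') :
    (X.map e.symm.toMonoidHom).map e.toMonoidHom = X := by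
  rw [Subgroup.map_map]
  have : e.toMonoidHom.comp e.symm.toMonoidHom = MonoidHom.id R' := by
    ext x; simp
  rw [this, Subgroup.map_id]

theorem map_puigStep (e : R ≃* R') (X : Subgroup R) :
    (puigStep X).map e.toMonoidHom = puigStep (X.map e.toMonoidHom) := by
  refine le_antisymm (map_puigStep_le e X) ?_
  have h := Subgroup.map_mono (f := e.toMonoidHom) (map_puigStep_le e.symm (X.map e.toMonoidHom))
  rwa [map_symm_map, map_map_symm] at h

theorem map_puigSeq (e : R ≃* R') (n : ℕ) :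
    (puigSeq R n).map e.toMonoidHom = puigSeq R' n := by
  induction n with
  | zero => rw [Puig.puigSeq_zero, Puig.puigSeq_zero, Subgroup.map_bot]
  | succ n ih => rw [Puig.puigSeq_succ, Puig.puigSeq_succ, map_puigStep, ih]

theorem map_puigSubgroup (e : R ≃* R') :
    (puigSubgroup R).map e.toMonoidHom = puigSubgroup R' := by
  apply le_antisymm
  · refine le_iInf fun n => ?_
    rw [← map_puigSeq e]
    exact Subgroup.map_mono (iInf_le _ n)
  · have h : (puigSubgroup R').map e.symm.toMonoidHom ≤ puigSubgroup R := by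
      refine le_iInf fun n => ?_
      rw [← map_puigSeq e.symm]
      exact Subgroup.map_mono (iInf_le _ n)
    have h2 := Subgroup.map_mono (f := e.toMonoidHom) h
    rwa [map_symm_map] at h2

/-- `Z(L(R))` inside `R`. -/
def zl (R : Type u) [Group R] : Subgroup R :=
  (Subgroup.center ↥(puigSubgroup R)).map (puigSubgroup R).subtype

theorem zl_def (R : Type u) [Group R] :
    zl R = (Subgroup.center ↥(puigSubgroup R)).map (puigSubgroup R).subtype := rfl

theorem mem_zl {x : R} : x ∈ zl R ↔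
    x ∈ puigSubgroup R ∧ ∀ y ∈ puigSubgroup R, y * x = x * y := by
  rw [zl_def, Subgroup.mem_map]
  constructor
  · rintro ⟨z, hz, rfl⟩
    refine ⟨z.2, fun y hy => ?_⟩
    have := (Subgroup.mem_center_iff.mp hz) ⟨y, hy⟩
    exact congrArg Subtype.val this
  · rintro ⟨h1, h2⟩
    refine ⟨⟨x, h1⟩, ?_, rfl⟩
    rw [Subgroup.mem_center_iff]
    intro g
    exact Subtype.ext (h2 g g.2)

theorem zl_le_puig : zl R ≤ puigSubgroup R := Subgroup.map_subtype_le _

theorem map_zl_le (e : R ≃* R') : (zl R).map e.toMonoidHom ≤ zl R' := by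
  rintro _ ⟨x, hx, rfl⟩
  have hx' := mem_zl.mp hx
  rw [mem_zl]
  refine ⟨?_, ?_⟩
  · rw [← map_puigSubgroup e]
    exact Subgroup.mem_map_of_mem _ hx'.1
  · intro y hy
    rw [← map_puigSubgroup e] at hy
    obtain ⟨z, hz, rfl⟩ := hy
    rw [← map_mul, hx'.2 z hz, map_mul]

theorem map_zl (e : R ≃* R') : (zl R).map e.toMonoidHom = zl R' := by
  refine le_antisymm (map_zl_le e) ?_
  have h := Subgroup.map_mono (f := e.toMonoidHom) (map_zl_le e.symm)
  rwa [map_symm_map] at h

theorem center_le_zl [Finite R] {p : ℕ} [Fact p.Prime] (hR : IsPGroup p R) :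
    Subgroup.center R ≤ zl R := by
  rcases subsingleton_or_nontrivial R with h | h
  · intro x _
    rw [Subsingleton.elim x 1]
    exact Subgroup.one_mem _
  · have h1 := (Cfsg.Agent.S1466.result p hR).2.2.1
    intro x hx
    rw [mem_zl]
    refine ⟨h1.2 (h1.1 hx), fun y _ => ?_⟩
    exact (Subgroup.mem_center_iff.mp hx) y

theorem zl_ne_bot [Finite R] {p : ℕ} [Fact p.Prime] (hR : IsPGroup p R) [Nontrivial R] :
    zl R ≠ ⊥ := by
  intro h
  haveI : Group.IsNilpotent R := hR.isNilpotent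
  have h1 : Subgroup.center R ≠ ⊥ := Group.IsNilpotent.center_ne_bot R
  exact h1 (le_bot_iff.mp (h ▸ center_le_zl hR))

end Equiv

section Ambient

variable {G : Type*} [Group G]

/-- `Z(L(P))` for a subgroup `P` of `G`, as a subgroup of `G`. -/
def ZL (P : Subgroup G) : Subgroup G := (zl ↥P).map P.subtype

theorem ZL_def (P : Subgroup G) : ZL P =
    (((Subgroup.center ↥(Cfsg.puigSubgroup ↥P)).map (Cfsg.puigSubgroup ↥P).subtype).map
      P.subtype) := rfl

theorem ZL_le (P : Subgroup G) : ZL P ≤ P := Subgroup.map_subtype_le _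

theorem ZL_ne_bot [Finite G] {p : ℕ} [Fact p.Prime] {P : Subgroup G} (hP : IsPGroup p P)
    (h1 : P ≠ ⊥) : ZL P ≠ ⊥ := by
  intro h
  haveI : Nontrivial P := (Subgroup.nontrivial_iff_ne_bot P).mpr h1
  refine zl_ne_bot hP (R := ↥P) ?_
  rw [ZL, Subgroup.map_eq_bot_iff_of_injective _ P.subtype_injective] at h
  exact h

/-- Transport along an injective homomorphism `f : H →* G`. -/
theorem map_ZL {H : Type*} [Group H] (f : H →* G) (hf : Function.Injective f) (P : Subgroup H) :
    (ZL P).map f = ZL (P.map f) := by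
  have key := map_zl (P.equivMapOfInjective f hf)
  rw [ZL, ZL, ← key, Subgroup.map_map, Subgroup.map_map]
  congr 1

theorem ZL_map_conj (P : Subgroup G) (g : G) :
    (ZL P).map (MulAut.conj g).toMonoidHom = ZL (P.map (MulAut.conj g).toMonoidHom) :=
  map_ZL _ (MulAut.conj g).injective P

theorem normalizer_le_normalizer_ZL (P : Subgroup G) :
    Subgroup.normalizer (P : Set G) ≤ Subgroup.normalizer (ZL P : Set G) := by
  intro g hg
  rw [PiCoreOf.mem_normalizer_iff_conj] at hg ⊢
  rw [ZL_map_conj, hg]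

end Ambient

end Cfsg.Agent.OddOrderLocal.PuigZL
end

-- part: OddOrderLocal/UniqZL
section
/-!
The Puig `Z(L(P))` argument for uniqueness of a maximal subgroup (used in B&G 8.1(b) and 9.1).
-/

set_option autoImplicit false
set_option linter.style.haveILetI false
set_option linter.unusedSectionVars false
open Cfsg

namespace Cfsg.Agent.OddOrderLocal.UniqZL

open Cfsg.Agent.OddOrderLocal
open Cfsg.Agent.OddOrderLocal.SylIn Cfsg.Agent.OddOrderLocal.PuigZL
open Cfsg.Agent.OddOrderLocal.PiCoreOf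

variable {G : Type*} [Group G]

/-- `O_{p'}(X)` as the image of `pPrimeCore`. -/
theorem map_pPrimeCore_eq [Finite G] (p : ℕ) (X : Subgroup G) :
    (pPrimeCore p X).map X.subtype = piCoreOf (primesNotDvd p) X := by
  have h : pPrimeCore p X = piCore (primesNotDvd p) X := by
    apply le_antisymm
    · refine le_piCore inferInstance ((isPi_primesNotDvd_iff _).mpr ?_)
      exact Cfsg.Agent.Lib.Cores.pPrimeCore_coprime p
    · exact Cfsg.Agent.Lib.Cores.le_pPrimeCore inferInstance
        (coprime_of_isPi_primesNotDvd (piCore_isPi _))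
  rw [h]
  rfl

/-- A `p'`-subgroup normalized by a Sylow `p`-subgroup of a solvable group lies in `O_{p'}`. -/
theorem le_pPrimeCore_of_sylow {X : Type*} [Group X] [Finite X] [Group.IsSolvable X] {p : ℕ}
    [Fact p.Prime] (P : Sylow p X) {Y : Subgroup X} (hY : (Nat.card Y).Coprime p)
    (hPY : (P : Subgroup X) ≤ Subgroup.normalizer (Y : Set X)) : Y ≤ pPrimeCore p X := by
  set f := QuotientGroup.mk' (pPrimeCore p X) with hf
  have hfs : Function.Surjective f := QuotientGroup.mk'_surjective _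
  have h1 : pPrimeCore p (X ⧸ pPrimeCore p X) = ⊥ :=
    Cfsg.Agent.Lib.Cores.pPrimeCore_quotient_pPrimeCore p
  have h2 := Cfsg.Agent.Lib.HallHigman.centralizer_pCore_le_of_solvable p h1
  have hTP : pCore p (X ⧸ pPrimeCore p X) ≤ (P : Subgroup X).map f :=
    Cfsg.Agent.Lib.Cores.pCore_le_sylow (P.mapSurjective hfs)
  have hPn : (P : Subgroup X).map f ≤ Subgroup.normalizer ((Y.map f : Subgroup _) : Set _) :=
    (Subgroup.map_mono hPY).trans (Subgroup.le_normalizer_map f)
  have hYc : (Nat.card (Y.map f)).Coprime p :=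
    Nat.Coprime.coprime_dvd_left (Subgroup.card_map_dvd Y f) hY
  have hTp : IsPGroup p (pCore p (X ⧸ pPrimeCore p X)) := Cfsg.Agent.Lib.Cores.pCore_isPGroup p
  have hd : Y.map f ⊓ pCore p (X ⧸ pPrimeCore p X) = ⊥ := by
    obtain ⟨n, hn⟩ := IsPGroup.iff_card.mp hTp
    refine (Subgroup.disjoint_of_coprime_natCard ?_).eq_bot
    rw [hn]
    exact Nat.Coprime.pow_right n hYc
  have h3 : Y.map f ≤ Subgroup.centralizer (pCore p (X ⧸ pPrimeCore p X) : Set _) := by
    refine Transitivity.le_centralizer_of_normalize ?_ (hTP.trans hPn) hd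
    rw [Subgroup.normalizer_eq_top]
    exact le_top
  have h4 : Y.map f = ⊥ := by
    rw [eq_bot_iff, ← hd]
    exact le_inf le_rfl (h3.trans h2)
  have h5 : Y ≤ f.ker := by
    rwa [Subgroup.map_eq_bot_iff] at h4
  rwa [hf, QuotientGroup.ker_mk'] at h5

/-- ambient version: a `p'`-subgroup of the solvable subgroup `X` normalized by a Sylow
`p`-subgroup of `X` lies in `O_{p'}(X)`. -/
theorem le_piCoreOf_of_isSyl [Finite G] {X P Y : Subgroup G} (hX : Group.IsSolvable X) {p : ℕ}
    [Fact p.Prime] (hP : IsSyl p P X) (hYX : Y ≤ X) (hY : (Nat.card Y).Coprime p)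
    (hPY : P ≤ Subgroup.normalizer (Y : Set G)) : Y ≤ piCoreOf (primesNotDvd p) X := by
  obtain ⟨S, hS⟩ := hP.exists_sylow
  haveI := hX
  have h1 : Y.subgroupOf X ≤ pPrimeCore p X := by
    refine le_pPrimeCore_of_sylow S ?_ ?_
    · rwa [Nat.card_congr (Subgroup.subgroupOfEquivOfLe hYX).toEquiv]
    · intro x hx
      have hx' : (x : G) ∈ P := by rw [← hS]; exact Subgroup.mem_map_of_mem _ hx
      have := hPY hx'
      rw [Subgroup.mem_normalizer_iff] at this ⊢
      intro y
      rw [Subgroup.mem_subgroupOf, Subgroup.mem_subgroupOf]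
      exact this y
  have h2 := Subgroup.map_mono (f := X.subtype) h1
  rwa [Subgroup.map_subgroupOf_eq_of_le hYX, map_pPrimeCore_eq] at h2

/-- Puig's theorem in ambient form: `X = O_{p'}(X) N_X(Z(L(P)))`. -/
theorem le_sup_normalizer_ZL [Finite G] {X P : Subgroup G} (hX : Group.IsSolvable X)
    (hodd : Odd (Nat.card X)) {p : ℕ} [Fact p.Prime] (hp : p ≠ 2) (hP : IsSyl p P X) :
    X ≤ piCoreOf (primesNotDvd p) X ⊔ (X ⊓ Subgroup.normalizer (ZL P : Set G)) := by
  obtain ⟨S, hS⟩ := hP.exists_sylow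
  haveI := hX
  have h1 := (Cfsg.Agent.S1469.result hodd p hp S).1
  rw [← ZL_def] at h1
  have h2 := congrArg (Subgroup.map X.subtype) h1
  rw [Subgroup.map_sup, map_pPrimeCore_eq, ← MonoidHom.range_eq_map, Subgroup.range_subtype] at h2
  refine h2.symm.le.trans (sup_le_sup_left (le_inf (Subgroup.map_subtype_le _) ?_) _)
  refine (Subgroup.le_normalizer_map X.subtype).trans ?_
  rw [map_ZL X.subtype X.subtype_injective, hS]

theorem le_normalizer_ZL [Finite G] {X P : Subgroup G} (hX : Group.IsSolvable X)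
    (hodd : Odd (Nat.card X)) {p : ℕ} [Fact p.Prime] (hp : p ≠ 2) (hP : IsSyl p P X)
    (h : piCoreOf (primesNotDvd p) X = ⊥) : X ≤ Subgroup.normalizer (ZL P : Set G) := by
  have h1 := le_sup_normalizer_ZL hX hodd hp hP
  rw [h, bot_sup_eq] at h1
  exact h1.trans inf_le_right

variable [Finite G]

/-- The main uniqueness argument: if every `B`-invariant `p'`-subgroup of `G` lies in `M` and
every proper subgroup of `G` containing a Sylow `p`-subgroup `P ≥ B` of `M` lies in `M`, then `M`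
is the only maximal subgroup containing `B`. -/
theorem inUniqueMaximal_of (hG : IsMinSimpleOddOrder G) {M B : Subgroup G} (hM : IsCoatom M)
    {p : ℕ} [Fact p.Prime] (hBp : IsPGroup p B) (hB1 : B ≠ ⊥) (hBM : B ≤ M)
    (hinv : ∀ Y : Subgroup G, (Nat.card Y).Coprime p → B ≤ Subgroup.normalizer (Y : Set G) → Y ≤ M)
    (hP : ∀ P : Subgroup G, IsSyl p P M → B ≤ P → ∀ H : Subgroup G, H ≠ ⊤ → P ≤ H → H ≤ M) :
    InUniqueMaximal B := by
  have hp2 : p ≠ 2 := MinSimpleBasic.prime_ne_two_of_isPGroup hG hBp hB1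
  refine ⟨M, ⟨hM, hBM⟩, ?_⟩
  rintro L ⟨hL, hBL⟩
  by_contra hLM
  -- the family of p-subgroups of M above B lying in another maximal subgroup
  let S : Set (Subgroup G) := {R | IsPGroup p R ∧ B ≤ R ∧ R ≤ M ∧ ∃ L, IsCoatom L ∧ L ≠ M ∧ R ≤ L}
  have hSfin : S.Finite := Set.toFinite _
  obtain ⟨R, hBR', hR⟩ := hSfin.exists_le_maximal (a := B) ⟨hBp, le_rfl, hBM, L, hL, hLM, hBL⟩
  obtain ⟨hRp, hBR, hRM, L', hL', hL'M, hRL'⟩ := hR.prop
  have hR1 : R ≠ ⊥ := fun h => hB1 (le_bot_iff.mp (h ▸ hBR))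
  have hRtop : R ≠ ⊤ := MinSimpleBasic.ne_top_of_isPGroup hG hRp
  -- R is Sylow in L' ⊓ M
  have hRLM : IsSyl p R (L' ⊓ M) := by
    obtain ⟨T, hT, hRT⟩ := exists_isSyl_ge (le_inf hRL' hRM) hRp
    have hTS : T ∈ S := ⟨hT.isPGroup, hBR.trans hRT, hT.le.trans inf_le_right, L', hL', hL'M,
      hT.le.trans inf_le_left⟩
    have : T = R := le_antisymm (hR.le_of_ge hTS hRT) hRT
    rwa [this] at hT
  obtain ⟨P, hPM, hRP⟩ := exists_isSyl_ge hRM hRp
  rcases eq_or_lt_of_le hRP with h | h
  · -- R = P is Sylow in M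
    have h1 := hP P hPM (hBR.trans hRP) L' hL'.1 (h ▸ hRL')
    rcases eq_or_lt_of_le h1 with h2 | h2
    · exact hL'M h2
    · exact hM.1 (hL'.2 _ h2)
  · have h1 := exists_normalizing_gt hPM.isPGroup h
    -- every proper subgroup containing N_P(R) lies in M
    have key : ∀ H : Subgroup G, H ≠ ⊤ → P ⊓ Subgroup.normalizer (R : Set G) ≤ H → H ≤ M := by
      intro H hH hle
      obtain ⟨K, hK, hHK⟩ := MinSimpleBasic.exists_coatom_ge hH
      by_cases hKM : K = M
      · rwa [hKM] at hHK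
      · exfalso
        have hmem : P ⊓ Subgroup.normalizer (R : Set G) ∈ S :=
          ⟨hPM.isPGroup.to_le inf_le_left, hBR.trans h1.le, inf_le_left.trans hPM.le, K, hK, hKM,
            hle.trans hHK⟩
        exact absurd (hR.le_of_ge hmem h1.le) (not_le_of_gt h1)
    have hNR : Subgroup.normalizer (R : Set G) ≤ M :=
      key _ (MinSimpleBasic.normalizer_ne_top hG hR1 hRtop) inf_le_right
    have hZ1 : ZL R ≠ ⊥ := ZL_ne_bot hRp hR1
    have hZtop : ZL R ≠ ⊤ := fun h => hRtop (top_le_iff.mp (h ▸ ZL_le R))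
    have hNZ : Subgroup.normalizer (ZL R : Set G) ≤ M :=
      key _ (MinSimpleBasic.normalizer_ne_top hG hZ1 hZtop)
        (inf_le_right.trans (normalizer_le_normalizer_ZL R))
    have hRL : IsSyl p R L' :=
      isSyl_of_normalizer_le hRL' hRLM (le_inf inf_le_left (inf_le_right.trans hNR))
    have hLs := MinSimpleBasic.isSolvable_of_isCoatom hG hL'
    have h2 := le_sup_normalizer_ZL hLs (MinSimpleBasic.odd_card_subgroup hG L') hp2 hRL
    have h3 : L' ≤ M := by
      refine h2.trans (sup_le ?_ (inf_le_right.trans hNZ))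
      refine hinv _ (coprime_of_isPi_primesNotDvd (piCoreOf_isPi _ _)) ?_
      exact (hBR.trans hRL').trans (le_normalizer_piCoreOf _ _)
    rcases eq_or_lt_of_le h3 with h4 | h4
    · exact hL'M h4
    · exact hM.1 (hL'.2 _ h4)

/-- The case `O_{p'}(M) = 1`. -/
theorem le_of_core_eq_bot (hG : IsMinSimpleOddOrder G) {M B : Subgroup G} (hM : IsCoatom M)
    {p : ℕ} [Fact p.Prime] (hB1 : B ≠ ⊥)
    (hinv : ∀ Y : Subgroup G, (Nat.card Y).Coprime p → B ≤ Subgroup.normalizer (Y : Set G) → Y ≤ M)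
    (hO : piCoreOf (primesNotDvd p) M = ⊥)
    (P : Subgroup G) (hP : IsSyl p P M) (hBP : B ≤ P) (H : Subgroup G) (hH : H ≠ ⊤) (hPH : P ≤ H) :
    H ≤ M := by
  have hP1 : P ≠ ⊥ := fun h => hB1 (le_bot_iff.mp (h ▸ hBP))
  have hPtop : P ≠ ⊤ := MinSimpleBasic.ne_top_of_isPGroup hG hP.isPGroup
  have hp2 : p ≠ 2 := MinSimpleBasic.prime_ne_two_of_isPGroup hG hP.isPGroup hP1
  have hZ1 : ZL P ≠ ⊥ := ZL_ne_bot hP.isPGroup hP1
  have hZtop : ZL P ≠ ⊤ := fun h => hPtop (top_le_iff.mp (h ▸ ZL_le P))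
  have hMs := MinSimpleBasic.isSolvable_of_isCoatom hG hM
  have hMZ : M ≤ Subgroup.normalizer (ZL P : Set G) :=
    le_normalizer_ZL hMs (MinSimpleBasic.odd_card_subgroup hG M) hp2 hP hO
  have hNZ : Subgroup.normalizer (ZL P : Set G) = M :=
    MinSimpleBasic.normalizer_eq_of_coatom hG hM hZ1 hZtop hMZ
  have hNP : Subgroup.normalizer (P : Set G) ≤ M := hNZ ▸ normalizer_le_normalizer_ZL P
  have hPHs : IsSyl p P H :=
    isSyl_of_normalizer_le hPH (hP.mono (le_inf hPH hP.le) inf_le_right)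
      (le_inf inf_le_left (inf_le_right.trans hNP))
  have h2 := le_sup_normalizer_ZL (MinSimpleBasic.isSolvable_of_ne_top hG hH)
    (MinSimpleBasic.odd_card_subgroup hG H) hp2 hPHs
  refine h2.trans (sup_le ?_ (inf_le_right.trans hNZ.le))
  refine hinv _ (coprime_of_isPi_primesNotDvd (piCoreOf_isPi _ _)) ?_
  exact (hBP.trans hPH).trans (le_normalizer_piCoreOf _ _)

/-- If `O_{p'}(M) = 1` and every `B`-invariant `p'`-subgroup of `G` lies in `M`, then `M` is the
only maximal subgroup containing the `p`-subgroup `B ≠ 1`. -/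
theorem inUniqueMaximal_of_core_eq_bot (hG : IsMinSimpleOddOrder G) {M B : Subgroup G}
    (hM : IsCoatom M) {p : ℕ} [Fact p.Prime] (hBp : IsPGroup p B) (hB1 : B ≠ ⊥) (hBM : B ≤ M)
    (hinv : ∀ Y : Subgroup G, (Nat.card Y).Coprime p → B ≤ Subgroup.normalizer (Y : Set G) → Y ≤ M)
    (hO : piCoreOf (primesNotDvd p) M = ⊥) : InUniqueMaximal B :=
  inUniqueMaximal_of hG hM hBp hB1 hBM hinv
    (fun P hP hBP H hH hPH => le_of_core_eq_bot hG hM hB1 hinv hO P hP hBP H hH hPH)

end Cfsg.Agent.OddOrderLocal.UniqZL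
end
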