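import Cfsg.Prelude.Def_OddOrderLocal
import Cfsg.Agent.Lib.Cores
import Cfsg.Agent.Lib.NormalHall
set_option linter.all false

/-!
# Basic facts on `M_F` (`Cfsg.fittingHall`, `Cfsg.fittingHallOf`), `F(M)` (`Cfsg.fittingOf`) and
relative complements `Cfsg.IsComplIn`

`fittingHall M` is the largest normal nilpotent Hall subgroup of the finite group `M`.
-/

set_option autoImplicit false
set_option linter.style.haveILetI false

namespace Cfsg.Agent.OddOrderLocal.FittingHall

open Subgroup Cfsg

variable {G : Type*} [Group G]

/-! ### Elements of coprime order in a nilpotent group -/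

/-- In a nilpotent group two elements of coprime (finite) orders commute. -/
theorem commute_of_coprime_orderOf [hn : Group.IsNilpotent G] {a b : G}
    (h : (orderOf a).Coprime (orderOf b)) : Commute a b := by
  revert a b
  refine Group.nilpotent_center_quotient_ind
    (P := fun G _ _ => ∀ {a b : G}, (orderOf a).Coprime (orderOf b) → Commute a b) G ?_ ?_
  · intro G _ _ a b _
    exact Subsingleton.elim _ _
  · intro G _ _ ih a b h
    have h1 : Commute (QuotientGroup.mk' (center G) a) (QuotientGroup.mk' (center G) b) := by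
      apply ih
      exact Nat.Coprime.coprime_dvd_left (orderOf_map_dvd _ a)
        (Nat.Coprime.coprime_dvd_right (orderOf_map_dvd _ b) h)
    set c : G := a * b * a⁻¹ * b⁻¹ with hc
    have hcZ : c ∈ center G := by
      rw [← QuotientGroup.eq_one_iff, ← QuotientGroup.mk'_apply, hc]
      simp only [map_mul, map_inv]
      rw [h1.eq]
      group
    have hcomm : ∀ x : G, Commute c x := fun x => (mem_center_iff.mp hcZ x).symm
    have hb : c ^ orderOf b = 1 := by
      have h2 : a * b * a⁻¹ = c * b := by rw [hc]; group
      have h3 : (a * b * a⁻¹) ^ orderOf b = 1 := by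
        rw [conj_pow, pow_orderOf_eq_one]; group
      rwa [h2, (hcomm b).mul_pow, pow_orderOf_eq_one, mul_one] at h3
    have ha : c ^ orderOf a = 1 := by
      have h2 : b * a⁻¹ * b⁻¹ = a⁻¹ * c := by rw [hc]; group
      have h3 : (b * a⁻¹ * b⁻¹) ^ orderOf a = 1 := by
        rw [conj_pow, inv_pow, pow_orderOf_eq_one]; group
      rwa [h2, (hcomm a⁻¹).symm.mul_pow, inv_pow, pow_orderOf_eq_one, inv_one, one_mul] at h3
    have h4 : c = 1 := by
      have h5 := Nat.dvd_gcd (orderOf_dvd_of_pow_eq_one ha) (orderOf_dvd_of_pow_eq_one hb)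
      rwa [h, Nat.dvd_one, orderOf_eq_one_iff] at h5
    have h6 : a * b = c * (b * a) := by rw [hc]; group
    rw [h4, one_mul] at h6
    exact h6

/-- Inside a nilpotent subgroup, two elements of coprime orders commute. -/
theorem commute_of_mem_of_coprime_orderOf {F : Subgroup G} (hF : Group.IsNilpotent F) {a b : G}
    (ha : a ∈ F) (hb : b ∈ F) (h : (orderOf a).Coprime (orderOf b)) : Commute a b := by
  have h1 : Commute (⟨a, ha⟩ : F) ⟨b, hb⟩ := by
    apply commute_of_coprime_orderOf
    rwa [orderOf_mk, orderOf_mk]
  exact congrArg Subtype.val h1.eq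

/-- Inside a nilpotent subgroup, two subgroups of coprime orders centralize each other. -/
theorem le_centralizer_of_coprime {F A B : Subgroup G} (hF : Group.IsNilpotent F)
    (hA : A ≤ F) (hB : B ≤ F) (h : (Nat.card A).Coprime (Nat.card B)) :
    A ≤ centralizer (B : Set G) := by
  intro a ha
  rw [mem_centralizer_iff]
  intro b hb
  refine (commute_of_mem_of_coprime_orderOf hF (hA ha) (hB hb) ?_).symm.eq
  exact Nat.Coprime.coprime_dvd_left (A.orderOf_dvd_natCard ha)
    (Nat.Coprime.coprime_dvd_right (B.orderOf_dvd_natCard hb) h)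

/-! ### `fittingHall` -/

theorem fittingHall_def : fittingHall G =
    sSup {N : Subgroup G | N.Normal ∧ Group.IsNilpotent N ∧ (Nat.card N).Coprime N.index} := rfl

theorem le_fittingHall {N : Subgroup G} (hN : N.Normal) (hn : Group.IsNilpotent N)
    (hc : (Nat.card N).Coprime N.index) : N ≤ fittingHall G :=
  le_sSup ⟨hN, hn, hc⟩

/-- The join of two normal Hall subgroups is a Hall subgroup. -/
theorem coprime_index_sup [Finite G] {A B : Subgroup G} (hA : A.Normal)
    (hA' : (Nat.card A).Coprime A.index) (hB' : (Nat.card B).Coprime B.index) :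
    (Nat.card (A ⊔ B : Subgroup G)).Coprime (A ⊔ B).index := by
  refine Nat.Coprime.coprime_dvd_left (Lib.Cores.card_sup_dvd A B hA) ?_
  exact Nat.Coprime.mul_left
    (Nat.Coprime.coprime_dvd_right (index_dvd_of_le le_sup_left) hA')
    (Nat.Coprime.coprime_dvd_right (index_dvd_of_le le_sup_right) hB')

/-- `M_F` is a normal nilpotent Hall subgroup of the finite group `M`. -/
theorem fittingHall_spec [Finite G] : (fittingHall G).Normal ∧ Group.IsNilpotent (fittingHall G) ∧
    (Nat.card (fittingHall G)).Coprime (fittingHall G).index := by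
  refine Lib.Cores.sSup_induction_of_finite
    (P := fun N => N.Normal ∧ Group.IsNilpotent N ∧ (Nat.card N).Coprime N.index) _ ?_ ?_ ?_
  · exact ⟨inferInstance, inferInstance, by simp⟩
  · exact fun N hN => hN
  · rintro A B ⟨hA, hA', hA''⟩ ⟨hB, hB', hB''⟩
    exact ⟨sup_normal A B, Lib.Cores.isNilpotent_sup hA hB hA' hB', coprime_index_sup hA hA'' hB''⟩

theorem fittingHall_isNilpotent [Finite G] : Group.IsNilpotent (fittingHall G) :=
  fittingHall_spec.2.1

theorem fittingHall_coprime [Finite G] :
    (Nat.card (fittingHall G)).Coprime (fittingHall G).index :=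
  fittingHall_spec.2.2

theorem fittingHall_le_fittingSubgroup [Finite G] : fittingHall G ≤ fittingSubgroup G :=
  Lib.Cores.le_fittingSubgroup inferInstance fittingHall_isNilpotent

theorem fittingHall_characteristic [Finite G] : (fittingHall G).Characteristic :=
  Lib.NormalHall.characteristic_of_coprime _ fittingHall_coprime

/-- A subgroup of `G` whose order is coprime to the index of `G_F` lies in `G_F`. -/
theorem le_fittingHall_of_coprime [Finite G] (K : Subgroup G)
    (hK : (Nat.card K).Coprime (fittingHall G).index) : K ≤ fittingHall G :=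
  Lib.NormalHall.le_of_card_coprime_index _ K hK

/-! ### `fittingHallOf` -/

variable (M : Subgroup G)

theorem fittingHallOf_def : fittingHallOf M = (fittingHall M).map M.subtype := rfl

theorem fittingOf_def : fittingOf M = (fittingSubgroup M).map M.subtype := rfl

theorem fittingHallOf_le : fittingHallOf M ≤ M := map_subtype_le _

theorem fittingOf_le : fittingOf M ≤ M := map_subtype_le _

theorem subgroupOf_map_subtype_self (N : Subgroup M) : (N.map M.subtype).subgroupOf M = N := by
  rw [subgroupOf, comap_map_eq_self_of_injective M.subtype_injective]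

theorem fittingHallOf_subgroupOf : (fittingHallOf M).subgroupOf M = fittingHall M :=
  subgroupOf_map_subtype_self M _

theorem fittingOf_subgroupOf : (fittingOf M).subgroupOf M = fittingSubgroup M :=
  subgroupOf_map_subtype_self M _

theorem card_fittingHallOf : Nat.card (fittingHallOf M) = Nat.card (fittingHall M) :=
  card_map_of_injective M.subtype_injective

theorem card_fittingOf : Nat.card (fittingOf M) = Nat.card (fittingSubgroup M) :=
  card_map_of_injective M.subtype_injective

theorem relIndex_fittingHallOf : (fittingHallOf M).relIndex M = (fittingHall M).index := by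
  rw [relIndex, fittingHallOf_subgroupOf]

theorem fittingHallOf_coprime_relIndex [Finite M] :
    (Nat.card (fittingHallOf M)).Coprime ((fittingHallOf M).relIndex M) := by
  rw [card_fittingHallOf, relIndex_fittingHallOf]
  exact fittingHall_coprime

theorem fittingHallOf_isNilpotent [Finite M] : Group.IsNilpotent (fittingHallOf M) :=
  (Lib.Cores.isNilpotent_map_equiv M.subtype_injective _).2 fittingHall_isNilpotent

theorem fittingOf_isNilpotent [Finite M] : Group.IsNilpotent (fittingOf M) :=
  (Lib.Cores.isNilpotent_map_equiv M.subtype_injective _).2 Lib.Cores.fittingSubgroup_isNilpotent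

theorem fittingHallOf_le_fittingOf [Finite M] : fittingHallOf M ≤ fittingOf M :=
  Subgroup.map_mono fittingHall_le_fittingSubgroup

/-- The image in `G` of a characteristic subgroup of `M` is normalized by `N_G(M)`. -/
theorem normalizer_le_normalizer_map (K : Subgroup M) (hK : K.Characteristic) :
    normalizer (M : Set G) ≤ normalizer ((K.map M.subtype : Subgroup G) : Set G) := by
  intro g hg
  set φ : MulAut M := M.normalizerMonoidHom ⟨g, hg⟩ with hφ
  have hφ' : ∀ x : M, ((φ x : M) : G) = g * x * g⁻¹ := fun x => rfl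
  rw [mem_normalizer_iff]
  intro y
  constructor
  · rintro ⟨x, hx, rfl⟩
    refine ⟨φ x, ?_, hφ' x⟩
    have h := hK.fixed φ
    rw [← h] at hx
    exact hx
  · rintro ⟨x, hx, hxy⟩
    refine ⟨φ.symm x, ?_, ?_⟩
    · have h := hK.fixed φ.symm
      rw [← h] at hx
      exact hx
    · have h1 := hφ' (φ.symm x)
      rw [MulEquiv.apply_symm_apply] at h1
      have h2 : (x : G) = g * y * g⁻¹ := hxy
      rw [h1] at h2
      have h3 : g * ((φ.symm x : M) : G) = g * y := mul_right_cancel h2
      exact mul_left_cancel h3

theorem normalizer_le_normalizer_fittingHallOf [Finite M] :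
    normalizer (M : Set G) ≤ normalizer (fittingHallOf M : Set G) :=
  normalizer_le_normalizer_map M _ fittingHall_characteristic

theorem normalizer_le_normalizer_fittingOf :
    normalizer (M : Set G) ≤ normalizer (fittingOf M : Set G) :=
  normalizer_le_normalizer_map M _ Lib.Cores.fittingSubgroup_characteristic

theorem le_normalizer_fittingHallOf [Finite M] : M ≤ normalizer (fittingHallOf M : Set G) :=
  le_normalizer.trans (normalizer_le_normalizer_fittingHallOf M)

theorem le_normalizer_fittingOf : M ≤ normalizer (fittingOf M : Set G) :=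
  le_normalizer.trans (normalizer_le_normalizer_fittingOf M)

variable {M}

/-- A nilpotent Hall subgroup of `M` normalized by `M` lies in `M_F`. -/
theorem le_fittingHallOf {N : Subgroup G} (hNM : N ≤ M) (hnorm : M ≤ normalizer (N : Set G))
    (hn : Group.IsNilpotent N) (hc : (Nat.card N).Coprime (N.relIndex M)) :
    N ≤ fittingHallOf M := by
  have h1 : N.subgroupOf M ≤ fittingHall M := by
    refine le_fittingHall ((normal_subgroupOf_iff_le_normalizer hNM).2 hnorm) ?_ ?_
    · exact (Group.isNilpotent_congr (subgroupOfEquivOfLe hNM)).2 hn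
    · rw [Nat.card_congr (subgroupOfEquivOfLe hNM).toEquiv]
      exact hc
  have h2 := Subgroup.map_mono (f := M.subtype) h1
  rwa [subgroupOf_map_subtype, inf_eq_left.2 hNM] at h2

/-- A nilpotent subgroup of `M` normalized by `M` lies in `F(M)`. -/
theorem le_fittingOf {N : Subgroup G} (hNM : N ≤ M) (hnorm : M ≤ normalizer (N : Set G))
    (hn : Group.IsNilpotent N) : N ≤ fittingOf M := by
  have h1 : N.subgroupOf M ≤ fittingSubgroup M := by
    refine Lib.Cores.le_fittingSubgroup ((normal_subgroupOf_iff_le_normalizer hNM).2 hnorm) ?_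
    exact (Group.isNilpotent_congr (subgroupOfEquivOfLe hNM)).2 hn
  have h2 := Subgroup.map_mono (f := M.subtype) h1
  rwa [subgroupOf_map_subtype, inf_eq_left.2 hNM] at h2

/-- A subgroup of `M` whose order is coprime to the index of `M_F` in `M` lies in `M_F`. -/
theorem le_fittingHallOf_of_coprime [Finite M] {K : Subgroup G} (hKM : K ≤ M)
    (hK : (Nat.card K).Coprime ((fittingHallOf M).relIndex M)) : K ≤ fittingHallOf M := by
  rw [relIndex_fittingHallOf] at hK
  have h1 : K.subgroupOf M ≤ fittingHall M := by
    apply le_fittingHall_of_coprime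
    rwa [Nat.card_congr (subgroupOfEquivOfLe hKM).toEquiv]
  have h2 := Subgroup.map_mono (f := M.subtype) h1
  rwa [subgroupOf_map_subtype, inf_eq_left.2 hKM] at h2

/-- An element of `M` whose order is coprime to the index of `M_F` in `M` lies in `M_F`. -/
theorem mem_fittingHallOf_of_coprime [Finite M] {x : G} (hx : x ∈ M)
    (h : (orderOf x).Coprime ((fittingHallOf M).relIndex M)) : x ∈ fittingHallOf M := by
  rw [← zpowers_le]
  apply le_fittingHallOf_of_coprime (zpowers_le.mpr hx)
  rwa [Nat.card_zpowers]

/-! ### Relative complements `Cfsg.IsComplIn` -/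

theorem isComplIn_iff {A B : Subgroup G} : IsComplIn A B M ↔
    A ≤ M ∧ B ≤ M ∧ A ⊓ B = ⊥ ∧ ∀ m ∈ M, ∃ a ∈ A, ∃ b ∈ B, m = a * b := Iff.rfl

/-- Relative complements, in terms of Mathlib's `IsComplement'`. -/
theorem isComplIn_iff_isComplement' {A B : Subgroup G} (hA : A ≤ M) (hB : B ≤ M) :
    IsComplIn A B M ↔ IsComplement' (A.subgroupOf M) (B.subgroupOf M) := by
  constructor
  · rintro ⟨-, -, h3, h4⟩
    apply isComplement'_of_disjoint_and_mul_eq_univ
    · rw [disjoint_iff, subgroupOf, subgroupOf, ← comap_inf, h3]
      exact bot_subgroupOf M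
    · rw [Set.eq_univ_iff_forall]
      intro m
      obtain ⟨a, ha, b, hb, hm⟩ := h4 m m.2
      exact ⟨⟨a, hA ha⟩, ha, ⟨b, hB hb⟩, hb, Subtype.ext hm.symm⟩
  · intro h
    refine ⟨hA, hB, ?_, ?_⟩
    · have h1 := h.disjoint
      rw [disjoint_iff, subgroupOf, subgroupOf, ← comap_inf] at h1
      have h2 := congrArg (Subgroup.map M.subtype) h1
      rwa [← subgroupOf, subgroupOf_map_subtype, Subgroup.map_bot, inf_assoc,
        inf_eq_left.2 hB] at h2
    · intro m hm
      obtain ⟨⟨a, b⟩, hab⟩ := h.surjective ⟨m, hm⟩
      exact ⟨a, a.2, b, b.2, (congrArg Subtype.val hab).symm⟩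

theorem card_of_isComplIn {A B : Subgroup G} (h : IsComplIn A B M) :
    Nat.card M = Nat.card A * Nat.card B := by
  have h1 := ((isComplIn_iff_isComplement' h.1 h.2.1).1 h).card_mul_card
  rw [Nat.card_congr (subgroupOfEquivOfLe h.1).toEquiv,
    Nat.card_congr (subgroupOfEquivOfLe h.2.1).toEquiv] at h1
  exact h1.symm

theorem relIndex_left_of_isComplIn {A B : Subgroup G} (h : IsComplIn A B M) :
    A.relIndex M = Nat.card B := by
  have h1 := ((isComplIn_iff_isComplement' h.1 h.2.1).1 h).symm.index_eq_card
  rwa [Nat.card_congr (subgroupOfEquivOfLe h.2.1).toEquiv] at h1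

theorem relIndex_right_of_isComplIn {A B : Subgroup G} (h : IsComplIn A B M) :
    B.relIndex M = Nat.card A := by
  have h1 := ((isComplIn_iff_isComplement' h.1 h.2.1).1 h).index_eq_card
  rwa [Nat.card_congr (subgroupOfEquivOfLe h.1).toEquiv] at h1

theorem isComplIn_symm {A B : Subgroup G} (h : IsComplIn A B M) : IsComplIn B A M :=
  (isComplIn_iff_isComplement' h.2.1 h.1).2 ((isComplIn_iff_isComplement' h.1 h.2.1).1 h).symm

theorem sup_of_isComplIn {A B : Subgroup G} (h : IsComplIn A B M) : A ⊔ B = M := by
  refine le_antisymm (sup_le h.1 h.2.1) ?_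
  intro m hm
  obtain ⟨a, ha, b, hb, rfl⟩ := h.2.2.2 m hm
  exact mul_mem_sup ha hb

end Cfsg.Agent.OddOrderLocal.FittingHall
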