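import Mathlib
import Cfsg.Prelude.Def_OddOrderLocal
set_option linter.all false

set_option autoImplicit false

/-!
Basic facts on `Cfsg.piCore π G = O_π(G)`.
-/

namespace Cfsg.Agent.OddOrderLocal.PiCore

open Cfsg

universe u v

/-- The join of a subgroup and a normal subgroup has order dividing the product of the orders. -/
theorem card_sup_dvd {G : Type u} [Group G] (H K : Subgroup G) [K.Normal] :
    Nat.card ↥(H ⊔ K) ∣ Nat.card H * Nat.card K := by
  have h1 : Nat.card K * K.relIndex (H ⊔ K) = Nat.card ↥(H ⊔ K) := by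
    have := Subgroup.relIndex_mul_relIndex (⊥ : Subgroup G) K (H ⊔ K) bot_le le_sup_right
    simpa using this
  rw [← h1, Subgroup.relIndex_sup_right, mul_comm (Nat.card H)]
  exact Nat.mul_dvd_mul_left _ (Subgroup.relIndex_dvd_card K H)

/-- The π-core of a finite group is a π-group. -/
theorem piCore_isPi {G : Type u} [Group G] [Finite G] (π : Set ℕ) :
    ∀ p : ℕ, p.Prime → p ∣ Nat.card (Cfsg.piCore π G) → p ∈ π := by
  -- the set of normal π-subgroups is finite and closed under joins
  classical
  let S : Set (Subgroup G) := {N : Subgroup G | N.Normal ∧ ∀ p : ℕ, p.Prime → p ∣ Nat.card N → p ∈ π}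
  have hfin : S.Finite := Set.toFinite S
  have key : ∀ T : Finset (Subgroup G), (↑T : Set (Subgroup G)) ⊆ S →
      (sSup (↑T : Set (Subgroup G))) ∈ S := by
    intro T
    induction T using Finset.induction_on with
    | empty =>
      intro _
      simp only [Finset.coe_empty, sSup_empty]
      refine ⟨inferInstance, ?_⟩
      intro p hp hdvd
      simp only [Subgroup.card_bot] at hdvd
      exact absurd (Nat.dvd_one.mp hdvd) hp.one_lt.ne'
    | insert a T _ ih =>
      intro h
      rw [Finset.coe_insert] at h ⊢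
      rw [sSup_insert]
      have ha : a ∈ S := h (Set.mem_insert _ _)
      have hT : sSup (↑T : Set (Subgroup G)) ∈ S := ih (fun x hx => h (Set.mem_insert_of_mem _ hx))
      obtain ⟨ha1, ha2⟩ := ha
      obtain ⟨hT1, hT2⟩ := hT
      refine ⟨inferInstance, ?_⟩
      intro p hp hdvd
      have := hdvd.trans (card_sup_dvd a (sSup (↑T : Set (Subgroup G))))
      rcases (hp.dvd_mul).mp this with h1 | h1
      · exact ha2 p hp h1
      · exact hT2 p hp h1
  have := key hfin.toFinset (by simp)
  rw [Set.Finite.coe_toFinset] at this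
  exact this.2

/-- A normal π-subgroup is contained in the π-core. -/
theorem le_piCore {G : Type u} [Group G] {π : Set ℕ} {N : Subgroup G} (hN : N.Normal)
    (h : ∀ p : ℕ, p.Prime → p ∣ Nat.card N → p ∈ π) : N ≤ Cfsg.piCore π G :=
  le_sSup ⟨hN, h⟩

theorem piCore_le_iff {G : Type u} [Group G] {π : Set ℕ} {H : Subgroup G} :
    Cfsg.piCore π G ≤ H ↔
      ∀ N : Subgroup G, N.Normal → (∀ p : ℕ, p.Prime → p ∣ Nat.card N → p ∈ π) → N ≤ H := by
  constructor
  · intro h N hN hp
    exact (le_piCore hN hp).trans h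
  · intro h
    exact sSup_le (fun N hN => h N hN.1 hN.2)

/-- The π-core is monotone in π. -/
theorem piCore_mono {G : Type u} [Group G] {π ρ : Set ℕ} (h : π ⊆ ρ) :
    Cfsg.piCore π G ≤ Cfsg.piCore ρ G :=
  sSup_le_sSup (fun _ hN => ⟨hN.1, fun p hp hd => h (hN.2 p hp hd)⟩)

/-- The π-core depends only on the primes of π. -/
theorem piCore_congr_primes {G : Type u} [Group G] {π ρ : Set ℕ}
    (h : ∀ p : ℕ, p.Prime → (p ∈ π ↔ p ∈ ρ)) : Cfsg.piCore π G = Cfsg.piCore ρ G := by
  apply le_antisymm
  · exact sSup_le_sSup (fun _ hN => ⟨hN.1, fun p hp hd => (h p hp).mp (hN.2 p hp hd)⟩)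
  · exact sSup_le_sSup (fun _ hN => ⟨hN.1, fun p hp hd => (h p hp).mpr (hN.2 p hp hd)⟩)

/-- The π-core is carried to the π-core by an isomorphism. -/
theorem piCore_map_equiv {G : Type u} {H : Type v} [Group G] [Group H] (π : Set ℕ) (e : G ≃* H) :
    (Cfsg.piCore π G).map e.toMonoidHom = Cfsg.piCore π H := by
  have key : ∀ {A : Type u} {B : Type v} [Group A] [Group B] (f : A ≃* B),
      (Cfsg.piCore π A).map f.toMonoidHom ≤ Cfsg.piCore π B := by
    intro A B _ _ f
    rw [Subgroup.map_le_iff_le_comap, piCore_le_iff]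
    intro N hN hp
    rw [← Subgroup.map_le_iff_le_comap]
    refine le_piCore (hN.map f.toMonoidHom f.surjective) ?_
    intro p pp hd
    refine hp p pp ?_
    rwa [Nat.card_congr (f.subgroupMap N).toEquiv]
  have key2 : ∀ {A : Type v} {B : Type u} [Group A] [Group B] (f : A ≃* B),
      (Cfsg.piCore π A).map f.toMonoidHom ≤ Cfsg.piCore π B := by
    intro A B _ _ f
    rw [Subgroup.map_le_iff_le_comap, piCore_le_iff]
    intro N hN hp
    rw [← Subgroup.map_le_iff_le_comap]
    refine le_piCore (hN.map f.toMonoidHom f.surjective) ?_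
    intro p pp hd
    refine hp p pp ?_
    rwa [Nat.card_congr (f.subgroupMap N).toEquiv]
  apply le_antisymm (key e)
  have h2 := key2 e.symm
  have h3 := Subgroup.map_mono (f := e.toMonoidHom) h2
  rw [Subgroup.map_map] at h3
  have : e.toMonoidHom.comp e.symm.toMonoidHom = MonoidHom.id H := by
    ext x; simp
  rwa [this, Subgroup.map_id] at h3

/-- The π-core is a characteristic subgroup. -/
theorem piCore_characteristic {G : Type u} [Group G] (π : Set ℕ) :
    (Cfsg.piCore π G).Characteristic := by
  rw [Subgroup.characteristic_iff_map_eq]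
  intro f
  exact piCore_map_equiv π f

/-- Order of the preimage of a subgroup of a quotient. -/
theorem card_comap_mk' {G : Type u} [Group G] (N : Subgroup G) [N.Normal]
    (H : Subgroup (G ⧸ N)) :
    Nat.card (H.comap (QuotientGroup.mk' N)) = Nat.card N * Nat.card H := by
  have hle : N ≤ H.comap (QuotientGroup.mk' N) := by
    intro x hx
    rw [Subgroup.mem_comap]
    have : QuotientGroup.mk' N x = 1 := by
      rw [← MonoidHom.mem_ker, QuotientGroup.ker_mk']; exact hx
    rw [this]; exact H.one_mem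
  have h1 : Nat.card N * N.relIndex (H.comap (QuotientGroup.mk' N)) =
      Nat.card (H.comap (QuotientGroup.mk' N)) := by
    have := Subgroup.relIndex_mul_relIndex (⊥ : Subgroup G) N (H.comap (QuotientGroup.mk' N))
      bot_le hle
    simpa using this
  rw [← h1]
  congr 1
  have h2 := Subgroup.relIndex_ker (K := H.comap (QuotientGroup.mk' N)) (QuotientGroup.mk' N)
  rw [QuotientGroup.ker_mk', Subgroup.map_comap_eq_self_of_surjective
    (QuotientGroup.mk'_surjective N)] at h2
  exact h2

/-- A normal π-subgroup of `G / O_π(G)` is trivial. -/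
theorem eq_bot_of_normal_pi {G : Type u} [Group G] [Finite G] {π : Set ℕ}
    (H : Subgroup (G ⧸ Cfsg.piCore π G)) (hH : H.Normal)
    (h : ∀ p : ℕ, p.Prime → p ∣ Nat.card H → p ∈ π) : H = ⊥ := by
  have h1 : H.comap (QuotientGroup.mk' (Cfsg.piCore π G)) ≤ Cfsg.piCore π G := by
    refine le_piCore (hH.comap _) ?_
    intro p hp hd
    rw [card_comap_mk'] at hd
    rcases (hp.dvd_mul).mp hd with h1 | h1
    · exact piCore_isPi π p hp h1
    · exact h p hp h1
  have h2 := Subgroup.map_mono (f := QuotientGroup.mk' (Cfsg.piCore π G)) h1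
  rw [Subgroup.map_comap_eq_self_of_surjective (QuotientGroup.mk'_surjective _)] at h2
  rw [eq_bot_iff]
  refine h2.trans ?_
  rw [Subgroup.map_le_iff_le_comap]
  intro x hx
  rw [Subgroup.mem_comap, Subgroup.mem_bot, ← MonoidHom.mem_ker, QuotientGroup.ker_mk']
  exact hx

/-- `O_π(G / O_π(G)) = 1`. -/
theorem piCore_quotient_eq_bot {G : Type u} [Group G] [Finite G] (π : Set ℕ) :
    Cfsg.piCore π (G ⧸ Cfsg.piCore π G) = ⊥ :=
  eq_bot_of_normal_pi _ inferInstance (piCore_isPi π)

end Cfsg.Agent.OddOrderLocal.PiCore
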