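import Mathlib
import Cfsg.Prelude.Def_OddOrderLocal
import Cfsg.Agent.Lib.Cores
import Cfsg.Agent.Lib.NormalHall
import Cfsg.Agent.OddOrderLocal.FittingHall
import Cfsg.Agent.OddOrderLocal.SigmaCompl809
set_option linter.all false

/-!
Finite nilpotent groups `N`: `O_p(N)` is the Sylow `p`-subgroup, `N = O_p(N) × O_{p'}(N)`; the same
for a nilpotent subgroup `H` of `G`, viewed in `G`.
-/

set_option autoImplicit false

namespace Cfsg.Agent.OddOrderLocal.NilpotentCores

open Subgroup Cfsg

section Abstract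

variable {N : Type*} [Group N] [Finite N]

theorem pCore_eq_sylow (hN : Group.IsNilpotent N) {p : ℕ} [Fact p.Prime] (P : Sylow p N) :
    pCore p N = (P : Subgroup N) := by
  apply le_antisymm (Lib.Cores.pCore_le_sylow P)
  have := hN
  exact Lib.Cores.le_pCore inferInstance P.isPGroup'

theorem le_pCore (hN : Group.IsNilpotent N) {p : ℕ} [Fact p.Prime] {A : Subgroup N}
    (hA : IsPGroup p A) : A ≤ pCore p N := by
  obtain ⟨P, hP⟩ := hA.exists_le_sylow
  rw [pCore_eq_sylow hN P]
  exact hP

theorem not_dvd_index_pCore (hN : Group.IsNilpotent N) (p : ℕ) [Fact p.Prime] :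
    ¬ p ∣ (pCore p N).index := by
  obtain ⟨P⟩ := (inferInstance : Nonempty (Sylow p N))
  rw [pCore_eq_sylow hN P]
  exact P.not_dvd_index

theorem pCore_sup_pPrimeCore (hN : Group.IsNilpotent N) (p : ℕ) [hp : Fact p.Prime] :
    pCore p N ⊔ pPrimeCore p N = ⊤ := by
  refine Lib.Cores.eq_top_of_sylow_le fun r hr => ?_
  obtain ⟨R⟩ := (inferInstance : Nonempty (Sylow r N))
  refine ⟨R, ?_⟩
  by_cases h : r = p
  · subst h
    rw [← pCore_eq_sylow hN R]
    exact le_sup_left
  · refine le_trans ?_ le_sup_right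
    have := hN
    refine Lib.Cores.le_pPrimeCore inferInstance ?_
    obtain ⟨n, hn⟩ := (IsPGroup.iff_card).mp R.isPGroup'
    rw [hn]
    exact Nat.Coprime.pow_left n ((Nat.coprime_primes hr.out hp.out).mpr h)

theorem card_eq (hN : Group.IsNilpotent N) (p : ℕ) [hp : Fact p.Prime] :
    Nat.card (pCore p N) * Nat.card (pPrimeCore p N) = Nat.card N := by
  have h1 := Subgroup.IsComplement'.card_mul_card
    (Subgroup.isComplement'_of_disjoint_and_mul_eq_univ (H := pCore p N) (K := pPrimeCore p N) ?_ ?_)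
  · exact h1
  · rw [disjoint_iff]
    exact Lib.Cores.pCore_inf_pPrimeCore p
  · rw [← Subgroup.coe_mul_of_right_le_normalizer_left, pCore_sup_pPrimeCore hN p]
    · rfl
    · exact le_normalizer_of_normal

theorem coprime_index_pPrimeCore (hN : Group.IsNilpotent N) (p : ℕ) [hp : Fact p.Prime]
    {n : ℕ} (hn : n.Coprime p) : n.Coprime (pPrimeCore p N).index := by
  have h1 := card_eq hN p
  have h2 := (pPrimeCore p N).card_mul_index
  have h3 : (pPrimeCore p N).index = Nat.card (pCore p N) := by
    have h4 : Nat.card (pPrimeCore p N) * (pPrimeCore p N).index =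
        Nat.card (pPrimeCore p N) * Nat.card (pCore p N) := by
      rw [h2, ← h1, mul_comm]
    exact Nat.eq_of_mul_eq_mul_left Nat.card_pos h4
  rw [h3]
  obtain ⟨k, hk⟩ := (IsPGroup.iff_card).mp (Lib.Cores.pCore_isPGroup (G := N) p)
  rw [hk]
  exact Nat.Coprime.pow_right k hn

theorem le_pPrimeCore (hN : Group.IsNilpotent N) {p : ℕ} [hp : Fact p.Prime] {A : Subgroup N}
    (hA : (Nat.card A).Coprime p) : A ≤ pPrimeCore p N :=
  Lib.NormalHall.le_of_card_coprime_index _ A (coprime_index_pPrimeCore hN p hA)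

/-- A finite nilpotent group all of whose `O_p` are commutative is commutative. -/
theorem isMulCommutative_of_pCore (hN : Group.IsNilpotent N)
    (h : ∀ p : ℕ, p.Prime → IsMulCommutative (pCore p N)) : IsMulCommutative N := by
  have := hN
  refine SigmaCompl809.isMulCommutative_of_nilpotent fun p hp P _ => ?_
  rw [← pCore_eq_sylow hN P]
  exact h p hp.out

end Abstract

section Relative

variable {G : Type*} [Group G]

/-- `O_p(H)` as a subgroup of `G`. -/
def opOf (p : ℕ) (H : Subgroup G) : Subgroup G := (pCore p ↥H).map H.subtype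

/-- `O_{p'}(H)` as a subgroup of `G`. -/
def oppOf (p : ℕ) (H : Subgroup G) : Subgroup G := (pPrimeCore p ↥H).map H.subtype

theorem opOf_def (p : ℕ) (H : Subgroup G) : opOf p H = (pCore p ↥H).map H.subtype := rfl

theorem oppOf_def (p : ℕ) (H : Subgroup G) : oppOf p H = (pPrimeCore p ↥H).map H.subtype := rfl

variable {H : Subgroup G} {p : ℕ}

theorem opOf_le : opOf p H ≤ H := map_subtype_le _

theorem oppOf_le : oppOf p H ≤ H := map_subtype_le _

theorem isPGroup_opOf : IsPGroup p (opOf p H) := (Lib.Cores.pCore_isPGroup p).map _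

theorem card_opOf : Nat.card (opOf p H) = Nat.card (pCore p ↥H) :=
  card_map_of_injective H.subtype_injective

theorem card_oppOf : Nat.card (oppOf p H) = Nat.card (pPrimeCore p ↥H) :=
  card_map_of_injective H.subtype_injective

/-- `O_p(H)` (abstract) is isomorphic to its image in `G`. -/
noncomputable def opEquiv (p : ℕ) (H : Subgroup G) : pCore p ↥H ≃* opOf p H :=
  (pCore p ↥H).equivMapOfInjective H.subtype H.subtype_injective

noncomputable def oppEquiv (p : ℕ) (H : Subgroup G) : pPrimeCore p ↥H ≃* oppOf p H :=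
  (pPrimeCore p ↥H).equivMapOfInjective H.subtype H.subtype_injective

theorem isMulCommutative_congr {A B : Type*} [Group A] [Group B] (e : A ≃* B) :
    IsMulCommutative A ↔ IsMulCommutative B := by
  constructor
  · rintro ⟨⟨h⟩⟩
    refine ⟨⟨fun x y => ?_⟩⟩
    apply e.symm.injective
    rw [map_mul, map_mul, h]
  · rintro ⟨⟨h⟩⟩
    refine ⟨⟨fun x y => ?_⟩⟩
    apply e.injective
    rw [map_mul, map_mul, h]

theorem isMulCommutative_opOf : IsMulCommutative (opOf p H) ↔ IsMulCommutative (pCore p ↥H) :=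
  (isMulCommutative_congr (opEquiv p H)).symm

theorem isCyclic_congr {A B : Type*} [Group A] [Group B] (e : A ≃* B) : IsCyclic A ↔ IsCyclic B :=
  ⟨fun _ => isCyclic_of_surjective e e.surjective,
    fun _ => isCyclic_of_surjective e.symm e.symm.surjective⟩

theorem isCyclic_oppOf : IsCyclic (oppOf p H) ↔ IsCyclic (pPrimeCore p ↥H) :=
  (isCyclic_congr (oppEquiv p H)).symm

theorem normalizer_le_normalizer_opOf : normalizer (H : Set G) ≤ normalizer (opOf p H : Set G) :=
  FittingHall.normalizer_le_normalizer_map H _ (Lib.Cores.pCore_characteristic p)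

theorem normalizer_le_normalizer_oppOf : normalizer (H : Set G) ≤ normalizer (oppOf p H : Set G) :=
  FittingHall.normalizer_le_normalizer_map H _ (Lib.Cores.pPrimeCore_characteristic p)

variable [Finite G]

theorem card_mul_card (hH : Group.IsNilpotent H) (p : ℕ) [Fact p.Prime] :
    Nat.card (opOf p H) * Nat.card (oppOf p H) = Nat.card H := by
  rw [card_opOf, card_oppOf, card_eq hH p]

theorem coprime_oppOf (p : ℕ) : (Nat.card (oppOf p H)).Coprime p := by
  rw [card_oppOf]
  exact Lib.Cores.pPrimeCore_coprime p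

theorem sup_eq (hH : Group.IsNilpotent H) (p : ℕ) [Fact p.Prime] : opOf p H ⊔ oppOf p H = H := by
  have h := congrArg (Subgroup.map H.subtype) (pCore_sup_pPrimeCore hH p)
  rwa [Subgroup.map_sup, ← MonoidHom.range_eq_map, Subgroup.range_subtype] at h

theorem le_opOf (hH : Group.IsNilpotent H) [Fact p.Prime] {A : Subgroup G} (hAH : A ≤ H)
    (hA : IsPGroup p A) : A ≤ opOf p H := by
  have h1 : A.subgroupOf H ≤ pCore p ↥H :=
    le_pCore hH (hA.of_equiv (subgroupOfEquivOfLe hAH).symm)
  have h2 := Subgroup.map_mono (f := H.subtype) h1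
  rwa [Subgroup.map_subgroupOf_eq_of_le hAH] at h2

theorem le_oppOf (hH : Group.IsNilpotent H) [Fact p.Prime] {A : Subgroup G} (hAH : A ≤ H)
    (hA : (Nat.card A).Coprime p) : A ≤ oppOf p H := by
  have h1 : A.subgroupOf H ≤ pPrimeCore p ↥H := by
    apply le_pPrimeCore hH
    rwa [Nat.card_congr (subgroupOfEquivOfLe hAH).toEquiv]
  have h2 := Subgroup.map_mono (f := H.subtype) h1
  rwa [Subgroup.map_subgroupOf_eq_of_le hAH] at h2

theorem not_dvd_relIndex_opOf (hH : Group.IsNilpotent H) (p : ℕ) [Fact p.Prime] :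
    ¬ p ∣ (opOf p H).relIndex H := by
  have h1 : (opOf p H).subgroupOf H = pCore p ↥H := FittingHall.subgroupOf_map_subtype_self H _
  rw [relIndex, h1]
  exact not_dvd_index_pCore hH p

/-- `O_p(H)` and `O_{p'}(H)` commute elementwise. -/
theorem commute_op_opp (hH : Group.IsNilpotent H) [hp : Fact p.Prime] {a b : G}
    (ha : a ∈ opOf p H) (hb : b ∈ oppOf p H) : a * b = b * a := by
  refine (FittingHall.commute_of_mem_of_coprime_orderOf hH (opOf_le ha) (oppOf_le hb) ?_).eq
  have h1 : (Nat.card (opOf p H)).Coprime (Nat.card (oppOf p H)) := by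
    obtain ⟨k, hk⟩ := (IsPGroup.iff_card).mp (isPGroup_opOf (H := H) (p := p))
    rw [hk]
    exact (Nat.Coprime.pow_right k (coprime_oppOf p)).symm
  exact Nat.Coprime.coprime_dvd_left ((opOf p H).orderOf_dvd_natCard ha)
    (Nat.Coprime.coprime_dvd_right ((oppOf p H).orderOf_dvd_natCard hb) h1)

/-- A nilpotent nonabelian subgroup has a nonabelian `O_q`. -/
theorem exists_not_comm (hH : Group.IsNilpotent H) (h : ¬ IsMulCommutative H) :
    ∃ q : ℕ, q.Prime ∧ ¬ IsMulCommutative (opOf q H) := by
  by_contra hcon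
  push Not at hcon
  exact h (isMulCommutative_of_pCore hH fun q hq => isMulCommutative_opOf.mp (hcon q hq))

/-- Elements of `H` of order `q ≠ p` prime centralize `O_p(H)`. -/
theorem opOf_le_centralizer (hH : Group.IsNilpotent H) [hp : Fact p.Prime] {x : G} (hx : x ∈ H)
    (ho : (orderOf x).Coprime p) : opOf p H ≤ centralizer ({x} : Set G) := by
  intro a ha
  rw [mem_centralizer_singleton_iff]
  refine (FittingHall.commute_of_mem_of_coprime_orderOf hH (opOf_le ha) hx ?_).eq
  obtain ⟨k, hk⟩ := (IsPGroup.iff_card).mp (isPGroup_opOf (H := H) (p := p))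
  have h1 := (opOf p H).orderOf_dvd_natCard ha
  rw [hk] at h1
  exact (Nat.Coprime.coprime_dvd_right h1 (Nat.Coprime.pow_right k ho)).symm

end Relative

end Cfsg.Agent.OddOrderLocal.NilpotentCores
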