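import Mathlib
import Cfsg.Prelude.Def_OddOrderLocal
set_option linter.all false

/-!
Equivariance of the notions of `Def_OddOrderLocal` under an isomorphism `e : G ≃* H`, in particular under
`MulAut.conj g`.  Everything is stated with `Subgroup.map e.toMonoidHom`.
-/

set_option autoImplicit false

open Cfsg

namespace Cfsg.Agent.OddOrderLocal.Equivariance

universe u v

variable {G : Type u} {H : Type v} [Group G] [Group H]

/-! ### Basic subgroup facts -/

theorem mem_map_equiv' (e : G ≃* H) (A : Subgroup G) (x : H) :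
    x ∈ A.map e.toMonoidHom ↔ e.symm x ∈ A := by
  constructor
  · rintro ⟨a, ha, rfl⟩
    simpa using ha
  · intro h
    exact ⟨e.symm x, h, by simp⟩

theorem apply_mem_map (e : G ≃* H) (A : Subgroup G) (x : G) :
    e x ∈ A.map e.toMonoidHom ↔ x ∈ A := by
  rw [mem_map_equiv']; simp

theorem map_symm_map (e : G ≃* H) (A : Subgroup G) :
    (A.map e.toMonoidHom).map e.symm.toMonoidHom = A := by
  ext x
  rw [mem_map_equiv', mem_map_equiv']; simp

theorem map_map_symm (e : G ≃* H) (A : Subgroup H) :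
    (A.map e.symm.toMonoidHom).map e.toMonoidHom = A := by
  ext x
  rw [mem_map_equiv', mem_map_equiv']; simp

theorem map_le_map_iff' (e : G ≃* H) (A B : Subgroup G) :
    A.map e.toMonoidHom ≤ B.map e.toMonoidHom ↔ A ≤ B := by
  constructor
  · intro h x hx
    exact (apply_mem_map e B x).1 (h ((apply_mem_map e A x).2 hx))
  · intro h
    exact Subgroup.map_mono h

theorem map_le_iff (e : G ≃* H) (A : Subgroup G) (B : Subgroup H) :
    A.map e.toMonoidHom ≤ B ↔ A ≤ B.map e.symm.toMonoidHom := by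
  conv_lhs => rw [← map_map_symm e B]
  exact map_le_map_iff' e A _

theorem le_map_iff (e : G ≃* H) (A : Subgroup H) (B : Subgroup G) :
    A ≤ B.map e.toMonoidHom ↔ A.map e.symm.toMonoidHom ≤ B := by
  conv_lhs => rw [← map_map_symm e A]
  exact map_le_map_iff' e _ B

theorem map_eq_map_iff (e : G ≃* H) (A B : Subgroup G) :
    A.map e.toMonoidHom = B.map e.toMonoidHom ↔ A = B := by
  constructor
  · intro h
    exact le_antisymm ((map_le_map_iff' e A B).1 h.le) ((map_le_map_iff' e B A).1 h.ge)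
  · rintro rfl; rfl

theorem map_eq_iff (e : G ≃* H) (A : Subgroup G) (B : Subgroup H) :
    A.map e.toMonoidHom = B ↔ A = B.map e.symm.toMonoidHom := by
  conv_lhs => rw [← map_map_symm e B]
  exact map_eq_map_iff e A _

theorem map_inf_equiv (e : G ≃* H) (A B : Subgroup G) :
    (A ⊓ B).map e.toMonoidHom = A.map e.toMonoidHom ⊓ B.map e.toMonoidHom := by
  ext x
  simp only [mem_map_equiv', Subgroup.mem_inf]

theorem map_eq_bot_iff' (e : G ≃* H) (A : Subgroup G) :
    A.map e.toMonoidHom = ⊥ ↔ A = ⊥ := by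
  rw [map_eq_iff]; simp

theorem map_eq_top_iff' (e : G ≃* H) (A : Subgroup G) :
    A.map e.toMonoidHom = ⊤ ↔ A = ⊤ := by
  rw [map_eq_iff]
  constructor
  · intro h; rw [h]; ext x; simp
  · intro h; rw [h]; ext x; simp

/-- `M ≃* M.map e` with the target written with `toMonoidHom`. -/
def subMap (e : G ≃* H) (A : Subgroup G) : A ≃* A.map e.toMonoidHom :=
  e.subgroupMap A

theorem coe_subMap (e : G ≃* H) (A : Subgroup G) (a : A) : ((subMap e A a : _) : H) = e a := rfl

theorem card_map_equiv (e : G ≃* H) (A : Subgroup G) :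
    Nat.card (A.map e.toMonoidHom) = Nat.card A :=
  (Nat.card_congr (e.subgroupMap A).toEquiv).symm

theorem isCoatom_map (e : G ≃* H) (A : Subgroup G) :
    IsCoatom (A.map e.toMonoidHom) ↔ IsCoatom A := by
  constructor
  · rintro ⟨h1, h2⟩
    refine ⟨fun h => h1 ((map_eq_top_iff' e A).2 h), fun B hB => ?_⟩
    rw [← map_eq_top_iff' e]
    apply h2
    exact ⟨(map_le_map_iff' e A B).2 hB.1, fun h => hB.2 ((map_le_map_iff' e B A).1 h)⟩
  · rintro ⟨h1, h2⟩
    refine ⟨fun h => h1 ((map_eq_top_iff' e A).1 h), fun B hB => ?_⟩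
    have := h2 (B.map e.symm.toMonoidHom) ?_
    · rw [← map_map_symm e B, this]; ext x; simp
    · refine ⟨(map_le_iff e A B).1 hB.1, fun h => hB.2 ?_⟩
      exact (le_map_iff e B A).2 h

theorem map_normalizer (e : G ≃* H) (A : Subgroup G) :
    (Subgroup.normalizer (A : Set G)).map e.toMonoidHom =
      Subgroup.normalizer ((A.map e.toMonoidHom : Subgroup H) : Set H) := by
  ext x
  rw [mem_map_equiv', Subgroup.mem_normalizer_iff, Subgroup.mem_normalizer_iff]
  constructor
  · intro h y
    have := h (e.symm y)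
    simp only [mem_map_equiv', map_mul, map_inv] at this ⊢
    exact this
  · intro h y
    have := h (e y)
    simp only [mem_map_equiv', map_mul, map_inv] at this ⊢
    simpa using this

theorem map_normalizer_set (e : G ≃* H) (A : Set G) :
    (Subgroup.normalizer A).map e.toMonoidHom = Subgroup.normalizer (e '' A) := by
  ext x
  rw [mem_map_equiv', Subgroup.mem_set_normalizer_iff, Subgroup.mem_set_normalizer_iff]
  have key : ∀ z : H, z ∈ e '' A ↔ e.symm z ∈ A := by
    intro z
    constructor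
    · rintro ⟨a, ha, rfl⟩; simpa using ha
    · intro h; exact ⟨_, h, by simp⟩
  constructor
  · intro h y
    have := h (e.symm y)
    simp only [key, map_mul, map_inv] at this ⊢
    exact this
  · intro h y
    have := h (e y)
    simp only [key, map_mul, map_inv] at this ⊢
    simpa using this

theorem map_centralizer (e : G ≃* H) (A : Set G) :
    (Subgroup.centralizer A).map e.toMonoidHom = Subgroup.centralizer (e '' A) := by
  ext x
  rw [mem_map_equiv', Subgroup.mem_centralizer_iff, Subgroup.mem_centralizer_iff]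
  constructor
  · rintro h _ ⟨a, ha, rfl⟩
    have := congrArg e (h a ha)
    simpa using this
  · intro h a ha
    have := congrArg e.symm (h (e a) ⟨a, ha, rfl⟩)
    simpa using this

theorem map_centralizer_subgroup (e : G ≃* H) (A : Subgroup G) :
    (Subgroup.centralizer (A : Set G)).map e.toMonoidHom =
      Subgroup.centralizer ((A.map e.toMonoidHom : Subgroup H) : Set H) := by
  rw [map_centralizer]; rfl

theorem map_centralizer_singleton (e : G ≃* H) (x : G) :
    (Subgroup.centralizer ({x} : Set G)).map e.toMonoidHom =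
      Subgroup.centralizer ({e x} : Set H) := by
  rw [map_centralizer, Set.image_singleton]

/-! ### Notions attached to an abstract group -/

section Abstract

variable {A : Type u} {B : Type v} [Group A] [Group B]

theorem normal_map_equiv (f : A ≃* B) {N : Subgroup A} (hN : N.Normal) :
    (N.map f.toMonoidHom).Normal :=
  hN.map _ f.surjective

theorem index_map_equiv' (f : A ≃* B) (N : Subgroup A) :
    (N.map f.toMonoidHom).index = N.index :=
   Subgroup.index_map_of_bijective f.bijective N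

theorem isNilpotent_map_equiv (f : A ≃* B) (N : Subgroup A) :
    Group.IsNilpotent (N.map f.toMonoidHom) ↔ Group.IsNilpotent N := by
  constructor
  · intro h
    exact Group.nilpotent_of_mulEquiv (subMap f N).symm
  · intro h
    exact Group.nilpotent_of_mulEquiv (subMap f N)

theorem isPGroup_map_equiv (f : A ≃* B) (p : ℕ) (N : Subgroup A) :
    IsPGroup p (N.map f.toMonoidHom) ↔ IsPGroup p N := by
  constructor
  · intro h
    exact h.of_equiv (subMap f N).symm
  · intro h
    exact h.of_equiv (subMap f N)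

theorem isMulCommutative_map_equiv (f : A ≃* B) (N : Subgroup A) :
    IsMulCommutative (N.map f.toMonoidHom) ↔ IsMulCommutative N := by
  constructor
  · intro h
    refine ⟨⟨fun x y => ?_⟩⟩
    have := h.is_comm.comm (subMap f N x) (subMap f N y)
    exact (subMap f N).injective (by rw [map_mul, map_mul]; exact this)
  · intro h
    refine ⟨⟨fun x y => ?_⟩⟩
    have := h.is_comm.comm ((subMap f N).symm x) ((subMap f N).symm y)
    exact (subMap f N).symm.injective (by rw [map_mul, map_mul]; exact this)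

theorem isCyclic_map_equiv (f : A ≃* B) (N : Subgroup A) :
    IsCyclic (N.map f.toMonoidHom) ↔ IsCyclic N :=
  (MulEquiv.isCyclic (subMap f N)).symm

theorem isSolvable_map_equiv (f : A ≃* B) (N : Subgroup A) :
    Group.IsSolvable (N.map f.toMonoidHom) ↔ Group.IsSolvable N := by
  constructor
  · intro h
    exact Group.isSolvable_of_isSolvable_injective (f := (subMap f N).toMonoidHom) (subMap f N).injective
  · intro h
    exact Group.isSolvable_of_isSolvable_injective (f := (subMap f N).symm.toMonoidHom) (subMap f N).symm.injective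

/-- image of a supremum of a class of subgroups stable under isomorphism -/
theorem map_sSup_equiv (f : A ≃* B) (S : Set (Subgroup A)) (T : Set (Subgroup B))
    (h1 : ∀ N ∈ S, N.map f.toMonoidHom ∈ T) (h2 : ∀ N ∈ T, N.map f.symm.toMonoidHom ∈ S) :
    (sSup S).map f.toMonoidHom = sSup T := by
  apply le_antisymm
  · rw [map_le_iff]
    apply sSup_le
    intro N hN
    rw [← map_le_iff]
    exact le_sSup (h1 N hN)
  · apply sSup_le
    intro N hN
    rw [le_map_iff]
    exact le_sSup (h2 N hN)

theorem piCore_map (f : A ≃* B) (π : Set ℕ) :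
    (piCore π A).map f.toMonoidHom = piCore π B := by
  apply map_sSup_equiv
  · rintro N ⟨hN, hN2⟩
    refine ⟨normal_map_equiv f hN, fun p hp hd => hN2 p hp ?_⟩
    rwa [card_map_equiv] at hd
  · rintro N ⟨hN, hN2⟩
    refine ⟨normal_map_equiv f.symm hN, fun p hp hd => hN2 p hp ?_⟩
    rwa [card_map_equiv] at hd

theorem fittingHall_map (f : A ≃* B) :
    (fittingHall A).map f.toMonoidHom = fittingHall B := by
  apply map_sSup_equiv
  · rintro N ⟨hN, hN2, hN3⟩
    refine ⟨normal_map_equiv f hN, (isNilpotent_map_equiv f N).2 hN2, ?_⟩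
    rwa [card_map_equiv, index_map_equiv']
  · rintro N ⟨hN, hN2, hN3⟩
    refine ⟨normal_map_equiv f.symm hN, (isNilpotent_map_equiv f.symm N).2 hN2, ?_⟩
    rwa [card_map_equiv, index_map_equiv']

theorem fittingSubgroup_map (f : A ≃* B) :
    (fittingSubgroup A).map f.toMonoidHom = fittingSubgroup B := by
  apply map_sSup_equiv
  · rintro N ⟨hN, hN2⟩
    exact ⟨normal_map_equiv f hN, (isNilpotent_map_equiv f N).2 hN2⟩
  · rintro N ⟨hN, hN2⟩
    exact ⟨normal_map_equiv f.symm hN, (isNilpotent_map_equiv f.symm N).2 hN2⟩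

theorem pCore_map (f : A ≃* B) (p : ℕ) :
    (pCore p A).map f.toMonoidHom = pCore p B := by
  apply map_sSup_equiv
  · rintro N ⟨hN, hN2⟩
    exact ⟨normal_map_equiv f hN, (isPGroup_map_equiv f p N).2 hN2⟩
  · rintro N ⟨hN, hN2⟩
    exact ⟨normal_map_equiv f.symm hN, (isPGroup_map_equiv f.symm p N).2 hN2⟩

theorem pPrimeCore_map (f : A ≃* B) (p : ℕ) :
    (pPrimeCore p A).map f.toMonoidHom = pPrimeCore p B := by
  apply map_sSup_equiv
  · rintro N ⟨hN, hN2⟩
    refine ⟨normal_map_equiv f hN, ?_⟩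
    rwa [card_map_equiv]
  · rintro N ⟨hN, hN2⟩
    refine ⟨normal_map_equiv f.symm hN, ?_⟩
    rwa [card_map_equiv]

theorem pRankLE_of_equiv (f : A ≃* B) {p k : ℕ} (h : PRankLE p k A) : PRankLE p k B := by
  intro N hN hp
  have h1 : IsMulCommutative (N.map f.symm.toMonoidHom) := (isMulCommutative_map_equiv f.symm N).2 hN
  have := h (N.map f.symm.toMonoidHom) h1 (by
    intro a ha
    rw [mem_map_equiv'] at ha
    have := hp _ ha
    apply f.injective
    rw [map_pow, map_one]
    exact this)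
  rwa [card_map_equiv] at this

theorem pRankLE_congr (f : A ≃* B) (p k : ℕ) : PRankLE p k A ↔ PRankLE p k B :=
  ⟨pRankLE_of_equiv f, pRankLE_of_equiv f.symm⟩

theorem rankLE_congr (f : A ≃* B) (k : ℕ) : RankLE k A ↔ RankLE k B :=
  forall_congr' fun p => imp_congr_right fun _ => pRankLE_congr f p k

/-- transport of a Sylow subgroup along an isomorphism -/
def sylowMap {p : ℕ} (f : A ≃* B) (P : Sylow p A) : Sylow p B :=
  P.comapOfInjective f.symm.toMonoidHom f.symm.injective
    (by rw [MonoidHom.range_eq_top.2 f.symm.surjective]; exact le_top)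

theorem coe_sylowMap {p : ℕ} (f : A ≃* B) (P : Sylow p A) :
    ((sylowMap f P : Sylow p B) : Subgroup B) = (P : Subgroup A).map f.toMonoidHom := by
  ext x
  rw [mem_map_equiv']
  rfl

theorem isElementaryAbelian_map (f : A ≃* B) (p : ℕ) (N : Subgroup A) :
    IsElementaryAbelian p (N.map f.toMonoidHom) ↔ IsElementaryAbelian p N := by
  unfold IsElementaryAbelian
  rw [isMulCommutative_map_equiv]
  refine and_congr_right fun _ => ?_
  constructor
  · intro h a ha
    have := h (f a) ((apply_mem_map f N a).2 ha)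
    apply f.injective
    rw [map_pow, map_one]
    exact this
  · intro h a ha
    rw [mem_map_equiv'] at ha
    have := h _ ha
    apply f.symm.injective
    rw [map_pow, map_one]
    exact this

end Abstract

/-! ### Notions attached to a subgroup of a group -/

section Concrete

variable (e : G ≃* H)

/-- the image of a subgroup of `M` in `G`, transported -/
theorem map_subtype_subMap (M : Subgroup G) (N : Subgroup M) :
    (N.map (subMap e M).toMonoidHom).map (M.map e.toMonoidHom).subtype =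
      (N.map M.subtype).map e.toMonoidHom := by
  rw [Subgroup.map_map, Subgroup.map_map]
  rfl

theorem relIndex_map_equiv (A B : Subgroup G) :
    (A.map e.toMonoidHom).relIndex (B.map e.toMonoidHom) = A.relIndex B :=
  Subgroup.relIndex_map_map_of_injective A B e.injective

theorem map_commutator_equiv (A B : Subgroup G) :
    ⁅A, B⁆.map e.toMonoidHom = ⁅A.map e.toMonoidHom, B.map e.toMonoidHom⁆ :=
  Subgroup.map_commutator A B e.toMonoidHom

theorem isPiHallOf_map (π : Set ℕ) (A M : Subgroup G) :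
    IsPiHallOf π (A.map e.toMonoidHom) (M.map e.toMonoidHom) ↔ IsPiHallOf π A M := by
  unfold IsPiHallOf
  rw [map_le_map_iff', card_map_equiv, relIndex_map_equiv]

theorem isPiHall_map (π : Set ℕ) (A : Subgroup G) :
    IsPiHall π (A.map e.toMonoidHom) ↔ IsPiHall π A := by
  unfold IsPiHall
  rw [card_map_equiv, index_map_equiv']

theorem isComplIn_map (A B M : Subgroup G) :
    IsComplIn (A.map e.toMonoidHom) (B.map e.toMonoidHom) (M.map e.toMonoidHom) ↔ IsComplIn A B M := by
  unfold IsComplIn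
  rw [map_le_map_iff', map_le_map_iff', ← map_inf_equiv, map_eq_bot_iff']
  refine and_congr_right fun _ => and_congr_right fun _ => and_congr_right fun _ => ?_
  constructor
  · intro h m hm
    obtain ⟨a, ha, b, hb, hab⟩ := h (e m) ((apply_mem_map e M m).2 hm)
    rw [mem_map_equiv'] at ha hb
    refine ⟨_, ha, _, hb, ?_⟩
    apply e.injective
    rw [map_mul, hab]; simp
  · intro h m hm
    rw [mem_map_equiv'] at hm
    obtain ⟨a, ha, b, hb, hab⟩ := h _ hm
    refine ⟨e a, (apply_mem_map e A a).2 ha, e b, (apply_mem_map e B b).2 hb, ?_⟩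
    rw [← map_mul, ← hab]; simp

theorem piCoreOf_map (π : Set ℕ) (M : Subgroup G) :
    piCoreOf π (M.map e.toMonoidHom) = (piCoreOf π M).map e.toMonoidHom := by
  unfold piCoreOf
  rw [← map_subtype_subMap, piCore_map]

theorem fittingHallOf_map (M : Subgroup G) :
    fittingHallOf (M.map e.toMonoidHom) = (fittingHallOf M).map e.toMonoidHom := by
  unfold fittingHallOf
  rw [← map_subtype_subMap, fittingHall_map]

theorem fittingOf_map (M : Subgroup G) :
    fittingOf (M.map e.toMonoidHom) = (fittingOf M).map e.toMonoidHom := by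
  unfold fittingOf
  rw [← map_subtype_subMap, fittingSubgroup_map]

theorem inUniqueMaximal_map (X : Subgroup G) :
    InUniqueMaximal (X.map e.toMonoidHom) ↔ InUniqueMaximal X := by
  constructor
  · rintro ⟨M, ⟨hM, hXM⟩, hu⟩
    refine ⟨M.map e.symm.toMonoidHom, ⟨(isCoatom_map e.symm M).2 hM, (map_le_iff e X M).1 hXM⟩, ?_⟩
    rintro N ⟨hN, hXN⟩
    rw [← hu (N.map e.toMonoidHom) ⟨(isCoatom_map e N).2 hN, (map_le_map_iff' e X N).2 hXN⟩,
      map_symm_map]
  · rintro ⟨M, ⟨hM, hXM⟩, hu⟩
    refine ⟨M.map e.toMonoidHom, ⟨(isCoatom_map e M).2 hM, (map_le_map_iff' e X M).2 hXM⟩, ?_⟩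
    rintro N ⟨hN, hXN⟩
    rw [← hu (N.map e.symm.toMonoidHom) ⟨(isCoatom_map e.symm N).2 hN, (map_le_iff e X N).1 hXN⟩,
      map_map_symm]

theorem sigma_map_subset (M : Subgroup G) : sigma M ⊆ sigma (M.map e.toMonoidHom) := by
  rintro p ⟨hp, hd, P, hP⟩
  refine ⟨hp, by rwa [card_map_equiv], sylowMap (subMap e M) P, ?_⟩
  rw [coe_sylowMap, map_subtype_subMap, ← map_normalizer, map_le_map_iff']
  exact hP

theorem sigma_map (M : Subgroup G) : sigma (M.map e.toMonoidHom) = sigma M := by
  apply Set.Subset.antisymm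
  · have := sigma_map_subset e.symm (M.map e.toMonoidHom)
    rwa [map_symm_map] at this
  · exact sigma_map_subset e M

theorem sigmaCore_eq (M : Subgroup G) : sigmaCore M = piCoreOf (sigma M) M := rfl

theorem alphaCore_eq (M : Subgroup G) : alphaCore M = piCoreOf (alpha M) M := rfl

theorem sigmaCore_map (M : Subgroup G) :
    sigmaCore (M.map e.toMonoidHom) = (sigmaCore M).map e.toMonoidHom := by
  rw [sigmaCore_eq, sigmaCore_eq, sigma_map, piCoreOf_map]

theorem alpha_map (M : Subgroup G) : alpha (M.map e.toMonoidHom) = alpha M := by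
  ext p
  show (p.Prime ∧ ¬ PRankLE p 2 ↥(M.map e.toMonoidHom)) ↔ (p.Prime ∧ ¬ PRankLE p 2 ↥M)
  rw [pRankLE_congr (subMap e M) p 2]

theorem alphaCore_map (M : Subgroup G) :
    alphaCore (M.map e.toMonoidHom) = (alphaCore M).map e.toMonoidHom := by
  rw [alphaCore_eq, alphaCore_eq, alpha_map, piCoreOf_map]

theorem isIdealPrime_of_equiv (e : G ≃* H) {p : ℕ} (h : IsIdealPrime p G) : IsIdealPrime p H := by
  obtain ⟨hp, h1, h2⟩ := h
  refine ⟨hp, fun h' => h1 (pRankLE_of_equiv e.symm h'), ?_⟩
  intro P A hAP hA hc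
  obtain ⟨B, hB1, hB2, hB3⟩ := h2 (sylowMap e.symm P) (A.map e.symm.toMonoidHom)
    (by rw [coe_sylowMap]; exact Subgroup.map_mono hAP) ((isElementaryAbelian_map e.symm p A).2 hA)
    (by rw [card_map_equiv]; exact hc)
  rw [coe_sylowMap] at hB1
  refine ⟨B.map e.toMonoidHom, (map_le_iff e B _).2 hB1, (isElementaryAbelian_map e p B).2 hB2, ?_⟩
  refine lt_of_le_of_ne ((le_map_iff e A B).2 hB3.le) ?_
  intro h
  apply hB3.ne
  rw [h, map_symm_map]

theorem isIdealPrime_congr (e : G ≃* H) (p : ℕ) : IsIdealPrime p G ↔ IsIdealPrime p H :=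
  ⟨isIdealPrime_of_equiv e, isIdealPrime_of_equiv e.symm⟩

theorem beta_map (M : Subgroup G) : beta (M.map e.toMonoidHom) = beta M := by
  ext p
  show (p ∈ alpha _ ∧ IsIdealPrime p H) ↔ (p ∈ alpha M ∧ IsIdealPrime p G)
  rw [alpha_map, isIdealPrime_congr e]

theorem card_commutator_map (M : Subgroup G) :
    Nat.card ↥⁅M.map e.toMonoidHom, M.map e.toMonoidHom⁆ = Nat.card ↥⁅M, M⁆ := by
  rw [← map_commutator_equiv, card_map_equiv]

theorem tau1_map (M : Subgroup G) : tau1 (M.map e.toMonoidHom) = tau1 M := by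
  ext p
  show (p.Prime ∧ p ∉ sigma _ ∧ p ∣ Nat.card _ ∧ ¬ p ∣ Nat.card _ ∧ PRankLE p 1 _) ↔
    (p.Prime ∧ p ∉ sigma M ∧ p ∣ Nat.card M ∧ ¬ p ∣ Nat.card ↥⁅M, M⁆ ∧ PRankLE p 1 M)
  rw [sigma_map, card_map_equiv, card_commutator_map, pRankLE_congr (subMap e M) p 1]

theorem tau2_map (M : Subgroup G) : tau2 (M.map e.toMonoidHom) = tau2 M := by
  ext p
  show (p.Prime ∧ p ∉ sigma _ ∧ PRankLE p 2 _ ∧ ¬ PRankLE p 1 _) ↔
    (p.Prime ∧ p ∉ sigma M ∧ PRankLE p 2 M ∧ ¬ PRankLE p 1 M)
  rw [sigma_map, pRankLE_congr (subMap e M) p 1, pRankLE_congr (subMap e M) p 2]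

theorem tau3_map (M : Subgroup G) : tau3 (M.map e.toMonoidHom) = tau3 M := by
  ext p
  show (p.Prime ∧ p ∉ sigma _ ∧ p ∣ Nat.card _ ∧ PRankLE p 1 _) ↔
    (p.Prime ∧ p ∉ sigma M ∧ p ∣ Nat.card ↥⁅M, M⁆ ∧ PRankLE p 1 M)
  rw [sigma_map, card_commutator_map, pRankLE_congr (subMap e M) p 1]

theorem kappa_map_subset (M : Subgroup G) : kappa (M.map e.toMonoidHom) ⊆ kappa M := by
  rintro p ⟨hp, hd, hs, hP⟩
  rw [sigma_map] at hs
  rw [card_map_equiv] at hd
  refine ⟨hp, hd, hs, fun P => ?_⟩
  obtain ⟨h1, x, hx, hx1, y, hy, hy1, hxy⟩ := hP (sylowMap (subMap e M) P)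
  have hco := coe_sylowMap (subMap e M) P
  refine ⟨?_, ?_⟩
  · have h2 : IsCyclic ((P : Subgroup M).map (subMap e M).toMonoidHom) := by
      rw [← hco]; exact h1
    exact (isCyclic_map_equiv (subMap e M) P.1).1 h2
  · rw [hco, mem_map_equiv'] at hx
    rw [sigmaCore_map, mem_map_equiv'] at hy
    refine ⟨(subMap e M).symm x, hx, ?_, e.symm y, hy, ?_, ?_⟩
    · exact fun h => hx1 ((map_eq_one_iff _ (subMap e M).symm.injective).1 h)
    · simpa using hy1
    · have := congrArg e.symm hxy
      rw [map_mul, map_mul] at this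
      exact this

theorem kappa_map (M : Subgroup G) : kappa (M.map e.toMonoidHom) = kappa M := by
  apply Set.Subset.antisymm (kappa_map_subset e M)
  have := kappa_map_subset e.symm (M.map e.toMonoidHom)
  rwa [map_symm_map] at this

theorem isSigmaDecomposition_map (M K U : Subgroup G) :
    IsSigmaDecomposition (M.map e.toMonoidHom) (K.map e.toMonoidHom) (U.map e.toMonoidHom) ↔
      IsSigmaDecomposition M K U := by
  have key : ∀ {G' : Type u} {H' : Type v} [Group G'] [Group H'] (e : G' ≃* H') (M K U : Subgroup G'),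
      IsSigmaDecomposition M K U →
      IsSigmaDecomposition (M.map e.toMonoidHom) (K.map e.toMonoidHom) (U.map e.toMonoidHom) := by
    intro G' H' _ _ e M K U h
    refine ⟨?_, ?_, ?_, ?_⟩
    · exact (isCyclic_map_equiv e K).2 h.cyclic
    · rw [kappa_map, isPiHallOf_map]; exact h.hall
    · rw [sigmaCore_map, ← Subgroup.map_sup, isComplIn_map]; exact h.compl
    · rw [← map_normalizer, map_le_map_iff']; exact h.normal
  constructor
  · intro h
    refine ⟨?_, ?_, ?_, ?_⟩
    · exact (isCyclic_map_equiv e K).1 h.cyclic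
    · have := h.hall
      rwa [kappa_map, isPiHallOf_map] at this
    · have := h.compl
      rwa [sigmaCore_map, ← Subgroup.map_sup, isComplIn_map] at this
    · have := h.normal
      rwa [← map_normalizer, map_le_map_iff'] at this
  · exact key e M K U

theorem mem_sigmaHat_map (M : Subgroup G) (a : G) :
    e a ∈ sigmaHat (M.map e.toMonoidHom) ↔ a ∈ sigmaHat M := by
  show (e a ∈ M.map e.toMonoidHom ∧ ∃ y ∈ sigmaCore (M.map e.toMonoidHom), y ≠ 1 ∧ e a * y = y * e a) ↔
    (a ∈ M ∧ ∃ y ∈ sigmaCore M, y ≠ 1 ∧ a * y = y * a)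
  rw [apply_mem_map, sigmaCore_map]
  refine and_congr_right fun _ => ?_
  constructor
  · rintro ⟨y, hy, hy1, h⟩
    rw [mem_map_equiv'] at hy
    refine ⟨_, hy, by simpa using hy1, ?_⟩
    apply e.injective
    rw [map_mul, map_mul]; simpa using h
  · rintro ⟨y, hy, hy1, h⟩
    refine ⟨e y, (apply_mem_map e _ y).2 hy, by simpa using hy1, ?_⟩
    rw [← map_mul, ← map_mul, h]

theorem mem_sigmaA_map (M U : Subgroup G) (a : G) :
    e a ∈ sigmaA (M.map e.toMonoidHom) (U.map e.toMonoidHom) ↔ a ∈ sigmaA M U := by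
  show (e a ∈ sigmaHat _ ∧ e a ∈ ((U.map e.toMonoidHom ⊔ sigmaCore (M.map e.toMonoidHom) : Subgroup H))) ↔
    (a ∈ sigmaHat M ∧ a ∈ U ⊔ sigmaCore M)
  rw [mem_sigmaHat_map, sigmaCore_map, ← Subgroup.map_sup, apply_mem_map]

theorem mem_sigmaA0_map (M K : Subgroup G) (a : G) :
    e a ∈ sigmaA0 (M.map e.toMonoidHom) (K.map e.toMonoidHom) ↔ a ∈ sigmaA0 M K := by
  show (e a ∈ sigmaHat _ ∧ ¬ ∃ k ∈ K.map e.toMonoidHom, k ≠ 1 ∧ ∃ m ∈ M.map e.toMonoidHom, e a = m * k * m⁻¹) ↔
    (a ∈ sigmaHat M ∧ ¬ ∃ k ∈ K, k ≠ 1 ∧ ∃ m ∈ M, a = m * k * m⁻¹)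
  rw [mem_sigmaHat_map]
  refine and_congr_right fun _ => not_congr ?_
  constructor
  · rintro ⟨k, hk, hk1, m, hm, h⟩
    rw [mem_map_equiv'] at hk hm
    refine ⟨_, hk, by simpa using hk1, _, hm, ?_⟩
    apply e.injective
    rw [map_mul, map_mul, map_inv]; simpa using h
  · rintro ⟨k, hk, hk1, m, hm, h⟩
    refine ⟨e k, (apply_mem_map e _ k).2 hk, by simpa using hk1, e m, (apply_mem_map e _ m).2 hm, ?_⟩
    rw [← map_mul, ← map_inv, ← map_mul, h]

theorem isTISubset_image (X : Set G) : IsTISubset (e '' X) ↔ IsTISubset X := by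
  have key : ∀ z : G, e z ∈ e '' X ↔ z ∈ X := fun z => e.injective.mem_set_image
  constructor
  · intro h g hg x hx hgx
    have := h (e g) (by
      rw [← map_normalizer_set, apply_mem_map]; exact hg) (e x) ((key x).2 hx)
      (by rw [← map_mul, ← map_inv, ← map_mul, key]; exact hgx)
    exact (map_eq_one_iff e e.injective).1 this
  · intro h g hg y hy hgy
    obtain ⟨x, hx, rfl⟩ := hy
    rw [← map_normalizer_set, mem_map_equiv'] at hg
    have := h _ hg x hx (by
      rw [← key, map_mul, map_mul, map_inv]; simpa using hgy)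
    rw [this, map_one]

end Concrete

/-! ### Conjugation -/

section Conj

theorem map_conj_le_iff {G : Type u} [Group G] (g : G) (A B : Subgroup G) :
    A.map (MulAut.conj g).toMonoidHom ≤ B ↔ ∀ a ∈ A, g * a * g⁻¹ ∈ B := by
  constructor
  · intro h a ha
    exact h ⟨a, ha, rfl⟩
  · rintro h _ ⟨a, ha, rfl⟩
    exact h a ha

theorem mem_map_conj {G : Type u} [Group G] (g x : G) (A : Subgroup G) :
    x ∈ A.map (MulAut.conj g).toMonoidHom ↔ g⁻¹ * x * g ∈ A := by
  constructor
  · rintro ⟨a, ha, rfl⟩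
    have : g⁻¹ * (MulAut.conj g).toMonoidHom a * g = a := by
      show g⁻¹ * (g * a * g⁻¹) * g = a
      group
    rw [this]; exact ha
  · intro h
    refine ⟨_, h, ?_⟩
    show g * (g⁻¹ * x * g) * g⁻¹ = x
    group

theorem map_conj_mul {G : Type u} [Group G] (g h : G) (A : Subgroup G) :
    A.map (MulAut.conj (g * h)).toMonoidHom =
      (A.map (MulAut.conj h).toMonoidHom).map (MulAut.conj g).toMonoidHom := by
  ext x
  rw [mem_map_conj, mem_map_conj, mem_map_conj]
  have : (g * h)⁻¹ * x * (g * h) = h⁻¹ * (g⁻¹ * x * g) * h := by group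
  rw [this]

theorem map_conj_one {G : Type u} [Group G] (A : Subgroup G) :
    A.map (MulAut.conj (1 : G)).toMonoidHom = A := by
  ext x
  rw [mem_map_conj]; simp

theorem map_conj_eq_self_of_mem {G : Type u} [Group G] {g : G} {A : Subgroup G}
    (hg : g ∈ A) : A.map (MulAut.conj g).toMonoidHom = A := by
  ext x
  rw [mem_map_conj]
  constructor
  · intro h
    have := A.mul_mem (A.mul_mem hg h) (A.inv_mem hg)
    have e : g * (g⁻¹ * x * g) * g⁻¹ = x := by group
    rwa [e] at this
  · intro h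
    exact A.mul_mem (A.mul_mem (A.inv_mem hg) h) hg

theorem mem_normalizer_iff_map_conj {G : Type u} [Group G] (g : G) (A : Subgroup G) :
    g ∈ Subgroup.normalizer (A : Set G) ↔ A.map (MulAut.conj g).toMonoidHom = A :=
  Subgroup.mem_normalizer_iff_map_conj_eq

end Conj

end Cfsg.Agent.OddOrderLocal.Equivariance
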