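import Mathlib
set_option linter.all false

set_option autoImplicit false

/-!
Counting the union of the conjugates of a TI-set with known normalizer.
-/

namespace Cfsg.Agent.OddOrderLocal.TICount

/-- If `Z` normalizes `T`, and only elements of `Z` conjugate an element of `T` into `T`, then the union of the
conjugates of `T` has `#T · #G / #Z` elements. -/
theorem ncard_classSupport_of_TI {G : Type*} [Group G] [Finite G] (Z : Subgroup G) (T : Set G)
    (hZ : ∀ z ∈ Z, ∀ t ∈ T, z * t * z⁻¹ ∈ T)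
    (hTI : ∀ g : G, ∀ t ∈ T, g * t * g⁻¹ ∈ T → g ∈ Z) :
    Nat.card Z * Set.ncard {a : G | ∃ g : G, ∃ t ∈ T, a = g * t * g⁻¹} =
      Set.ncard T * Nat.card G := by
  classical
  have hch : ∀ a : {a : G | ∃ g : G, ∃ t ∈ T, a = g * t * g⁻¹},
      ∃ x : G × T, (a : G) = x.1 * x.2 * x.1⁻¹ := by
    rintro ⟨a, g, t, ht, hat⟩
    exact ⟨(g, ⟨t, ht⟩), hat⟩
  choose c hc using hch
  let f : Z × {a : G | ∃ g : G, ∃ t ∈ T, a = g * t * g⁻¹} → T × G := fun x =>
    (⟨(x.1 : G) * (c x.2).2 * (x.1 : G)⁻¹, hZ _ x.1.2 _ (c x.2).2.2⟩, (c x.2).1 * (x.1 : G)⁻¹)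
  have hf : Function.Bijective f := by
    constructor
    · rintro ⟨z, a⟩ ⟨z', a'⟩ h
      simp only [f, Prod.mk.injEq, Subtype.mk.injEq] at h
      obtain ⟨h1, h2⟩ := h
      have ha : (a : G) = a' := by
        rw [hc a, hc a']
        have h3 : ∀ (w : Z) (b : {a : G | ∃ g : G, ∃ t ∈ T, a = g * t * g⁻¹}),
            (c b).1 * (c b).2 * ((c b).1)⁻¹ =
              ((c b).1 * (w : G)⁻¹) * ((w : G) * (c b).2 * (w : G)⁻¹) * ((c b).1 * (w : G)⁻¹)⁻¹ := by
          intro w b; group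
        rw [h3 z a, h3 z' a', h1, h2]
      have ha' : a = a' := Subtype.ext ha
      subst ha'
      have h4 : (z : G)⁻¹ = (z' : G)⁻¹ := mul_left_cancel h2
      have h5 : z = z' := Subtype.ext (inv_injective h4)
      rw [h5]
    · rintro ⟨⟨t, ht⟩, g⟩
      let a : {a : G | ∃ g : G, ∃ t ∈ T, a = g * t * g⁻¹} := ⟨g * t * g⁻¹, g, t, ht, rfl⟩
      have ha : g * t * g⁻¹ = (c a).1 * (c a).2 * ((c a).1)⁻¹ := hc a
      have h1 : (g⁻¹ * (c a).1) * (c a).2 * (g⁻¹ * (c a).1)⁻¹ = t := by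
        calc (g⁻¹ * (c a).1) * (c a).2 * (g⁻¹ * (c a).1)⁻¹
            = g⁻¹ * ((c a).1 * (c a).2 * ((c a).1)⁻¹) * g := by group
          _ = g⁻¹ * (g * t * g⁻¹) * g := by rw [ha]
          _ = t := by group
      have hz : g⁻¹ * (c a).1 ∈ Z := hTI _ _ (c a).2.2 (h1 ▸ ht)
      refine ⟨(⟨g⁻¹ * (c a).1, hz⟩, a), ?_⟩
      simp only [f, Prod.mk.injEq, Subtype.mk.injEq]
      exact ⟨h1, by group⟩
  have h := Nat.card_congr (Equiv.ofBijective f hf)
  rw [Nat.card_prod, Nat.card_prod] at h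
  rw [← Nat.card_coe_set_eq, ← Nat.card_coe_set_eq]
  exact h

/-- The class support of a set does not contain `1` if the set does not. -/
theorem one_notMem_classSupport {G : Type*} [Group G] {T : Set G} (h : (1 : G) ∉ T) :
    (1 : G) ∉ {a : G | ∃ g : G, ∃ t ∈ T, a = g * t * g⁻¹} := by
  rintro ⟨g, t, ht, hgt⟩
  have : t = 1 := by
    have h1 : g * t * g⁻¹ = 1 := hgt.symm
    rw [mul_inv_eq_one] at h1
    exact mul_eq_left.mp h1
  exact h (this ▸ ht)

end Cfsg.Agent.OddOrderLocal.TICount
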