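import Cfsg.Agent.OddOrderLocal.FittingHall
set_option linter.all false

/-!
# Elementary facts on the data of a subgroup of type P (`Cfsg.IsTypePWith`)
-/

set_option autoImplicit false

namespace Cfsg.Agent.OddOrderLocal.TypeP

open Subgroup Cfsg Cfsg.Agent.OddOrderLocal.FittingHall

variable {G : Type*} [Group G]

/-- The derived subgroup of `M`, as a subgroup of `G`, is normalized by `N_G(M)`. -/
theorem normalizer_le_normalizer_commutator (M : Subgroup G) :
    normalizer (M : Set G) ≤ normalizer ((⁅M, M⁆ : Subgroup G) : Set G) := by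
  have h := normalizer_le_normalizer_map M (commutator M) (Subgroup.commutator_characteristic _ _)
  rwa [map_subtype_commutator] at h

theorem le_normalizer_commutator (M : Subgroup G) : M ≤ normalizer ((⁅M, M⁆ : Subgroup G) : Set G) :=
  le_normalizer.trans (normalizer_le_normalizer_commutator M)

variable {M W₁ U W₂ : Subgroup G}

theorem derived_le (hP : IsTypePWith M W₁ U W₂) : ⁅M, M⁆ ≤ M := hP.W₁_compl.1

theorem W₁_le (hP : IsTypePWith M W₁ U W₂) : W₁ ≤ M := hP.W₁_compl.2.1

theorem kernel_le_derived (hP : IsTypePWith M W₁ U W₂) : fittingHallOf M ≤ ⁅M, M⁆ := hP.U_compl.1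

theorem U_le_derived (hP : IsTypePWith M W₁ U W₂) : U ≤ ⁅M, M⁆ := hP.U_compl.2.1

theorem U_le (hP : IsTypePWith M W₁ U W₂) : U ≤ M := (U_le_derived hP).trans (derived_le hP)

/-- `|M'|` is the index of `W₁` in `M`. -/
theorem relIndex_W₁ (hP : IsTypePWith M W₁ U W₂) : W₁.relIndex M = Nat.card ↥⁅M, M⁆ :=
  relIndex_right_of_isComplIn hP.W₁_compl

theorem relIndex_derived (hP : IsTypePWith M W₁ U W₂) : (⁅M, M⁆ : Subgroup G).relIndex M = Nat.card W₁ :=
  relIndex_left_of_isComplIn hP.W₁_compl

theorem coprime_W₁_derived (hP : IsTypePWith M W₁ U W₂) :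
    (Nat.card W₁).Coprime (Nat.card ↥⁅M, M⁆) := by
  have h := hP.W₁_hall
  rwa [relIndex_W₁ hP] at h

theorem relIndex_kernel_derived (hP : IsTypePWith M W₁ U W₂) :
    (fittingHallOf M).relIndex ⁅M, M⁆ = Nat.card U :=
  relIndex_left_of_isComplIn hP.U_compl

theorem card_eq (hP : IsTypePWith M W₁ U W₂) :
    Nat.card M = Nat.card (fittingHallOf M) * Nat.card U * Nat.card W₁ := by
  rw [card_of_isComplIn hP.W₁_compl, card_of_isComplIn hP.U_compl]

theorem coprime_kernel_U [Finite M] (hP : IsTypePWith M W₁ U W₂) :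
    (Nat.card (fittingHallOf M)).Coprime (Nat.card U) := by
  refine Nat.Coprime.coprime_dvd_right ?_ (fittingHallOf_coprime_relIndex M)
  rw [← relIndex_kernel_derived hP,
    ← relIndex_mul_relIndex _ _ _ (kernel_le_derived hP) (derived_le hP)]
  exact dvd_mul_right _ _

theorem coprime_kernel_W₁ [Finite M] (hP : IsTypePWith M W₁ U W₂) :
    (Nat.card (fittingHallOf M)).Coprime (Nat.card W₁) := by
  refine Nat.Coprime.coprime_dvd_left (card_dvd_of_le (kernel_le_derived hP))
    (coprime_W₁_derived hP).symm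

theorem coprime_U_W₁ (hP : IsTypePWith M W₁ U W₂) :
    (Nat.card U).Coprime (Nat.card W₁) := by
  refine Nat.Coprime.coprime_dvd_left (card_dvd_of_le (U_le_derived hP))
    (coprime_W₁_derived hP).symm

theorem centralizer_le_fitting (hP : IsTypePWith M W₁ U W₂) :
    M ⊓ centralizer (fittingHallOf M : Set G) ≤ fittingOf M := by
  rw [← hP.fitting_eq]
  exact le_sup_right

theorem derived_two_le_fitting (hP : IsTypePWith M W₁ U W₂) :
    ⁅⁅M, M⁆, ⁅M, M⁆⁆ ≤ fittingOf M := by
  rw [← hP.fitting_eq]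
  exact hP.derived_two_le

/-- `F(M) = H C_U(H)`. -/
theorem fittingOf_eq [Finite M] (hP : IsTypePWith M W₁ U W₂) :
    fittingOf M = fittingHallOf M ⊔ (U ⊓ centralizer (fittingHallOf M : Set G)) := by
  apply le_antisymm
  · intro f hf
    obtain ⟨h, hh, u, hu, rfl⟩ := hP.U_compl.2.2.2 f (hP.fitting_le hf)
    refine mul_mem_sup hh ⟨hu, ?_⟩
    have hhF : h ∈ fittingOf M := fittingHallOf_le_fittingOf M hh
    have huF : u ∈ fittingOf M := by
      have := mul_mem (inv_mem hhF) hf
      rwa [inv_mul_cancel_left] at this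
    have h1 := le_centralizer_of_coprime (fittingOf_isNilpotent M) (zpowers_le.mpr huF)
      (fittingHallOf_le_fittingOf M)
      (Nat.Coprime.coprime_dvd_left (card_dvd_of_le (zpowers_le.mpr hu)) (coprime_kernel_U hP).symm)
    exact h1 (mem_zpowers u)
  · refine sup_le (fittingHallOf_le_fittingOf M) (le_trans ?_ (centralizer_le_fitting hP))
    exact inf_le_inf_right _ (U_le hP)

/-- `[U, U]` centralizes `H`. -/
theorem commutator_U_le [Finite M] (hP : IsTypePWith M W₁ U W₂) :
    ⁅U, U⁆ ≤ centralizer (fittingHallOf M : Set G) := by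
  refine le_centralizer_of_coprime (fittingOf_isNilpotent M) ?_ (fittingHallOf_le_fittingOf M)
    (Nat.Coprime.coprime_dvd_left (card_dvd_of_le (commutator_le_self U)) (coprime_kernel_U hP).symm)
  exact (commutator_mono (U_le_derived hP) (U_le_derived hP)).trans (derived_two_le_fitting hP)

/-- If `U` centralizes `H` then `U = 1`. -/
theorem U_eq_bot_of_le_centralizer [Finite M] (hP : IsTypePWith M W₁ U W₂)
    (h : U ≤ centralizer (fittingHallOf M : Set G)) : U = ⊥ := by
  have h1 : U ≤ fittingOf M := (le_inf (U_le hP) h).trans (centralizer_le_fitting hP)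
  have h2 : ⁅M, M⁆ = fittingOf M := by
    apply le_antisymm _ hP.fitting_le
    rw [← sup_of_isComplIn hP.U_compl]
    exact sup_le (fittingHallOf_le_fittingOf M) h1
  have h3 : ⁅M, M⁆ ≤ fittingHallOf M := by
    refine le_fittingHallOf (derived_le hP) (le_normalizer_commutator M) ?_ ?_
    · rw [h2]; exact fittingOf_isNilpotent M
    · rw [relIndex_derived hP]; exact (coprime_W₁_derived hP).symm
  have h4 := hP.U_compl.2.2.1
  rwa [inf_eq_right.2 ((U_le_derived hP).trans h3)] at h4

end Cfsg.Agent.OddOrderLocal.TypeP
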