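import Mathlib
import Cfsg.Prelude.Def_OddOrderLocal
set_option linter.all false

/-!
Basic facts on `sigma M` for a subgroup `M` of a finite group: for `p ∈ σ(M)` every Sylow
`p`-subgroup of `M` has its normalizer in `M` and is a Sylow subgroup of `G`; under the conclusion of
B & G, Theorem 10.1 (a) it lies in the derived subgroup of `M` when `G` is perfect.
-/

set_option autoImplicit false

namespace Cfsg.Agent.OddOrderLocal.SigmaBasic

open Cfsg
open scoped commutatorElement

universe u

variable {G : Type u} [Group G]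

theorem prime_of_mem_sigma {M : Subgroup G} {p : ℕ} (hp : p ∈ sigma M) : p.Prime := hp.1

theorem dvd_card_of_mem_sigma {M : Subgroup G} {p : ℕ} (hp : p ∈ sigma M) : p ∣ Nat.card M := hp.2.1

/-- For `p ∈ σ(M)` the normalizer in `G` of *every* Sylow `p`-subgroup of `M` is contained in `M`. -/
theorem normalizer_sylow_le [Finite G] {M : Subgroup G} {p : ℕ} (hp : p ∈ sigma M) (P : Sylow p M) :
    Subgroup.normalizer (((P : Subgroup M).map M.subtype : Subgroup G) : Set G) ≤ M := by
  obtain ⟨hpp, -, Q, hQ⟩ := hp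
  have : Fact p.Prime := ⟨hpp⟩
  obtain ⟨m, rfl⟩ := MulAction.exists_smul_eq M Q P
  intro g hg
  have hmem : ∀ x : G, x ∈ (((m • Q : Sylow p M) : Subgroup M).map M.subtype : Subgroup G) ↔
      (m : G)⁻¹ * x * m ∈ ((Q : Subgroup M).map M.subtype : Subgroup G) := by
    intro x
    constructor
    · rintro ⟨y, hy, rfl⟩
      rw [Sylow.coe_subgroup_smul] at hy
      obtain ⟨z, hz, rfl⟩ := hy
      refine ⟨z, hz, ?_⟩
      simp only [MulDistribMulAction.toMonoidEnd_apply, MulDistribMulAction.toMonoidHom_apply,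
        MulAut.smul_def, MulAut.conj_apply, Subgroup.coe_subtype, Subgroup.coe_mul,
        InvMemClass.coe_inv]
      group
    · rintro ⟨z, hz, hzx⟩
      have hx : x = (m : G) * (z : G) * (m : G)⁻¹ := by
        have : (M.subtype z : G) = (m : G)⁻¹ * x * m := hzx
        rw [Subgroup.coe_subtype] at this
        rw [this]; group
      refine ⟨m * z * m⁻¹, ?_, ?_⟩
      · rw [SetLike.mem_coe, Sylow.coe_subgroup_smul]
        exact ⟨z, hz, rfl⟩
      · rw [hx]; rfl
  have hg' : (m : G)⁻¹ * g * m ∈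
      Subgroup.normalizer (((Q : Subgroup M).map M.subtype : Subgroup G) : Set G) := by
    rw [Subgroup.mem_normalizer_iff] at hg ⊢
    intro h
    have h1 := hg ((m : G) * h * (m : G)⁻¹)
    rw [hmem, hmem] at h1
    have e1 : (m : G)⁻¹ * ((m : G) * h * (m : G)⁻¹) * m = h := by group
    have e2 : (m : G)⁻¹ * (g * ((m : G) * h * (m : G)⁻¹) * g⁻¹) * m =
        (m : G)⁻¹ * g * m * h * ((m : G)⁻¹ * g * m)⁻¹ := by group
    rw [e1, e2] at h1
    exact h1
  have h2 := hQ hg'
  have h3 : g = (m : G) * ((m : G)⁻¹ * g * m) * (m : G)⁻¹ := by group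
  rw [h3]
  exact M.mul_mem (M.mul_mem m.2 h2) (M.inv_mem m.2)

/-- For `p ∈ σ(M)`, `p` does not divide the index of `M`. -/
theorem not_dvd_index [Finite G] {M : Subgroup G} {p : ℕ} (hp : p ∈ sigma M) : ¬ p ∣ M.index := by
  have : Fact p.Prime := ⟨hp.1⟩
  intro hdvd
  obtain ⟨P⟩ : Nonempty (Sylow p M) := inferInstance
  set Q : Subgroup G := (P : Subgroup M).map M.subtype with hQ
  have hcardQ : Nat.card Q = Nat.card (P : Subgroup M) := by
    rw [hQ]
    exact Nat.card_congr ((P : Subgroup M).equivMapOfInjective M.subtype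
      (Subgroup.subtype_injective M)).symm.toEquiv
  have hP : Nat.card (P : Subgroup M) = p ^ (Nat.card M).factorization p := P.card_eq_multiplicity
  set n := (Nat.card M).factorization p with hn
  have hdvd' : p ^ (n + 1) ∣ Nat.card G := by
    rw [← M.card_mul_index, pow_succ]
    exact mul_dvd_mul (hP ▸ Subgroup.card_subgroup_dvd_card (P : Subgroup M)) hdvd
  have h1 := Sylow.prime_dvd_card_quotient_normalizer hdvd' (H := Q) (by rw [hcardQ, hP])
  have h2 : Nat.card Q * p ∣ Nat.card (Subgroup.normalizer (Q : Set G)) := by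
    have h3 : Nat.card (Q.subgroupOf (Subgroup.normalizer (Q : Set G))) = Nat.card Q :=
      Nat.card_congr (Subgroup.subgroupOfEquivOfLe Subgroup.le_normalizer).toEquiv
    rw [Subgroup.card_eq_card_quotient_mul_card_subgroup
      (Q.subgroupOf (Subgroup.normalizer (Q : Set G))), h3, mul_comm]
    exact mul_dvd_mul h1 (dvd_refl _)
  have h4 : p ^ (n + 1) ∣ Nat.card M := by
    rw [pow_succ, ← hP, ← hcardQ]
    exact h2.trans (Subgroup.card_dvd_of_le (normalizer_sylow_le hp P))
  have h5 := (hp.1.pow_dvd_iff_le_factorization (Nat.card_pos (α := M)).ne').1 h4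
  omega

/-- The conclusion of B & G, Theorem 10.1 (a), for one maximal subgroup `M` and one prime `p`:
`M` controls the `G`-fusion of its nontrivial `p`-subgroups. -/
def ControlsPFusion (p : ℕ) (M : Subgroup G) : Prop :=
  ∀ X : Subgroup G, IsPGroup p X → X ≠ ⊥ → X ≤ M → ∀ g : G,
    X.map (MulAut.conj g).toMonoidHom ≤ M → ∃ m ∈ M, ∃ c ∈ Subgroup.centralizer (X : Set G), g = m * c

/-- If `G` is perfect, `p ∈ σ(M)` and `M` controls the fusion of its `p`-subgroups, then every Sylow
`p`-subgroup of `M` is contained in the derived subgroup of `M` (focal subgroup theorem). -/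
theorem sylow_le_commutator [Finite G] (hperf : commutator G = ⊤) {M : Subgroup G} {p : ℕ}
    (hp : p ∈ sigma M) (hcon : ControlsPFusion p M) (P : Sylow p M) :
    (P : Subgroup M) ≤ commutator M := by
  have : Fact p.Prime := ⟨hp.1⟩
  set Q : Subgroup G := (P : Subgroup M).map M.subtype with hQ
  have hQp : IsPGroup p Q := P.2.map _
  have hQindex : ¬ p ∣ Q.index := by
    rw [hQ, Subgroup.index_map_subtype]
    intro h
    rcases hp.1.dvd_mul.1 h with h | h
    · exact P.not_dvd_index h
    · exact not_dvd_index hp h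
  let S : Sylow p G := hQp.toSylow hQindex
  have hS : (S : Subgroup G) = Q := rfl
  have hfoc := Subgroup.commutator_inf_eq_focalSubgroup S
  rw [hperf, top_inf_eq] at hfoc
  have hle : (S : Subgroup G) ≤ (commutator M).map M.subtype := by
    rw [hfoc, Subgroup.focalSubgroup_def, Subgroup.closure_le]
    rintro g ⟨hg, x, hx, u, rfl⟩
    rw [hS] at hg hx
    have hQM : Q ≤ M := Subgroup.map_subtype_le _
    by_cases hx1 : x = 1
    · subst hx1
      rw [commutatorElement_one_left]
      exact Subgroup.one_mem _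
    -- `⁅x, u⁆ = x * (u * x⁻¹ * u⁻¹)`
    have hux : u * x * u⁻¹ ∈ Q := by
      have h1 : (⁅x, u⁆ : G)⁻¹ * x ∈ Q := Q.mul_mem (Q.inv_mem hg) hx
      have h2 : (⁅x, u⁆ : G)⁻¹ * x = u * x * u⁻¹ := by
        rw [commutatorElement_def]; group
      rwa [h2] at h1
    have hX := hcon (Subgroup.zpowers x) (hQp.to_le ((Subgroup.zpowers_le).2 hx))
      (by rwa [Ne, Subgroup.zpowers_eq_bot]) ((Subgroup.zpowers_le).2 (hQM hx)) u
      (by
        rw [MonoidHom.map_zpowers, Subgroup.zpowers_le]
        exact hQM hux)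
    obtain ⟨m, hm, c, hc, rfl⟩ := hX
    have hcx : c * x = x * c := by
      have := Subgroup.mem_centralizer_iff.1 hc x (Subgroup.mem_zpowers x)
      exact this.symm
    have h3 : (⁅x, m * c⁆ : G) = ⁅x, m⁆ := by
      rw [commutatorElement_def, commutatorElement_def]
      have : m * c * x⁻¹ * (m * c)⁻¹ = m * x⁻¹ * m⁻¹ := by
        have hcx' : c * x⁻¹ = x⁻¹ * c := by
          rw [eq_inv_mul_iff_mul_eq, ← mul_assoc, ← hcx, mul_assoc, mul_inv_cancel, mul_one]
        rw [mul_assoc m c x⁻¹, hcx']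
        group
      calc x * (m * c) * x⁻¹ * (m * c)⁻¹ = x * (m * c * x⁻¹ * (m * c)⁻¹) := by group
        _ = x * (m * x⁻¹ * m⁻¹) := by rw [this]
        _ = x * m * x⁻¹ * m⁻¹ := by group
    rw [h3]
    refine ⟨⁅(⟨x, hQM hx⟩ : M), (⟨m, hm⟩ : M)⁆, ?_, rfl⟩
    exact Subgroup.commutator_mem_commutator (Subgroup.mem_top _) (Subgroup.mem_top _)
  rw [hS, hQ] at hle
  exact (Subgroup.map_subtype_le_map_subtype).1 hle

end Cfsg.Agent.OddOrderLocal.SigmaBasic
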