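import Mathlib
import Cfsg.Prelude.Def_Transfer
set_option linter.all false

/-!
# Coprime action of an elementary abelian group: a hyperplane with nontrivial fixed points

If an elementary abelian `p`-subgroup `B` normalizes a nontrivial `q`-subgroup `Q` (`p ≠ q`), then some
subgroup `B₁ ≤ B` with `|B| ≤ p |B₁|` has nontrivial centralizer in `Q`.
-/

set_option autoImplicit false

namespace Cfsg.Agent.OddOrderLocal.HyperplaneFixed

/-- Ring identity behind the generation theorem: if the "norms" of all generators of a rank two elementary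
group vanish, then `p = 0`. -/
theorem natCast_eq_zero_of_norms {R : Type*} [Ring R] {p : ℕ} (hp : 0 < p) (x y : R) (hxy : Commute x y)
    (h1 : ∀ i < p, ∑ k ∈ Finset.range p, (x * y ^ i) ^ k = 0)
    (h2 : ∀ k, 0 < k → k < p → ∑ i ∈ Finset.range p, (y ^ k) ^ i = 0) : (p : R) = 0 := by
  have e1 : ∑ i ∈ Finset.range p, ∑ k ∈ Finset.range p, (x * y ^ i) ^ k = 0 :=
    Finset.sum_eq_zero fun i hi => h1 i (Finset.mem_range.1 hi)
  rw [Finset.sum_comm] at e1
  have e2 : ∀ k ∈ Finset.range p, k ≠ 0 → ∑ i ∈ Finset.range p, (x * y ^ i) ^ k = 0 := by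
    intro k hk hk0
    have : ∀ i ∈ Finset.range p, (x * y ^ i) ^ k = x ^ k * (y ^ k) ^ i := by
      intro i _
      rw [(hxy.pow_right i).mul_pow, ← pow_mul, ← pow_mul, mul_comm i k]
    rw [Finset.sum_congr rfl this, ← Finset.mul_sum,
      h2 k (Nat.pos_of_ne_zero hk0) (Finset.mem_range.1 hk), mul_zero]
  rw [Finset.sum_eq_single 0 e2 (fun h => absurd (Finset.mem_range.2 hp) h)] at e1
  simpa using e1

/-- If `b ^ p = 1` and `b - 1` is left cancellable, the norm of `b` vanishes. -/
theorem norm_eq_zero {R : Type*} [Ring R] {p : ℕ} (b : R) (hb : b ^ p = 1)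
    (hinj : ∀ r : R, (b - 1) * r = 0 → r = 0) : ∑ k ∈ Finset.range p, b ^ k = 0 := by
  apply hinj
  rw [mul_geom_sum, hb, sub_self]

/-- An abelian group `V` with a homomorphism `φ : B →* MulAut V`: the induced ring-valued representation. -/
noncomputable def toEnd {B V : Type*} [Group B] [CommGroup V] (φ : B →* MulAut V) :
    B →* AddMonoid.End (Additive V) where
  toFun b := AddMonoidHom.mk' (fun v => Additive.ofMul (φ b (Additive.toMul v))) (by
    intro a b
    simp)
  map_one' := by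
    ext v
    show Additive.ofMul (φ 1 (Additive.toMul v)) = v
    rw [map_one]; rfl
  map_mul' a b := by
    ext v
    show Additive.ofMul (φ (a * b) (Additive.toMul v)) = Additive.ofMul (φ a (φ b (Additive.toMul v)))
    rw [map_mul]; rfl

theorem toEnd_apply {B V : Type*} [Group B] [CommGroup V] (φ : B →* MulAut V) (b : B) (v : Additive V) :
    toEnd φ b v = Additive.ofMul (φ b (Additive.toMul v)) := rfl

/-- Let `x, y` be commuting elements of order dividing `p` acting on the abelian group `V`, and assume that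
`x * y ^ i` and `y ^ k` (`0 < k < p`) have no nontrivial fixed point. Then `V` has exponent dividing `p`. -/
theorem pow_eq_one_of_no_fixed {B V : Type*} [Group B] [CommGroup V] (φ : B →* MulAut V) {p : ℕ}
    (hp : 0 < p) (x y : B) (hxy : Commute x y) (hx : x ^ p = 1) (hy : y ^ p = 1)
    (h1 : ∀ i, ∀ v : V, φ (x * y ^ i) v = v → v = 1)
    (h2 : ∀ k, 0 < k → k < p → ∀ v : V, φ (y ^ k) v = v → v = 1) (v : V) : v ^ p = 1 := by
  have key : ∀ b : B, b ^ p = 1 → (∀ v : V, φ b v = v → v = 1) →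
      ∑ k ∈ Finset.range p, (toEnd φ b) ^ k = 0 := by
    intro b hb hfix
    apply norm_eq_zero
    · rw [← map_pow, hb, map_one]
    · intro r hr
      ext w
      have : toEnd φ b (r w) - r w = 0 := by
        have := DFunLike.congr_fun hr w
        rw [sub_mul, one_mul] at this
        exact this
      have h3 : toEnd φ b (r w) = r w := sub_eq_zero.1 this
      rw [toEnd_apply] at h3
      exact congrArg Additive.ofMul (hfix _ (congrArg Additive.toMul h3))
  have hz := natCast_eq_zero_of_norms hp (toEnd φ x) (toEnd φ y) (hxy.map (toEnd φ)) (by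
      intro i _
      have := key (x * y ^ i) (by
        rw [(hxy.pow_right i).mul_pow, hx, ← pow_mul, mul_comm i p, pow_mul, hy, one_pow, one_mul]) (h1 i)
      simpa using this) (by
      intro k hk hkp
      have := key (y ^ k) (by rw [← pow_mul, mul_comm k p, pow_mul, hy, one_pow]) (h2 k hk hkp)
      simpa using this)
  have := DFunLike.congr_fun hz (Additive.ofMul v)
  have h4 : (p : AddMonoid.End (Additive V)) (Additive.ofMul v) = p • Additive.ofMul v := by
    simp
  rw [h4] at this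
  exact congrArg Additive.toMul this

theorem mem_of_pow_mem {G : Type*} [Group G] {p : ℕ} (hp : p.Prime) {y : G} (hy : y ^ p = 1) {k : ℕ}
    (hk : ¬ p ∣ k) {C : Subgroup G} (h : y ^ k ∈ C) : y ∈ C := by
  have hcop : Nat.Coprime k p := ((Nat.Prime.coprime_iff_not_dvd hp).2 hk).symm
  have h1 : y ^ (Nat.gcd k p) ∈ C := by
    have := Subgroup.zpow_mem C h (Nat.gcdA k p)
    have h2 : (y : G) ^ ((Nat.gcd k p : ℕ) : ℤ) = (y ^ k) ^ (Nat.gcdA k p) := by
      rw [Nat.gcd_eq_gcd_ab, zpow_add, zpow_mul, zpow_mul, zpow_natCast, zpow_natCast, hy, one_zpow, mul_one]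
    rw [← h2, zpow_natCast] at this
    exact this
  rwa [hcop.gcd_eq_one, pow_one] at h1

open IsMulCommutative in
/-- If an elementary abelian `p`-subgroup `B` normalizes a nontrivial finite `q`-subgroup `Q`, `p ≠ q`, then some
`B₁ ≤ B` of index at most `p` has nontrivial centralizer in `Q`. -/
theorem exists_relIndex_le {G : Type*} [Group G] [Finite G] {p q : ℕ} (hp : p.Prime) (hq : q.Prime)
    (hpq : p ≠ q) (B Q : Subgroup G) (hB : Cfsg.IsElementaryAbelian p B) (hQ : IsPGroup q Q) (hQ1 : Q ≠ ⊥)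
    (hBQ : B ≤ Subgroup.normalizer (Q : Set G)) :
    ∃ B₁ : Subgroup G, B₁ ≤ B ∧ B₁.relIndex B ≤ p ∧ Q ⊓ Subgroup.centralizer (B₁ : Set G) ≠ ⊥ := by
  have := Fact.mk hp
  have := Fact.mk hq
  obtain ⟨hBc, hBp⟩ := hB
  have hBcomm : ∀ a ∈ B, ∀ b ∈ B, a * b = b * a := by
    intro a ha b hb
    have := hBc.is_comm.comm ⟨a, ha⟩ ⟨b, hb⟩
    exact congrArg Subtype.val this
  -- choose `B₁` maximal
  let S : Set (Subgroup G) := {C | C ≤ B ∧ Q ⊓ Subgroup.centralizer (C : Set G) ≠ ⊥}
  have hS : S.Nonempty := ⟨⊥, bot_le, by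
    have : Subgroup.centralizer ((⊥ : Subgroup G) : Set G) = ⊤ := by
      rw [eq_top_iff]; intro g _
      rw [Subgroup.mem_centralizer_iff]
      intro h hh
      rw [SetLike.mem_coe, Subgroup.mem_bot] at hh
      simp [hh]
    rw [this, inf_top_eq]; exact hQ1⟩
  obtain ⟨B₁, hB₁⟩ := (Set.toFinite S).exists_maximal hS
  have hB₁B : B₁ ≤ B := hB₁.prop.1
  have hB₁Q := hB₁.prop.2
  refine ⟨B₁, hB₁B, ?_, hB₁Q⟩
  by_contra hcon
  push Not at hcon
  -- x ∈ B \ B₁
  obtain ⟨x, hxB, hx1⟩ : ∃ x ∈ B, x ∉ B₁ := by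
    by_contra hno
    push Not at hno
    have : B₁.relIndex B = 1 := Subgroup.relIndex_eq_one.2 hno
    have := hp.one_lt
    omega
  have hxp := hBp x hxB
  obtain ⟨y, hyB, hy1⟩ : ∃ y ∈ B, y ∉ Subgroup.zpowers x ⊔ B₁ := by
    by_contra hno
    push Not at hno
    let B' : Subgroup B := B₁.subgroupOf B
    have : B'.Normal := ⟨by
      intro n hn g
      have : g * n * g⁻¹ = n := by
        apply Subtype.ext
        show (g : G) * n * (g : G)⁻¹ = n
        rw [hBcomm g g.2 n n.2]; simp
      rw [this]; exact hn⟩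
    let x' : B := ⟨x, hxB⟩
    have h1 : Subgroup.zpowers x' ⊔ B' = ⊤ := by
      rw [eq_top_iff]
      intro y _
      have h2 := hno y y.2
      have h3 : (Subgroup.zpowers x' ⊔ B').map B.subtype = Subgroup.zpowers x ⊔ B₁ := by
        rw [Subgroup.map_sup, Subgroup.map_subgroupOf_eq_of_le hB₁B, MonoidHom.map_zpowers]
        rfl
      rw [← h3] at h2
      obtain ⟨z, hz, hzy⟩ := h2
      have : z = y := Subtype.ext hzy
      rwa [← this]
    have h2 : B₁.relIndex B ∣ p := by
      have h3 : B'.relIndex (Subgroup.zpowers x' ⊔ B') = B'.relIndex (Subgroup.zpowers x') :=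
        Subgroup.relIndex_sup_right _ _
      rw [h1, Subgroup.relIndex_top_right] at h3
      have h5 : B'.relIndex (Subgroup.zpowers x') ∣ Nat.card (Subgroup.zpowers x') :=
        Subgroup.relIndex_dvd_card _ _
      rw [Nat.card_zpowers] at h5
      have h6 : orderOf x' ∣ p := orderOf_dvd_of_pow_eq_one (Subtype.ext hxp)
      show B'.index ∣ p
      rw [h3]
      exact h5.trans h6
    have := Nat.le_of_dvd hp.pos h2
    omega
  have hyp := hBp y hyB
  have hxyc : Commute x y := hBcomm x hxB y hyB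
  -- `W = C_Q(B₁)` and `V = Z(W)`
  set W : Subgroup G := Q ⊓ Subgroup.centralizer (B₁ : Set G) with hW
  have hWp : IsPGroup q W := hQ.to_le inf_le_left
  have hBW : B ≤ Subgroup.normalizer (W : Set G) := by
    intro b hb
    rw [Subgroup.mem_normalizer_iff]
    have key : ∀ b ∈ B, ∀ w ∈ W, b * w * b⁻¹ ∈ W := by
      intro b hb w hw
      refine ⟨(Subgroup.mem_normalizer_iff.1 (hBQ hb) w).1 hw.1, ?_⟩
      refine Subgroup.mem_centralizer_iff.2 ?_
      intro c hc
      have h1 : c * w = w * c := Subgroup.mem_centralizer_iff.1 hw.2 c hc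
      have h2 : c * b = b * c := hBcomm c (hB₁B hc) b hb
      have h3 : b⁻¹ * c = c * b⁻¹ := by
        have := hBcomm b⁻¹ (B.inv_mem hb) c (hB₁B hc)
        exact this
      calc c * (b * w * b⁻¹) = (c * b) * w * b⁻¹ := by group
        _ = b * (c * w) * b⁻¹ := by rw [h2]; group
        _ = b * w * (c * b⁻¹) := by rw [h1]; group
        _ = b * w * b⁻¹ * c := by rw [← h3]; group
    intro w
    refine ⟨key b hb w, fun hw => ?_⟩
    have := key b⁻¹ (B.inv_mem hb) _ hw
    simpa [mul_assoc] using this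
  have hWnt : Nontrivial W := (Subgroup.nontrivial_iff_ne_bot W).2 hB₁Q
  have : Nontrivial (Subgroup.center W) := hWp.center_nontrivial
  let φ₀ : B →* MulAut W := (Subgroup.normalizerMonoidHom W).comp (Subgroup.inclusion hBW)
  have hφ₀ : ∀ (b : B) (w : W), ((φ₀ b w : W) : G) = b * w * (b : G)⁻¹ := fun b w => rfl
  let φ : B →* MulAut (Subgroup.center W) := (MulAut.characteristic (Subgroup.center W)).comp φ₀
  have hφ : ∀ (b : B) (v : Subgroup.center W), (((φ b v : Subgroup.center W) : W) : G) = b * (v : W) * (b : G)⁻¹ :=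
    fun b v => rfl
  -- an element of `B` with a nontrivial fixed point in `V` lies in `B₁`
  have hfix : ∀ b : B, (∃ v : Subgroup.center W, φ b v = v ∧ v ≠ 1) → (b : G) ∈ B₁ := by
    rintro b ⟨v, hv, hv1⟩
    have hvW : ((v : W) : G) ∈ W := (v : W).2
    have hvne : ((v : W) : G) ≠ 1 := by
      intro h
      exact hv1 (Subtype.ext (Subtype.ext h))
    have hbv : (b : G) * ((v : W) : G) = ((v : W) : G) * (b : G) := by
      have h1 : (b : G) * ((v : W) : G) * (b : G)⁻¹ = ((v : W) : G) := by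
        rw [← hφ b v, hv]
      exact mul_inv_eq_iff_eq_mul.1 h1
    have hmem : B₁ ⊔ Subgroup.zpowers (b : G) ∈ S := by
      refine ⟨sup_le hB₁B (Subgroup.zpowers_le.2 b.2), ?_⟩
      intro hbot
      apply hvne
      rw [← Subgroup.mem_bot, ← hbot]
      refine ⟨hvW.1, ?_⟩
      have hle : B₁ ⊔ Subgroup.zpowers (b : G) ≤ Subgroup.centralizer ({((v : W) : G)} : Set G) := by
        refine sup_le ?_ (Subgroup.zpowers_le.2 ?_)
        · intro c hc
          rw [Subgroup.mem_centralizer_singleton_iff]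
          exact (Subgroup.mem_centralizer_iff.1 hvW.2 c hc)
        · rw [Subgroup.mem_centralizer_singleton_iff]
          exact hbv
      refine Subgroup.mem_centralizer_iff.2 ?_
      intro c hc
      exact Subgroup.mem_centralizer_singleton_iff.1 (hle hc)
    have h2 : B₁ ⊔ Subgroup.zpowers (b : G) ≤ B₁ := hB₁.le_of_ge hmem le_sup_left
    exact h2 (Subgroup.mem_sup_right (Subgroup.mem_zpowers (b : G)))
  obtain ⟨v, hv1⟩ := exists_ne (1 : Subgroup.center W)
  have hvp : v ^ p = 1 := by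
    refine pow_eq_one_of_no_fixed φ hp.pos (⟨x, hxB⟩ : B) ⟨y, hyB⟩ (Subtype.ext hxyc) (Subtype.ext hxp)
      (Subtype.ext hyp) ?_ ?_ v
    · intro i w hw
      by_contra hw1
      have h1 := hfix _ ⟨w, hw, hw1⟩
      have h2 : x * y ^ i ∈ B₁ := h1
      -- then `y ^ i ∈ zpowers x ⊔ B₁`
      have h3 : y ^ i ∈ Subgroup.zpowers x ⊔ B₁ := by
        have h4 : x⁻¹ * (x * y ^ i) ∈ Subgroup.zpowers x ⊔ B₁ :=
          mul_mem (Subgroup.mem_sup_left (inv_mem (Subgroup.mem_zpowers x))) (Subgroup.mem_sup_right h2)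
        simpa using h4
      by_cases hpi : p ∣ i
      · obtain ⟨j, rfl⟩ := hpi
        rw [pow_mul, hyp, one_pow, mul_one] at h2
        exact hx1 h2
      · exact hy1 (mem_of_pow_mem hp hyp hpi h3)
    · intro k hk hkp w hw
      by_contra hw1
      have h1 := hfix _ ⟨w, hw, hw1⟩
      have h2 : y ^ k ∈ B₁ := h1
      have hpk : ¬ p ∣ k := Nat.not_dvd_of_pos_of_lt hk hkp
      exact hy1 (Subgroup.mem_sup_right (mem_of_pow_mem hp hyp hpk h2))
  obtain ⟨n, hn⟩ := hWp (v : W)
  have hvn : v ^ q ^ n = 1 := Subtype.ext (by simpa using hn)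
  have h1 : orderOf v ∣ p := orderOf_dvd_of_pow_eq_one hvp
  have h2 : orderOf v ∣ q ^ n := orderOf_dvd_of_pow_eq_one hvn
  have h3 : orderOf v = 1 := Nat.eq_one_of_dvd_coprimes (Nat.Coprime.pow_right n ((Nat.coprime_primes hp hq).2 hpq)) h1 h2
  exact hv1 (orderOf_eq_one_iff.1 h3)

end Cfsg.Agent.OddOrderLocal.HyperplaneFixed
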