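import Mathlib
set_option linter.all false

set_option autoImplicit false

/-!
Solvable groups of odd order in dimension two: over an algebraically closed field such a group has a
common eigenvector; in characteristic `p` its derived subgroup acts with exponent `p`.
-/

namespace Cfsg.Agent.OddOrderLocal.GLTwoOdd

open Matrix
open scoped commutatorElement

section Basic

variable {K : Type*} [Field K]

/-- The determinant of two vectors in the plane. -/
def dd (v w : Fin 2 → K) : K := v 0 * w 1 - v 1 * w 0

theorem exists_smul_of_dd_eq_zero {v w : Fin 2 → K} (hv : v ≠ 0) (h : dd v w = 0) :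
    ∃ c : K, w = c • v := by
  unfold dd at h
  by_cases h0 : v 0 = 0
  · have h1 : v 1 ≠ 0 := by
      intro h1
      apply hv
      ext i
      fin_cases i
      · exact h0
      · exact h1
    have hw0 : w 0 = 0 := by
      rw [h0, zero_mul, zero_sub, neg_eq_zero] at h
      exact (mul_eq_zero.1 h).resolve_left h1
    refine ⟨w 1 / v 1, ?_⟩
    ext i
    fin_cases i
    · simp [h0, hw0]
    · simp [h1]
  · refine ⟨w 0 / v 0, ?_⟩
    ext i
    fin_cases i
    · simp [h0]
    · have : w 1 = w 0 / v 0 * v 1 := by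
        field_simp
        linear_combination h
      simpa using this

theorem dd_smul_self (c : K) (v : Fin 2 → K) : dd v (c • v) = 0 := by
  simp [dd]; ring

theorem eq_comb {v w : Fin 2 → K} (h : dd v w ≠ 0) (u : Fin 2 → K) :
    u = (dd u w / dd v w) • v + (dd v u / dd v w) • w := by
  have h0 : u 0 = (dd u w / dd v w) * v 0 + (dd v u / dd v w) * w 0 := by
    rw [div_mul_eq_mul_div, div_mul_eq_mul_div, ← add_div, eq_div_iff h]
    simp only [dd]
    ring
  have h1 : u 1 = (dd u w / dd v w) * v 1 + (dd v u / dd v w) * w 1 := by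
    rw [div_mul_eq_mul_div, div_mul_eq_mul_div, ← add_div, eq_div_iff h]
    simp only [dd]
    ring
  ext i
  fin_cases i
  · exact h0
  · exact h1

theorem dd_mulVec (M : Matrix (Fin 2) (Fin 2) K) (v w : Fin 2 → K) :
    dd (M *ᵥ v) (M *ᵥ w) = M.det * dd v w := by
  simp [dd, Matrix.mulVec, dotProduct, Fin.sum_univ_two, Matrix.det_fin_two]
  ring

theorem dd_smul_left (c : K) (v w : Fin 2 → K) : dd (c • v) w = c * dd v w := by
  simp [dd]; ring

theorem dd_smul_right (c : K) (v w : Fin 2 → K) : dd v (c • w) = c * dd v w := by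
  simp [dd]; ring

theorem dd_add_left (v v' w : Fin 2 → K) : dd (v + v') w = dd v w + dd v' w := by
  simp [dd]; ring

theorem dd_add_right (v w w' : Fin 2 → K) : dd v (w + w') = dd v w + dd v w' := by
  simp [dd]; ring

theorem dd_self (v : Fin 2 → K) : dd v v = 0 := by
  simp [dd]; ring

theorem dd_swap (v w : Fin 2 → K) : dd v w = - dd w v := by
  simp [dd]; ring

theorem eq_scalar {M : Matrix (Fin 2) (Fin 2) K} {v w : Fin 2 → K} (h : dd v w ≠ 0) {a : K}
    (hv : M *ᵥ v = a • v) (hw : M *ᵥ w = a • w) (u : Fin 2 → K) : M *ᵥ u = a • u := by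
  rw [eq_comb h u, Matrix.mulVec_add, Matrix.mulVec_smul, Matrix.mulVec_smul, hv, hw, smul_add,
    smul_comm, smul_comm a (dd v u / dd v w)]

end Basic

section Main

variable {A : Type*} [Group A] {K : Type*} [Field K]

theorem det_map_eq_one (ρ : A →* Matrix (Fin 2) (Fin 2) K) {g : A} (hg : g ∈ commutator A) :
    (ρ g).det = 1 := by
  have h := Abelianization.commutator_subset_ker
    (((Matrix.detMonoidHom (n := Fin 2) (R := K)).comp ρ).toHomUnits) hg
  rw [MonoidHom.mem_ker] at h
  have := congrArg Units.val h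
  simpa using this

theorem det_ne_zero (ρ : A →* Matrix (Fin 2) (Fin 2) K) (g : A) : (ρ g).det ≠ 0 := by
  intro h
  have h1 : (ρ (g * g⁻¹)).det = 1 := by rw [mul_inv_cancel, map_one, Matrix.det_one]
  rw [map_mul, Matrix.det_mul, h, zero_mul] at h1
  exact zero_ne_one h1

theorem pow_mulVec {ρ : A →* Matrix (Fin 2) (Fin 2) K} {g : A} {v : Fin 2 → K} {c : K}
    (h : ρ g *ᵥ v = c • v) (n : ℕ) : ρ (g ^ n) *ᵥ v = c ^ n • v := by
  induction n with
  | zero => simp
  | succ n ih =>
    rw [pow_succ, map_mul, ← Matrix.mulVec_mulVec, h, Matrix.mulVec_smul, ih, smul_smul, pow_succ,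
      mul_comm]

/-- The induction step: if `⁅H, H⁆` has a common eigenvector then so has `H`. -/
theorem step [Finite A] [IsAlgClosed K] (hodd : Odd (Nat.card A))
    (ρ : A →* Matrix (Fin 2) (Fin 2) K) (H : Subgroup A)
    (hN : ∃ v : Fin 2 → K, v ≠ 0 ∧ ∀ n ∈ ⁅H, H⁆, ∃ c : K, ρ n *ᵥ v = c • v) :
    ∃ v : Fin 2 → K, v ≠ 0 ∧ ∀ h ∈ H, ∃ c : K, ρ h *ᵥ v = c • v := by
  obtain ⟨v, hv0, hv⟩ := hN
  by_cases hall : ∀ h ∈ H, ∃ c : K, ρ h *ᵥ v = c • v
  · exact ⟨v, hv0, hall⟩
  push Not at hall
  obtain ⟨h, hhH, hh⟩ := hall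
  set w := ρ h *ᵥ v with hw
  have hvw : dd v w ≠ 0 := by
    intro h0
    obtain ⟨c, hc⟩ := exists_smul_of_dd_eq_zero hv0 h0
    exact hh c hc
  set u := ρ h *ᵥ w with hu
  have hwu : dd w u ≠ 0 := by
    rw [hu]
    nth_rewrite 1 [hw]
    rw [dd_mulVec]
    exact mul_ne_zero (det_ne_zero ρ h) hvw
  have huv2 : u = ρ (h ^ 2) *ᵥ v := by
    rw [hu, hw, Matrix.mulVec_mulVec, pow_two, map_mul]
  have hvu : dd v u ≠ 0 := by
    intro h0
    obtain ⟨c, hc⟩ := exists_smul_of_dd_eq_zero hv0 h0
    obtain ⟨m, hm⟩ := hodd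
    have h1 : h ^ (2 * (m + 1)) = h := by
      have : 2 * (m + 1) = Nat.card A + 1 := by rw [hm]; ring
      rw [this, pow_succ, pow_card_eq_one', one_mul]
    have h2 := pow_mulVec (ρ := ρ) (g := h ^ 2) (v := v) (c := c) (by rw [← huv2, hc]) (m + 1)
    rw [← pow_mul, h1] at h2
    exact hh _ h2
  have hconj : ∀ n ∈ ⁅H, H⁆, ∀ x ∈ H, x⁻¹ * n * x ∈ ⁅H, H⁆ := by
    intro n hn x hx
    have h1 : n * ⁅n⁻¹, x⁻¹⁆ = x⁻¹ * n * x := by
      simp [commutatorElement_def, mul_assoc]
    rw [← h1]
    refine mul_mem hn (Subgroup.commutator_mem_commutator (inv_mem ?_) (inv_mem hx))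
    exact Subgroup.commutator_le_self H hn
  -- eigenvalue on translates
  have htr : ∀ n ∈ ⁅H, H⁆, ∀ x ∈ H, ∃ c : K, ρ n *ᵥ (ρ x *ᵥ v) = c • (ρ x *ᵥ v) := by
    intro n hn x hx
    obtain ⟨c, hc⟩ := hv _ (hconj n hn x hx)
    refine ⟨c, ?_⟩
    rw [← Matrix.mulVec_smul, ← hc, Matrix.mulVec_mulVec, Matrix.mulVec_mulVec, ← map_mul,
      ← map_mul]
    congr 2
    group
  have htriv : ∀ n ∈ ⁅H, H⁆, ∀ y, ρ n *ᵥ y = y := by
    intro n hn
    obtain ⟨a, ha⟩ := hv n hn
    obtain ⟨b, hb⟩ := htr n hn h hhH
    obtain ⟨c, hc⟩ := htr n hn (h ^ 2) (pow_mem hhH 2)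
    rw [← hw] at hb
    rw [← huv2] at hc
    have hα : dd u w / dd v w ≠ 0 := by
      refine div_ne_zero ?_ hvw
      rw [dd_swap]
      exact neg_ne_zero.2 hwu
    have hβ : dd v u / dd v w ≠ 0 := div_ne_zero hvu hvw
    have hcomb := eq_comb hvw u
    set α := dd u w / dd v w with hαdef
    set β := dd v u / dd v w with hβdef
    have e1 : c • u = (α * a) • v + (β * b) • w := by
      rw [← hc, hcomb, Matrix.mulVec_add, Matrix.mulVec_smul, Matrix.mulVec_smul, ha, hb, smul_smul,
        smul_smul]
    have e2 : c * α = α * a := by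
      have := congrArg (fun z => dd z w) e1
      simp only [dd_smul_left, dd_add_left, dd_self, mul_zero, add_zero] at this
      rw [hcomb] at this
      simp only [dd_smul_left, dd_add_left, dd_self, mul_zero, add_zero] at this
      apply mul_right_cancel₀ hvw
      linear_combination this
    have e3 : c * β = β * b := by
      have := congrArg (fun z => dd v z) e1
      simp only [dd_smul_right, dd_add_right, dd_self, mul_zero, zero_add] at this
      rw [hcomb] at this
      simp only [dd_smul_right, dd_add_right, dd_self, mul_zero, zero_add] at this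
      apply mul_right_cancel₀ hvw
      linear_combination this
    have hca : c = a := by
      apply mul_right_cancel₀ hα
      rw [e2, mul_comm]
    have hcb : c = b := by
      apply mul_right_cancel₀ hβ
      rw [e3, mul_comm]
    subst hca
    subst hcb
    have hscal := eq_scalar hvw ha hb
    -- determinant
    have hdet : (ρ n).det = 1 := det_map_eq_one ρ (Subgroup.commutator_mono le_top le_top hn)
    have hc2 : c ^ 2 = 1 := by
      have h1 := dd_mulVec (ρ n) v w
      rw [ha, hb, hdet, dd_smul_left, dd_smul_right, one_mul] at h1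
      apply mul_right_cancel₀ hvw
      linear_combination h1
    have hcard : c ^ (Nat.card A) = 1 := by
      have h1 := pow_mulVec ha (Nat.card A)
      rw [pow_card_eq_one', map_one, Matrix.one_mulVec] at h1
      have h2 := congrArg (fun z => dd z w) h1
      simp only [dd_smul_left] at h2
      apply mul_right_cancel₀ hvw
      rw [← h2, one_mul]
    have hc1 : c = 1 := by
      obtain ⟨m, hm⟩ := hodd
      rw [hm, pow_succ, pow_mul, hc2, one_pow, one_mul] at hcard
      exact hcard
    intro y
    rw [hscal y, hc1, one_smul]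
  -- so `ρ` is commutative on `H`
  have hcomm : ∀ x ∈ H, ∀ y ∈ H, ∀ z, ρ x *ᵥ (ρ y *ᵥ z) = ρ y *ᵥ (ρ x *ᵥ z) := by
    intro x hx y hy z
    rw [Matrix.mulVec_mulVec, ← map_mul, Matrix.mulVec_mulVec, ← map_mul]
    have h1 : x * y = ⁅x, y⁆ * (y * x) := by simp [commutatorElement_def]
    rw [h1, map_mul, ← Matrix.mulVec_mulVec]
    exact htriv _ (Subgroup.commutator_mem_commutator hx hy) _
  obtain ⟨μ, hμ⟩ := Module.End.exists_eigenvalue (Matrix.toLin' (ρ h))
  obtain ⟨e, he⟩ := hμ.exists_hasEigenvector
  have he1 : ρ h *ᵥ e = μ • e := by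
    have := he.apply_eq_smul
    simpa using this
  refine ⟨e, he.2, ?_⟩
  intro x hx
  have h1 : ρ h *ᵥ (ρ x *ᵥ e) = μ • (ρ x *ᵥ e) := by
    rw [hcomm h hhH x hx, he1, Matrix.mulVec_smul]
  by_cases hd : dd e (ρ x *ᵥ e) = 0
  · exact exists_smul_of_dd_eq_zero he.2 hd
  · exact absurd (eq_scalar hd he1 h1 v) (hh μ)

/-- A finite solvable group of odd order acting on a plane over an algebraically closed field has a
common eigenvector. -/
theorem exists_common_eigenvector [Finite A] [IsAlgClosed K] (hs : Group.IsSolvable A)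
    (hodd : Odd (Nat.card A)) (ρ : A →* Matrix (Fin 2) (Fin 2) K) :
    ∃ v : Fin 2 → K, v ≠ 0 ∧ ∀ g : A, ∃ c : K, ρ g *ᵥ v = c • v := by
  obtain ⟨n, hn⟩ := hs.solvable
  have key : ∀ k, k ≤ n → ∃ v : Fin 2 → K, v ≠ 0 ∧
      ∀ g ∈ derivedSeries A (n - k), ∃ c : K, ρ g *ᵥ v = c • v := by
    intro k
    induction k with
    | zero =>
      intro _
      refine ⟨fun _ => 1, ?_, ?_⟩
      · intro h
        exact one_ne_zero (congrFun h 0)
      · intro g hg
        rw [Nat.sub_zero, hn, Subgroup.mem_bot] at hg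
        subst hg
        exact ⟨1, by simp⟩
    | succ k ih =>
      intro hk
      obtain ⟨v, hv0, hv⟩ := ih (by omega)
      apply step hodd ρ
      refine ⟨v, hv0, ?_⟩
      have h1 : n - k = (n - (k + 1)) + 1 := by omega
      rw [h1, derivedSeries_succ] at hv
      exact hv
  obtain ⟨v, hv0, hv⟩ := key n le_rfl
  refine ⟨v, hv0, fun g => hv g ?_⟩
  rw [Nat.sub_self, derivedSeries_zero]
  exact Subgroup.mem_top g

theorem sq_sub_one_eq_zero {M : Matrix (Fin 2) (Fin 2) K} (hdet : M.det = 1) {v : Fin 2 → K}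
    (hv0 : v ≠ 0) (hv : M *ᵥ v = v) : (M - 1) * (M - 1) = 0 := by
  -- the trace is `2`
  have h0 := congrFun hv 0
  have h1 := congrFun hv 1
  simp only [Matrix.mulVec, dotProduct, Fin.sum_univ_two] at h0 h1
  rw [Matrix.det_fin_two] at hdet
  have htr : M 0 0 + M 1 1 = 2 := by
    have e0 : (2 - M 0 0 - M 1 1) * v 0 = 0 := by
      linear_combination (-(1:K) + M 1 1) * h0 - M 0 1 * h1 - hdet * v 0
    have e1 : (2 - M 0 0 - M 1 1) * v 1 = 0 := by
      linear_combination (-(1:K) + M 0 0) * h1 - M 1 0 * h0 - hdet * v 1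
    by_cases hv00 : v 0 = 0
    · have hv1 : v 1 ≠ 0 := by
        intro hv1
        apply hv0
        ext i
        fin_cases i
        · exact hv00
        · exact hv1
      have := (mul_eq_zero.1 e1).resolve_right hv1
      linear_combination -this
    · have := (mul_eq_zero.1 e0).resolve_right hv00
      linear_combination -this
  ext i j
  fin_cases i <;> fin_cases j <;>
    simp [Matrix.mul_apply, Fin.sum_univ_two, Matrix.sub_apply, Matrix.one_apply]
  · linear_combination M 0 0 * htr - hdet
  · linear_combination M 0 1 * htr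
  · linear_combination M 1 0 * htr
  · linear_combination M 1 1 * htr - hdet

theorem pow_eq_one_of_algClosed [Finite A] [IsAlgClosed K] (hs : Group.IsSolvable A)
    (hodd : Odd (Nat.card A)) {p : ℕ} [Fact p.Prime] [CharP K p]
    (ρ : A →* Matrix (Fin 2) (Fin 2) K) {g : A} (hg : g ∈ commutator A) : ρ g ^ p = 1 := by
  obtain ⟨v, hv0, hv⟩ := exists_common_eigenvector hs hodd ρ
  have hp : p.Prime := Fact.out
  -- `g` fixes `v`
  have hfix : ρ g *ᵥ v = v := by
    choose χ hχ using hv
    have hinj : ∀ a b : K, a • v = b • v → a = b := by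
      intro a b hab
      have : (a - b) • v = 0 := by rw [sub_smul, hab, sub_self]
      rcases smul_eq_zero.1 this with h | h
      · exact sub_eq_zero.1 h
      · exact absurd h hv0
    let f : A →* K :=
      { toFun := χ
        map_one' := by
          apply hinj
          rw [← hχ, map_one, Matrix.one_mulVec, one_smul]
        map_mul' := by
          intro x y
          apply hinj
          rw [← hχ, map_mul, ← Matrix.mulVec_mulVec, hχ y, Matrix.mulVec_smul, hχ x, smul_smul,
            mul_comm] }
    have h := Abelianization.commutator_subset_ker f.toHomUnits hg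
    rw [MonoidHom.mem_ker] at h
    have h1 : χ g = 1 := by
      have := congrArg Units.val h
      exact this
    rw [hχ, h1, one_smul]
  have hsq := sq_sub_one_eq_zero (det_map_eq_one ρ hg) hv0 hfix
  have h2 : (ρ g - 1) ^ p = 0 := by
    have h3 : p = 2 + (p - 2) := by have := hp.two_le; omega
    rw [h3, pow_add, pow_two, hsq, zero_mul]
  have h3 : (ρ g - 1) ^ p = ρ g ^ p - 1 ^ p := by
    have : CharP (Matrix (Fin 2) (Fin 2) K) p := inferInstance
    exact sub_pow_char_of_commute p (Commute.one_right _)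
  rw [h3, one_pow] at h2
  exact sub_eq_zero.1 h2

/-- A solvable group of odd order of `2 × 2` matrices in characteristic `p`: every element of the
derived subgroup has `p`-th power `1`. -/
theorem pow_eq_one_of_mem_commutator [Finite A] (hs : Group.IsSolvable A)
    (hodd : Odd (Nat.card A)) {F : Type*} [Field F] {p : ℕ} [Fact p.Prime] [CharP F p]
    (ρ : A →* Matrix (Fin 2) (Fin 2) F) {g : A} (hg : g ∈ commutator A) : ρ g ^ p = 1 := by
  let i : Matrix (Fin 2) (Fin 2) F →+* Matrix (Fin 2) (Fin 2) (AlgebraicClosure F) :=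
    (algebraMap F (AlgebraicClosure F)).mapMatrix
  have hi : Function.Injective i := by
    intro M N hMN
    exact Matrix.map_injective (algebraMap F (AlgebraicClosure F)).injective hMN
  have : CharP (AlgebraicClosure F) p := charP_of_injective_algebraMap
    (algebraMap F (AlgebraicClosure F)).injective p
  have h := pow_eq_one_of_algClosed (K := AlgebraicClosure F) (p := p) hs hodd
    ((i : Matrix (Fin 2) (Fin 2) F →* Matrix (Fin 2) (Fin 2) (AlgebraicClosure F)).comp ρ) hg
  apply hi
  rw [map_pow, map_one]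
  exact h

theorem addEnd_aux [Finite A] (hs : Group.IsSolvable A)
    (hodd : Odd (Nat.card A)) {p : ℕ} [Fact p.Prime] {V : Type*} [AddCommGroup V] [Finite V]
    (hVp : ∀ a : V, p • a = 0) (hV : Nat.card V = p ^ 2)
    (φ : A →* AddMonoid.End V) {g : A} (hg : g ∈ commutator A) : φ (g ^ p) = 1 := by
  have hp : p.Prime := Fact.out
  let _ : Module (ZMod p) V := AddCommGroup.zmodModule (n := p) hVp
  have hfm : Module.Finite (ZMod p) V := Module.Finite.of_finite
  have hrank : Module.finrank (ZMod p) V = 2 := by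
    have h1 : Nat.card V = Nat.card (ZMod p) ^ Module.finrank (ZMod p) V :=
      Module.natCard_eq_pow_finrank
    rw [Nat.card_zmod, hV] at h1
    exact (Nat.pow_right_injective hp.two_le h1).symm
  let b := Module.finBasisOfFinrankEq (ZMod p) V hrank
  let ψ : A →* Module.End (ZMod p) V :=
    { toFun := fun a => (φ a : V →+ V).toZModLinearMap p
      map_one' := by
        apply LinearMap.ext
        intro x
        change φ 1 x = x
        rw [map_one]
        rfl
      map_mul' := by
        intro x y
        apply LinearMap.ext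
        intro z
        change φ (x * y) z = φ x (φ y z)
        rw [map_mul]
        rfl }
  have h := pow_eq_one_of_mem_commutator hs hodd (p := p)
    (((LinearMap.toMatrixAlgEquiv b).toRingEquiv.toMonoidHom).comp ψ) hg
  have h1 : ψ g ^ p = 1 := by
    apply (LinearMap.toMatrixAlgEquiv b).injective
    rw [map_pow, map_one]
    exact h
  rw [← map_pow] at h1
  apply AddMonoidHom.ext
  intro x
  have := congrArg (fun f : Module.End (ZMod p) V => f x) h1
  exact this

theorem mulAut_aux [Finite A] (hs : Group.IsSolvable A)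
    (hodd : Odd (Nat.card A)) {p : ℕ} [Fact p.Prime] {V : Type*} [CommGroup V] [Finite V]
    (hVp : ∀ a : V, a ^ p = 1) (hV : Nat.card V = p ^ 2)
    (φ : A →* MulAut V) {g : A} (hg : g ∈ commutator A) : φ g ^ p = 1 := by
  have hfin : Finite (Additive V) := ‹Finite V›
  let ψ : A →* AddMonoid.End (Additive V) :=
    { toFun := fun a => MonoidHom.toAdditive ((φ a).toMonoidHom)
      map_one' := by
        apply AddMonoidHom.ext
        intro x
        change Additive.ofMul (φ 1 x.toMul) = x
        rw [map_one]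
        rfl
      map_mul' := by
        intro x y
        apply AddMonoidHom.ext
        intro z
        change Additive.ofMul (φ (x * y) z.toMul) = Additive.ofMul (φ x (φ y z.toMul))
        rw [map_mul]
        rfl }
  have h := addEnd_aux hs hodd (p := p) (fun a : Additive V => hVp a.toMul) hV ψ hg
  rw [← map_pow]
  ext x
  exact congrArg (fun f : AddMonoid.End (Additive V) => (f (Additive.ofMul x)).toMul) h

/-- A solvable group of odd order acting on an elementary abelian group of order at most `p ^ 2`: the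
elements of its derived subgroup act with `p`-th power `1`. -/
theorem mulAut_pow_eq_one_of_mem_commutator [Finite A] (hs : Group.IsSolvable A)
    (hodd : Odd (Nat.card A)) {p : ℕ} [Fact p.Prime] {V : Type*} [Group V] [Finite V]
    (hVc : ∀ a b : V, a * b = b * a) (hVp : ∀ a : V, a ^ p = 1) (hV : Nat.card V ≤ p ^ 2)
    (φ : A →* MulAut V) {g : A} (hg : g ∈ commutator A) : φ g ^ p = 1 := by
  have hp : p.Prime := Fact.out
  have hVP : IsPGroup p V := fun a => ⟨1, by rw [pow_one]; exact hVp a⟩
  obtain ⟨k, hk⟩ := IsPGroup.iff_card.1 hVP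
  have hk2 : k ≤ 2 := by
    rw [hk] at hV
    exact (Nat.pow_le_pow_iff_right hp.one_lt).1 hV
  by_cases hk1 : k ≤ 1
  · have hcyc : IsCyclic V := by
      interval_cases k
      · have : Subsingleton V := (Nat.card_eq_one_iff_unique.1 (by simpa using hk)).1
        infer_instance
      · exact isCyclic_of_prime_card (p := p) (by simpa using hk)
    have h := Abelianization.commutator_subset_ker
      ((IsCyclic.mulAutMulEquiv V).toMonoidHom.comp φ) hg
    rw [MonoidHom.mem_ker] at h
    have h1 : φ g = 1 := by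
      apply (IsCyclic.mulAutMulEquiv V).injective
      rw [map_one]
      exact h
    rw [h1, one_pow]
  · have hk3 : k = 2 := by omega
    subst hk3
    exact @mulAut_aux A _ _ hs hodd p _ V { mul_comm := hVc } _ hVp hk φ g hg

end Main

end Cfsg.Agent.OddOrderLocal.GLTwoOdd
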