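import Mathlib
import Cfsg.Prelude.Def_OddOrderLocal
import Cfsg.Agent.Lib.Cores
import Cfsg.Agent.Lib.LocalCore
import Cfsg.Agent.Lib.NormalAbelian
import Cfsg.Agent.OddOrderLocal.CNBasic
set_option linter.all false

/-!
For a subgroup `X` of a finite group `G`: `O_q(X)` and `O_{q'}(X)` as subgroups of `G`
(`oP q X`, `oP' q X`), and for `X` nilpotent the decomposition `X = O_q(X) × O_{q'}(X)`.
-/

set_option autoImplicit false

namespace Cfsg.Agent.OddOrderLocal.NilParts

open Cfsg Cfsg.Agent.Lib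
open Subgroup

variable {G : Type*} [Group G]

/-- `O_q(X)` as a subgroup of `G`. -/
def oP (q : ℕ) (X : Subgroup G) : Subgroup G := (pCore q X).map X.subtype

/-- `O_{q'}(X)` as a subgroup of `G`. -/
def oP' (q : ℕ) (X : Subgroup G) : Subgroup G := (pPrimeCore q X).map X.subtype

theorem oP_def (q : ℕ) (X : Subgroup G) : oP q X = (pCore q X).map X.subtype := rfl

theorem oP'_def (q : ℕ) (X : Subgroup G) : oP' q X = (pPrimeCore q X).map X.subtype := rfl

theorem oP_le (q : ℕ) (X : Subgroup G) : oP q X ≤ X := map_subtype_le _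

theorem oP'_le (q : ℕ) (X : Subgroup G) : oP' q X ≤ X := map_subtype_le _

theorem isPGroup_oP (q : ℕ) (X : Subgroup G) : IsPGroup q (oP q X) :=
  LocalCore.isPGroup_map_pCore q X

theorem coprime_oP' [Finite G] (q : ℕ) (X : Subgroup G) : (Nat.card (oP' q X)).Coprime q :=
  LocalCore.card_map_pPrimeCore_coprime q X

theorem le_oP {q : ℕ} {X K : Subgroup G} (hKX : K ≤ X) (hK : IsPGroup q K)
    (hX : X ≤ normalizer (K : Set G)) : K ≤ oP q X :=
  LocalCore.le_map_pCore hKX hK hX

theorem le_oP' {q : ℕ} {X K : Subgroup G} (hKX : K ≤ X) (hK : (Nat.card K).Coprime q)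
    (hX : X ≤ normalizer (K : Set G)) : K ≤ oP' q X :=
  LocalCore.le_map_pPrimeCore hKX hK hX

theorem le_normalizer_oP (q : ℕ) (X : Subgroup G) : X ≤ normalizer (oP q X : Set G) :=
  LocalCore.le_normalizer_map_pCore q X

theorem le_normalizer_oP' (q : ℕ) (X : Subgroup G) : X ≤ normalizer (oP' q X : Set G) :=
  LocalCore.le_normalizer_map_pPrimeCore q X

/-- the image in `G` of a characteristic subgroup of `X` is normalized by `N_G(X)`. -/
theorem normalizer_le_of_characteristic {X : Subgroup G} (C : Subgroup X) (hC : C.Characteristic) :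
    normalizer (X : Set G) ≤ normalizer ((C.map X.subtype : Subgroup G) : Set G) := by
  have key : ∀ g ∈ normalizer (X : Set G), ∀ x ∈ C.map X.subtype, g * x * g⁻¹ ∈ C.map X.subtype := by
    intro g hg x hx
    obtain ⟨y, hy, rfl⟩ := hx
    let e : X ≃* X :=
      { toFun := fun z => ⟨g * z * g⁻¹, (mem_normalizer_iff.mp hg z).mp z.2⟩
        invFun := fun z => ⟨g⁻¹ * z * g, by
          have := (mem_normalizer_iff.mp (inv_mem hg) (z : G)).mp z.2
          simpa using this⟩
        left_inv := fun z => by ext; simp [mul_assoc]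
        right_inv := fun z => by ext; simp [mul_assoc]
        map_mul' := fun a b => by ext; simp [mul_assoc] }
    have h1 : C.map e.toMonoidHom = C := characteristic_iff_map_eq.mp hC e
    refine ⟨e y, ?_, rfl⟩
    have h2 : e y ∈ C.map e.toMonoidHom := ⟨y, hy, rfl⟩
    rwa [h1] at h2
  intro g hg
  rw [mem_normalizer_iff]
  intro x
  refine ⟨fun hx => key g hg x hx, fun hx => ?_⟩
  have := key g⁻¹ (inv_mem hg) _ hx
  simpa [mul_assoc] using this

theorem normalizer_le_oP (q : ℕ) (X : Subgroup G) :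
    normalizer (X : Set G) ≤ normalizer (oP q X : Set G) :=
  normalizer_le_of_characteristic _ (Cores.pCore_characteristic q)

theorem normalizer_le_oP' (q : ℕ) (X : Subgroup G) :
    normalizer (X : Set G) ≤ normalizer (oP' q X : Set G) :=
  normalizer_le_of_characteristic _ (Cores.pPrimeCore_characteristic q)

theorem normalizer_le_normalizer_centralizer (A : Subgroup G) :
    normalizer (A : Set G) ≤ normalizer (centralizer (A : Set G) : Set G) := by
  have key : ∀ g ∈ normalizer (A : Set G), ∀ x ∈ centralizer (A : Set G),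
      g * x * g⁻¹ ∈ centralizer (A : Set G) := by
    intro g hg x hx
    rw [mem_centralizer_iff] at hx ⊢
    intro a ha
    have h1 : g⁻¹ * a * g ∈ A := by
      have := (mem_normalizer_iff.mp (inv_mem hg) a).mp ha
      simpa using this
    have h2 := hx _ h1
    calc a * (g * x * g⁻¹) = g * ((g⁻¹ * a * g) * x) * g⁻¹ := by group
      _ = g * (x * (g⁻¹ * a * g)) * g⁻¹ := by rw [h2]
      _ = g * x * g⁻¹ * a := by group
  intro g hg
  rw [mem_normalizer_iff]
  intro x
  refine ⟨fun hx => key g hg x hx, fun hx => ?_⟩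
  have := key g⁻¹ (inv_mem hg) _ hx
  simpa [mul_assoc] using this

theorem le_normalizer_inf {A B X : Subgroup G} (hA : X ≤ normalizer (A : Set G))
    (hB : X ≤ normalizer (B : Set G)) : X ≤ normalizer ((A ⊓ B : Subgroup G) : Set G) :=
  fun _ hx => inf_normalizer_le_normalizer_inf ⟨hA hx, hB hx⟩

/-- a subgroup and its centralizer. -/
theorem le_centralizer_of_comm {A B : Subgroup G} (h : ∀ a ∈ A, ∀ b ∈ B, a * b = b * a) :
    A ≤ centralizer (B : Set G) := by
  intro a ha
  rw [mem_centralizer_iff]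
  intro b hb
  exact (h a ha b hb).symm

theorem comm_of_le_centralizer {A B : Subgroup G} (h : A ≤ centralizer (B : Set G)) {a b : G}
    (ha : a ∈ A) (hb : b ∈ B) : a * b = b * a :=
  ((mem_centralizer_iff.mp (h ha)) b hb).symm

theorem le_centralizer_symm {A B : Subgroup G} (h : A ≤ centralizer (B : Set G)) :
    B ≤ centralizer (A : Set G) :=
  le_centralizer_of_comm fun _ hb _ ha => (comm_of_le_centralizer h ha hb).symm

/-- Two subgroups normalising each other and of coprime orders commute. -/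
theorem le_centralizer_of_coprime_of_normalize [Finite G] {H K : Subgroup G}
    (hHK : H ≤ normalizer (K : Set G)) (hKH : K ≤ normalizer (H : Set G))
    (hc : (Nat.card H).Coprime (Nat.card K)) : H ≤ centralizer (K : Set G) := by
  have hd : H ⊓ K = ⊥ := (disjoint_of_coprime_natCard hc).eq_bot
  refine le_centralizer_of_comm fun x hx y hy => ?_
  have h1 : y * x * y⁻¹ * x⁻¹ ∈ H :=
    H.mul_mem ((mem_normalizer_iff.mp (hKH hy) x).mp hx) (H.inv_mem hx)
  have h2 : y * (x * y⁻¹ * x⁻¹) ∈ K :=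
    K.mul_mem hy ((mem_normalizer_iff.mp (hHK hx) y⁻¹).mp (K.inv_mem hy))
  have h3 : y * x * y⁻¹ * x⁻¹ ∈ H ⊓ K := ⟨h1, by simpa [mul_assoc] using h2⟩
  rw [hd, mem_bot] at h3
  have h4 : y * x = x * y := by
    have := mul_inv_eq_one.mp h3
    exact mul_inv_eq_iff_eq_mul.mp this
  exact h4.symm

theorem coprime_card_of_isPGroup [Finite G] {q : ℕ} [Fact q.Prime] {H K : Subgroup G}
    (hH : IsPGroup q H) (hK : (Nat.card K).Coprime q) : (Nat.card H).Coprime (Nat.card K) := by
  obtain ⟨n, hn⟩ := IsPGroup.iff_card.mp hH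
  rw [hn]
  exact Nat.Coprime.pow_left n hK.symm

theorem oP_le_centralizer_oP' [Finite G] (q : ℕ) [Fact q.Prime] (X : Subgroup G) :
    oP q X ≤ centralizer (oP' q X : Set G) :=
  le_centralizer_of_coprime_of_normalize ((oP_le q X).trans (le_normalizer_oP' q X))
    ((oP'_le q X).trans (le_normalizer_oP q X))
    (coprime_card_of_isPGroup (isPGroup_oP q X) (coprime_oP' q X))

/-! ### nilpotent subgroups -/

section Nilpotent

variable [Finite G] {X : Subgroup G}

theorem mem_oP (hX : Group.IsNilpotent X) {q : ℕ} [Fact q.Prime] {x : G} (hx : x ∈ X)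
    {k : ℕ} (hxk : x ^ q ^ k = 1) : x ∈ oP q X := by
  haveI := hX
  have h1 : IsPGroup q (zpowers (⟨x, hx⟩ : X)) := by
    rintro ⟨y, hy⟩
    obtain ⟨n, rfl⟩ := mem_zpowers_iff.mp hy
    refine ⟨k, Subtype.ext ?_⟩
    change ((⟨x, hx⟩ : X) ^ n) ^ q ^ k = 1
    have h2 : (⟨x, hx⟩ : X) ^ q ^ k = 1 := Subtype.ext hxk
    rw [← zpow_natCast, ← zpow_mul, mul_comm, zpow_mul, zpow_natCast, h2, one_zpow]
  obtain ⟨P, hP⟩ := h1.exists_le_sylow
  have hPn : (P : Subgroup X).Normal := inferInstance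
  have h3 : (P : Subgroup X) ≤ pCore q X := Cores.le_pCore hPn P.isPGroup'
  exact ⟨⟨x, hx⟩, h3 (hP (mem_zpowers _)), rfl⟩

theorem sup_eq_of_isNilpotent (hX : Group.IsNilpotent X) (q : ℕ) [Fact q.Prime] :
    pCore q X ⊔ pPrimeCore q X = ⊤ := by
  haveI := hX
  rw [← top_le_iff, ← (Cores.fittingSubgroup_eq_top_iff (G := X)).mpr hX,
    Cores.fittingSubgroup_eq_iSup_pCore]
  refine iSup_le fun r => ?_
  by_cases h : (r : ℕ) = q
  · rw [h]; exact le_sup_left
  · refine le_sup_of_le_right (Cores.le_pPrimeCore (Cores.pCore_normal _) ?_)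
    haveI := Fact.mk r.2
    obtain ⟨n, hn⟩ := IsPGroup.iff_card.mp (Cores.pCore_isPGroup (G := X) (r : ℕ))
    rw [hn]
    exact Nat.Coprime.pow_left n ((Nat.coprime_primes r.2 (Fact.out : q.Prime)).mpr h)

theorem mem_oP' (hX : Group.IsNilpotent X) {q : ℕ} [Fact q.Prime] {x : G} (hx : x ∈ X)
    (hxq : (orderOf x).Coprime q) : x ∈ oP' q X := by
  have hn : (pPrimeCore q X).Normal := Cores.pPrimeCore_normal q
  have h1 : IsPGroup q (X ⧸ pPrimeCore q X) := by
    have h2 : (pCore q X).map (QuotientGroup.mk' (pPrimeCore q X)) = ⊤ := by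
      have h3 := congrArg (Subgroup.map (QuotientGroup.mk' (pPrimeCore q X)))
        (sup_eq_of_isNilpotent hX q)
      rw [Subgroup.map_sup, QuotientGroup.map_mk'_self, sup_bot_eq,
        Subgroup.map_top_of_surjective _ (QuotientGroup.mk'_surjective _)] at h3
      exact h3
    have h4 : IsPGroup q ((pCore q X).map (QuotientGroup.mk' (pPrimeCore q X))) :=
      (Cores.pCore_isPGroup q).map _
    rw [h2] at h4
    exact h4.of_equiv topEquiv
  refine ⟨⟨x, hx⟩, ?_, rfl⟩
  obtain ⟨k, hk⟩ := h1 (QuotientGroup.mk' (pPrimeCore q X) ⟨x, hx⟩)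
  have h5 : orderOf (QuotientGroup.mk' (pPrimeCore q X) ⟨x, hx⟩) ∣ orderOf x := by
    rw [← orderOf_mk x hx]
    exact orderOf_map_dvd _ _
  have h6 : orderOf (QuotientGroup.mk' (pPrimeCore q X) ⟨x, hx⟩) ∣ q ^ k :=
    orderOf_dvd_of_pow_eq_one hk
  have h7 : orderOf (QuotientGroup.mk' (pPrimeCore q X) ⟨x, hx⟩) = 1 :=
    Nat.eq_one_of_dvd_coprimes (Nat.Coprime.pow_right k hxq) h5 h6
  rw [orderOf_eq_one_iff] at h7
  exact (QuotientGroup.eq_one_iff _).mp h7

/-- a nilpotent subgroup is generated by `O_q` and `O_{q'}`. -/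
theorem oP_sup_oP' (hX : Group.IsNilpotent X) (q : ℕ) [Fact q.Prime] : oP q X ⊔ oP' q X = X := by
  rw [oP_def, oP'_def, ← Subgroup.map_sup, sup_eq_of_isNilpotent hX q, ← MonoidHom.range_eq_map,
    Subgroup.range_subtype]

theorem oP_mono (hX : Group.IsNilpotent X) {A : Subgroup G} (hA : A ≤ X) (q : ℕ) [Fact q.Prime] :
    oP q A ≤ oP q X := by
  intro x hx
  obtain ⟨k, hk⟩ := isPGroup_oP q A ⟨x, hx⟩
  exact mem_oP hX (hA (oP_le q A hx)) (k := k) (congrArg Subtype.val hk)

theorem orderOf_coprime_of_mem_oP' {q : ℕ} {A : Subgroup G} {x : G} (hx : x ∈ oP' q A) :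
    (orderOf x).Coprime q := by
  refine (coprime_oP' q A).coprime_dvd_left ?_
  rw [← orderOf_mk x hx]
  exact orderOf_dvd_natCard _

theorem oP'_mono (hX : Group.IsNilpotent X) {A : Subgroup G} (hA : A ≤ X) (q : ℕ)
    [Fact q.Prime] : oP' q A ≤ oP' q X := by
  intro x hx
  exact mem_oP' hX (hA (oP'_le q A hx)) (orderOf_coprime_of_mem_oP' hx)

/-- distinct primes: `O_r(X) ≤ O_{q'}(X)`. -/
theorem oP_le_oP' {q r : ℕ} [Fact q.Prime] [Fact r.Prime] (hqr : r ≠ q) (X : Subgroup G) :
    oP r X ≤ oP' q X := by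
  refine le_oP' (oP_le r X) ?_ (le_normalizer_oP r X)
  obtain ⟨n, hn⟩ := IsPGroup.iff_card.mp (isPGroup_oP r X)
  rw [hn]
  exact Nat.Coprime.pow_left n ((Nat.coprime_primes (Fact.out : r.Prime) (Fact.out : q.Prime)).mpr hqr)

theorem oP_ne_bot (hX : Group.IsNilpotent X) {q : ℕ} [hq : Fact q.Prime] (h : q ∣ Nat.card X) :
    oP q X ≠ ⊥ := by
  obtain ⟨x, hx⟩ := exists_prime_orderOf_dvd_card' q h
  intro hb
  have h1 : (x : G) ∈ oP q X := mem_oP hX x.2 (k := 1) (by
    rw [pow_one, ← hx]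
    have := pow_orderOf_eq_one x
    exact congrArg Subtype.val this)
  rw [hb, mem_bot] at h1
  have h2 : x = 1 := Subtype.ext h1
  rw [h2, orderOf_one] at hx
  exact hq.out.one_lt.ne hx

/-- the part of the centre of a nilpotent subgroup of order divisible by `q`. -/
theorem oP_inf_centralizer_ne_bot (hX : Group.IsNilpotent X) {q : ℕ} [hq : Fact q.Prime]
    (h : q ∣ Nat.card X) : oP q X ⊓ centralizer (X : Set G) ≠ ⊥ := by
  haveI := hX
  have h1 : pCore q X ≠ ⊥ := by
    intro hb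
    apply oP_ne_bot hX h
    rw [oP_def, hb, Subgroup.map_bot]
  haveI : (pCore q X).Normal := Cores.pCore_normal q
  have h2 := NormalAbelian.normal_inf_center_ne_bot (pCore q X) h1
  obtain ⟨⟨y, hy⟩, hy1⟩ := Subgroup.ne_bot_iff_exists_ne_one.mp h2
  intro hb
  apply hy1
  have h3 : (y : G) ∈ oP q X ⊓ centralizer (X : Set G) := by
    refine ⟨⟨y, hy.1, rfl⟩, mem_centralizer_iff.mpr fun g hg => ?_⟩
    exact congrArg Subtype.val (mem_center_iff.mp hy.2 ⟨g, hg⟩)
  rw [hb, mem_bot] at h3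
  exact Subtype.ext (Subtype.ext h3)

omit [Finite G] in
theorem isNilpotent_of_le {A : Subgroup G} (hA : A ≤ X) (hX : Group.IsNilpotent X) :
    Group.IsNilpotent A := by
  haveI := hX
  exact (Group.isNilpotent_congr (subgroupOfEquivOfLe hA)).mp inferInstance

end Nilpotent

end Cfsg.Agent.OddOrderLocal.NilParts
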