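import Mathlib
import Cfsg.Prelude.Def_OddOrderLocal
import Cfsg.Agent.Lib.Cores
import Cfsg.Agent.S0044
import Cfsg.Agent.OddOrderLocal.RankTwoAction
import Cfsg.Agent.OddOrderLocal.RankTwoSolvable
set_option linter.all false

/-!
# Solvable groups of odd order whose Fitting subgroup has rank at most two

Auxiliary results for S1451.
-/

set_option autoImplicit false

namespace Cfsg.Agent.OddOrderLocal.RankTwoFitting

open Subgroup Cfsg
open Cfsg.Agent.Lib.Cores Cfsg.Agent.OddOrderLocal.RankTwoAction
open Cfsg.Agent.OddOrderLocal.RankTwoSolvable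
open scoped commutatorElement

variable {G : Type*} [Group G] [Finite G]

theorem pCore_two_eq_bot (hodd : Odd (Nat.card G)) : pCore 2 G = ⊥ := by
  obtain ⟨n, hn⟩ := (pCore_isPGroup (G := G) 2).exists_card_eq
  rw [← Subgroup.card_eq_one, hn]
  rcases Nat.eq_zero_or_pos n with h | h
  · rw [h, pow_zero]
  · exfalso
    have h1 : 2 ∣ Nat.card G := (dvd_pow_self 2 h.ne').trans (hn ▸ card_subgroup_dvd_card _)
    exact ne_two_of_odd hodd h1 rfl

/-- The intersection of the centralizers of the `p`-cores is contained in the Fitting subgroup. -/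
theorem mem_fitting_of_forall_mem_centralizer [Group.IsSolvable G] {x : G}
    (h : ∀ r : ℕ, r.Prime → x ∈ Subgroup.centralizer (pCore r G : Set G)) :
    x ∈ Subgroup.centralizer (fittingSubgroup G : Set G) ∧ x ∈ fittingSubgroup G := by
  have h1 : x ∈ Subgroup.centralizer (fittingSubgroup G : Set G) := by
    have h2 : fittingSubgroup G ≤ Subgroup.centralizer ({x} : Set G) := by
      rw [fittingSubgroup_eq_iSup_pCore]
      refine iSup_le fun r y hy => ?_
      rw [Subgroup.mem_centralizer_iff]
      rintro _ rfl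
      exact ((Subgroup.mem_centralizer_iff.mp (h r r.2)) y hy).symm
    rw [Subgroup.mem_centralizer_iff]
    intro y hy
    exact ((Subgroup.mem_centralizer_iff.mp (h2 hy)) x rfl).symm
  exact ⟨h1, Cfsg.Agent.S0044.centralizer_fitting_le G (fittingSubgroup_normal (G := G)) h1⟩

/-- The Fitting subgroup is generated by `O_p(G)` and any subgroup containing the other cores;
so elements of order prime to `p` of the Fitting subgroup lie in such a subgroup. -/
theorem mem_of_mem_fitting {p : ℕ} {W : Subgroup G} (hW : W.Normal)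
    (h : ∀ r : ℕ, r.Prime → r ≠ p → pCore r G ≤ W) {x : G} (hx : x ∈ fittingSubgroup G)
    (hxo : (orderOf x).Coprime p) : x ∈ W := by
  have h1 : fittingSubgroup G ≤ pCore p G ⊔ W := by
    rw [fittingSubgroup_eq_iSup_pCore]
    refine iSup_le fun r => ?_
    by_cases hr : (r : ℕ) = p
    · rw [hr]; exact le_sup_left
    · exact (h r r.2 hr).trans le_sup_right
  have h2 : QuotientGroup.mk' W x ∈ (pCore p G).map (QuotientGroup.mk' W) := by
    have h3 : (fittingSubgroup G).map (QuotientGroup.mk' W) ≤
        (pCore p G).map (QuotientGroup.mk' W) := by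
      refine (Subgroup.map_mono h1).trans ?_
      rw [Subgroup.map_sup]
      refine sup_le le_rfl ?_
      have h4 : W.map (QuotientGroup.mk' W) = ⊥ := by
        rw [Subgroup.map_eq_bot_iff, QuotientGroup.ker_mk']
      rw [h4]
      exact bot_le
    exact h3 ⟨x, hx, rfl⟩
  have h5 := eq_one_of_mem_isPGroup ((pCore_isPGroup (G := G) p).map (QuotientGroup.mk' W)) h2
    (Nat.Coprime.coprime_dvd_left (orderOf_map_dvd _ x) hxo)
  rwa [← MonoidHom.mem_ker, QuotientGroup.ker_mk'] at h5

section Nilpotent

variable [Group.IsSolvable G]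

/-- The elements of `G'` centralizing all `r`-cores with `r ≠ p`. -/
def part (G : Type*) [Group G] (p : ℕ) : Subgroup G :=
  _root_.commutator G ⊓ ⨅ r : {r : ℕ // r.Prime ∧ r ≠ p}, Subgroup.centralizer (pCore r G : Set G)

omit [Finite G] [Group.IsSolvable G] in
theorem mem_part {p : ℕ} {x : G} : x ∈ part G p ↔ x ∈ _root_.commutator G ∧
    ∀ r : ℕ, r.Prime → r ≠ p → x ∈ Subgroup.centralizer (pCore r G : Set G) := by
  rw [part, mem_inf, mem_iInf]
  constructor
  · rintro ⟨h1, h2⟩
    exact ⟨h1, fun r hr hrp => h2 ⟨r, hr, hrp⟩⟩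
  · rintro ⟨h1, h2⟩
    exact ⟨h1, fun r => h2 r r.2.1 r.2.2⟩

omit [Finite G] [Group.IsSolvable G] in
theorem part_normal (p : ℕ) : (part G p).Normal := by
  have h1 : ∀ r : {r : ℕ // r.Prime ∧ r ≠ p},
      (Subgroup.centralizer (pCore r G : Set G)).Normal := by
    intro r
    have := Lib.Cores.pCore_normal (G := G) (r : ℕ)
    infer_instance
  have h2 : (⨅ r : {r : ℕ // r.Prime ∧ r ≠ p}, Subgroup.centralizer (pCore r G : Set G)).Normal :=
    Subgroup.normal_iInf_normal h1
  unfold part
  infer_instance

variable (hodd : Odd (Nat.card G)) (hr : RankLE 2 (fittingSubgroup G))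

include hodd hr in
theorem mem_centralizer_pCore (p : ℕ) (hp : p.Prime) {g : G}
    (hg : g ∈ _root_.commutator G) (ho : (orderOf g).Coprime p) :
    g ∈ Subgroup.centralizer (pCore p G : Set G) := by
  have : Fact p.Prime := ⟨hp⟩
  by_cases hp2 : p = 2
  · subst hp2
    rw [pCore_two_eq_bot hodd]
    rw [Subgroup.mem_centralizer_iff]
    intro y hy
    rw [Subgroup.coe_bot, Set.mem_singleton_iff] at hy
    rw [hy, one_mul, mul_one]
  · exact mem_centralizer_of_mem_commutator inferInstance hodd hp2 (Lib.Cores.pCore_normal p)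
      (pCore_isPGroup p) (pRankLE_of_le (pCore_le_fittingSubgroup p) (hr p hp)) hg ho

include hodd hr in
theorem part_isNilpotent {p : ℕ} (hp : p.Prime) : Group.IsNilpotent (part G p) := by
  have : Fact p.Prime := ⟨hp⟩
  apply Group.of_quotient_center_nilpotent
  have h : IsPGroup p (↥(part G p) ⧸ Subgroup.center (part G p)) := by
    intro y
    obtain ⟨⟨x, hx⟩, rfl⟩ := QuotientGroup.mk'_surjective _ y
    have hpos : 0 < orderOf x := orderOf_pos x
    obtain ⟨k, m, hm, hkm⟩ := Nat.exists_eq_pow_mul_and_not_dvd hpos.ne' p hp.ne_one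
    have hz1 : (orderOf (x ^ p ^ k)).Coprime p := by
      have h1 : (x ^ p ^ k) ^ m = 1 := by rw [← pow_mul, ← hkm, pow_orderOf_eq_one]
      exact Nat.Coprime.coprime_dvd_left (orderOf_dvd_of_pow_eq_one h1)
        ((Nat.Prime.coprime_iff_not_dvd hp).mpr hm).symm
    have hzp : x ^ p ^ k ∈ part G p := pow_mem hx _
    have hzc : ∀ r : ℕ, r.Prime → x ^ p ^ k ∈ Subgroup.centralizer (pCore r G : Set G) := by
      intro r hrr
      by_cases hrp : r = p
      · subst hrp
        exact mem_centralizer_pCore hodd hr r hrr (mem_part.mp hzp).1 hz1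
      · exact (mem_part.mp hzp).2 r hrr hrp
    obtain ⟨_, hzF⟩ := mem_fitting_of_forall_mem_centralizer hzc
    have hW : x ^ p ^ k ∈ Subgroup.centralizer (part G p : Set G) := by
      have hpn := part_normal (G := G) p
      refine mem_of_mem_fitting (p := p) (W := Subgroup.centralizer (part G p : Set G))
        inferInstance ?_ hzF hz1
      intro r hrr hrp y hy
      rw [Subgroup.mem_centralizer_iff]
      intro z hz
      exact ((Subgroup.mem_centralizer_iff.mp ((mem_part.mp hz).2 r hrr hrp)) y hy).symm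
    refine ⟨k, ?_⟩
    rw [← map_pow, ← MonoidHom.mem_ker, QuotientGroup.ker_mk', Subgroup.mem_center_iff]
    rintro ⟨y, hy⟩
    apply Subtype.ext
    exact (Subgroup.mem_centralizer_iff.mp hW) y hy
  exact h.isNilpotent

include hodd hr in
/-- `G' ≤ F(G)`. -/
theorem commutator_le_fitting : _root_.commutator G ≤ fittingSubgroup G := by
  have h : (fittingSubgroup G).subgroupOf (_root_.commutator G) = ⊤ := by
    refine eq_top_of_sylow_le fun p hp => ?_
    obtain ⟨P⟩ := (inferInstance : Nonempty (Sylow p (_root_.commutator G)))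
    refine ⟨P, fun x hx => ?_⟩
    rw [Subgroup.mem_subgroupOf]
    have h1 : part G p ≤ fittingSubgroup G :=
      le_fittingSubgroup (part_normal p) (part_isNilpotent hodd hr hp.out)
    apply h1
    rw [mem_part]
    refine ⟨x.2, fun r hrr hrp => ?_⟩
    apply mem_centralizer_pCore hodd hr r hrr x.2
    obtain ⟨k, hk⟩ := P.isPGroup' ⟨x, hx⟩
    have h2 : (x : G) ^ p ^ k = 1 := by
      have h3 : x ^ p ^ k = 1 := congrArg Subtype.val hk
      exact congrArg Subtype.val h3
    exact Nat.Coprime.coprime_dvd_left (orderOf_dvd_of_pow_eq_one h2)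
      (Nat.Coprime.pow_left _ ((Nat.coprime_primes hp.out hrr).mpr (Ne.symm hrp)))
  rwa [subgroupOf_eq_top] at h

end Nilpotent

/-- `p`-subgroups of the Fitting subgroup lie in `O_p(G)`. -/
theorem le_pCore_of_le_fitting {p : ℕ} [hp : Fact p.Prime] {T : Subgroup G} (hT : IsPGroup p T)
    (h : T ≤ fittingSubgroup G) : T ≤ pCore p G := by
  have h1 : IsPGroup p (T.subgroupOf (fittingSubgroup G)) := hT.comap_subtype
  obtain ⟨Q, hQ⟩ := h1.exists_le_sylow
  have hnil := fittingSubgroup_isNilpotent (G := G)
  have hQn : (Q : Subgroup (fittingSubgroup G)).Normal := by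
    have h3 := ((Group.isNilpotent_of_finite_tfae (G := fittingSubgroup G)).out 0 3).mp hnil
    exact h3 p hp Q
  have hQc : (Q : Subgroup (fittingSubgroup G)).Characteristic := Q.characteristic_of_normal hQn
  have h2 : (Q : Subgroup (fittingSubgroup G)).map (fittingSubgroup G).subtype ≤ pCore p G :=
    le_pCore inferInstance (Q.isPGroup'.map _)
  refine le_trans ?_ h2
  intro x hx
  exact ⟨⟨x, h hx⟩, hQ (by rw [Subgroup.mem_subgroupOf]; exact hx), rfl⟩

theorem commute_pCore {p q : ℕ} [hp : Fact p.Prime] [hq : Fact q.Prime] (h : p ≠ q) {x y : G}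
    (hx : x ∈ pCore p G) (hy : y ∈ pCore q G) : x * y = y * x := by
  have h1 : Disjoint (pCore p G) (pCore q G) := by
    apply disjoint_of_coprime_natCard
    obtain ⟨n, hn⟩ := (pCore_isPGroup (G := G) p).exists_card_eq
    obtain ⟨m, hm⟩ := (pCore_isPGroup (G := G) q).exists_card_eq
    rw [hn, hm]
    exact Nat.Coprime.pow _ _ ((Nat.coprime_primes hp.out hq.out).mpr h)
  exact Subgroup.commute_of_normal_of_disjoint _ _ (Lib.Cores.pCore_normal p) (Lib.Cores.pCore_normal q) h1 x y hx hy

/-! ### Characteristic subgroups of Sylow subgroups -/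

section Sylow

variable [Group.IsSolvable G] (hodd : Odd (Nat.card G)) (hr : RankLE 2 (fittingSubgroup G))

include hodd hr in
theorem char_sylow_normal {q : ℕ} [hq : Fact q.Prime] (S : Sylow q G)
    (T : Subgroup ↥(S : Subgroup G)) (hT : T.Characteristic)
    (hTS : T.map (S : Subgroup G).subtype ≤ ⁅(S : Subgroup G), (S : Subgroup G)⁆) :
    (T.map (S : Subgroup G).subtype).Normal := by
  set T' : Subgroup G := T.map (S : Subgroup G).subtype with hT'
  have hT'S : T' ≤ S := map_subtype_le T
  have hT'p : IsPGroup q T' := S.isPGroup'.to_le hT'S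
  have hGF := commutator_le_fitting hodd hr
  have hT'G : T' ≤ _root_.commutator G := by
    refine hTS.trans ?_
    rw [_root_.commutator_def]
    exact Subgroup.commutator_mono le_top le_top
  have hT'F : T' ≤ fittingSubgroup G := hT'G.trans hGF
  have hT'core : T' ≤ pCore q G := le_pCore_of_le_fitting hT'p hT'F
  -- the normalizer of `S` normalizes `T'`
  have hconj : ∀ g : G, g ∈ Subgroup.normalizer ((S : Subgroup G) : Set G) →
      ∀ x ∈ T', g * x * g⁻¹ ∈ T' := by
    rintro g hg _ ⟨x, hx, rfl⟩
    set φ : MulAut (S : Subgroup G) := Subgroup.normalizerMonoidHom (S : Subgroup G) ⟨g, hg⟩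
      with hφ
    have h1 : T.map φ.toMonoidHom = T := (characteristic_iff_map_eq.mp hT) φ
    have h2 : φ x ∈ T := by
      rw [← h1]
      exact ⟨x, hx, rfl⟩
    exact ⟨φ x, h2, rfl⟩
  have hNle : Subgroup.normalizer ((S : Subgroup G) : Set G) ≤ Subgroup.normalizer (T' : Set G) := by
    intro g hg
    rw [Subgroup.mem_normalizer_iff]
    intro x
    refine ⟨hconj g hg x, fun h => ?_⟩
    have h1 := hconj g⁻¹ (inv_mem hg) _ h
    have h2 : g⁻¹ * (g * x * g⁻¹) * g⁻¹⁻¹ = x := by group
    rwa [h2] at h1
  -- the Fitting subgroup normalizes `T'`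
  have hFle : fittingSubgroup G ≤ Subgroup.normalizer (T' : Set G) := by
    rw [fittingSubgroup_eq_iSup_pCore]
    refine iSup_le fun r => ?_
    have hrr : Fact (r : ℕ).Prime := ⟨r.2⟩
    by_cases hrq : (r : ℕ) = q
    · rw [hrq]
      refine le_trans ?_ hNle
      exact (pCore_le_sylow S).trans Subgroup.le_normalizer
    · intro y hy
      rw [Subgroup.mem_normalizer_iff]
      intro x
      have hcomm : ∀ z ∈ T', y * z * y⁻¹ = z := by
        intro z hz
        rw [commute_pCore hrq hy (hT'core hz), mul_assoc, mul_inv_cancel, mul_one]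
      constructor
      · intro h
        rw [hcomm x h]; exact h
      · intro h
        have h1 := hcomm _ h
        have h2 : y * x * y⁻¹ = x := by
          have h3 : y * (y * x * y⁻¹) * y⁻¹ = y * x * y⁻¹ := h1
          have h4 : y * (y * x * y⁻¹) = y * x := by
            rw [mul_inv_eq_iff_eq_mul] at h3
            rw [h3]; group
          exact mul_left_cancel h4
        rwa [h2] at h
  -- Frattini argument
  set M : Subgroup G := fittingSubgroup G ⊔ S with hM
  have hMn : M.Normal := Normal.of_commutator_le G (hGF.trans le_sup_left)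
  have hSM : (S : Subgroup G) ≤ M := le_sup_right
  have hfr := Sylow.normalizer_sup_eq_top (S.subtype hSM)
  rw [Sylow.coe_subtype, subgroupOf_map_subtype, inf_eq_left.mpr hSM] at hfr
  have htop : Subgroup.normalizer (T' : Set G) = ⊤ := by
    rw [eq_top_iff, ← hfr]
    refine sup_le hNle (sup_le hFle ?_)
    exact Subgroup.le_normalizer.trans hNle
  exact Subgroup.normalizer_eq_top_iff.mp htop

end Sylow

/-! ### Sylow towers -/

section Tower

variable [Group.IsSolvable G]

theorem isPGroup_quotient_pPrimeCore (hodd : Odd (Nat.card G)) (hr : RankLE 2 (fittingSubgroup G))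
    {p : ℕ} (hp : p.Prime) (hpG : p ∣ Nat.card G)
    (hmin : ∀ q : ℕ, q.Prime → q ∣ Nat.card G → p ≤ q) : IsPGroup p (G ⧸ pPrimeCore p G) := by
  have hpf : Fact p.Prime := ⟨hp⟩
  have hp2 : p ≠ 2 := ne_two_of_odd hodd hpG
  set K : Subgroup G := pPrimeCore p G with hK
  set C : Subgroup G := Subgroup.centralizer (pCore p G : Set G) with hC
  have hRn := Lib.Cores.pCore_normal (G := G) p
  have hCn : C.Normal := by rw [hC]; infer_instance
  -- all elements of `r`-power order, `r ≠ p`, centralize the `p`-core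
  have hCr : ∀ r : ℕ, r.Prime → r ≠ p → ∀ x : G, (∃ k, x ^ r ^ k = 1) → x ∈ C := by
    rintro r hrr hrp x ⟨k, hk⟩
    by_cases hx1 : x = 1
    · rw [hx1]; exact one_mem _
    have hrG : r ∣ Nat.card G := by
      have h1 : orderOf x ∣ r ^ k := orderOf_dvd_of_pow_eq_one hk
      obtain ⟨j, hj, hj2⟩ := (Nat.dvd_prime_pow hrr).mp h1
      have h2 : j ≠ 0 := by
        rintro rfl
        rw [pow_zero] at hj2
        exact hx1 (orderOf_eq_one_iff.mp hj2)
      exact (dvd_pow_self r h2).trans (hj2 ▸ orderOf_dvd_natCard x)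
    have hlt : p < r := lt_of_le_of_ne (hmin r hrr hrG) (Ne.symm hrp)
    exact mem_centralizer_of_pow_eq_one hp2 hRn (pCore_isPGroup p)
      (pRankLE_of_le (pCore_le_fittingSubgroup p) (hr p hp)) hrr hlt hk
  -- so its index is a power of `p`
  have hCq : IsPGroup p (G ⧸ C) := by
    rw [IsPGroup.iff_card]
    refine ⟨_, Nat.eq_prime_pow_of_unique_prime_dvd Nat.card_pos.ne' ?_⟩
    intro r hrr hrd
    by_contra hrp
    have hrf : Fact r.Prime := ⟨hrr⟩
    obtain ⟨P⟩ := (inferInstance : Nonempty (Sylow r G))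
    have hPC : (P : Subgroup G) ≤ C := by
      intro x hx
      obtain ⟨k, hk⟩ := P.isPGroup' ⟨x, hx⟩
      exact hCr r hrr hrp x ⟨k, congrArg Subtype.val hk⟩
    exact P.not_dvd_index (Nat.dvd_trans hrd (index_dvd_of_le hPC))
  have hQcore : pPrimeCore p (G ⧸ K) = ⊥ := pPrimeCore_quotient_pPrimeCore p
  -- the derived subgroup of `G/K` is contained in the image of `O_p(G)`
  have hcomm : _root_.commutator (G ⧸ K) ≤ (pCore p G).map (QuotientGroup.mk' K) := by
    have h1 : _root_.commutator (G ⧸ K) = (_root_.commutator G).map (QuotientGroup.mk' K) := by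
      rw [_root_.commutator_def, _root_.commutator_def, Subgroup.map_commutator,
        ← MonoidHom.range_eq_map, MonoidHom.range_eq_top.mpr (QuotientGroup.mk'_surjective K)]
    rw [h1]
    have h2 : fittingSubgroup G ≤ pCore p G ⊔ K := by
      rw [fittingSubgroup_eq_iSup_pCore]
      refine iSup_le fun r => ?_
      by_cases hrp : (r : ℕ) = p
      · rw [hrp]; exact le_sup_left
      · refine le_trans ?_ le_sup_right
        have hrf : Fact (r : ℕ).Prime := ⟨r.2⟩
        refine le_pPrimeCore (Lib.Cores.pCore_normal _) ?_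
        obtain ⟨n, hn⟩ := (pCore_isPGroup (G := G) (r : ℕ)).exists_card_eq
        rw [hn]
        exact Nat.Coprime.pow_left _ ((Nat.coprime_primes r.2 hp).mpr hrp)
    refine (Subgroup.map_mono ((commutator_le_fitting hodd hr).trans h2)).trans ?_
    rw [Subgroup.map_sup]
    refine sup_le le_rfl ?_
    have h4 : K.map (QuotientGroup.mk' K) = ⊥ := by
      rw [Subgroup.map_eq_bot_iff, QuotientGroup.ker_mk']
    rw [h4]
    exact bot_le
  -- elements of order prime to `p` of `G/K` are central
  have hmain : ∀ x : G ⧸ K, (orderOf x).Coprime p → x = 1 := by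
    intro x hx
    have hcent : ∀ c ∈ (pCore p G).map (QuotientGroup.mk' K), Commute x c := by
      rintro _ ⟨c, hc, rfl⟩
      obtain ⟨g, rfl⟩ := QuotientGroup.mk'_surjective K x
      obtain ⟨k, hk⟩ := hCq (QuotientGroup.mk' C g)
      have hgC : g ^ p ^ k ∈ C := by
        rwa [← map_pow, ← MonoidHom.mem_ker, QuotientGroup.ker_mk'] at hk
      have h1 : Commute (QuotientGroup.mk' K g ^ p ^ k) (QuotientGroup.mk' K c) := by
        rw [← map_pow]
        have h2 : g ^ p ^ k * c = c * g ^ p ^ k :=
          ((Subgroup.mem_centralizer_iff.mp hgC) c hc).symm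
        exact (show Commute (g ^ p ^ k) c from h2).map _
      have h3 : (p ^ k).Coprime (orderOf (QuotientGroup.mk' K g)) := Nat.Coprime.pow_left _ hx.symm
      obtain ⟨m, hm⟩ := exists_pow_eq_self_of_coprime h3
      rw [← hm]
      exact h1.pow_left m
    have hxc : ∀ y : G ⧸ K, Commute x y := by
      intro y
      have hc1 : ⁅x, y⁆ ∈ (pCore p G).map (QuotientGroup.mk' K) :=
        hcomm (by rw [_root_.commutator_def];
                  exact commutator_mem_commutator (mem_top _) (mem_top _))
      have h1 : Commute x ⁅x, y⁆ := hcent _ hc1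
      have h2 : y * x * y⁻¹ = ⁅x, y⁆⁻¹ * x := by
        rw [commutatorElement_def]; group
      have h3 : (⁅x, y⁆⁻¹) ^ orderOf x = 1 := by
        have h4 : (y * x * y⁻¹) ^ orderOf x = 1 := by
          rw [conj_pow, pow_orderOf_eq_one]; group
        rw [h2, (h1.inv_right.symm).mul_pow, pow_orderOf_eq_one, mul_one] at h4
        exact h4
      have h5 : ⁅x, y⁆⁻¹ = 1 := by
        refine eq_one_of_mem_isPGroup ((pCore_isPGroup (G := G) p).map (QuotientGroup.mk' K))
          (inv_mem hc1) ?_
        exact Nat.Coprime.coprime_dvd_left (orderOf_dvd_of_pow_eq_one h3) hx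
      rw [inv_eq_one, commutatorElement_eq_one_iff_commute] at h5
      exact h5
    have h1 : x ∈ Subgroup.centralizer (pCore p (G ⧸ K) : Set (G ⧸ K)) := by
      rw [Subgroup.mem_centralizer_iff]
      intro y _
      exact (hxc y).symm
    exact eq_one_of_mem_isPGroup (pCore_isPGroup p) (centralizer_pCore_le hQcore h1) hx
  have h := isPGroup_of_forall_coprime (G := G ⧸ K) (p := p) (H := ⊤) (fun x _ hx => hmain x hx)
  exact h.of_equiv topEquiv

omit [Finite G] [Group.IsSolvable G] in
theorem characteristic_map_subtype {K : Subgroup G} (hK : K.Characteristic) {N : Subgroup K}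
    (hN : N.Characteristic) : (N.map K.subtype).Characteristic := by
  rw [characteristic_iff_map_le]
  rintro φ _ ⟨_, ⟨x, hx, rfl⟩, rfl⟩
  have hKφ : K.map φ.toMonoidHom = K := (characteristic_iff_map_eq.mp hK) φ
  set ψ : K ≃* K := (K.equivMapOfInjective φ.toMonoidHom φ.injective).trans
    (MulEquiv.subgroupCongr hKφ) with hψ
  have h1 : ψ x ∈ N := by
    rw [← (characteristic_iff_map_eq.mp hN) ψ]
    exact ⟨x, hx, rfl⟩
  exact ⟨ψ x, h1, rfl⟩

end Tower

theorem exists_hall.{u} (n : ℕ) : ∀ (G : Type u) [Group G] [Finite G] [Group.IsSolvable G],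
    Nat.card G ≤ n → Odd (Nat.card G) → RankLE 2 (fittingSubgroup G) →
    ∀ m : ℕ, ∃ N : Subgroup G, N.Characteristic ∧ IsPiHall {q | q.Prime ∧ m < q} N := by
  induction n with
  | zero =>
    intro G _ _ _ hn
    have : 0 < Nat.card G := Nat.card_pos
    omega
  | succ n ih =>
    intro G _ _ _ hn hodd hr m
    have hidx : ∀ q : ℕ, q.Prime → q ∈ {q : ℕ | q.Prime ∧ m < q} → ¬ q ∣ (⊤ : Subgroup G).index := by
      intro q hq _ hqd
      rw [Subgroup.index_top] at hqd
      exact hq.one_lt.ne' (Nat.dvd_one.mp hqd)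
    by_cases h1 : Nat.card G = 1
    · refine ⟨⊤, inferInstance, ?_, hidx⟩
      intro q hq hqd
      rw [Subgroup.card_top, h1] at hqd
      exact absurd (Nat.dvd_one.mp hqd) hq.one_lt.ne'
    set p : ℕ := (Nat.card G).minFac with hpdef
    have hp : p.Prime := Nat.minFac_prime h1
    have hpf : Fact p.Prime := ⟨hp⟩
    have hpG : p ∣ Nat.card G := Nat.minFac_dvd _
    have hmin : ∀ q : ℕ, q.Prime → q ∣ Nat.card G → p ≤ q := fun q hq hqd =>
      Nat.minFac_le_of_dvd hq.two_le hqd
    by_cases hm : m < p
    · refine ⟨⊤, inferInstance, ?_, hidx⟩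
      intro q hq hqd
      rw [Subgroup.card_top] at hqd
      exact ⟨hq, lt_of_lt_of_le hm (hmin q hq hqd)⟩
    · push Not at hm
      set K : Subgroup G := pPrimeCore p G with hK
      have hKcop : (Nat.card K).Coprime p := pPrimeCore_coprime p
      have hKcard : Nat.card K ≤ n := by
        have h2 : Nat.card K ∣ Nat.card G := card_subgroup_dvd_card K
        have h3 : Nat.card K ≤ Nat.card G := Nat.le_of_dvd Nat.card_pos h2
        have h4 : Nat.card K ≠ Nat.card G := by
          intro h5
          rw [h5] at hKcop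
          exact ((Nat.Prime.coprime_iff_not_dvd hp).mp hKcop.symm) hpG
        omega
      have hKodd : Odd (Nat.card K) := Odd.of_dvd_nat hodd (card_subgroup_dvd_card K)
      have hKr : RankLE 2 (fittingSubgroup K) := by
        intro q hq
        have h2 : (fittingSubgroup K).map K.subtype ≤ fittingSubgroup G := by
          rw [map_subtype_fittingSubgroup (Lib.Cores.pPrimeCore_normal p)]
          exact inf_le_right
        have h3 := pRankLE_of_le h2 (hr q hq)
        exact pRankLE_of_injective
          ((fittingSubgroup K).equivMapOfInjective K.subtype K.subtype_injective).toMonoidHom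
          ((fittingSubgroup K).equivMapOfInjective K.subtype K.subtype_injective).injective h3
      obtain ⟨N, hNc, hN1, hN2⟩ := ih K hKcard hKodd hKr m
      refine ⟨N.map K.subtype, characteristic_map_subtype (pPrimeCore_characteristic p) hNc, ?_, ?_⟩
      · intro q hq hqd
        rw [card_map_of_injective K.subtype_injective] at hqd
        exact hN1 q hq hqd
      · intro q hq hqm hqd
        rw [index_map_subtype] at hqd
        rcases hq.dvd_mul.mp hqd with h2 | h2
        · exact hN2 q hq hqm h2
        · obtain ⟨k, hk⟩ := (isPGroup_quotient_pPrimeCore hodd hr hp hpG hmin).exists_card_eq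
          have h3 : K.index = p ^ k := hk
          rw [h3] at h2
          have h4 := (Nat.prime_dvd_prime_iff_eq hq hp).mp (hq.dvd_of_dvd_pow h2)
          have h5 : m < q := hqm.2
          omega

end Cfsg.Agent.OddOrderLocal.RankTwoFitting
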