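import Mathlib
import Cfsg.Prelude.Def_OddOrderLocal
import Cfsg.Agent.OddOrderLocal.Rank
import Cfsg.Agent.Lib.NormalElementary
import Cfsg.Agent.Lib.NormalAbelian
import Cfsg.Agent.Lib.CoprimeStab
set_option linter.all false

/-!
# Narrow `p`-groups, `p` odd (Bender-Glauberman, section 5): the basic structure lemmas

* `card_le_mul_of_commutator_mem`: `#X ≤ #C_X(e) * #K` if `[x, e] ∈ K` for all `x ∈ X`.
* `exists_normal_elementary_of_not_pRankLE`: a `p`-group of rank at least 3 has a normal
  elementary abelian subgroup of order at least `p ^ 3`  (B&G 5.1(a)).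
* `not_normal_of_maximal`: a maximal elementary abelian subgroup of order `p ^ 2` of a `p`-group
  of rank at least 3 is not normal (B&G 5.1(b)).
-/

set_option autoImplicit false
set_option linter.unusedSectionVars false

namespace Cfsg.Agent.OddOrderLocal.NarrowBasic

open Subgroup
open Cfsg.Agent.OddOrderLocal.Rank
open scoped commutatorElement

variable {G : Type*} [Group G]

theorem card_mul_relIndex_of_le {H K : Subgroup G} (h : H ≤ K) :
    Nat.card H * H.relIndex K = Nat.card K := by
  have h1 := Subgroup.relIndex_mul_relIndex ⊥ H K bot_le h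
  rwa [Subgroup.relIndex_bot_left, Subgroup.relIndex_bot_left] at h1

/-- If `x e x⁻¹ e⁻¹ ∈ K` for all `x ∈ X`, then `#X ≤ #C_X(e) * #K`. -/
theorem card_le_mul_of_commutator_mem [Finite G] (X K : Subgroup G) (e : G)
    (h : ∀ x ∈ X, x * e * x⁻¹ * e⁻¹ ∈ K) :
    Nat.card X ≤ Nat.card (X ⊓ centralizer ({e} : Set G) : Subgroup G) * Nat.card K := by
  have h1 : Nat.card (X ⊓ centralizer ({e} : Set G) : Subgroup G) *
      (X ⊓ centralizer ({e} : Set G)).relIndex X = Nat.card X :=
    card_mul_relIndex_of_le (inf_le_left)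
  have h2 : (X ⊓ centralizer ({e} : Set G)).relIndex X ≤ Nat.card K := by
    rw [Subgroup.relIndex, Subgroup.index]
    let f : X → K := fun x => ⟨x * e * (x : G)⁻¹ * e⁻¹, h x x.2⟩
    have hf : ∀ x y : X, f x = f y ↔ x⁻¹ * y ∈ (X ⊓ centralizer ({e} : Set G)).subgroupOf X := by
      intro x y
      rw [mem_subgroupOf, mem_inf, mem_centralizer_singleton_iff]
      simp only [f, Subtype.mk.injEq, mul_left_inj]
      constructor
      · intro hxy
        refine ⟨(x⁻¹ * y).2, ?_⟩
        show ((x : G)⁻¹ * y) * e = e * ((x : G)⁻¹ * y)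
        calc ((x : G)⁻¹ * y) * e = (x : G)⁻¹ * (y * e * (y : G)⁻¹) * y := by group
          _ = (x : G)⁻¹ * (x * e * (x : G)⁻¹) * y := by rw [hxy]
          _ = e * ((x : G)⁻¹ * y) := by group
      · rintro ⟨-, hxy⟩
        have hxy' : ((x : G)⁻¹ * y) * e = e * ((x : G)⁻¹ * y) := hxy
        calc (x : G) * e * (x : G)⁻¹ = x * (e * ((x : G)⁻¹ * y)) * (y : G)⁻¹ := by group
          _ = x * (((x : G)⁻¹ * y) * e) * (y : G)⁻¹ := by rw [hxy']
          _ = y * e * (y : G)⁻¹ := by group
    refine Nat.card_le_card_of_injective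
      (Quotient.lift f (fun a b hab => (hf a b).2 (QuotientGroup.leftRel_apply.mp hab))) ?_
    intro a b
    induction a using QuotientGroup.induction_on with | H a => ?_
    induction b using QuotientGroup.induction_on with | H b => ?_
    intro hab
    exact QuotientGroup.eq.mpr ((hf a b).1 hab)
  calc Nat.card X = _ := h1.symm
    _ ≤ Nat.card (X ⊓ centralizer ({e} : Set G) : Subgroup G) * Nat.card K :=
      Nat.mul_le_mul_left _ h2

/-- A finite subgroup strictly below another one inside a `p`-group has at most `1/p` of its order. -/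
theorem mul_card_le_of_lt [Finite G] {p : ℕ} [Fact p.Prime] {A B : Subgroup G} (hB : IsPGroup p B)
    (h : A < B) : p * Nat.card A ≤ Nat.card B := by
  have h1 : Nat.card A * A.relIndex B = Nat.card B := card_mul_relIndex_of_le h.le
  have h2 : A.relIndex B ∣ Nat.card B := ⟨Nat.card A, by rw [mul_comm]; exact h1.symm⟩
  obtain ⟨n, hn⟩ := (IsPGroup.iff_card).mp hB
  rw [hn] at h2
  obtain ⟨m, -, hm⟩ := (Nat.dvd_prime_pow (Fact.out : p.Prime)).mp h2
  have hm0 : m ≠ 0 := by
    rintro rfl
    rw [pow_zero] at hm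
    exact not_le_of_gt h (Subgroup.relIndex_eq_one.mp hm)
  have h3 : p ≤ A.relIndex B := by
    rw [hm]
    exact Nat.le_self_pow hm0 p
  calc p * Nat.card A ≤ A.relIndex B * Nat.card A := Nat.mul_le_mul_right _ h3
    _ = Nat.card B := by rw [mul_comm]; exact h1

/-- A subgroup of a `p`-group of order less than `p ^ (k+1)` has order at most `p ^ k`. -/
theorem card_le_pow_of_lt [Finite G] {p k : ℕ} [Fact p.Prime] {A : Subgroup G} (hA : IsPGroup p A)
    (h : Nat.card A < p ^ (k + 1)) : Nat.card A ≤ p ^ k := by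
  obtain ⟨n, hn⟩ := (IsPGroup.iff_card).mp hA
  rw [hn] at h ⊢
  have hp1 : 1 < p := (Fact.out : p.Prime).one_lt
  exact Nat.pow_le_pow_right hp1.le (Nat.lt_succ_iff.mp ((Nat.pow_lt_pow_iff_right hp1).mp h))

theorem pow_le_card_of_lt [Finite G] {p k : ℕ} [Fact p.Prime] {A : Subgroup G} (hA : IsPGroup p A)
    (h : p ^ k < Nat.card A) : p ^ (k + 1) ≤ Nat.card A := by
  by_contra hcon
  exact absurd (card_le_pow_of_lt hA (not_le.mp hcon)) (not_le.mpr h)

/-- If `N` is normal in the `p`-group `G` and has order `p ^ 2`, then some `e ∈ N` satisfies: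
`C_G(e) = C_G(N)` and all commutators `[x, e]` lie in a normal central subgroup of order at most
`p`. -/
theorem exists_generator_mod [Finite G] {p : ℕ} [Fact p.Prime] (hG : IsPGroup p G)
    (N : Subgroup G) [hNn : N.Normal] (hN : Nat.card N ≤ p ^ 2) :
    ∃ e ∈ N, ∃ K : Subgroup G, Nat.card K ≤ p ∧ (∀ x : G, x * e * x⁻¹ * e⁻¹ ∈ K) ∧
      ∀ x : G, x * e = e * x → x ∈ centralizer (N : Set G) := by
  have hnil : Group.IsNilpotent G := hG.isNilpotent
  by_cases hcen : N ≤ center G
  · refine ⟨1, N.one_mem, ⊥, ?_, ?_, ?_⟩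
    · rw [Subgroup.card_bot]
      exact (Fact.out : p.Prime).one_lt.le
    · intro x
      simp
    · intro x _
      rw [mem_centralizer_iff]
      intro y hy
      exact (mem_center_iff.mp (hcen hy) x).symm
  · set K : Subgroup G := N ⊓ center G with hK
    have hKn : K.Normal := inferInstance
    have hKlt : K < N := by
      refine lt_of_le_of_ne inf_le_left ?_
      intro h
      exact hcen (by rw [← h]; exact inf_le_right)
    obtain ⟨e, heN, heK, hecom⟩ :=
      Cfsg.Agent.Lib.NormalAbelian.exists_mem_not_mem_central_mod hKn hNn (not_le_of_gt hKlt)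
    have hKp : Nat.card K ≤ p := by
      have h1 := mul_card_le_of_lt (hG.to_subgroup N) hKlt
      have h2 : p * Nat.card K ≤ p * p := by
        calc p * Nat.card K ≤ Nat.card N := h1
          _ ≤ p ^ 2 := hN
          _ = p * p := by ring
      exact Nat.le_of_mul_le_mul_left h2 (Fact.out : p.Prime).pos
    have hKbot : K ≠ ⊥ := by
      refine Cfsg.Agent.Lib.NormalAbelian.normal_inf_center_ne_bot N ?_
      rintro rfl
      exact heK (by rw [mem_bot.mp heN]; exact K.one_mem)
    -- `N = K ⊔ ⟨e⟩`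
    have hKe : K < K ⊔ zpowers e := by
      refine lt_of_le_of_ne le_sup_left ?_
      intro h
      apply heK
      rw [h]
      exact (le_sup_right : zpowers e ≤ K ⊔ zpowers e) (mem_zpowers e)
    have hKeN : K ⊔ zpowers e ≤ N := sup_le inf_le_left (by rwa [zpowers_le])
    have hNeq : K ⊔ zpowers e = N := by
      refine Subgroup.eq_of_le_of_card_ge hKeN ?_
      have h1 := mul_card_le_of_lt (hG.to_subgroup (K ⊔ zpowers e)) hKe
      have h2 := mul_card_le_of_lt (hG.to_subgroup K) (bot_lt_iff_ne_bot.mpr hKbot)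
      rw [Subgroup.card_bot, mul_one] at h2
      calc Nat.card N ≤ p ^ 2 := hN
        _ = p * p := by ring
        _ ≤ p * Nat.card K := Nat.mul_le_mul_left _ h2
        _ ≤ _ := h1
    refine ⟨e, heN, K, hKp, ?_, ?_⟩
    · intro x
      have h1 := hecom x
      have h2 := K.inv_mem h1
      have h3 : (e * x * e⁻¹ * x⁻¹)⁻¹ = x * e * x⁻¹ * e⁻¹ := by group
      rwa [h3] at h2
    · intro x hx
      have h1 : N ≤ centralizer ({x} : Set G) := by
        rw [← hNeq]
        refine sup_le ?_ ?_
        · intro y hy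
          rw [mem_centralizer_singleton_iff]
          exact (mem_center_iff.mp hy.2 x).symm
        · rw [zpowers_le, mem_centralizer_singleton_iff]
          exact hx.symm
      rw [mem_centralizer_iff]
      intro y hy
      have h2 := h1 hy
      rw [mem_centralizer_singleton_iff] at h2
      exact h2

/-- `|X : C_X(N)| ≤ p` for `N` normal of order at most `p ^ 2` in a `p`-group. -/
theorem card_le_centralizer_mul [Finite G] {p : ℕ} [Fact p.Prime] (hG : IsPGroup p G)
    (N : Subgroup G) [hNn : N.Normal] (hN : Nat.card N ≤ p ^ 2) (X : Subgroup G) :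
    Nat.card X ≤ Nat.card (X ⊓ centralizer (N : Set G) : Subgroup G) * p := by
  obtain ⟨e, heN, K, hKp, hcom, hcen⟩ := exists_generator_mod hG N hN
  have h1 := card_le_mul_of_commutator_mem X K e (fun x _ => hcom x)
  refine h1.trans (Nat.mul_le_mul ?_ hKp)
  refine Subgroup.card_le_of_le (inf_le_inf_left X ?_)
  intro x hx
  rw [mem_centralizer_singleton_iff] at hx
  exact hcen x hx

/-- **B&G 5.1(a)**: for odd `p`, a `p`-group of rank at least 3 has a normal elementary abelian
subgroup of order at least `p ^ 3`. -/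
theorem exists_normal_elementary_of_not_pRankLE [Finite G] {p : ℕ} [Fact p.Prime] (hp : p ≠ 2)
    (hG : IsPGroup p G) (hr : ¬ Cfsg.PRankLE p 2 G) :
    ∃ A : Subgroup G, A.Normal ∧ Cfsg.IsElementaryAbelian p A ∧ p ^ 3 ≤ Nat.card A := by
  obtain ⟨A, -, hAn, hAe, hmax⟩ :=
    Cfsg.Agent.Lib.NormalElementary.exists_maximal_ge (P := G) p ⊥ inferInstance elemAb_bot
  refine ⟨A, hAn, hAe, ?_⟩
  by_contra hlt
  push Not at hlt
  have hA2 : Nat.card A ≤ p ^ 2 := card_le_pow_of_lt (hG.to_subgroup A) hlt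
  obtain ⟨E, hEe, hEc⟩ := exists_elemAb_of_not_pRankLE_top hr
  have hp0 : 0 < p := (Fact.out : p.Prime).pos
  have h1 := card_le_centralizer_mul hG A hA2 E
  have h2 : p ^ 2 ≤ Nat.card (E ⊓ centralizer (A : Set G) : Subgroup G) := by
    rw [hEc] at h1
    have h3 : p ^ 2 * p ≤ Nat.card (E ⊓ centralizer (A : Set G) : Subgroup G) * p := by
      calc p ^ 2 * p = p ^ (2 + 1) := by ring
        _ ≤ _ := h1
    exact Nat.le_of_mul_le_mul_right h3 hp0
  have h3 : E ⊓ centralizer (A : Set G) ≤ A := by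
    intro x hx
    exact Cfsg.Agent.Lib.NormalElementary.mem_of_maximal hp hG A hAe hmax hx.2
      ((elemAb_def.mp hEe).2 x hx.1)
  have h4 : E ⊓ centralizer (A : Set G) = A :=
    Subgroup.eq_of_le_of_card_ge h3 (hA2.trans h2)
  have h5 : A ≤ E := by rw [← h4]; exact inf_le_left
  have h6 : E ≤ A := by
    intro x hx
    refine Cfsg.Agent.Lib.NormalElementary.mem_of_maximal hp hG A hAe hmax ?_
      ((elemAb_def.mp hEe).2 x hx)
    rw [mem_centralizer_iff]
    intro a ha
    exact (elemAb_def.mp hEe).1 a (h5 ha) x hx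
  have h7 := Subgroup.card_le_of_le h6
  rw [hEc] at h7
  have h8 : p ^ 2 < p ^ (2 + 1) := Nat.pow_lt_pow_right (Fact.out : p.Prime).one_lt (by norm_num)
  omega

/-- Elements of order dividing `p` centralizing a maximal elementary abelian subgroup `E` lie
in `E`. -/
theorem mem_of_maximal_elemAb {p : ℕ} {E : Subgroup G} (hE : Cfsg.IsElementaryAbelian p E)
    (hEmax : ∀ B : Subgroup G, Cfsg.IsElementaryAbelian p B → E ≤ B → B = E) {x : G}
    (hx : x ∈ centralizer (E : Set G)) (hxp : x ^ p = 1) : x ∈ E := by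
  have h1 : Cfsg.IsElementaryAbelian p (E ⊔ zpowers x) := by
    refine elemAb_sup hE (elemAb_zpowers hxp) ?_
    rintro a ha _ ⟨k, rfl⟩
    exact (show Commute a x from mem_centralizer_iff.mp hx a ha).zpow_right k
  have h2 := hEmax _ h1 le_sup_left
  rw [← h2]
  exact (le_sup_right : zpowers x ≤ E ⊔ zpowers x) (mem_zpowers x)

/-- **B&G 5.1(b)**: for odd `p`, a maximal elementary abelian subgroup of order `p ^ 2` of a
`p`-group of rank at least 3 is not normal. -/
theorem not_normal_of_maximal [Finite G] {p : ℕ} [Fact p.Prime] (hp : p ≠ 2)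
    (hG : IsPGroup p G) (hr : ¬ Cfsg.PRankLE p 2 G) {E : Subgroup G}
    (hE : Cfsg.IsElementaryAbelian p E) (hE2 : Nat.card E = p ^ 2)
    (hEmax : ∀ B : Subgroup G, Cfsg.IsElementaryAbelian p B → E ≤ B → B = E) : ¬ E.Normal := by
  intro hEn
  obtain ⟨A, hAn, hAe, hAc⟩ := exists_normal_elementary_of_not_pRankLE hp hG hr
  have h1 := card_le_centralizer_mul hG E hE2.le A
  have h2 : A ⊓ centralizer (E : Set G) ≤ E := by
    intro x hx
    exact mem_of_maximal_elemAb hE hEmax hx.2 ((elemAb_def.mp hAe).2 x hx.1)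
  have hp0 : 0 < p := (Fact.out : p.Prime).pos
  have h3 : Nat.card E ≤ Nat.card (A ⊓ centralizer (E : Set G) : Subgroup G) := by
    rw [hE2]
    have h4 : p ^ 2 * p ≤ Nat.card (A ⊓ centralizer (E : Set G) : Subgroup G) * p := by
      calc p ^ 2 * p = p ^ 3 := by ring
        _ ≤ Nat.card A := hAc
        _ ≤ _ := h1
    exact Nat.le_of_mul_le_mul_right h4 hp0
  have h4 : A ⊓ centralizer (E : Set G) = E := Subgroup.eq_of_le_of_card_ge h2 h3
  have h5 : E ≤ A := by rw [← h4]; exact inf_le_left
  have h6 := hEmax A hAe h5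
  rw [h6, hE2] at hAc
  have h8 : p ^ 2 < p ^ 3 := Nat.pow_lt_pow_right (Fact.out : p.Prime).one_lt (by norm_num)
  omega

/-! ### The subgroups `Ω₁(Z(R))` and `Ω₁(Z₂(R))` -/

/-- If `[w, e]` is central then `[w ^ n, e] = [w, e] ^ n`. -/
theorem pow_commutator {w e : G} (hc : w * e * w⁻¹ * e⁻¹ ∈ center G) (n : ℕ) :
    w ^ n * e * (w ^ n)⁻¹ * e⁻¹ = (w * e * w⁻¹ * e⁻¹) ^ n := by
  set c : G := w * e * w⁻¹ * e⁻¹ with hcdef
  have hce : w * e * w⁻¹ = c * e := by rw [hcdef]; group
  have hcc : ∀ (m : ℕ) (g : G), g * c ^ m = c ^ m * g := fun m g =>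
    mem_center_iff.mp ((center G).pow_mem hc m) g
  have key : ∀ m : ℕ, w ^ m * e * (w ^ m)⁻¹ = c ^ m * e := by
    intro m
    induction m with
    | zero => simp
    | succ m ih =>
      calc w ^ (m + 1) * e * (w ^ (m + 1))⁻¹ = w * (w ^ m * e * (w ^ m)⁻¹) * w⁻¹ := by
            rw [pow_succ']; group
        _ = (w * c ^ m) * e * w⁻¹ := by rw [ih]; group
        _ = c ^ m * (w * e * w⁻¹) := by rw [hcc]; group
        _ = c ^ (m + 1) * e := by rw [hce, pow_succ]; group
  rw [key]; group

theorem commutator_pow_eq_one {p : ℕ} {w e : G} (hc : w * e * w⁻¹ * e⁻¹ ∈ center G)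
    (hw : w ^ p = 1) : (w * e * w⁻¹ * e⁻¹) ^ p = 1 := by
  rw [← pow_commutator hc, hw]; group

theorem commutator_mem_center {x : G} (hx : x ∈ Subgroup.upperCentralSeries G 2) (y : G) :
    x * y * x⁻¹ * y⁻¹ ∈ center G := by
  have h := Subgroup.mem_upperCentralSeries_succ_iff.mp hx y
  rwa [Subgroup.upperCentralSeries_one] at h

theorem center_le_z2 : center G ≤ Subgroup.upperCentralSeries G 2 := by
  intro x hx
  rw [Subgroup.mem_upperCentralSeries_succ_iff]
  intro y
  have h1 : x * y * x⁻¹ * y⁻¹ = 1 := by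
    rw [← mem_center_iff.mp hx y]; group
  show x * y * x⁻¹ * y⁻¹ ∈ _
  rw [h1]
  exact Subgroup.one_mem _

theorem mem_omega_center_iff {p : ℕ} {x : G} :
    x ∈ Subgroup.closure {x : G | x ∈ center G ∧ x ^ p = 1} ↔ x ∈ center G ∧ x ^ p = 1 := by
  constructor
  · intro hx
    induction hx using Subgroup.closure_induction with
    | mem x hx => exact hx
    | one => exact ⟨(center G).one_mem, one_pow p⟩
    | mul x y _ _ hx hy =>
      refine ⟨(center G).mul_mem hx.1 hy.1, ?_⟩
      have : Commute x y := (mem_center_iff.mp hx.1 y).symm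
      rw [this.mul_pow, hx.2, hy.2, one_mul]
    | inv x _ hx => exact ⟨(center G).inv_mem hx.1, by rw [inv_pow, hx.2, inv_one]⟩
  · intro hx
    exact Subgroup.subset_closure hx

theorem mem_omega_z2_iff {p : ℕ} [Fact p.Prime] (hp : p ≠ 2) {x : G} :
    x ∈ Subgroup.closure {x : G | x ∈ Subgroup.upperCentralSeries G 2 ∧ x ^ p = 1} ↔
      x ∈ Subgroup.upperCentralSeries G 2 ∧ x ^ p = 1 := by
  constructor
  · intro hx
    induction hx using Subgroup.closure_induction with
    | mem x hx => exact hx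
    | one => exact ⟨(Subgroup.upperCentralSeries G 2).one_mem, one_pow p⟩
    | mul x y _ _ hx hy =>
      refine ⟨(Subgroup.upperCentralSeries G 2).mul_mem hx.1 hy.1, ?_⟩
      have h1 : ⁅y, x⁆ ∈ center G := by
        rw [commutatorElement_def]
        exact commutator_mem_center hy.1 x
      rw [Cfsg.Agent.Lib.CoprimeStab.mul_pow_prime_of_class_two Fact.out hp
        (mem_center_iff.mp h1 x).symm (mem_center_iff.mp h1 y).symm
        (by rw [hx.2]; exact Commute.one_left y), hx.2, hy.2, one_mul]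
    | inv x _ hx =>
      exact ⟨(Subgroup.upperCentralSeries G 2).inv_mem hx.1, by rw [inv_pow, hx.2, inv_one]⟩
  · intro hx
    exact Subgroup.subset_closure hx

theorem omega_center_characteristic (p : ℕ) :
    (Subgroup.closure {x : G | x ∈ center G ∧ x ^ p = 1}).Characteristic := by
  rw [Subgroup.characteristic_iff_le_comap]
  intro φ
  rw [closure_le]
  rintro x ⟨hx, hxp⟩
  refine Subgroup.subset_closure ⟨?_, ?_⟩
  · exact (Subgroup.characteristic_iff_le_comap.mp (inferInstance : (center G).Characteristic) φ) hx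
  · show (φ x) ^ p = 1
    rw [← map_pow, hxp, map_one]

theorem omega_z2_characteristic (p : ℕ) :
    (Subgroup.closure {x : G | x ∈ Subgroup.upperCentralSeries G 2 ∧ x ^ p = 1}).Characteristic := by
  rw [Subgroup.characteristic_iff_le_comap]
  intro φ
  rw [closure_le]
  rintro x ⟨hx, hxp⟩
  refine Subgroup.subset_closure ⟨?_, ?_⟩
  · exact (Subgroup.characteristic_iff_le_comap.mp
      (inferInstance : (Subgroup.upperCentralSeries G 2).Characteristic) φ) hx
  · show (φ x) ^ p = 1
    rw [← map_pow, hxp, map_one]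

theorem centralizer_characteristic {W : Subgroup G} (hW : W.Characteristic) :
    (centralizer (W : Set G)).Characteristic := by
  rw [Subgroup.characteristic_iff_le_comap]
  intro φ x hx
  rw [mem_comap, mem_centralizer_iff]
  intro y hy
  have h1 : φ.symm y ∈ W := (Subgroup.characteristic_iff_le_comap.mp hW φ.symm) hy
  have h2 := mem_centralizer_iff.mp hx _ h1
  have h3 := congrArg φ h2
  rw [map_mul, map_mul, MulEquiv.apply_symm_apply] at h3
  exact h3

/-! ### B&G Lemma 5.2 -/

section Lemma52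

variable [Finite G] {p : ℕ} [Fact p.Prime] (hp : p ≠ 2) (hG : IsPGroup p G)
  (hr : ¬ Cfsg.PRankLE p 2 G) {E : Subgroup G} (hE : Cfsg.IsElementaryAbelian p E)
  (hE2 : Nat.card E = p ^ 2)
  (hEmax : ∀ B : Subgroup G, Cfsg.IsElementaryAbelian p B → E ≤ B → B = E)

include hp hG hr hE hE2 hEmax

theorem not_le_center : ¬ E ≤ center G := by
  intro h
  refine not_normal_of_maximal hp hG hr hE hE2 hEmax ⟨fun x hx g => ?_⟩
  rw [mem_center_iff.mp (h hx) g, mul_inv_cancel_right]
  exact hx

theorem omega_center_le : Subgroup.closure {x : G | x ∈ center G ∧ x ^ p = 1} ≤ E := by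
  intro x hx
  rw [mem_omega_center_iff] at hx
  refine mem_of_maximal_elemAb hE hEmax ?_ hx.2
  rw [mem_centralizer_iff]
  intro y _
  exact mem_center_iff.mp hx.1 y

theorem card_omega_center :
    Nat.card (Subgroup.closure {x : G | x ∈ center G ∧ x ^ p = 1}) = p := by
  set Z := Subgroup.closure {x : G | x ∈ center G ∧ x ^ p = 1} with hZ
  have hnil : Group.IsNilpotent G := hG.isNilpotent
  have hZE : Z ≤ E := omega_center_le hp hG hr hE hE2 hEmax
  have hlt : Z < E := by
    refine lt_of_le_of_ne hZE ?_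
    intro h
    apply not_le_center hp hG hr hE hE2 hEmax
    intro x hx
    rw [← h, mem_omega_center_iff] at hx
    exact hx.1
  have h1 := mul_card_le_of_lt (hG.to_subgroup E) hlt
  have hp0 : 0 < p := (Fact.out : p.Prime).pos
  have h2 : Nat.card Z ≤ p := by
    rw [hE2] at h1
    have h3 : p * Nat.card Z ≤ p * p := h1.trans (by rw [pow_two])
    exact Nat.le_of_mul_le_mul_left h3 hp0
  have hne : Z ≠ ⊥ := by
    have hEne : E ≠ ⊥ := by
      rintro rfl
      rw [Subgroup.card_bot] at hE2
      have h3 := Nat.one_lt_pow (n := 2) (by norm_num) (Fact.out : p.Prime).one_lt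
      omega
    have hGn : Nontrivial G := by
      obtain ⟨x, hx⟩ := Subgroup.ne_bot_iff_exists_ne_one.mp hEne
      exact ⟨⟨x, 1, fun h => hx (Subtype.ext h)⟩⟩
    have hcn : Nontrivial (center G) := hG.center_nontrivial
    have hcp : IsPGroup p (center G) := hG.to_subgroup _
    obtain ⟨n, hn⟩ := (IsPGroup.iff_card).mp hcp
    have hn0 : n ≠ 0 := by
      rintro rfl
      rw [pow_zero] at hn
      have := Finite.one_lt_card (α := center G)
      omega
    obtain ⟨x, hx⟩ := exists_prime_orderOf_dvd_card' (G := center G) p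
      (by rw [hn]; exact dvd_pow_self p hn0)
    intro hbot
    have h3 : (x : G) ∈ Z := by
      rw [hZ, mem_omega_center_iff]
      refine ⟨x.2, ?_⟩
      have h4 : x ^ p = 1 := by rw [← hx]; exact pow_orderOf_eq_one x
      have h5 := congrArg Subtype.val h4
      simpa using h5
    rw [hbot, mem_bot] at h3
    have h4 : x = 1 := Subtype.ext h3
    rw [h4, orderOf_one] at hx
    exact (Fact.out : p.Prime).one_lt.ne hx
  have h3 := mul_card_le_of_lt (hG.to_subgroup Z) (bot_lt_iff_ne_bot.mpr hne)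
  rw [Subgroup.card_bot, mul_one] at h3
  exact le_antisymm h2 h3

/-- The elements of `E` outside `Z` have the same centralizer as `E`. -/
theorem mem_centralizer_of_commute {e x : G} (he : e ∈ E)
    (heZ : e ∉ Subgroup.closure {x : G | x ∈ center G ∧ x ^ p = 1}) (hx : x * e = e * x) :
    x ∈ centralizer (E : Set G) := by
  set Z := Subgroup.closure {x : G | x ∈ center G ∧ x ^ p = 1} with hZ
  have hZE : Z ≤ E := omega_center_le hp hG hr hE hE2 hEmax
  have hlt : Z < Z ⊔ zpowers e := by
    refine lt_of_le_of_ne le_sup_left ?_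
    intro h
    apply heZ
    rw [h]
    exact (le_sup_right : zpowers e ≤ Z ⊔ zpowers e) (mem_zpowers e)
  have h1 := mul_card_le_of_lt (hG.to_subgroup (Z ⊔ zpowers e)) hlt
  rw [card_omega_center hp hG hr hE hE2 hEmax, ← pow_two] at h1
  have h2 : Z ⊔ zpowers e = E :=
    Subgroup.eq_of_le_of_card_ge (sup_le hZE (by rwa [zpowers_le])) (by rw [hE2]; exact h1)
  have h3 : E ≤ centralizer ({x} : Set G) := by
    rw [← h2]
    refine sup_le ?_ ?_
    · intro y hy
      rw [hZ, mem_omega_center_iff] at hy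
      rw [mem_centralizer_singleton_iff]
      exact (mem_center_iff.mp hy.1 x).symm
    · rw [zpowers_le, mem_centralizer_singleton_iff]
      exact hx.symm
  rw [mem_centralizer_iff]
  intro y hy
  have h4 := h3 hy
  rwa [mem_centralizer_singleton_iff] at h4

theorem omega_center_le_omega_z2 : Subgroup.closure {x : G | x ∈ center G ∧ x ^ p = 1} ≤
    Subgroup.closure {x : G | x ∈ Subgroup.upperCentralSeries G 2 ∧ x ^ p = 1} := by
  refine Subgroup.closure_mono ?_
  rintro x ⟨hx, hxp⟩
  exact ⟨center_le_z2 hx, hxp⟩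

theorem commutator_mem_omega_center {w : G}
    (hw : w ∈ Subgroup.closure {x : G | x ∈ Subgroup.upperCentralSeries G 2 ∧ x ^ p = 1})
    (y : G) : w * y * w⁻¹ * y⁻¹ ∈ Subgroup.closure {x : G | x ∈ center G ∧ x ^ p = 1} := by
  rw [mem_omega_z2_iff hp] at hw
  rw [mem_omega_center_iff]
  have h1 := commutator_mem_center hw.1 y
  exact ⟨h1, commutator_pow_eq_one h1 hw.2⟩

theorem not_le_omega_z2 :
    ¬ E ≤ Subgroup.closure {x : G | x ∈ Subgroup.upperCentralSeries G 2 ∧ x ^ p = 1} := by
  intro h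
  refine not_normal_of_maximal hp hG hr hE hE2 hEmax ⟨fun x hx g => ?_⟩
  have h1 := commutator_mem_omega_center hp hG hr hE hE2 hEmax (h hx) g
  have h2 := omega_center_le hp hG hr hE hE2 hEmax h1
  have h3 : g * x * g⁻¹ = (x * g * x⁻¹ * g⁻¹)⁻¹ * x := by group
  rw [h3]
  exact E.mul_mem (E.inv_mem h2) hx

theorem card_omega_z2_le :
    Nat.card (Subgroup.closure {x : G | x ∈ Subgroup.upperCentralSeries G 2 ∧ x ^ p = 1})
      ≤ p ^ 2 := by
  set Z := Subgroup.closure {x : G | x ∈ center G ∧ x ^ p = 1} with hZ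
  set W := Subgroup.closure {x : G | x ∈ Subgroup.upperCentralSeries G 2 ∧ x ^ p = 1} with hW
  have hp0 : 0 < p := (Fact.out : p.Prime).pos
  obtain ⟨e, heE, heZ⟩ : ∃ e ∈ E, e ∉ Z := by
    by_contra hcon
    push Not at hcon
    apply not_le_center hp hG hr hE hE2 hEmax
    intro x hx
    have := hcon x hx
    rw [hZ, mem_omega_center_iff] at this
    exact this.1
  have h1 := card_le_mul_of_commutator_mem W Z e
    (fun w hw => commutator_mem_omega_center hp hG hr hE hE2 hEmax hw e)
  rw [card_omega_center hp hG hr hE hE2 hEmax] at h1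
  have h2 : W ⊓ centralizer ({e} : Set G) ≤ W ⊓ E := by
    intro x hx
    rw [mem_inf, mem_centralizer_singleton_iff] at hx
    refine mem_inf.mpr ⟨hx.1, ?_⟩
    exact mem_of_maximal_elemAb hE hEmax
      (mem_centralizer_of_commute hp hG hr hE hE2 hEmax heE heZ hx.2)
      ((mem_omega_z2_iff hp).mp hx.1).2
  have hlt : W ⊓ E < E := by
    refine lt_of_le_of_ne inf_le_right ?_
    intro h
    exact not_le_omega_z2 hp hG hr hE hE2 hEmax (by rw [← h]; exact inf_le_left)
  have h3 := mul_card_le_of_lt (hG.to_subgroup E) hlt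
  have h4 := Subgroup.card_le_of_le h2
  rw [hE2] at h3
  have h5 : Nat.card (W ⊓ E : Subgroup G) ≤ p :=
    Nat.le_of_mul_le_mul_left (h3.trans (by rw [pow_two])) hp0
  calc Nat.card W ≤ _ := h1
    _ ≤ p * p := Nat.mul_le_mul_right _ (h4.trans h5)
    _ = p ^ 2 := by rw [pow_two]

theorem le_card_omega_z2 :
    p ^ 2 ≤
      Nat.card (Subgroup.closure {x : G | x ∈ Subgroup.upperCentralSeries G 2 ∧ x ^ p = 1}) := by
  set Z := Subgroup.closure {x : G | x ∈ center G ∧ x ^ p = 1} with hZ
  set W := Subgroup.closure {x : G | x ∈ Subgroup.upperCentralSeries G 2 ∧ x ^ p = 1} with hW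
  have hnil : Group.IsNilpotent G := hG.isNilpotent
  obtain ⟨A, hAn, hAe, hAc⟩ := exists_normal_elementary_of_not_pRankLE hp hG hr
  have hZc := card_omega_center hp hG hr hE hE2 hEmax
  have hZn : Z.Normal := by
    have := omega_center_characteristic (G := G) p
    exact Subgroup.normal_of_characteristic _
  have hAZ : ¬ A ≤ Z := by
    intro h
    have h1 := Subgroup.card_le_of_le h
    rw [hZc] at h1
    have h2 : p ^ 1 < p ^ 3 := Nat.pow_lt_pow_right (Fact.out : p.Prime).one_lt (by norm_num)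
    rw [pow_one] at h2
    omega
  obtain ⟨x, hxA, hxZ, hxc⟩ :=
    Cfsg.Agent.Lib.NormalAbelian.exists_mem_not_mem_central_mod hZn hAn hAZ
  have hxW : x ∈ W := by
    rw [hW, mem_omega_z2_iff hp]
    refine ⟨?_, (elemAb_def.mp hAe).2 x hxA⟩
    rw [Subgroup.mem_upperCentralSeries_succ_iff]
    intro y
    have h1 := hxc y
    rw [hZ, mem_omega_center_iff] at h1
    have h2 : x * y * x⁻¹ * y⁻¹ ∈ Subgroup.upperCentralSeries G 1 := by
      rw [Subgroup.upperCentralSeries_one]
      exact h1.1
    exact h2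
  have hlt : Z < W := by
    refine lt_of_le_of_ne (omega_center_le_omega_z2 hp hG hr hE hE2 hEmax) ?_
    intro h
    rw [h] at hxZ
    exact hxZ hxW
  have h1 := mul_card_le_of_lt (hG.to_subgroup W) hlt
  rw [hZc, ← pow_two] at h1
  exact h1

theorem card_omega_z2 :
    Nat.card (Subgroup.closure {x : G | x ∈ Subgroup.upperCentralSeries G 2 ∧ x ^ p = 1})
      = p ^ 2 :=
  le_antisymm (card_omega_z2_le hp hG hr hE hE2 hEmax) (le_card_omega_z2 hp hG hr hE hE2 hEmax)

theorem omega_z2_elemAb : Cfsg.IsElementaryAbelian p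
    (Subgroup.closure {x : G | x ∈ Subgroup.upperCentralSeries G 2 ∧ x ^ p = 1}) := by
  rw [elemAb_def]
  have hcomm : ∀ a b : Subgroup.closure {x : G | x ∈ Subgroup.upperCentralSeries G 2 ∧ x ^ p = 1},
      a * b = b * a :=
    (IsPGroup.commutative_of_card_eq_prime_sq (card_omega_z2 hp hG hr hE hE2 hEmax))
  refine ⟨?_, ?_⟩
  · intro a ha b hb
    have := congrArg Subtype.val (hcomm ⟨a, ha⟩ ⟨b, hb⟩)
    simpa using this
  · intro a ha
    rw [mem_omega_z2_iff hp] at ha
    exact ha.2

theorem not_le_centralizer_omega_z2 : ¬ E ≤ centralizer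
    ((Subgroup.closure {x : G | x ∈ Subgroup.upperCentralSeries G 2 ∧ x ^ p = 1} :
      Subgroup G) : Set G) := by
  set W := Subgroup.closure {x : G | x ∈ Subgroup.upperCentralSeries G 2 ∧ x ^ p = 1} with hW
  intro h
  have h1 : W ≤ E := by
    intro w hw
    refine mem_of_maximal_elemAb hE hEmax ?_ ((mem_omega_z2_iff hp).mp hw).2
    rw [mem_centralizer_iff]
    intro y hy
    exact (mem_centralizer_iff.mp (h hy) w hw).symm
  have h2 : W = E := Subgroup.eq_of_le_of_card_ge h1
    (by rw [card_omega_z2 hp hG hr hE hE2 hEmax, hE2])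
  exact not_le_omega_z2 hp hG hr hE hE2 hEmax h2.ge

theorem index_centralizer_omega_z2 : (centralizer
    ((Subgroup.closure {x : G | x ∈ Subgroup.upperCentralSeries G 2 ∧ x ^ p = 1} :
      Subgroup G) : Set G)).index = p := by
  set W := Subgroup.closure {x : G | x ∈ Subgroup.upperCentralSeries G 2 ∧ x ^ p = 1} with hW
  have hWn : W.Normal := by
    have := omega_z2_characteristic (G := G) p
    exact Subgroup.normal_of_characteristic _
  have hp0 : 0 < p := (Fact.out : p.Prime).pos
  have h1 := card_le_centralizer_mul hG W (card_omega_z2 hp hG hr hE hE2 hEmax).le ⊤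
  rw [top_inf_eq, Subgroup.card_top, ← Subgroup.card_mul_index (centralizer (W : Set G))] at h1
  have h2 : (centralizer (W : Set G)).index ≤ p :=
    Nat.le_of_mul_le_mul_left h1 Nat.card_pos
  have h3 : centralizer (W : Set G) < ⊤ := by
    refine lt_of_le_of_ne le_top ?_
    intro h
    exact not_le_centralizer_omega_z2 hp hG hr hE hE2 hEmax (by rw [← hW, h]; exact le_top)
  have h4 := mul_card_le_of_lt (hG.to_subgroup ⊤) h3
  rw [Subgroup.card_top, ← Subgroup.card_mul_index (centralizer (W : Set G)), mul_comm] at h4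
  exact le_antisymm h2 (Nat.le_of_mul_le_mul_left h4 Nat.card_pos)

end Lemma52

end Cfsg.Agent.OddOrderLocal.NarrowBasic
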