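import Mathlib
import Cfsg.Prelude.Def_OddOrderLocal
set_option linter.all false

/-!
Elementary facts: an elementary abelian subgroup of order at least `p ^ 3` in the centre of a Sylow
`p`-subgroup makes `p` an ideal prime; complements from Hall subgroups.
-/

set_option autoImplicit false

namespace Cfsg.Agent.OddOrderLocal.IdealPrime

open Subgroup

variable {G : Type*} [Group G]

/-- coprimality from the absence of common primes -/
theorem coprime_of_primes {m n : ℕ} (h : ∀ p : ℕ, p.Prime → p ∣ m → ¬ p ∣ n) : m.Coprime n :=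
  Nat.coprime_of_dvd h

/-- the join of two commuting elementary abelian subgroups is elementary abelian -/
theorem isElementaryAbelian_sup {p : ℕ} {A B : Subgroup G} (hA : Cfsg.IsElementaryAbelian p A)
    (hB : Cfsg.IsElementaryAbelian p B) (hAB : A ≤ centralizer (B : Set G)) :
    Cfsg.IsElementaryAbelian p (A ⊔ B) := by
  have hBA : B ≤ centralizer (A : Set G) := by
    rw [le_centralizer_iff]; exact hAB
  have hAA : A ≤ centralizer (A : Set G) := by
    rw [Subgroup.le_centralizer_iff_isMulCommutative]; exact hA.1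
  have hBB : B ≤ centralizer (B : Set G) := by
    rw [Subgroup.le_centralizer_iff_isMulCommutative]; exact hB.1
  have h1 : A ≤ centralizer ((A ⊔ B : Subgroup G) : Set G) := by
    rw [le_centralizer_iff]
    exact sup_le hAA hBA
  have h2 : B ≤ centralizer ((A ⊔ B : Subgroup G) : Set G) := by
    rw [le_centralizer_iff]
    exact sup_le hAB hBB
  have h3 : A ⊔ B ≤ centralizer ((A ⊔ B : Subgroup G) : Set G) := sup_le h1 h2
  have hc : IsMulCommutative ↥(A ⊔ B) := Subgroup.le_centralizer_iff_isMulCommutative.mp h3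
  refine ⟨hc, ?_⟩
  intro a ha
  rw [sup_eq_closure] at ha
  have key : ∀ x (hx : x ∈ closure ((A : Set G) ∪ B)), x ^ p = 1 := by
    intro x hx
    induction hx using closure_induction with
    | mem x hx =>
      rcases hx with hx | hx
      · exact hA.2 x hx
      · exact hB.2 x hx
    | one => simp
    | mul x y hx hy ihx ihy =>
      rw [← sup_eq_closure] at hx hy
      have : Commute x y := ((h3 hy) x hx)
      rw [this.mul_pow, ihx, ihy, one_mul]
    | inv x hx ih => rw [inv_pow, ih, inv_one]
  exact key a ha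

/-- an elementary abelian subgroup of order at least `p ^ 3` centralized by a Sylow `p`-subgroup containing
it makes `p` ideal. -/
theorem isIdealPrime_of_central [Finite G] {p : ℕ} [hp : Fact p.Prime] (Q : Sylow p G) (V : Subgroup G)
    (hVQ : V ≤ (Q : Subgroup G)) (hQV : (Q : Subgroup G) ≤ centralizer (V : Set G))
    (hVe : ∀ v ∈ V, v ^ p = 1) (hcard : p ^ 3 ≤ Nat.card V) : Cfsg.IsIdealPrime p G := by
  have hlt : p ^ 2 < p ^ 3 := Nat.pow_lt_pow_right hp.out.one_lt (by norm_num)
  have hVc : IsMulCommutative V :=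
    Subgroup.le_centralizer_iff_isMulCommutative.mp (hVQ.trans hQV)
  refine ⟨hp.out, ?_, ?_⟩
  · intro h
    have := h V hVc hVe
    omega
  · intro P A hAP hA hAc
    obtain ⟨g, hg⟩ := MulAction.exists_smul_eq G Q P
    have hPeq : (P : Subgroup G) = (Q : Subgroup G).map (MulAut.conj g).toMonoidHom := by
      rw [← hg]; rfl
    set V' := V.map (MulAut.conj g).toMonoidHom with hV'
    have hV'P : V' ≤ (P : Subgroup G) := by
      rw [hPeq]; exact Subgroup.map_mono hVQ
    have hPV' : (P : Subgroup G) ≤ centralizer (V' : Set G) := by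
      rw [hPeq]
      rintro _ ⟨x, hx, rfl⟩
      rw [mem_centralizer_iff]
      rintro _ ⟨v, hv, rfl⟩
      have := hQV hx v hv
      rw [← map_mul, ← map_mul, this]
    have hV'e : ∀ v ∈ V', v ^ p = 1 := by
      rintro _ ⟨v, hv, rfl⟩
      rw [← map_pow, hVe v hv, map_one]
    have hV'c : IsMulCommutative V' :=
      Subgroup.le_centralizer_iff_isMulCommutative.mp (hV'P.trans hPV')
    have hcardV' : Nat.card V' = Nat.card V :=
      (Nat.card_congr (V.equivMapOfInjective _ (MulAut.conj g).injective).toEquiv).symm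
    refine ⟨A ⊔ V', sup_le hAP hV'P, isElementaryAbelian_sup hA ⟨hV'c, hV'e⟩ (hAP.trans hPV'), ?_⟩
    refine lt_of_le_of_ne le_sup_left ?_
    intro heq
    have h1 : Nat.card V' ≤ Nat.card A := by
      apply Subgroup.card_le_of_le
      rw [heq]; exact le_sup_right
    omega

/-- two Hall subgroups of `M` for complementary sets of primes of `M`: their orders multiply to that of `M` -/
theorem card_mul_of_hall [Finite G] {π ρ : Set ℕ} {M K S : Subgroup G}
    (hK : Cfsg.IsPiHallOf π K M) (hS : Cfsg.IsPiHallOf ρ S M)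
    (hdisj : ∀ p : ℕ, p ∈ π → p ∉ ρ)
    (hcover : ∀ p : ℕ, p.Prime → p ∣ Nat.card M → p ∈ π ∨ p ∈ ρ) :
    (Nat.card K).Coprime (Nat.card S) ∧ Nat.card K * Nat.card S = Nat.card M := by
  have h1 : Nat.card K * K.relIndex M = Nat.card M := by
    have := Subgroup.card_mul_index (K.subgroupOf M)
    rw [Nat.card_congr (Subgroup.subgroupOfEquivOfLe hK.1).toEquiv] at this
    exact this
  have h2 : Nat.card S * S.relIndex M = Nat.card M := by
    have := Subgroup.card_mul_index (S.subgroupOf M)
    rw [Nat.card_congr (Subgroup.subgroupOfEquivOfLe hS.1).toEquiv] at this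
    exact this
  have hc1 : (Nat.card K).Coprime (Nat.card S) :=
    coprime_of_primes fun p hp hpK hpS => hdisj p (hK.2.1 p hp hpK) (hS.2.1 p hp hpS)
  have hc2 : (K.relIndex M).Coprime (S.relIndex M) := by
    refine coprime_of_primes fun p hp hpK hpS => ?_
    have hpM : p ∣ Nat.card M := h1 ▸ (hpK.mul_left _)
    rcases hcover p hp hpM with h | h
    · exact hK.2.2 p hp h hpK
    · exact hS.2.2 p hp h hpS
  refine ⟨hc1, ?_⟩
  have e : Nat.card K * K.relIndex M = Nat.card S * S.relIndex M := h1.trans h2.symm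
  have d1 : Nat.card K ∣ S.relIndex M := by
    have : Nat.card K ∣ Nat.card S * S.relIndex M := e ▸ Dvd.intro _ rfl
    exact hc1.dvd_of_dvd_mul_left this
  have d2 : S.relIndex M ∣ Nat.card K := by
    have : S.relIndex M ∣ Nat.card K * K.relIndex M := e.symm ▸ Dvd.intro_left _ rfl
    exact hc2.symm.dvd_of_dvd_mul_right this
  have : S.relIndex M = Nat.card K := Nat.dvd_antisymm d2 d1
  rw [← h2, this, mul_comm]

/-- subgroups of `M` of coprime orders multiplying to that of `M` are complements in `M` -/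
theorem isComplIn_of_card [Finite G] {M K S : Subgroup G} (hK : K ≤ M) (hS : S ≤ M)
    (hcop : (Nat.card K).Coprime (Nat.card S)) (hcard : Nat.card K * Nat.card S = Nat.card M) :
    Cfsg.IsComplIn K S M := by
  refine ⟨hK, hS, (Subgroup.disjoint_of_coprime_natCard hcop).eq_bot, ?_⟩
  have e1 : Nat.card (K.subgroupOf M) = Nat.card K :=
    Nat.card_congr (Subgroup.subgroupOfEquivOfLe hK).toEquiv
  have e2 : Nat.card (S.subgroupOf M) = Nat.card S :=
    Nat.card_congr (Subgroup.subgroupOfEquivOfLe hS).toEquiv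
  have hc : IsComplement' (K.subgroupOf M) (S.subgroupOf M) :=
    isComplement'_of_coprime (by rw [e1, e2, hcard]) (by rw [e1, e2]; exact hcop)
  intro m hm
  obtain ⟨⟨⟨a, ha⟩, ⟨b, hb⟩⟩, hab, -⟩ := hc.existsUnique ⟨m, hm⟩
  refine ⟨a, ha, b, hb, ?_⟩
  have := congrArg Subtype.val hab
  simpa using this.symm

variable [Finite G]

/-- the Sylow `p`-subgroup of a subgroup `N` with a normal Sylow `p`-subgroup, seen in `G` -/
theorem mem_map_sylow_iff {N : Subgroup G} {p : ℕ} [Fact p.Prime] (T : Sylow p N)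
    (hT : (T : Subgroup N).Normal) (x : G) :
    x ∈ (T : Subgroup N).map N.subtype ↔ x ∈ N ∧ ∃ n : ℕ, x ^ (p ^ n) = 1 := by
  constructor
  · rintro ⟨y, hy, rfl⟩
    refine ⟨y.2, ?_⟩
    obtain ⟨n, hn⟩ := T.isPGroup' ⟨y, hy⟩
    refine ⟨n, ?_⟩
    have := congrArg (Subtype.val) hn
    have := congrArg (Subtype.val) this
    simpa using this
  · rintro ⟨hx, n, hn⟩
    refine ⟨⟨x, hx⟩, ?_, rfl⟩
    have hz : IsPGroup p (zpowers (⟨x, hx⟩ : N)) := by
      rintro ⟨z, hz⟩
      obtain ⟨k, rfl⟩ := mem_zpowers_iff.mp hz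
      refine ⟨n, ?_⟩
      have h1 : (⟨x, hx⟩ : N) ^ (p ^ n) = 1 := by
        ext; simpa using hn
      have h2 : ((⟨x, hx⟩ : N) ^ k) ^ (p ^ n) = 1 := by
        rw [← zpow_natCast, ← zpow_mul, mul_comm, zpow_mul, zpow_natCast, h1, one_zpow]
      exact Subtype.ext h2
    obtain ⟨T', hT'⟩ := hz.exists_le_sylow
    have : T' = T := by
      have := Sylow.unique_of_normal T hT
      exact Subsingleton.elim _ _
    rw [← this]
    exact hT' (mem_zpowers _)

/-- whatever normalizes `N` normalizes the normal Sylow `p`-subgroup of `N` -/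
theorem normalizer_le_of_normal_sylow {N : Subgroup G} {p : ℕ} [Fact p.Prime] (T : Sylow p N)
    (hT : (T : Subgroup N).Normal) :
    normalizer (N : Set G) ≤ normalizer (((T : Subgroup N).map N.subtype : Subgroup G) : Set G) := by
  intro g hg
  rw [mem_normalizer_iff] at hg ⊢
  intro h
  rw [mem_map_sylow_iff T hT, mem_map_sylow_iff T hT]
  have e : ∀ n : ℕ, (g * h * g⁻¹) ^ (p ^ n) = 1 ↔ h ^ (p ^ n) = 1 := by
    intro n
    rw [conj_pow, conj_eq_one_iff]
  simp only [e]
  rw [hg h]

omit [Finite G] in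
/-- order of a product `HN` with `H` normalizing `N` -/
theorem card_sup_dvd (H N : Subgroup G) (h : H ≤ normalizer (N : Set G)) :
    Nat.card ↥(H ⊔ N) ∣ Nat.card H * Nat.card N := by
  let _ := Subgroup.normal_subgroupOf_of_le_normalizer h
  let _ := Subgroup.normal_subgroupOf_sup_of_le_normalizer h
  have e := (QuotientGroup.quotientInfEquivProdNormalizerQuotient H N h).toEquiv
  have h1 : (N.subgroupOf H).index = (N.subgroupOf (H ⊔ N)).index := Nat.card_congr e
  have h2 := Subgroup.card_mul_index (N.subgroupOf (H ⊔ N))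
  rw [Nat.card_congr (Subgroup.subgroupOfEquivOfLe (le_sup_right : N ≤ H ⊔ N)).toEquiv, ← h1] at h2
  rw [← h2, mul_comm]
  exact Nat.mul_dvd_mul (Subgroup.index_dvd_card _) dvd_rfl

omit [Finite G] in
theorem sigmaCore_le (M : Subgroup G) : Cfsg.sigmaCore M ≤ M := by
  rintro _ ⟨y, -, rfl⟩
  exact y.2

omit [Finite G] in
theorem le_normalizer_sigmaCore (M : Subgroup G) :
    M ≤ normalizer ((Cfsg.sigmaCore M : Subgroup G) : Set G) := by
  have : ((Cfsg.sigmaCore M).subgroupOf M).Normal := by
    have e : (Cfsg.sigmaCore M).subgroupOf M = Cfsg.piCore (Cfsg.sigma M) M := by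
      unfold Cfsg.sigmaCore
      exact Subgroup.comap_map_eq_self_of_injective M.subtype_injective _
    rw [e]
    infer_instance
  rwa [normal_subgroupOf_iff_le_normalizer (sigmaCore_le M)] at this

/-- the elements of order dividing `p` in the centre of `P` -/
def omegaCenter (p : ℕ) (P : Subgroup G) : Subgroup G where
  carrier := {x | x ∈ P ∧ x ∈ centralizer (P : Set G) ∧ x ^ p = 1}
  mul_mem' := by
    rintro a b ⟨ha1, ha2, ha3⟩ ⟨hb1, hb2, hb3⟩
    refine ⟨mul_mem ha1 hb1, mul_mem ha2 hb2, ?_⟩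
    have : Commute a b := hb2 a ha1
    rw [this.mul_pow, ha3, hb3, one_mul]
  one_mem' := ⟨one_mem _, one_mem _, one_pow _⟩
  inv_mem' := by
    rintro a ⟨ha1, ha2, ha3⟩
    exact ⟨inv_mem ha1, inv_mem ha2, by rw [inv_pow, ha3, inv_one]⟩

omit [Finite G] in
theorem mem_omegaCenter {p : ℕ} {P : Subgroup G} {x : G} :
    x ∈ omegaCenter p P ↔ x ∈ P ∧ x ∈ centralizer (P : Set G) ∧ x ^ p = 1 := Iff.rfl

theorem omegaCenter_ne_bot {p : ℕ} [Fact p.Prime] {P : Subgroup G} (hP : IsPGroup p P) (hP1 : P ≠ ⊥) :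
    omegaCenter p P ≠ ⊥ := by
  have : Nontrivial P := (Subgroup.nontrivial_iff_ne_bot P).mpr hP1
  have := hP.center_nontrivial
  have hpc : IsPGroup p (center P) := hP.to_subgroup _
  have hdvd : p ∣ Nat.card (center P) := by
    obtain ⟨n, hn⟩ := hpc.exists_card_eq
    have h1 : 1 < Nat.card (center P) := Finite.one_lt_card
    rw [hn] at h1 ⊢
    rcases n with _ | n
    · simp at h1
    · exact dvd_pow_self p (by simp)
  obtain ⟨z, hz⟩ := exists_prime_orderOf_dvd_card' p hdvd
  intro hbot
  have hzm : ((z : P) : G) ∈ omegaCenter p P := by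
    refine ⟨(z : P).2, ?_, ?_⟩
    · rw [mem_centralizer_iff]
      intro y hy
      have := mem_center_iff.mp z.2 ⟨y, hy⟩
      exact congrArg Subtype.val this
    · have := pow_orderOf_eq_one z
      rw [hz] at this
      have := congrArg Subtype.val this
      have := congrArg Subtype.val this
      simpa using this
  rw [hbot, mem_bot] at hzm
  have : z = 1 := by
    ext; simpa using hzm
  rw [this, orderOf_one] at hz
  exact (Fact.out : p.Prime).one_lt.ne hz

omit [Finite G] in
theorem normalizer_le_normalizer_omegaCenter (p : ℕ) (P : Subgroup G) :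
    normalizer (P : Set G) ≤ normalizer ((omegaCenter p P : Subgroup G) : Set G) := by
  intro g hg
  have key : ∀ g ∈ normalizer (P : Set G), ∀ h ∈ omegaCenter p P, g * h * g⁻¹ ∈ omegaCenter p P := by
    intro g hg h hh
    obtain ⟨h1, h2, h3⟩ := hh
    rw [mem_normalizer_iff] at hg
    refine ⟨(hg h).mp h1, ?_, ?_⟩
    · rw [mem_centralizer_iff]
      intro y hy
      have hy' : g⁻¹ * y * g ∈ P := by
        have := (hg (g⁻¹ * y * g)).mpr (by simpa [mul_assoc] using hy)
        exact this
      have := (mem_centralizer_iff.mp h2) _ hy'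
      calc y * (g * h * g⁻¹) = g * ((g⁻¹ * y * g) * h) * g⁻¹ := by group
        _ = g * (h * (g⁻¹ * y * g)) * g⁻¹ := by rw [this]
        _ = g * h * g⁻¹ * y := by group
    · rw [conj_pow, h3]; simp
  rw [mem_normalizer_iff]
  intro h
  constructor
  · exact key g hg h
  · intro hh
    have := key g⁻¹ (inv_mem hg) _ hh
    simpa [mul_assoc] using this

end Cfsg.Agent.OddOrderLocal.IdealPrime
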