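import Mathlib
import Cfsg.Prelude.Def_Local
import Cfsg.Agent.OddOrderLocal.PLengthOne
import Cfsg.Agent.Lib.Cores
set_option linter.all false

/-!
`p`-length at most one: characterization by a normal series, subgroups, normal subgroups of
`p'`-index.
-/

set_option autoImplicit false

namespace Cfsg.Agent.OddOrderLocal.PLengthSub

open Cfsg Subgroup

variable {G : Type*} [Group G]

/-- relative index over a normal subgroup is monotone for divisibility -/
theorem relIndex_dvd_of_normal (A : Subgroup G) [A.Normal] {K L : Subgroup G} (h : K ≤ L) :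
    A.relIndex K ∣ A.relIndex L := by
  have h1 := Subgroup.relIndex_ker K (QuotientGroup.mk' A)
  have h2 := Subgroup.relIndex_ker L (QuotientGroup.mk' A)
  rw [QuotientGroup.ker_mk'] at h1 h2
  rw [h1, h2]
  exact Subgroup.card_dvd_of_le (Subgroup.map_mono h)

theorem card_map_mk' (N : Subgroup G) [N.Normal] (H : Subgroup G) :
    Nat.card (H.map (QuotientGroup.mk' N)) = N.relIndex H := by
  have h1 := Subgroup.relIndex_ker H (QuotientGroup.mk' N)
  rw [QuotientGroup.ker_mk'] at h1
  exact h1.symm

theorem upperPSeries_three_eq_top_of [Finite G] {p : ℕ}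
    (h : (upperPSeries p G 2).1.index.Coprime p) : PLengthLE p 1 G := by
  have h1 : (upperPSeries p G 3).1 = _ :=
    PLengthOne.upperPSeries_succ_even (G := G) p (n := 2) (by decide)
  show (upperPSeries p G 3).1 = ⊤
  rw [h1]
  have h2 : pPrimeCore p (G ⧸ (upperPSeries p G 2).1) = ⊤ := by
    rw [Lib.Cores.pPrimeCore_eq_top_iff]
    exact h
  rw [h2, Subgroup.comap_top]

/-- `G` has `p`-length at most one iff it has a normal series with factors a `p'`-group, a `p`-group
and a `p'`-group. -/
theorem pLengthLE_one_iff [Finite G] {p : ℕ} [Fact p.Prime] :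
    PLengthLE p 1 G ↔ ∃ A B : Subgroup G, A.Normal ∧ B.Normal ∧ A ≤ B ∧ (Nat.card A).Coprime p ∧
      (∃ n, A.relIndex B = p ^ n) ∧ B.index.Coprime p := by
  constructor
  · intro h
    obtain ⟨M, hM, hKM, hMp, hMi⟩ := PLengthOne.exists_normal_of_pLengthLE_one h
    refine ⟨pPrimeCore p G, M, inferInstance, hM, hKM, PLengthOne.card_pPrimeCore_coprime p, ?_, hMi⟩
    obtain ⟨n, hn⟩ := IsPGroup.iff_card.mp hMp
    exact ⟨n, by rw [← card_map_mk', hn]⟩
  · rintro ⟨A, B, hA, hB, hAB, hAc, ⟨n, hn⟩, hBi⟩
    apply upperPSeries_three_eq_top_of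
    have h2 : (upperPSeries p G 2).1 = _ :=
      PLengthOne.upperPSeries_succ_odd (G := G) p (n := 1) (by decide)
    have hAU : A ≤ (upperPSeries p G 1).1 := by
      rw [PLengthOne.upperPSeries_one]
      exact PLengthOne.le_pPrimeCore hA hAc
    have hBU : B ≤ (upperPSeries p G 2).1 := by
      rw [h2, ← Subgroup.map_le_iff_le_comap]
      apply PLengthOne.le_pCore
      · exact Subgroup.Normal.map hB _ (QuotientGroup.mk'_surjective _)
      · rw [IsPGroup.iff_card, card_map_mk']
        have h3 : (upperPSeries p G 1).1.relIndex B ∣ A.relIndex B :=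
          Subgroup.relIndex_dvd_of_le_left B hAU
        rw [hn] at h3
        obtain ⟨m, -, hm⟩ := (Nat.dvd_prime_pow Fact.out).mp h3
        exact ⟨m, hm⟩
    exact Nat.Coprime.coprime_dvd_left (Subgroup.index_dvd_of_le hBU) hBi

theorem pLengthLE_one_of_injective {H : Type*} [Group H] [Finite G] {p : ℕ} [Fact p.Prime]
    (f : H →* G) (hf : Function.Injective f) (h : PLengthLE p 1 G) : PLengthLE p 1 H := by
  have : Finite H := Finite.of_injective f hf
  obtain ⟨A, B, hA, hB, hAB, hAc, ⟨n, hn⟩, hBi⟩ := pLengthLE_one_iff.mp h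
  rw [pLengthLE_one_iff]
  have hrel : ∀ (K L : Subgroup G), (K.comap f).relIndex (L.comap f) = K.relIndex (L ⊓ f.range) := by
    intro K L
    rw [Subgroup.relIndex_comap, Subgroup.map_comap_eq, inf_comm]
  refine ⟨A.comap f, B.comap f, inferInstance, inferInstance, Subgroup.comap_mono hAB, ?_, ?_, ?_⟩
  · have h1 : Nat.card (A.comap f) ∣ Nat.card A := by
      have h2 : Nat.card ((A.comap f).map f) = Nat.card (A.comap f) :=
        Subgroup.card_map_of_injective hf
      rw [← h2]
      exact Subgroup.card_dvd_of_le (Subgroup.map_comap_le f A)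
    exact Nat.Coprime.coprime_dvd_left h1 hAc
  · have h1 : A.relIndex (B ⊓ f.range) ∣ A.relIndex B := relIndex_dvd_of_normal A inf_le_left
    rw [hn] at h1
    obtain ⟨m, -, hm⟩ := (Nat.dvd_prime_pow Fact.out).mp h1
    exact ⟨m, by rw [hrel, hm]⟩
  · have h1 : (B.comap f).index ∣ B.index := by
      rw [Subgroup.index_comap]
      exact Subgroup.relIndex_dvd_index_of_normal B f.range
    exact Nat.Coprime.coprime_dvd_left h1 hBi

theorem pLengthLE_one_subgroup [Finite G] {p : ℕ} [Fact p.Prime] (h : PLengthLE p 1 G)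
    (H : Subgroup G) : PLengthLE p 1 H :=
  pLengthLE_one_of_injective H.subtype H.subtype_injective h

theorem pLengthLE_one_mono [Finite G] {p : ℕ} [Fact p.Prime] {H K : Subgroup G} (hHK : H ≤ K)
    (h : PLengthLE p 1 K) : PLengthLE p 1 H :=
  pLengthLE_one_of_injective (Subgroup.inclusion hHK) (Subgroup.inclusion_injective hHK) h

theorem pLengthLE_one_congr {H : Type*} [Group H] [Finite G] {p : ℕ} [Fact p.Prime]
    (e : H ≃* G) : PLengthLE p 1 H ↔ PLengthLE p 1 G := by
  have : Finite H := Finite.of_equiv G e.symm.toEquiv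
  exact ⟨pLengthLE_one_of_injective e.symm.toMonoidHom e.symm.injective,
    pLengthLE_one_of_injective e.toMonoidHom e.injective⟩

/-- A group with a normal subgroup of `p`-length at most one and `p'`-index has `p`-length at most
one. -/
theorem pLengthLE_one_of_normal_coprime_index [Finite G] {p : ℕ} [hp : Fact p.Prime]
    (H : Subgroup G) (hH : H.Normal) (hi : H.index.Coprime p) (h : PLengthLE p 1 H) :
    PLengthLE p 1 G := by
  obtain ⟨M, hM, hKM, hMp, hMi⟩ := PLengthOne.exists_normal_of_pLengthLE_one h
  have hKc : (pPrimeCore p H).Characteristic := Lib.Cores.pPrimeCore_characteristic p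
  obtain ⟨n, hn⟩ := IsPGroup.iff_card.mp hMp
  rw [card_map_mk'] at hn
  have hMc : M.Characteristic := by
    rw [Subgroup.characteristic_iff_map_le]
    intro e
    rw [← Subgroup.relIndex_eq_one]
    have h1 : M.relIndex (M.map e.toMonoidHom) ∣ M.index :=
      Subgroup.relIndex_dvd_index_of_normal M _
    have h2 : M.relIndex (M.map e.toMonoidHom) ∣ p ^ n := by
      have h3 : M.relIndex (M.map e.toMonoidHom) ∣
          (pPrimeCore p H).relIndex (M.map e.toMonoidHom) :=
        Subgroup.relIndex_dvd_of_le_left _ hKM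
      have h4 : (pPrimeCore p H).relIndex (M.map e.toMonoidHom) = (pPrimeCore p H).relIndex M := by
        have h5 := Subgroup.relIndex_map_map_of_injective (pPrimeCore p H) M
          (f := e.toMonoidHom) e.injective
        rw [Subgroup.characteristic_iff_map_eq.mp hKc e] at h5
        exact h5
      rw [h4, hn] at h3
      exact h3
    exact Nat.Coprime.eq_one_of_dvd (Nat.Coprime.coprime_dvd_left h1
      (Nat.Coprime.pow_right n hMi)) h2
  rw [pLengthLE_one_iff]
  refine ⟨(pPrimeCore p H).map H.subtype, M.map H.subtype, inferInstance, inferInstance,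
    Subgroup.map_mono hKM, ?_, ⟨n, ?_⟩, ?_⟩
  · rw [Subgroup.card_subtype]
    exact PLengthOne.card_pPrimeCore_coprime p
  · rw [Subgroup.relIndex_map_map_of_injective _ _ H.subtype_injective, hn]
  · rw [Subgroup.index_map_subtype]
    exact Nat.Coprime.mul_left hMi hi

end Cfsg.Agent.OddOrderLocal.PLengthSub
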