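import Mathlib
import Cfsg.Prelude.Def_OddOrderLocal
import Cfsg.Agent.OddOrderLocal.Rank
import Cfsg.Agent.S0126
set_option linter.all false

/-!
Rank one and Z-groups: a `p`-group, `p` odd, of `p`-rank at most one is cyclic; a finite group of odd
order has rank at most one iff all its Sylow subgroups are cyclic.
-/

set_option autoImplicit false

namespace Cfsg.Agent.OddOrderLocal.ZGroup

open Subgroup Cfsg.Agent.OddOrderLocal.Rank

/-- For odd `p`, a `p`-group of `p`-rank at most one is cyclic. -/
theorem isCyclic_of_pRankLE_one {R : Type*} [Group R] [Finite R] {p : ℕ} [Fact p.Prime]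
    (hp : p ≠ 2) (hR : IsPGroup p R) (h : Cfsg.PRankLE p 1 R) : IsCyclic R := by
  by_contra hnc
  obtain ⟨A, -, hA, hc⟩ := Cfsg.Agent.S0126.result hp hR hnc
  have h1 := pRankLE_def.mp h A hA
  rw [hc, pow_one] at h1
  have hp2 := (Fact.out : p.Prime).one_lt
  nlinarith

/-- A cyclic group has `p`-rank at most one. -/
theorem pRankLE_one_of_isCyclic {R : Type*} [Group R] [Finite R] [IsCyclic R] {p : ℕ}
    (hp : 0 < p) : Cfsg.PRankLE p 1 R := by
  rw [pRankLE_def]
  intro A hA
  rw [pow_one]
  have hexp : Monoid.exponent A ∣ p :=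
    Monoid.exponent_dvd_of_forall_pow_eq_one (fun a => Subtype.ext (hA.2 a a.2))
  rw [IsCyclic.exponent_eq_card] at hexp
  exact Nat.le_of_dvd hp hexp

/-- For odd `p`, a `p`-group is cyclic iff its `p`-rank is at most one. -/
theorem isCyclic_iff_pRankLE_one {R : Type*} [Group R] [Finite R] {p : ℕ} [Fact p.Prime]
    (hp : p ≠ 2) (hR : IsPGroup p R) : IsCyclic R ↔ Cfsg.PRankLE p 1 R :=
  ⟨fun _ => pRankLE_one_of_isCyclic (Fact.out : p.Prime).pos, isCyclic_of_pRankLE_one hp hR⟩

/-- In a finite group of odd order, the `p`-rank is at most one iff the Sylow `p`-subgroups are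
cyclic. -/
theorem sylow_isCyclic_iff {G : Type*} [Group G] [Finite G] (hodd : Odd (Nat.card G)) {p : ℕ}
    [Fact p.Prime] (P : Sylow p G) : IsCyclic P ↔ Cfsg.PRankLE p 1 G := by
  rw [← pRankLE_sylow P]
  by_cases hp : p = 2
  · subst hp
    have h1 : ¬ 2 ∣ Nat.card G := by
      rw [← even_iff_two_dvd, Nat.not_even_iff_odd]; exact hodd
    have h2 : Nat.card P = 1 := by
      obtain ⟨n, hn⟩ := (IsPGroup.iff_card).mp P.isPGroup'
      rcases Nat.eq_zero_or_pos n with h0 | h0
      · rw [hn, h0, pow_zero]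
      · exfalso
        apply h1
        have h3 : 2 ∣ Nat.card P := by rw [hn]; exact dvd_pow_self 2 h0.ne'
        exact h3.trans (Subgroup.card_subgroup_dvd_card _)
    have h3 : Subsingleton P := (Nat.card_eq_one_iff_unique.mp h2).1
    constructor
    · intro _
      exact pRankLE_one_of_isCyclic (by norm_num)
    · intro _
      infer_instance
  · exact isCyclic_iff_pRankLE_one hp P.isPGroup'

/-- A finite group of odd order is a Z-group (all Sylow subgroups cyclic) iff it has rank at most
one. -/
theorem isZGroup_iff_rankLE_one {G : Type*} [Group G] [Finite G] (hodd : Odd (Nat.card G)) :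
    IsZGroup G ↔ Cfsg.RankLE 1 G := by
  constructor
  · intro h p hp
    have : Fact p.Prime := ⟨hp⟩
    obtain ⟨P⟩ : Nonempty (Sylow p G) := inferInstance
    exact (sylow_isCyclic_iff hodd P).mp (h.isZGroup p hp P)
  · intro h
    refine ⟨fun p hp P => ?_⟩
    have : Fact p.Prime := ⟨hp⟩
    exact (sylow_isCyclic_iff hodd P).mpr (h p hp)

end Cfsg.Agent.OddOrderLocal.ZGroup
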