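import Mathlib
set_option linter.all false

/-!
Products of two elementwise commuting subgroups (of coprime orders): membership in the join, order of
the join, the projection given by a power map, uniqueness of the decomposition.
-/

set_option autoImplicit false

namespace Cfsg.Agent.OddOrderLocal.CommProd

universe u

variable {G : Type u} [Group G]

/-- Membership in the join of two elementwise commuting subgroups. -/
theorem mem_sup_of_comm {H K : Subgroup G} (h : ∀ a ∈ H, ∀ b ∈ K, a * b = b * a) {z : G} :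
    z ∈ H ⊔ K ↔ ∃ a ∈ H, ∃ b ∈ K, z = a * b := by
  constructor
  · intro hz
    rw [Subgroup.sup_eq_closure_mul] at hz
    induction hz using Subgroup.closure_induction with
    | mem x hx =>
      obtain ⟨a, ha, b, hb, rfl⟩ := Set.mem_mul.1 hx
      exact ⟨a, ha, b, hb, rfl⟩
    | one => exact ⟨1, H.one_mem, 1, K.one_mem, by simp⟩
    | mul x y _ _ hx hy =>
      obtain ⟨a, ha, b, hb, rfl⟩ := hx
      obtain ⟨c, hc, d, hd, rfl⟩ := hy
      refine ⟨a * c, H.mul_mem ha hc, b * d, K.mul_mem hb hd, ?_⟩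
      have := h c hc b hb
      calc a * b * (c * d) = a * (b * c) * d := by group
        _ = a * (c * b) * d := by rw [this]
        _ = a * c * (b * d) := by group
    | inv x _ hx =>
      obtain ⟨a, ha, b, hb, rfl⟩ := hx
      refine ⟨a⁻¹, H.inv_mem ha, b⁻¹, K.inv_mem hb, ?_⟩
      rw [mul_inv_rev, h a⁻¹ (H.inv_mem ha) b⁻¹ (K.inv_mem hb)]
  · rintro ⟨a, ha, b, hb, rfl⟩
    exact (H ⊔ K).mul_mem (Subgroup.mem_sup_left ha) (Subgroup.mem_sup_right hb)

theorem eq_of_mul_eq {H K : Subgroup G} (hHK : H ⊓ K = ⊥) {a b c d : G} (ha : a ∈ H) (hb : b ∈ K)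
    (hc : c ∈ H) (hd : d ∈ K) (he : a * b = c * d) : a = c ∧ b = d := by
  have h1 : c⁻¹ * a = d * b⁻¹ := by
    rw [inv_mul_eq_iff_eq_mul, ← mul_assoc, ← he, mul_assoc, mul_inv_cancel, mul_one]
  have h2 : c⁻¹ * a ∈ H ⊓ K := ⟨H.mul_mem (H.inv_mem hc) ha, h1 ▸ K.mul_mem hd (K.inv_mem hb)⟩
  rw [hHK, Subgroup.mem_bot] at h2
  have h3 : a = c := (inv_mul_eq_one.1 h2).symm
  refine ⟨h3, ?_⟩
  rw [h3] at he
  exact mul_left_cancel he

/-- The order of the join of two elementwise commuting subgroups meeting trivially. -/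
theorem card_sup_of_comm {H K : Subgroup G} (h : ∀ a ∈ H, ∀ b ∈ K, a * b = b * a)
    (hHK : H ⊓ K = ⊥) : Nat.card ↥(H ⊔ K) = Nat.card H * Nat.card K := by
  rw [← Nat.card_prod]
  symm
  refine Nat.card_congr (Equiv.ofBijective
    (fun x : H × K => (⟨(x.1 : G) * (x.2 : G), (mem_sup_of_comm h).2
      ⟨x.1, x.1.2, x.2, x.2.2, rfl⟩⟩ : ↥(H ⊔ K))) ⟨?_, ?_⟩)
  · rintro ⟨a, b⟩ ⟨c, d⟩ hab
    have := congrArg Subtype.val hab
    obtain ⟨h1, h2⟩ := eq_of_mul_eq hHK a.2 b.2 c.2 d.2 this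
    exact Prod.ext (Subtype.ext h1) (Subtype.ext h2)
  · rintro ⟨z, hz⟩
    obtain ⟨a, ha, b, hb, rfl⟩ := (mem_sup_of_comm h).1 hz
    exact ⟨(⟨a, ha⟩, ⟨b, hb⟩), rfl⟩

/-- The projection of `H × K` onto `K` is a power map. -/
theorem exists_pow_eq_right [Finite G] {H K : Subgroup G} (h : ∀ a ∈ H, ∀ b ∈ K, a * b = b * a)
    (hcop : (Nat.card H).Coprime (Nat.card K)) :
    ∃ n : ℕ, ∀ a ∈ H, ∀ b ∈ K, (a * b) ^ n = b := by
  obtain ⟨n, hn0, hn1⟩ := Nat.chineseRemainder hcop 0 1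
  refine ⟨n, fun a ha b hb => ?_⟩
  rw [Commute.mul_pow (h a ha b hb)]
  have h1 : a ^ n = 1 := by
    have : orderOf a ∣ n := (Subgroup.orderOf_dvd_natCard H ha).trans
      (Nat.modEq_zero_iff_dvd.1 hn0)
    exact orderOf_dvd_iff_pow_eq_one.1 this
  have h2 : b ^ n = b := by
    have h3 : n ≡ 1 [MOD orderOf b] := hn1.of_dvd (Subgroup.orderOf_dvd_natCard K hb)
    have := (pow_eq_pow_iff_modEq (x := b) (n := n) (m := 1)).2 h3
    simpa using this
  rw [h1, h2, one_mul]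

theorem exists_pow_eq_left [Finite G] {H K : Subgroup G} (h : ∀ a ∈ H, ∀ b ∈ K, a * b = b * a)
    (hcop : (Nat.card H).Coprime (Nat.card K)) :
    ∃ n : ℕ, ∀ a ∈ H, ∀ b ∈ K, (a * b) ^ n = a := by
  obtain ⟨n, hn⟩ := exists_pow_eq_right (H := K) (K := H) (fun b hb a ha => (h a ha b hb).symm)
    hcop.symm
  exact ⟨n, fun a ha b hb => by rw [h a ha b hb]; exact hn b hb a ha⟩

theorem inf_eq_bot_of_coprime {H K : Subgroup G} (hcop : (Nat.card H).Coprime (Nat.card K)) :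
    H ⊓ K = ⊥ := by
  have h1 : Nat.card ↥(H ⊓ K) ∣ Nat.gcd (Nat.card H) (Nat.card K) :=
    Nat.dvd_gcd (Subgroup.card_dvd_of_le inf_le_left) (Subgroup.card_dvd_of_le inf_le_right)
  rw [hcop, Nat.dvd_one] at h1
  exact Subgroup.eq_bot_of_card_eq _ h1

/-- Two subgroups whose orders have no common prime divisor have coprime orders. -/
theorem coprime_of_primes [Finite G] {H K : Subgroup G}
    (h : ∀ p : ℕ, p.Prime → p ∣ Nat.card H → ¬ p ∣ Nat.card K) :
    (Nat.card H).Coprime (Nat.card K) := by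
  rw [Nat.coprime_iff_gcd_eq_one]
  by_contra hne
  obtain ⟨p, hp, hd⟩ := Nat.exists_prime_and_dvd hne
  exact h p hp (hd.trans (Nat.gcd_dvd_left _ _)) (hd.trans (Nat.gcd_dvd_right _ _))

theorem coprime_of_pi [Finite G] {π ρ : Set ℕ} (hπρ : ∀ p ∈ π, p ∉ ρ) {H K : Subgroup G}
    (hH : ∀ p : ℕ, p.Prime → p ∣ Nat.card H → p ∈ π)
    (hK : ∀ p : ℕ, p.Prime → p ∣ Nat.card K → p ∈ ρ) :
    (Nat.card H).Coprime (Nat.card K) :=
  coprime_of_primes (fun p hp hd hd' => hπρ p (hH p hp hd) (hK p hp hd'))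

/-- A nontrivial element generates a subgroup containing a subgroup of prime order. -/
theorem exists_prime_subgroup [Finite G] {H : Subgroup G} {p : ℕ} (hp : p.Prime)
    (hd : p ∣ Nat.card H) : ∃ X : Subgroup G, X ≤ H ∧ Nat.card X = p := by
  have : Fact p.Prime := ⟨hp⟩
  obtain ⟨x, hx⟩ := exists_prime_orderOf_dvd_card' (G := H) p hd
  refine ⟨Subgroup.zpowers (x : G), ?_, ?_⟩
  · rw [Subgroup.zpowers_le]; exact x.2
  · rw [Nat.card_zpowers, Subgroup.orderOf_coe, hx]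

theorem exists_prime_subgroup_of_ne_bot [Finite G] {H : Subgroup G} (hH : H ≠ ⊥) :
    ∃ X : Subgroup G, X ≤ H ∧ (Nat.card X).Prime := by
  have h1 : Nat.card H ≠ 1 := fun h => hH (Subgroup.eq_bot_of_card_eq _ h)
  obtain ⟨p, hp, hd⟩ := Nat.exists_prime_and_dvd h1
  obtain ⟨X, hX, hc⟩ := exists_prime_subgroup hp hd
  exact ⟨X, hX, hc ▸ hp⟩

theorem exists_gen_of_prime [Finite G] {X : Subgroup G} (hX : (Nat.card X).Prime) :
    ∃ x ∈ X, x ≠ 1 ∧ orderOf x = Nat.card X ∧ Subgroup.zpowers x = X := by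
  have h1 : X ≠ ⊥ := by
    rintro rfl
    rw [Subgroup.card_bot] at hX
    exact Nat.not_prime_one hX
  obtain ⟨x, hx, hx1⟩ := X.bot_or_exists_ne_one.resolve_left h1
  have h2 : orderOf x ∣ Nat.card X := Subgroup.orderOf_dvd_natCard X hx
  have h3 : orderOf x = Nat.card X := by
    rcases (Nat.dvd_prime hX).1 h2 with h | h
    · exact absurd (orderOf_eq_one_iff.1 h) hx1
    · exact h
  refine ⟨x, hx, hx1, h3, ?_⟩
  apply Subgroup.eq_of_le_of_card_ge
  · rw [Subgroup.zpowers_le]; exact hx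
  · rw [Nat.card_zpowers, h3]

end Cfsg.Agent.OddOrderLocal.CommProd
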