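import Mathlib
import Cfsg.Agent.Lib.CoprimeStab
import Cfsg.Prelude.Def_OddOrderLocal
import Cfsg.Agent.OddOrderLocal.Rank
import Cfsg.Agent.OddOrderLocal.NarrowBasic
import Cfsg.Agent.OddOrderLocal.OmegaCritical
set_option linter.all false

-- part: OddOrderLocal/OmegaCentralFree
section
/-!
A finite `p`-group (`p` odd) whose elements of order dividing `p` are central and form a group of order
`p ^ 2`, with an automorphism `a` of prime order `q`, `q ∤ p (p - 1)`, without non-identity fixed points of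
order `p`, is abelian.  (Used for Bender-Glauberman 5.5 (c).)
-/

set_option autoImplicit false

namespace Cfsg.Agent.OddOrderLocal.OmegaCentralFree

open Subgroup
open scoped commutatorElement

universe u

/-- fixed points of an automorphism of prime order on a finite invariant set -/
theorem card_modEq_fixed {R : Type*} [Group R] [Finite R] {q : ℕ} [Fact q.Prime] (a : MulAut R)
    (ha : a ^ q = 1) (D : Set R) (hD : ∀ x ∈ D, a x ∈ D) :
    Nat.card D ≡ Nat.card {x : R // x ∈ D ∧ a x = x} [MOD q] := by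
  classical
  have := Fintype.ofFinite D
  have hDn : ∀ (n : ℕ) (x : D), (a ^ n) (x : R) ∈ D := by
    intro n x
    induction n with
    | zero => exact x.2
    | succ n ih => rw [pow_succ']; exact hD _ ih
  let f : Function.End D := fun x => ⟨a x, hD x x.2⟩
  have hpow : ∀ (n : ℕ) (x : D), (f ^ n) x = ⟨(a ^ n) x, hDn n x⟩ := by
    intro n
    induction n with
    | zero => intro x; rfl
    | succ n ih =>
      intro x
      apply Subtype.ext
      have h1 : (f ^ (n + 1)) x = f ((f ^ n) x) := by rw [pow_succ']; rfl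
      rw [h1, ih x]
      change a ((a ^ n) x) = (a ^ (n + 1)) x
      rw [pow_succ']; rfl
  have hf : f ^ q ^ 1 = 1 := by
    funext x
    rw [pow_one, hpow q x]
    apply Subtype.ext
    change (a ^ q) (x : R) = x
    rw [ha]; rfl
  have h1 := Equiv.Perm.card_fixedPoints_modEq hf
  rw [Nat.card_eq_fintype_card]
  refine h1.trans ?_
  rw [← Nat.card_eq_fintype_card]
  have h2 : Nat.card f.fixedPoints = Nat.card {x : R // x ∈ D ∧ a x = x} := Nat.card_congr
    { toFun := fun x => ⟨x.1, x.1.2, congrArg Subtype.val x.2⟩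
      invFun := fun x => ⟨⟨x.1, x.2.1⟩, Subtype.ext x.2.2⟩
      left_inv := fun x => rfl
      right_inv := fun x => rfl }
  rw [h2]

/-- an `a`-invariant subgroup of order dividing `p` without fixed points is trivial -/
theorem eq_bot_of_card_dvd {R : Type*} [Group R] [Finite R] {p q : ℕ} [Fact p.Prime] [Fact q.Prime]
    (hq : ¬ q ∣ p * (p - 1)) (a : MulAut R) (ha : a ^ q = 1) (D : Subgroup R)
    (hD : ∀ x ∈ D, a x ∈ D) (hcard : Nat.card D ∣ p) (hfix : ∀ x ∈ D, a x = x → x = 1) : D = ⊥ := by
  rcases (Nat.dvd_prime (Fact.out : p.Prime)).mp hcard with h | h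
  · exact Subgroup.card_eq_one.mp h
  · exfalso
    have h1 := card_modEq_fixed a ha (D : Set R) hD
    have h2 : Nat.card {x : R // x ∈ (D : Set R) ∧ a x = x} = 1 := by
      rw [Nat.card_eq_one_iff_unique]
      refine ⟨⟨?_⟩, ⟨⟨1, one_mem D, map_one a⟩⟩⟩
      rintro ⟨x, hx1, hx2⟩ ⟨y, hy1, hy2⟩
      rw [Subtype.mk.injEq, hfix x hx1 hx2, hfix y hy1 hy2]
    rw [h2] at h1
    change Nat.card D ≡ 1 [MOD q] at h1
    rw [h] at h1
    apply hq
    apply Dvd.dvd.mul_left
    exact (Nat.modEq_iff_dvd' (Fact.out : p.Prime).one_lt.le).mp h1.symm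

theorem aux {p q : ℕ} [Fact p.Prime] [Fact q.Prime] (hp : p ≠ 2) (hq : ¬ q ∣ p * (p - 1)) :
    ∀ (n : ℕ) (R : Type u) [Group R] [Finite R], Nat.card R = n → IsPGroup p R →
    ∀ a : MulAut R, a ^ q = 1 → (∀ x : R, x ^ p = 1 → x ∈ Subgroup.center R) →
    Nat.card {x : R // x ^ p = 1} = p ^ 2 → (∀ x : R, x ^ p = 1 → a x = x → x = 1) →
    ∀ x y : R, x * y = y * x := by
  intro n
  induction n using Nat.strong_induction_on with
  | _ n ih =>
  intro R _ _ hn hR a ha hc hcard hfix
  have hpp : p.Prime := Fact.out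
  -- the subgroup `H = Ω₁(R)`
  let H : Subgroup R :=
    { carrier := {x | x ^ p = 1}
      mul_mem' := by
        intro x y hx hy
        change (x * y) ^ p = 1
        have : Commute x y := (mem_center_iff.mp (hc y hy) x)
        rw [this.mul_pow, show x ^ p = 1 from hx, show y ^ p = 1 from hy, one_mul]
      one_mem' := one_pow p
      inv_mem' := by
        intro x hx
        change (x⁻¹) ^ p = 1
        rw [inv_pow, show x ^ p = 1 from hx, inv_one] }
  have memH : ∀ x, x ∈ H ↔ x ^ p = 1 := fun x => Iff.rfl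
  have hcardH : Nat.card H = p ^ 2 := hcard
  have hHc : ∀ x ∈ H, ∀ y, Commute x y := fun x hx y => (mem_center_iff.mp (hc x hx) y).symm
  have hHn : H.Normal := ⟨fun x hx g => by
    have := (hHc x hx g).eq
    rw [← this, mul_assoc, mul_inv_cancel, mul_one]; exact hx⟩
  have haH : ∀ b : MulAut R, ∀ x ∈ H, b x ∈ H := fun b x hx => by
    rw [memH, ← map_pow, (memH x).mp hx, map_one]
  have hinv : ∀ D : Subgroup R, D ≤ H → (∀ x ∈ D, a x ∈ D) → Nat.card D ∣ p → D = ⊥ :=
    fun D hDH hD hDc => eq_bot_of_card_dvd hq a ha D hD hDc (fun x hx => hfix x (hDH hx))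
  -- the quotient and the induced automorphism
  let π : R →* R ⧸ H := QuotientGroup.mk' H
  have hπ : ∀ x, π x = 1 ↔ x ∈ H := fun x => QuotientGroup.eq_one_iff x
  have hπs : Function.Surjective π := QuotientGroup.mk'_surjective H
  -- `K₀` is the preimage of `Ω₁(Z(R/H))`
  let K₀ : Subgroup R :=
    { carrier := {x | x ^ p ∈ H ∧ ∀ y, ⁅x, y⁆ ∈ H}
      mul_mem' := by
        rintro x z ⟨hx1, hx2⟩ ⟨hz1, hz2⟩
        have hcm : ∀ y, ⁅x * z, y⁆ ∈ H := by
          intro y
          have : ⁅x * z, y⁆ = x * ⁅z, y⁆ * x⁻¹ * ⁅x, y⁆ := by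
            simp only [commutatorElement_def]; group
          rw [this]
          exact mul_mem (hHn.conj_mem _ (hz2 y) x) (hx2 y)
        refine ⟨?_, hcm⟩
        have h1 : Commute (π x) (π z) := by
          have := hx2 z
          rw [← hπ, map_commutatorElement, commutatorElement_eq_one_iff_commute] at this
          exact this
        rw [← hπ, map_pow, map_mul, h1.mul_pow, ← map_pow, ← map_pow, (hπ _).mpr hx1,
          (hπ _).mpr hz1, one_mul]
      one_mem' := ⟨by rw [one_pow]; exact one_mem H, fun y => by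
        rw [commutatorElement_one_left]; exact one_mem H⟩
      inv_mem' := by
        rintro x ⟨hx1, hx2⟩
        refine ⟨by rw [inv_pow]; exact inv_mem hx1, fun y => ?_⟩
        have : ⁅x⁻¹, y⁆ = x⁻¹ * ⁅x, y⁆⁻¹ * x⁻¹⁻¹ := by
          simp only [commutatorElement_def]; group
        rw [this]
        exact hHn.conj_mem _ (inv_mem (hx2 y)) x⁻¹ }
  have memK : ∀ x, x ∈ K₀ ↔ (x ^ p ∈ H ∧ ∀ y, ⁅x, y⁆ ∈ H) := fun x => Iff.rfl
  have hHK : H ≤ K₀ := fun x hx => ⟨by rw [(memH x).mp hx]; exact one_mem H, fun y => by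
    rw [commutatorElement_eq_one_iff_commute.mpr (hHc x hx y)]; exact one_mem H⟩
  -- multiplicativity of `x ↦ x ^ p`
  have hmulpow : ∀ x y : R, ⁅y, x⁆ ∈ H → x ^ p ∈ H → (x * y) ^ p = x ^ p * y ^ p := by
    intro x y hxy hxp
    exact Cfsg.Agent.Lib.CoprimeStab.mul_pow_prime_of_class_two hpp hp (hHc _ hxy x) (hHc _ hxy y)
      (hHc _ hxp y)
  by_cases hK : K₀ ≤ H
  · -- then `R = H`
    have htop : H = ⊤ := by
      by_contra hne
      have : Nontrivial (R ⧸ H) := by
        rw [← Finite.one_lt_card_iff_nontrivial]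
        rw [← Subgroup.index_eq_card]
        exact Subgroup.one_lt_index_of_ne_top hne
      have hRH : IsPGroup p (R ⧸ H) := hR.to_quotient H
      have := hRH.center_nontrivial
      have hpc : IsPGroup p (center (R ⧸ H)) := hRH.to_subgroup _
      have hdvd : p ∣ Nat.card (center (R ⧸ H)) := by
        obtain ⟨m, hm⟩ := hpc.exists_card_eq
        have h1 : 1 < Nat.card (center (R ⧸ H)) := Finite.one_lt_card
        rw [hm] at h1 ⊢
        rcases m with _ | m
        · simp at h1
        · exact dvd_pow_self p (by simp)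
      obtain ⟨z, hz⟩ := exists_prime_orderOf_dvd_card' p hdvd
      obtain ⟨x, hx⟩ := hπs (z : R ⧸ H)
      have hzc := z.2
      rw [mem_center_iff] at hzc
      have hxK : x ∈ K₀ := by
        refine ⟨?_, fun y => ?_⟩
        · rw [← hπ, map_pow, hx]
          have := pow_orderOf_eq_one z
          rw [hz] at this
          exact congrArg Subtype.val this
        · rw [← hπ, map_commutatorElement, commutatorElement_eq_one_iff_commute, hx]
          exact (hzc (π y)).symm
      have hx1 := hK hxK
      rw [← hπ, hx] at hx1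
      have : z = 1 := Subtype.ext hx1
      rw [this, orderOf_one] at hz
      exact hpp.one_lt.ne hz
    intro x y
    exact hHc x (htop ▸ mem_top x) y
  · -- main case
    obtain ⟨k₀, hk₀K, hk₀H⟩ := SetLike.not_le_iff_exists.mp hK
    -- the `p`-power map on `K₀`
    let φ : K₀ →* R :=
      { toFun := fun x => (x : R) ^ p
        map_one' := by simp
        map_mul' := fun x y => by
          have hx := x.2
          have hy := y.2
          rw [memK] at hx hy
          change ((x : R) * y) ^ p = _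
          exact hmulpow x y (hy.2 x) hx.1 }
    have hφ : ∀ x : K₀, φ x = (x : R) ^ p := fun x => rfl
    have hφr : φ.range ≤ H := by
      rintro _ ⟨x, rfl⟩
      exact x.2.1
    have hφa : ∀ x ∈ φ.range, a x ∈ φ.range := by
      rintro _ ⟨x, rfl⟩
      have hx : a x ∈ K₀ := by
        refine ⟨by rw [← map_pow]; exact haH a _ x.2.1, fun y => ?_⟩
        have h1 : ⁅a (x : R), y⁆ = a ⁅(x : R), a⁻¹ y⁆ := by
          rw [map_commutatorElement, MulAut.apply_inv_self]
        rw [h1]
        exact haH a _ (x.2.2 _)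
      refine ⟨⟨a x, hx⟩, ?_⟩
      rw [hφ, hφ, map_pow]
    have hφne : φ.range ≠ ⊥ := by
      intro h
      have : φ ⟨k₀, hk₀K⟩ ∈ φ.range := ⟨_, rfl⟩
      rw [h, mem_bot] at this
      exact hk₀H this
    have hφcard : Nat.card φ.range = p ^ 2 := by
      have h1 : Nat.card φ.range ∣ p ^ 2 := hcardH ▸ Subgroup.card_dvd_of_le hφr
      obtain ⟨m, hm, hm'⟩ := (Nat.dvd_prime_pow hpp).mp h1
      interval_cases m
      · exact absurd (hinv _ hφr hφa (by rw [hm']; simp)) hφne
      · exact absurd (hinv _ hφr hφa (by rw [hm']; simp)) hφne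
      · exact hm'
    have hφH : φ.range = H := Subgroup.eq_of_le_of_card_ge hφr (by rw [hφcard, hcardH])
    -- `x ^ p ∈ H` implies `x ∈ K₀`
    have hroot : ∀ x : R, x ^ p ∈ H → x ∈ K₀ := by
      intro x hx
      have h1 : x ^ p ∈ φ.range := by rw [hφH]; exact hx
      obtain ⟨k, hk⟩ := h1
      rw [hφ] at hk
      have h2 : (x * (k : R)⁻¹) ^ p = x ^ p * ((k : R)⁻¹) ^ p :=
        hmulpow x _ ((inv_mem k.2 : (k : R)⁻¹ ∈ K₀).2 x) hx
      have h3 : x * (k : R)⁻¹ ∈ H := by
        rw [memH, h2, inv_pow, hk, mul_inv_cancel]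
      have h4 : x = (x * (k : R)⁻¹) * k := by group
      rw [h4]
      exact mul_mem (hHK h3) k.2
    -- the induced automorphism
    have hmap : H.map a.toMonoidHom = H := by
      apply le_antisymm
      · rintro _ ⟨x, hx, rfl⟩; exact haH a x hx
      · intro x hx
        exact ⟨a⁻¹ x, haH a⁻¹ x hx, MulAut.apply_inv_self R a x⟩
    let abar : MulAut (R ⧸ H) := QuotientGroup.congr H H a hmap
    have habar : ∀ x, abar (π x) = π (a x) := fun x => rfl
    have habarq : abar ^ q = 1 := by
      have h1 : ∀ (m : ℕ) (x : R), (abar ^ m) (π x) = π ((a ^ m) x) := by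
        intro m
        induction m with
        | zero => intro x; rfl
        | succ m ihm =>
          intro x
          rw [pow_succ', pow_succ']
          change abar ((abar ^ m) (π x)) = π (a ((a ^ m) x))
          rw [ihm, habar]
      ext z
      obtain ⟨x, rfl⟩ := hπs z
      rw [h1, ha]; rfl
    have hQc : ∀ z : R ⧸ H, z ^ p = 1 → z ∈ center (R ⧸ H) := by
      intro z hz
      obtain ⟨x, rfl⟩ := hπs z
      rw [← map_pow, hπ] at hz
      have hxK := hroot x hz
      rw [mem_center_iff]
      intro w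
      obtain ⟨y, rfl⟩ := hπs w
      have := hxK.2 y
      rw [← hπ, map_commutatorElement, commutatorElement_eq_one_iff_commute] at this
      exact this.eq.symm
    have hQcard : Nat.card {z : R ⧸ H // z ^ p = 1} = p ^ 2 := by
      have h1 : Nat.card (K₀.map π) = p ^ 2 := by
        rw [← Subgroup.relIndex_ker]
        have hk : π.ker = H := QuotientGroup.ker_mk' H
        rw [hk, ← hφcard, ← Subgroup.index_ker]
        have : φ.ker = H.subgroupOf K₀ := by
          ext x
          rw [MonoidHom.mem_ker, mem_subgroupOf, hφ, memH]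
        rw [this]; rfl
      rw [← h1]
      refine Nat.card_congr (Equiv.subtypeEquivRight fun z => ?_)
      constructor
      · intro hz
        obtain ⟨x, rfl⟩ := hπs z
        rw [← map_pow, hπ] at hz
        exact ⟨x, hroot x hz, rfl⟩
      · rintro ⟨x, hx, rfl⟩
        rw [← map_pow, hπ]
        exact hx.1
    have hQfix : ∀ z : R ⧸ H, z ^ p = 1 → abar z = z → z = 1 := by
      intro z hz hz2
      obtain ⟨x, rfl⟩ := hπs z
      rw [habar] at hz2
      have h1 := card_modEq_fixed a ha {y | π y = π x} (fun y hy => by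
        change π (a y) = π x
        rw [← habar, show π y = π x from hy, habar, hz2])
      have h2 : Nat.card {y | π y = π x} = p ^ 2 := by
        rw [← hcardH]
        refine Nat.card_congr
          { toFun := fun y => ⟨x⁻¹ * y.1, by
              rw [← hπ, map_mul, show π y.1 = π x from y.2, map_inv, inv_mul_cancel]⟩
            invFun := fun h => ⟨x * h.1, by
              change π (x * h.1) = π x
              rw [map_mul, (hπ _).mpr h.2, mul_one]⟩
            left_inv := fun y => by ext; simp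
            right_inv := fun h => by ext; simp }
      rw [h2] at h1
      have h3 : Nat.card {y : R // y ∈ {y | π y = π x} ∧ a y = y} ≠ 0 := by
        intro h0
        rw [h0] at h1
        have : q ∣ p ^ 2 := (Nat.modEq_zero_iff_dvd).mp h1
        exact hq (Dvd.dvd.mul_right ((Fact.out : q.Prime).dvd_of_dvd_pow this) _)
      obtain ⟨⟨y, hy1, hy2⟩⟩ := (Nat.card_ne_zero.mp h3).1
      have hy1' : π y = π x := hy1
      have hyp : y ^ p ∈ H := by
        rw [← hπ, map_pow, hy1', hz]
      have hyp1 : y ^ p = 1 := hfix _ hyp (by rw [map_pow, hy2])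
      rw [← hy1', hπ]
      exact hyp1
    have hQn : Nat.card (R ⧸ H) < n := by
      rw [← hn, ← Subgroup.card_mul_index H, ← Subgroup.index_eq_card, hcardH]
      have : 0 < H.index := Nat.pos_of_ne_zero Subgroup.index_ne_zero_of_finite
      have h2 : 1 < p ^ 2 := Nat.one_lt_pow (by norm_num) hpp.one_lt
      nlinarith
    have hQab := ih _ hQn (R ⧸ H) rfl (hR.to_quotient H) abar habarq hQc hQcard hQfix
    -- so all commutators lie in `H`
    have hcomm : ∀ x y : R, ⁅x, y⁆ ∈ H := by
      intro x y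
      rw [← hπ, map_commutatorElement, commutatorElement_eq_one_iff_commute]
      exact hQab _ _
    have hpc : ∀ x : R, x ^ p ∈ center R := by
      intro x
      rw [mem_center_iff]
      intro y
      have h1 : y * x * y⁻¹ = ⁅y, x⁆ * x := by rw [commutatorElement_def]; group
      have h2 : (y * x * y⁻¹) ^ p = x ^ p := by
        rw [h1, (hHc _ (hcomm y x) x).mul_pow, (memH _).mp (hcomm y x), one_mul]
      rw [conj_pow] at h2
      calc y * x ^ p = (y * x ^ p * y⁻¹) * y := by group
        _ = x ^ p * y := by rw [h2]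
    have hmulpow2 : ∀ x y : R, (x * y) ^ p = x ^ p * y ^ p := fun x y =>
      Cfsg.Agent.Lib.CoprimeStab.mul_pow_prime_of_class_two hpp hp (hHc _ (hcomm y x) x)
        (hHc _ (hcomm y x) y) (mem_center_iff.mp (hpc x) y).symm
    let ψ : R →* R :=
      { toFun := fun x => x ^ p
        map_one' := one_pow p
        map_mul' := hmulpow2 }
    have hψk : ψ.ker = H := by
      ext x; rfl
    have hψr : ψ.range ≤ center R := by
      rintro _ ⟨x, rfl⟩; exact hpc x
    have hRZ : (center R).index ≤ p ^ 2 := by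
      have h1 : ψ.ker.index = Nat.card ψ.range := Subgroup.index_ker ψ
      rw [hψk] at h1
      have h2 := Subgroup.card_mul_index H
      have h3 := Subgroup.card_mul_index (center R)
      rw [hcardH, h1] at h2
      have h4 : Nat.card ψ.range ≤ Nat.card (center R) := Subgroup.card_le_of_le hψr
      have hpos : 0 < Nat.card (center R) := Nat.card_pos
      refine Nat.le_of_mul_le_mul_left ?_ hpos
      rw [h3, ← h2, mul_comm]
      exact Nat.mul_le_mul_right _ h4
    by_contra hnab
    push Not at hnab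
    obtain ⟨x₀, y₀, hxy⟩ := hnab
    have hx₀ : x₀ ∉ center R := fun h => hxy ((mem_center_iff.mp h y₀).symm)
    -- `y ↦ [x₀, y]`
    let θ : R →* R :=
      { toFun := fun y => ⁅x₀, y⁆
        map_one' := commutatorElement_one_right x₀
        map_mul' := fun y z => by
          have h1 : ⁅x₀, y * z⁆ = ⁅x₀, y⁆ * (y * ⁅x₀, z⁆ * y⁻¹) := by
            simp only [commutatorElement_def]; group
          rw [h1, ← (hHc _ (hcomm x₀ z) y).eq, mul_assoc, mul_inv_cancel, mul_one] }
    have hθ : ∀ y, θ y = ⁅x₀, y⁆ := fun y => rfl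
    have hθr : θ.range ≤ H := by
      rintro _ ⟨y, rfl⟩; exact hcomm x₀ y
    have hZθ : center R ≤ θ.ker := by
      intro z hz
      rw [MonoidHom.mem_ker, hθ, commutatorElement_eq_one_iff_commute]
      exact mem_center_iff.mp hz x₀
    have hx₀θ : x₀ ∈ θ.ker := by
      rw [MonoidHom.mem_ker, hθ, commutatorElement_self]
    -- an index of a subgroup strictly above the centre divides `p`
    have hidx : ∀ N : Subgroup R, center R ≤ N → x₀ ∈ N → N.index ∣ p := by
      intro N hN hxN
      have h1 : (center R).relIndex N * N.index = (center R).index := Subgroup.relIndex_mul_index hN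
      have h2 : (center R).relIndex N ≠ 1 := by
        rw [Ne, Subgroup.relIndex_eq_one]
        exact fun h => hx₀ (h hxN)
      obtain ⟨m, hm⟩ := (IsPGroup.index hR (center R))
      rw [hm] at h1 hRZ
      have hm2 : m ≤ 2 := by
        by_contra hcon
        push Not at hcon
        have := Nat.pow_lt_pow_right hpp.one_lt hcon
        omega
      have h3 : N.index ∣ p ^ m := Dvd.intro_left _ h1
      obtain ⟨j, hj, hj'⟩ := (Nat.dvd_prime_pow hpp).mp h3
      have hj1 : j ≤ 1 := by
        by_contra hcon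
        push Not at hcon
        have h4 : j = 2 ∧ m = 2 := by omega
        rw [hj', h4.1, h4.2] at h1
        have hpos : 0 < p ^ 2 := pow_pos hpp.pos 2
        have : (center R).relIndex N = 1 := by
          apply Nat.eq_of_mul_eq_mul_right hpos
          rw [h1, one_mul]
        exact h2 this
      rw [hj']
      calc p ^ j ∣ p ^ 1 := pow_dvd_pow p hj1
        _ = p := pow_one p
    have hθcard : Nat.card θ.range ∣ p := by
      rw [← Subgroup.index_ker]
      exact hidx _ hZθ hx₀θ
    have hθn : θ.range.Normal := ⟨fun x hx g => by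
      have := (hHc x (hθr hx) g).eq
      rw [← this, mul_assoc, mul_inv_cancel, mul_one]; exact hx⟩
    -- the quotient by `[x₀, R]` is abelian
    let τ : R →* R ⧸ θ.range := QuotientGroup.mk' θ.range
    have hτs : Function.Surjective τ := QuotientGroup.mk'_surjective _
    have hτ : ∀ x, τ x = 1 ↔ x ∈ θ.range := fun x => QuotientGroup.eq_one_iff x
    have hNidx : (center (R ⧸ θ.range)).index ∣ p := by
      rw [← Subgroup.index_comap_of_surjective (center (R ⧸ θ.range)) hτs]
      apply hidx
      · intro z hz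
        rw [mem_comap, mem_center_iff]
        intro w
        obtain ⟨y, rfl⟩ := hτs w
        rw [← map_mul, ← map_mul, mem_center_iff.mp hz y]
      · rw [mem_comap, mem_center_iff]
        intro w
        obtain ⟨y, rfl⟩ := hτs w
        have h1 : ⁅x₀, y⁆ ∈ θ.range := ⟨y, rfl⟩
        rw [← hτ, map_commutatorElement, commutatorElement_eq_one_iff_commute] at h1
        exact h1.eq.symm
    have hcyc : IsCyclic ((R ⧸ θ.range) ⧸ center (R ⧸ θ.range)) := by
      have hcd : Nat.card ((R ⧸ θ.range) ⧸ center (R ⧸ θ.range)) ∣ p := by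
        rw [← Subgroup.index_eq_card]; exact hNidx
      rcases (Nat.dvd_prime hpp).mp hcd with h | h
      · have := (Nat.card_eq_one_iff_unique.mp h).1
        exact isCyclic_of_subsingleton
      · exact isCyclic_of_prime_card h
    have hab : ∀ z w : R ⧸ θ.range, z * w = w * z := by
      intro z w
      have := MonoidHom.isMulCommutative_of_isCyclic_of_ker_le_center
        (QuotientGroup.mk' (center (R ⧸ θ.range))) (by rw [QuotientGroup.ker_mk'])
      exact this.is_comm.comm z w
    have hRθ : commutator R ≤ θ.range := by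
      rw [_root_.commutator_def, commutator_le]
      intro x _ y _
      rw [← hτ, map_commutatorElement, commutatorElement_eq_one_iff_commute]
      exact hab _ _
    have hbot := hinv (commutator R) (hRθ.trans hθr) (fun x hx => by
      have h1 : (commutator R).map a.toMonoidHom = commutator R :=
        (Subgroup.characteristic_iff_map_eq.mp inferInstance) a
      rw [← h1]; exact ⟨x, hx, rfl⟩) ((Subgroup.card_dvd_of_le hRθ).trans hθcard)
    apply hxy
    have h1 : ⁅x₀, y₀⁆ ∈ commutator R := by
      rw [_root_.commutator_def]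
      exact commutator_mem_commutator (mem_top _) (mem_top _)
    rw [hbot, mem_bot, commutatorElement_eq_one_iff_commute] at h1
    exact h1.eq

/-- A finite `p`-group, `p` odd, whose elements of order dividing `p` are central and form a group of order
`p ^ 2`, with an automorphism of prime order `q`, `q ∤ p (p - 1)`, fixing no element of order `p`, is
abelian. -/
theorem comm_of_omega_central {R : Type*} [Group R] [Finite R] {p q : ℕ} [Fact p.Prime] [Fact q.Prime]
    (hp : p ≠ 2) (hR : IsPGroup p R) (hq : ¬ q ∣ p * (p - 1)) (a : MulAut R) (ha : a ^ q = 1)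
    (hc : ∀ x : R, x ^ p = 1 → x ∈ Subgroup.center R)
    (hcard : Nat.card {x : R // x ^ p = 1} = p ^ 2)
    (hfix : ∀ x : R, x ^ p = 1 → a x = x → x = 1) : ∀ x y : R, x * y = y * x :=
  aux hp hq (Nat.card R) R rfl hR a ha hc hcard hfix

end Cfsg.Agent.OddOrderLocal.OmegaCentralFree
end

-- part: OddOrderLocal/RankTwoPrimeAut
section
/-!
# An automorphism of prime order `q ∤ p (p - 1)` of a `p`-group of rank at most 2, `p` odd

(B&G Theorem 5.5(c)): `q ∣ p + 1`, and if `R = [R, a]` is nonabelian then `#R = p ^ 3`.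
-/

set_option autoImplicit false
set_option linter.unusedSectionVars false
set_option linter.unusedVariables false

namespace Cfsg.Agent.OddOrderLocal.RankTwoPrimeAut

open Subgroup
open Cfsg.Agent.OddOrderLocal.Rank
open Cfsg.Agent.OddOrderLocal.NarrowBasic
open scoped commutatorElement

/-- The subgroup of fixed points of an automorphism. -/
def fixedBy {R : Type*} [Group R] (a : MulAut R) : Subgroup R where
  carrier := {x | a x = x}
  mul_mem' := by
    intro x y hx hy
    show a (x * y) = x * y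
    rw [map_mul, hx, hy]
  one_mem' := map_one a
  inv_mem' := by
    intro x hx
    show a x⁻¹ = x⁻¹
    rw [map_inv, hx]

theorem mem_fixedBy {R : Type*} [Group R] {a : MulAut R} {x : R} : x ∈ fixedBy a ↔ a x = x :=
  Iff.rfl

variable {R : Type*} [Group R] [Finite R]

/-- Orbit counting for an automorphism of order dividing the prime `q` on an invariant
subgroup. -/
theorem card_modEq {q : ℕ} [hq : Fact q.Prime] {a : MulAut R} (ha : a ^ q = 1)
    (K : Subgroup R) (hK : ∀ x ∈ K, a x ∈ K) :
    Nat.card K ≡ Nat.card (K ⊓ fixedBy a : Subgroup R) [MOD q] := by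
  classical
  have := Fintype.ofFinite K
  let f : Function.End K := fun x => ⟨a x, hK x x.2⟩
  have hf : ∀ (n : ℕ) (x : K), (((f ^ n : Function.End K) x : K) : R) = (a ^ n) x := by
    intro n
    induction n with
    | zero => intro x; rfl
    | succ n ih =>
      intro x
      rw [pow_succ, pow_succ]
      show (((f ^ n : Function.End K) (f x) : K) : R) = (a ^ n) (a x)
      rw [ih]
  have hf1 : f ^ q ^ 1 = 1 := by
    funext x
    apply Subtype.ext
    rw [pow_one, hf, ha]
    rfl
  have h1 := Equiv.Perm.card_fixedPoints_modEq (f := f) (n := 1) hf1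
  have h2 : Fintype.card f.fixedPoints = Nat.card (K ⊓ fixedBy a : Subgroup R) := by
    rw [← Nat.card_eq_fintype_card]
    refine Nat.card_congr ?_
    refine ⟨fun x => ⟨x.1.1, ⟨x.1.2, ?_⟩⟩, fun x => ⟨⟨x.1, (mem_inf.mp x.2).1⟩, ?_⟩, ?_, ?_⟩
    · have := x.2
      exact congrArg Subtype.val this
    · have := (mem_inf.mp x.2).2
      exact Subtype.ext this
    · intro x
      rfl
    · intro x
      rfl
  rw [← h2, Nat.card_eq_fintype_card]
  exact h1

/-- If `p ^ (j + k) ≡ p ^ j` modulo the prime `q ≠ p` then `q ∣ p ^ k - 1`. -/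
theorem dvd_pow_sub_one {p q j k : ℕ} (hq : q.Prime) (hp : p.Prime) (hne : q ≠ p)
    (h : p ^ (j + k) ≡ p ^ j [MOD q]) : q ∣ p ^ k - 1 := by
  have hcop : Nat.Coprime q (p ^ j) := (Nat.coprime_primes hq hp).mpr hne |>.pow_right j
  have h1 : p ^ j * p ^ k ≡ p ^ j * 1 [MOD q] := by rwa [← pow_add, mul_one]
  have h2 : p ^ k ≡ 1 [MOD q] := Nat.ModEq.cancel_left_of_coprime (by rwa [Nat.Coprime] at hcop) h1
  exact (Nat.modEq_iff_dvd' (Nat.one_le_pow _ _ hp.pos)).mp h2.symm

section

variable {p q : ℕ} [hpf : Fact p.Prime] [hqf : Fact q.Prime]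

/-- An `a`-invariant subgroup of order `p` is fixed pointwise. -/
theorem le_fixedBy_of_card (hq : ¬ q ∣ p * (p - 1)) {a : MulAut R} (ha : a ^ q = 1)
    (K : Subgroup R) (hK : ∀ x ∈ K, a x ∈ K) (hKp : Nat.card K = p) : K ≤ fixedBy a := by
  have h1 := card_modEq ha K hK
  have h2 : Nat.card (K ⊓ fixedBy a : Subgroup R) ∣ p := by
    rw [← hKp]
    exact Subgroup.card_dvd_of_le inf_le_left
  have hne : q ≠ p := by
    rintro rfl
    exact hq (dvd_mul_right _ _)
  rcases (Nat.dvd_prime hpf.out).mp h2 with h3 | h3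
  · exfalso
    rw [h3, hKp] at h1
    have h4 : q ∣ p ^ 1 - 1 := by
      refine dvd_pow_sub_one (j := 0) hqf.out hpf.out hne ?_
      rw [zero_add, pow_one, pow_zero]
      exact h1
    rw [pow_one] at h4
    exact hq (dvd_mul_of_dvd_right h4 p)
  · have h4 : K ⊓ fixedBy a = K :=
      Subgroup.eq_of_le_of_card_ge inf_le_left (by rw [h3, hKp])
    rw [← h4]
    exact inf_le_right

/-- If the invariant subgroup `K` has order `p ^ i` with `i ≤ 2` and is not fixed pointwise, then
`i = 2`, `C_K(a) = 1` and `q ∣ p + 1`. -/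
theorem of_card_le_sq (hR : IsPGroup p R) (hq : ¬ q ∣ p * (p - 1)) {a : MulAut R} (ha : a ^ q = 1)
    (K : Subgroup R) (hK : ∀ x ∈ K, a x ∈ K) (hKp : Nat.card K ≤ p ^ 2)
    (hKf : ¬ K ≤ fixedBy a) :
    Nat.card K = p ^ 2 ∧ K ⊓ fixedBy a = ⊥ ∧ q ∣ p + 1 := by
  have hne : q ≠ p := by
    rintro rfl
    exact hq (dvd_mul_right _ _)
  have hp1 : 1 < p := hpf.out.one_lt
  have hq1 : ¬ q ∣ p - 1 := fun h => hq (dvd_mul_of_dvd_right h p)
  obtain ⟨i, hi⟩ := (IsPGroup.iff_card).mp (hR.to_subgroup K)
  obtain ⟨j, hj⟩ := (IsPGroup.iff_card).mp (hR.to_subgroup (K ⊓ fixedBy a))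
  have hi2 : i ≤ 2 := by
    rw [hi] at hKp
    exact (Nat.pow_le_pow_iff_right hp1).mp hKp
  have hji : j < i := by
    have h1 : K ⊓ fixedBy a < K := by
      refine lt_of_le_of_ne inf_le_left ?_
      intro h
      apply hKf
      rw [← h]
      exact inf_le_right
    have h2 := mul_card_le_of_lt (hR.to_subgroup K) h1
    rw [hi, hj, ← pow_succ'] at h2
    have := (Nat.pow_le_pow_iff_right hp1).mp h2
    omega
  have hmod := card_modEq ha K hK
  rw [hi, hj] at hmod
  interval_cases i
  · omega
  · have hj0 : j = 0 := by omega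
    subst hj0
    exfalso
    apply hq1
    have := dvd_pow_sub_one (j := 0) (k := 1) hqf.out hpf.out hne hmod
    rwa [pow_one] at this
  · have hj1 : j = 0 ∨ j = 1 := by omega
    rcases hj1 with rfl | rfl
    · have h1 := dvd_pow_sub_one (j := 0) (k := 2) hqf.out hpf.out hne hmod
      refine ⟨hi, ?_, ?_⟩
      · rw [pow_zero] at hj
        exact Subgroup.card_eq_one.mp hj
      · have h2 : p ^ 2 - 1 = (p + 1) * (p - 1) := by
          have := Nat.sq_sub_sq p 1
          rwa [one_pow] at this
        rw [h2] at h1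
        exact ((Nat.Prime.dvd_mul hqf.out).mp h1).resolve_right hq1
    · exfalso
      apply hq1
      have := dvd_pow_sub_one (j := 1) (k := 1) hqf.out hpf.out hne hmod
      rwa [pow_one] at this

end

/-! ### The structure of a subgroup `H` of exponent `p`, class at most 2 and rank at most 2 -/

section

variable {p : ℕ} [hpf : Fact p.Prime]

/-- The centre of `H` as a subgroup of `R`. -/
def centerOf {R : Type*} [Group R] (H : Subgroup R) : Subgroup R := H ⊓ centralizer (H : Set R)

theorem mem_centerOf {R : Type*} [Group R] {H : Subgroup R} {x : R} :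
    x ∈ centerOf H ↔ x ∈ H ∧ ∀ y ∈ H, y * x = x * y := by
  rw [centerOf, mem_inf, mem_centralizer_iff]
  exact Iff.rfl

theorem elemAb_sup_zpowers (hR : IsPGroup p R) (H : Subgroup R) (hexp : ∀ x ∈ H, x ^ p = 1)
    {x : R} (hx : x ∈ H) : Cfsg.IsElementaryAbelian p (centerOf H ⊔ zpowers x) := by
  refine elemAb_sup ?_ (elemAb_zpowers (hexp x hx)) ?_
  · rw [elemAb_def]
    refine ⟨fun a ha b hb => ?_, fun a ha => hexp a (mem_centerOf.mp ha).1⟩
    exact ((mem_centerOf.mp ha).2 b (mem_centerOf.mp hb).1).symm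
  · rintro a ha _ ⟨k, rfl⟩
    exact (show Commute a x from ((mem_centerOf.mp ha).2 x hx).symm).zpow_right k

theorem sup_zpowers_le (H : Subgroup R) {x : R} (hx : x ∈ H) :
    centerOf H ⊔ zpowers x ≤ H :=
  sup_le inf_le_left (by rwa [zpowers_le])

theorem lt_sup_zpowers (H : Subgroup R) {x : R} (hx : x ∉ centerOf H) :
    centerOf H < centerOf H ⊔ zpowers x := by
  refine lt_of_le_of_ne le_sup_left ?_
  intro h
  apply hx
  rw [h]
  exact (le_sup_right : zpowers x ≤ centerOf H ⊔ zpowers x) (mem_zpowers x)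

theorem card_centerOf_le (hR : IsPGroup p R) (hr : Cfsg.PRankLE p 2 R) (H : Subgroup R)
    (hexp : ∀ x ∈ H, x ^ p = 1) {x : R} (hx : x ∈ H) (hxc : x ∉ centerOf H) :
    Nat.card (centerOf H) ≤ p := by
  have h1 := mul_card_le_of_lt (hR.to_subgroup (centerOf H ⊔ zpowers x)) (lt_sup_zpowers H hxc)
  have h2 := pRankLE_def.mp hr _ (elemAb_sup_zpowers hR H hexp hx)
  refine Nat.le_of_mul_le_mul_left (h1.trans (h2.trans ?_)) hpf.out.pos
  rw [pow_two]

theorem centerOf_ne_bot (hR : IsPGroup p R) (H : Subgroup R) (hH : H ≠ ⊥) :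
    centerOf H ≠ ⊥ := by
  have hnil : Group.IsNilpotent H := (hR.to_subgroup H).isNilpotent
  have hnt : Nontrivial H := (Subgroup.nontrivial_iff_ne_bot H).mpr hH
  have h1 : Nontrivial (center H) := (hR.to_subgroup H).center_nontrivial
  obtain ⟨⟨⟨x, hxH⟩, hxc⟩, hx1⟩ := exists_ne (1 : center H)
  intro hbot
  have h2 : x ∈ centerOf H := by
    rw [mem_centerOf]
    refine ⟨hxH, fun y hy => ?_⟩
    have := mem_center_iff.mp hxc ⟨y, hy⟩
    exact congrArg Subtype.val this
  rw [hbot, mem_bot] at h2
  subst h2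
  exact hx1 rfl

theorem card_centerOf (hR : IsPGroup p R) (hr : Cfsg.PRankLE p 2 R) (H : Subgroup R)
    (hexp : ∀ x ∈ H, x ^ p = 1) {x : R} (hx : x ∈ H) (hxc : x ∉ centerOf H) :
    Nat.card (centerOf H) = p := by
  refine le_antisymm (card_centerOf_le hR hr H hexp hx hxc) ?_
  have hH : H ≠ ⊥ := by
    rintro rfl
    exact hxc (by rw [mem_bot.mp hx]; exact (centerOf ⊥).one_mem)
  have h1 := mul_card_le_of_lt (hR.to_subgroup (centerOf H))
    (bot_lt_iff_ne_bot.mpr (centerOf_ne_bot hR H hH))
  rwa [Subgroup.card_bot, mul_one] at h1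

/-- `Z(H)⟨x⟩` has order `p ^ 2`. -/
theorem card_sup_zpowers (hR : IsPGroup p R) (hr : Cfsg.PRankLE p 2 R) (H : Subgroup R)
    (hexp : ∀ x ∈ H, x ^ p = 1) {x : R} (hx : x ∈ H) (hxc : x ∉ centerOf H) :
    Nat.card (centerOf H ⊔ zpowers x : Subgroup R) = p ^ 2 := by
  refine le_antisymm (pRankLE_def.mp hr _ (elemAb_sup_zpowers hR H hexp hx)) ?_
  have h1 := mul_card_le_of_lt (hR.to_subgroup (centerOf H ⊔ zpowers x)) (lt_sup_zpowers H hxc)
  rwa [card_centerOf hR hr H hexp hx hxc, ← pow_two] at h1

/-- Elements of order dividing `p` centralizing an elementary abelian subgroup of order `p ^ 2` of a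
group of rank at most 2 lie in it. -/
theorem mem_of_commute (hr : Cfsg.PRankLE p 2 R) (M : Subgroup R)
    (hM : Cfsg.IsElementaryAbelian p M) (hMc : Nat.card M = p ^ 2) {y : R} (hy : y ^ p = 1)
    (hyM : ∀ m ∈ M, m * y = y * m) : y ∈ M := by
  have h1 : Cfsg.IsElementaryAbelian p (M ⊔ zpowers y) := by
    refine elemAb_sup hM (elemAb_zpowers hy) ?_
    rintro a ha _ ⟨k, rfl⟩
    exact (show Commute a y from hyM a ha).zpow_right k
  have h2 := pRankLE_def.mp hr _ h1
  have h3 : M = M ⊔ zpowers y :=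
    Subgroup.eq_of_le_of_card_ge le_sup_left (by rw [hMc]; exact h2)
  rw [h3]
  exact (le_sup_right : zpowers y ≤ M ⊔ zpowers y) (mem_zpowers y)

/-- A subgroup of exponent `p` and class at most 2 in a group of rank at most 2 has order at most
`p ^ 3`. -/
theorem card_le_cube (hR : IsPGroup p R) (hr : Cfsg.PRankLE p 2 R) (H : Subgroup R)
    (hexp : ∀ x ∈ H, x ^ p = 1) (hcl : ∀ x ∈ H, ∀ y ∈ H, ∀ z ∈ H, Commute ⁅x, y⁆ z)
    {x : R} (hx : x ∈ H) (hxc : x ∉ centerOf H) : Nat.card H ≤ p ^ 3 := by
  have h1 := card_le_mul_of_commutator_mem H (centerOf H) x (fun y hy => by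
    rw [mem_centerOf]
    have h2 := hcl y hy x hx
    rw [commutatorElement_def] at h2
    exact ⟨H.mul_mem (H.mul_mem (H.mul_mem hy hx) (H.inv_mem hy)) (H.inv_mem hx),
      fun z hz => (h2 z hz).eq.symm⟩)
  have h2 : H ⊓ centralizer ({x} : Set R) ≤ centerOf H ⊔ zpowers x := by
    intro y hy
    rw [mem_inf, mem_centralizer_singleton_iff] at hy
    refine mem_of_commute hr _ (elemAb_sup_zpowers hR H hexp hx)
      (card_sup_zpowers hR hr H hexp hx hxc) (hexp y hy.1) ?_
    have h3 : centerOf H ⊔ zpowers x ≤ centralizer ({y} : Set R) := by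
      refine sup_le ?_ ?_
      · intro m hm
        rw [mem_centralizer_singleton_iff]
        exact ((mem_centerOf.mp hm).2 y hy.1).symm
      · rw [zpowers_le, mem_centralizer_singleton_iff]
        exact hy.2.symm
    intro m hm
    have := h3 hm
    rwa [mem_centralizer_singleton_iff] at this
  have h3 := Subgroup.card_le_of_le h2
  rw [card_sup_zpowers hR hr H hexp hx hxc] at h3
  rw [card_centerOf hR hr H hexp hx hxc] at h1
  calc Nat.card H ≤ _ := h1
    _ ≤ p ^ 2 * p := Nat.mul_le_mul_right _ h3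
    _ = p ^ 3 := by ring

end

/-! ### Restriction of automorphisms to characteristic or invariant subgroups -/

/-- An automorphism (of a finite group) leaving `K` invariant restricts to `K`. -/
noncomputable def restr (a : MulAut R) (K : Subgroup R) (hK : ∀ x ∈ K, a x ∈ K) : MulAut K :=
  MulEquiv.ofBijective
    (MonoidHom.mk' (fun x : K => (⟨a x, hK x x.2⟩ : K))
      (fun x y => Subtype.ext (by
        show a ((x : R) * (y : R)) = a x * a y
        exact map_mul a _ _)))
    (Finite.injective_iff_bijective.mp (fun x y hxy => by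
      have h1 : a x = a y := congrArg Subtype.val hxy
      exact Subtype.ext (a.injective h1)))

theorem restr_apply (a : MulAut R) (K : Subgroup R) (hK : ∀ x ∈ K, a x ∈ K) (x : K) :
    ((restr a K hK x : K) : R) = a x := rfl

theorem restr_pow_apply (a : MulAut R) (K : Subgroup R) (hK : ∀ x ∈ K, a x ∈ K) (n : ℕ) (x : K) :
    ((((restr a K hK) ^ n) x : K) : R) = (a ^ n) x := by
  induction n generalizing x with
  | zero => rfl
  | succ n ih =>
    rw [pow_succ, pow_succ]
    show ((((restr a K hK) ^ n) (restr a K hK x) : K) : R) = (a ^ n) (a x)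
    rw [ih]
    rfl

theorem restr_pow_eq_one (a : MulAut R) (K : Subgroup R) (hK : ∀ x ∈ K, a x ∈ K) {n : ℕ}
    (h : a ^ n = 1) : (restr a K hK) ^ n = 1 := by
  apply MulEquiv.ext
  intro x
  apply Subtype.ext
  rw [restr_pow_apply, h]
  rfl

section Main

variable {p q : ℕ} [hpf : Fact p.Prime] [hqf : Fact q.Prime]

/-- Characteristic subgroups are invariant. -/
theorem char_invariant {H : Subgroup R} (hH : H.Characteristic) (a : MulAut R) :
    ∀ x ∈ H, a x ∈ H := by
  intro x hx
  exact (Subgroup.characteristic_iff_le_comap.mp hH a) hx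

theorem centerOf_characteristic {H : Subgroup R} (hH : H.Characteristic) :
    (centerOf H).Characteristic := by
  rw [Subgroup.characteristic_iff_le_comap]
  intro φ x hx
  have h1 : (centralizer (H : Set R)).Characteristic := centralizer_characteristic hH
  exact ⟨char_invariant hH φ x hx.1, char_invariant h1 φ x hx.2⟩

/-- An automorphism of order `q ≠ p` which fixes all `x` with `x ^ p = 1` in an invariant subgroup
`C` fixes `C`. -/
theorem fixes_of_fixes_omega (hp : p ≠ 2) (hR : IsPGroup p R) (hne : q ≠ p) {a : MulAut R}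
    (ha : a ^ q = 1) (C : Subgroup R) (hC : ∀ x ∈ C, a x ∈ C)
    (hfix : ∀ x ∈ C, x ^ p = 1 → a x = x) : ∀ x ∈ C, a x = x := by
  obtain ⟨H, hH, hexp, -, hfaith⟩ :=
    Cfsg.Agent.OddOrderLocal.OmegaCritical.exists_omega_critical hp (hR.to_subgroup C)
  have hb : (restr a C hC) ^ q = 1 := restr_pow_eq_one a C hC ha
  have hcop : (orderOf (restr a C hC)).Coprime p := by
    refine Nat.Coprime.coprime_dvd_left (orderOf_dvd_of_pow_eq_one hb) ?_
    exact (Nat.coprime_primes hqf.out hpf.out).mpr hne
  have h1 := hfaith (restr a C hC) hcop (by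
    intro x hx
    apply Subtype.ext
    rw [restr_apply]
    refine hfix x x.2 ?_
    have := congrArg Subtype.val (hexp x hx)
    simpa using this)
  intro x hx
  have h2 := congrArg (fun b : MulAut C => ((b ⟨x, hx⟩ : C) : R)) h1
  exact h2

variable (hp : p ≠ 2) (hR : IsPGroup p R) (hr : Cfsg.PRankLE p 2 R) (hq : ¬ q ∣ p * (p - 1))
  {a : MulAut R} (ha : a ^ q = 1)

include hp hR hr hq ha

/-- The case of an abelian critical subgroup. -/
theorem abelian_case (H : Subgroup R) (hH : H.Characteristic) (hexp : ∀ x ∈ H, x ^ p = 1)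
    (hab : ∀ x ∈ H, ∀ y ∈ H, x * y = y * x) (hnf : ¬ H ≤ fixedBy a) :
    q ∣ p + 1 ∧ ∀ x y : R, x * y = y * x := by
  have hHe : Cfsg.IsElementaryAbelian p H := elemAb_def.mpr ⟨hab, hexp⟩
  have hHc := pRankLE_def.mp hr H hHe
  obtain ⟨hc, hbot, hdvd⟩ := of_card_le_sq hR hq ha H (char_invariant hH a) hHc hnf
  refine ⟨hdvd, ?_⟩
  have hHn : H.Normal := Subgroup.normal_of_characteristic _
  have hnil : Group.IsNilpotent R := hR.isNilpotent
  have hHne : H ≠ ⊥ := by
    rintro rfl
    exact hnf bot_le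
  -- `H` is central
  have hHZ : H ≤ center R := by
    have h1 : H ⊓ center R ≠ ⊥ :=
      Cfsg.Agent.Lib.NormalAbelian.normal_inf_center_ne_bot H hHne
    have hinv : ∀ x ∈ H ⊓ center R, a x ∈ H ⊓ center R := by
      intro x hx
      rw [mem_inf] at hx ⊢
      exact ⟨char_invariant hH a x hx.1,
        char_invariant (inferInstance : (center R).Characteristic) a x hx.2⟩
    have h2 : ¬ H ⊓ center R ≤ fixedBy a := by
      intro h
      apply h1
      rw [eq_bot_iff, ← hbot]
      exact le_inf inf_le_left h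
    have h3 := of_card_le_sq hR hq ha (H ⊓ center R) hinv
      ((Subgroup.card_le_of_le inf_le_left).trans hHc) h2
    have h4 : H ⊓ center R = H :=
      Subgroup.eq_of_le_of_card_ge inf_le_left (by rw [h3.1, hc])
    rw [← h4]
    exact inf_le_right
  have hmem : ∀ x : R, x ^ p = 1 → x ∈ H := by
    intro x hx
    refine mem_of_commute hr H hHe hc hx (fun m hm => ?_)
    exact (mem_center_iff.mp (hHZ hm) x).symm
  refine Cfsg.Agent.OddOrderLocal.OmegaCentralFree.comm_of_omega_central hp hR hq a ha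
    (fun x hx => hHZ (hmem x hx)) ?_ ?_
  · rw [← hc]
    refine Nat.card_congr (Equiv.subtypeEquivRight (fun x => ?_))
    exact ⟨fun hx => hmem x hx, fun hx => hexp x hx⟩
  · intro x hx hax
    have h1 : x ∈ H ⊓ fixedBy a := mem_inf.mpr ⟨hmem x hx, hax⟩
    rwa [hbot, mem_bot] at h1

/-- The case of a nonabelian critical subgroup. -/
theorem nonabelian_case (H : Subgroup R) (hH : H.Characteristic) (hexp : ∀ x ∈ H, x ^ p = 1)
    (hcl : ∀ x ∈ H, ∀ y ∈ H, ∀ z ∈ H, Commute ⁅x, y⁆ z)
    (hnf : ¬ H ≤ fixedBy a) {u : R} (hu : u ∈ H) (huc : u ∉ centerOf H) :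
    q ∣ p + 1 ∧ Nat.card H = p ^ 3 ∧ ∀ x : R, x⁻¹ * a x ∈ H := by
  have hne : q ≠ p := by
    rintro rfl
    exact hq (dvd_mul_right _ _)
  have hp1 : 1 < p := hpf.out.one_lt
  have hq1 : ¬ q ∣ p - 1 := fun h => hq (dvd_mul_of_dvd_right h p)
  have hnil : Group.IsNilpotent R := hR.isNilpotent
  have hHn : H.Normal := Subgroup.normal_of_characteristic _
  have hZchar : (centerOf H).Characteristic := centerOf_characteristic hH
  have hZn : (centerOf H).Normal := Subgroup.normal_of_characteristic _
  have hZc : Nat.card (centerOf H) = p := card_centerOf hR hr H hexp hu huc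
  have hZne : centerOf H ≠ ⊥ := by
    intro h
    rw [h, Subgroup.card_bot] at hZc
    omega
  have hZf : centerOf H ≤ fixedBy a :=
    le_fixedBy_of_card hq ha _ (char_invariant hZchar a) hZc
  have hHcard : Nat.card H ≤ p ^ 3 := card_le_cube hR hr H hexp hcl hu huc
  -- orders of `H` and of `C_H(a)`
  obtain ⟨i, hi⟩ := (IsPGroup.iff_card).mp (hR.to_subgroup H)
  obtain ⟨j, hj⟩ := (IsPGroup.iff_card).mp (hR.to_subgroup (H ⊓ fixedBy a))
  have hi3 : i ≤ 3 := by
    rw [hi] at hHcard
    exact (Nat.pow_le_pow_iff_right hp1).mp hHcard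
  have hji : j < i := by
    have h1 : H ⊓ fixedBy a < H := by
      refine lt_of_le_of_ne inf_le_left ?_
      intro h
      apply hnf
      rw [← h]
      exact inf_le_right
    have h2 := mul_card_le_of_lt (hR.to_subgroup H) h1
    rw [hi, hj, ← pow_succ'] at h2
    have := (Nat.pow_le_pow_iff_right hp1).mp h2
    omega
  have hj1 : 1 ≤ j := by
    have h1 : centerOf H ≤ H ⊓ fixedBy a := le_inf inf_le_left hZf
    have h2 := Subgroup.card_le_of_le h1
    rw [hZc, hj] at h2
    by_contra h3
    have h4 : j = 0 := by omega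
    rw [h4, pow_zero] at h2
    omega
  have hmod := card_modEq ha H (char_invariant hH a)
  rw [hi, hj] at hmod
  have hkey : ∀ k, i = j + k → q ∣ p ^ k - 1 := by
    intro k hk
    rw [hk] at hmod
    exact dvd_pow_sub_one hqf.out hpf.out hne hmod
  have hi_eq : i = 3 ∧ j = 1 := by
    by_contra hcon
    have h1 : i = j + 1 := by omega
    have h2 := hkey 1 h1
    rw [pow_one] at h2
    exact hq1 h2
  obtain ⟨rfl, rfl⟩ := hi_eq
  have hdvd : q ∣ p + 1 := by
    have h1 := hkey 2 rfl
    have h2 : p ^ 2 - 1 = (p + 1) * (p - 1) := by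
      have := Nat.sq_sub_sq p 1
      rwa [one_pow] at this
    rw [h2] at h1
    exact ((Nat.Prime.dvd_mul hqf.out).mp h1).resolve_right hq1
  refine ⟨hdvd, hi, ?_⟩
  rw [pow_one] at hj
  have hHf : H ⊓ fixedBy a = centerOf H := by
    have hle : centerOf H ≤ H ⊓ fixedBy a := le_inf inf_le_left hZf
    have hge : Nat.card (H ⊓ fixedBy a : Subgroup R) ≤ Nat.card (centerOf H) := by
      rw [hj, hZc]
    exact (Subgroup.eq_of_le_of_card_ge hle hge).symm
  -- `[H, R] ≤ Z(H)`
  let K : Subgroup R := H ⊓ (center (R ⧸ centerOf H)).comap (QuotientGroup.mk' (centerOf H))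
  have hKmem : ∀ x : R, x ∈ K ↔ x ∈ H ∧ ∀ y : R, x * y * x⁻¹ * y⁻¹ ∈ centerOf H := by
    intro x
    show x ∈ H ⊓ _ ↔ _
    rw [mem_inf, mem_comap, mem_center_iff]
    refine and_congr_right (fun _ => ?_)
    constructor
    · intro h y
      have h1 := h (QuotientGroup.mk' (centerOf H) y)
      rw [← QuotientGroup.eq_one_iff]
      show (QuotientGroup.mk' (centerOf H)) (x * y * x⁻¹ * y⁻¹) = 1
      simp only [map_mul, map_inv]
      rw [← h1]
      group
    · intro h y
      obtain ⟨y, rfl⟩ := QuotientGroup.mk'_surjective (centerOf H) y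
      have h1 : (QuotientGroup.mk' (centerOf H)) (x * y * x⁻¹ * y⁻¹) = 1 := by
        have := (QuotientGroup.eq_one_iff (x * y * x⁻¹ * y⁻¹)).mpr (h y)
        exact this
      simp only [map_mul, map_inv] at h1
      rw [mul_inv_eq_one, mul_inv_eq_iff_eq_mul] at h1
      exact h1.symm
  have hKH : K ≤ H := inf_le_left
  have hKinv : ∀ x ∈ K, a x ∈ K := by
    intro x hx
    rw [hKmem] at hx ⊢
    refine ⟨char_invariant hH a x hx.1, fun y => ?_⟩
    have h1 := char_invariant hZchar a _ (hx.2 (a⁻¹ y))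
    rw [map_mul, map_mul, map_mul, map_inv, map_inv] at h1
    rwa [MulAut.apply_inv_self] at h1
  have hZK : centerOf H < K := by
    have hHZ : ¬ H ≤ centerOf H := fun h => huc (h hu)
    obtain ⟨x, hxH, hxZ, hxc⟩ :=
      Cfsg.Agent.Lib.NormalAbelian.exists_mem_not_mem_central_mod hZn hHn hHZ
    refine lt_of_le_of_ne ?_ ?_
    · intro z hz
      rw [hKmem]
      refine ⟨(mem_centerOf.mp hz).1, fun y => ?_⟩
      have h1 : y * z⁻¹ * y⁻¹ ∈ centerOf H := hZn.conj_mem _ ((centerOf H).inv_mem hz) y
      have h2 := (centerOf H).mul_mem hz h1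
      have h3 : z * y * z⁻¹ * y⁻¹ = z * (y * z⁻¹ * y⁻¹) := by group
      rwa [h3]
    · intro h
      apply hxZ
      rw [h, hKmem]
      exact ⟨hxH, hxc⟩
  have hKeq : K = H := by
    by_contra hKne
    have h1 : K < H := lt_of_le_of_ne hKH hKne
    have h2 := mul_card_le_of_lt (hR.to_subgroup H) h1
    rw [hi] at h2
    have h3 : Nat.card K ≤ p ^ 2 := by
      refine Nat.le_of_mul_le_mul_left (h2.trans (le_of_eq ?_)) hpf.out.pos
      ring
    have h4 : K ≤ fixedBy a := by
      by_contra h5
      have h6 := (of_card_le_sq hR hq ha K hKinv h3 h5).2.1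
      apply hZne
      rw [eq_bot_iff, ← h6]
      exact le_inf hZK.le hZf
    have h5 : K ≤ H ⊓ fixedBy a := le_inf hKH h4
    rw [hHf] at h5
    exact absurd hZK (not_lt_of_ge h5)
  have hHcom : ∀ x ∈ H, ∀ y : R, x * y * x⁻¹ * y⁻¹ ∈ centerOf H := by
    intro x hx
    rw [← hKeq] at hx
    exact ((hKmem x).mp hx).2
  have hHcom' : ∀ x ∈ H, ∀ y : R, y * x * y⁻¹ * x⁻¹ ∈ centerOf H := by
    intro x hx y
    have h1 := (centerOf H).inv_mem (hHcom x hx y)
    have h2 : (x * y * x⁻¹ * y⁻¹)⁻¹ = y * x * y⁻¹ * x⁻¹ := by group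
    rwa [h2] at h1
  -- `Z(H)` is central in `R`
  have hZcen : centerOf H ≤ center R := by
    have h1 : centerOf H ⊓ center R ≠ ⊥ :=
      Cfsg.Agent.Lib.NormalAbelian.normal_inf_center_ne_bot (centerOf H) hZne
    have h2 : centerOf H ⊓ center R = centerOf H := by
      refine Subgroup.eq_of_le_of_card_ge inf_le_left ?_
      rw [hZc]
      have h3 := mul_card_le_of_lt (hR.to_subgroup (centerOf H ⊓ center R))
        (bot_lt_iff_ne_bot.mpr h1)
      rwa [Subgroup.card_bot, mul_one] at h3
    rw [← h2]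
    exact inf_le_right
  -- choose `v`
  set M : Subgroup R := centerOf H ⊔ zpowers u with hM
  have hMH : M ≤ H := sup_zpowers_le H hu
  have hMc : Nat.card M = p ^ 2 := card_sup_zpowers hR hr H hexp hu huc
  have hMe : Cfsg.IsElementaryAbelian p M := elemAb_sup_zpowers hR H hexp hu
  obtain ⟨v, hv, hvM⟩ : ∃ v ∈ H, v ∉ M := by
    by_contra hcon
    push Not at hcon
    have h1 := Subgroup.card_le_of_le (show H ≤ M from hcon)
    rw [hi, hMc] at h1
    have := (Nat.pow_le_pow_iff_right hp1).mp h1
    omega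
  have hMv : M ⊔ zpowers v = H := by
    refine Subgroup.eq_of_le_of_card_ge (sup_le hMH (by rwa [zpowers_le])) ?_
    have h1 : M < M ⊔ zpowers v := by
      refine lt_of_le_of_ne le_sup_left ?_
      intro h
      apply hvM
      rw [h]
      exact (le_sup_right : zpowers v ≤ M ⊔ zpowers v) (mem_zpowers v)
    have h2 := mul_card_le_of_lt (hR.to_subgroup (M ⊔ zpowers v)) h1
    rw [hMc] at h2
    rw [hi]
    calc p ^ 3 = p * p ^ 2 := by ring
      _ ≤ _ := h2
  set C : Subgroup R := centralizer (H : Set R) with hC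
  have hCR : Nat.card R ≤ Nat.card C * p ^ 2 := by
    have h1 := card_le_mul_of_commutator_mem (⊤ : Subgroup R) (centerOf H) u
      (fun y _ => hHcom' u hu y)
    have h2 := card_le_mul_of_commutator_mem ((⊤ : Subgroup R) ⊓ centralizer ({u} : Set R))
      (centerOf H) v (fun y _ => hHcom' v hv y)
    rw [hZc] at h1 h2
    have h3 : (⊤ : Subgroup R) ⊓ centralizer ({u} : Set R) ⊓ centralizer ({v} : Set R) ≤ C := by
      intro y hy
      rw [mem_inf, mem_inf, mem_centralizer_singleton_iff, mem_centralizer_singleton_iff] at hy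
      have h4 : H ≤ centralizer ({y} : Set R) := by
        rw [← hMv, hM]
        refine sup_le (sup_le ?_ ?_) ?_
        · intro z hz
          rw [mem_centralizer_singleton_iff]
          exact (mem_center_iff.mp (hZcen hz) y).symm
        · rw [zpowers_le, mem_centralizer_singleton_iff]
          exact hy.1.2.symm
        · rw [zpowers_le, mem_centralizer_singleton_iff]
          exact hy.2.symm
      rw [hC, mem_centralizer_iff]
      intro h hh
      have := h4 hh
      rwa [mem_centralizer_singleton_iff] at this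
    have h4 := Subgroup.card_le_of_le h3
    rw [Subgroup.card_top] at h1
    calc Nat.card R ≤ _ := h1
      _ ≤ _ := Nat.mul_le_mul_right p h2
      _ ≤ Nat.card C * p * p := Nat.mul_le_mul_right p (Nat.mul_le_mul_right p h4)
      _ = Nat.card C * p ^ 2 := by ring
  have hHC : H ⊔ C = ⊤ := by
    have h1 : H.relIndex (H ⊔ C) = H.relIndex C := Subgroup.relIndex_sup_left C H
    have h2 : Nat.card H * H.relIndex (H ⊔ C) = Nat.card (H ⊔ C : Subgroup R) :=
      card_mul_relIndex_of_le le_sup_left
    have h3 : Nat.card (H ⊓ C : Subgroup R) * (H ⊓ C).relIndex C = Nat.card C :=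
      card_mul_relIndex_of_le inf_le_right
    rw [Subgroup.inf_relIndex_right] at h3
    have h4 : Nat.card (H ⊓ C : Subgroup R) = p := hZc
    rw [h4] at h3
    rw [h1, hi] at h2
    apply Subgroup.eq_top_of_le_card
    rw [← h2]
    calc Nat.card R ≤ Nat.card C * p ^ 2 := hCR
      _ = p * H.relIndex C * p ^ 2 := by rw [h3]
      _ = p ^ 3 * H.relIndex C := by ring
  have hCinv : ∀ x ∈ C, a x ∈ C := char_invariant (centralizer_characteristic hH) a
  have hCfix : ∀ x ∈ C, a x = x := by
    refine fixes_of_fixes_omega hp hR hne ha C hCinv ?_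
    intro x hx hxp
    have h1 : x ∈ M := by
      refine mem_of_commute hr M hMe hMc hxp (fun m hm => ?_)
      exact mem_centralizer_iff.mp hx m (hMH hm)
    exact hZf (show x ∈ centerOf H from ⟨hMH h1, hx⟩)
  intro x
  have hx : x ∈ H ⊔ C := by rw [hHC]; exact mem_top x
  obtain ⟨h, hh, c, hc, rfl⟩ := Subgroup.mem_sup_of_normal_left.1 hx
  rw [map_mul, hCfix c hc]
  have h1 : (h * c)⁻¹ * (a h * c) = c⁻¹ * (h⁻¹ * a h) * c⁻¹⁻¹ := by group
  rw [h1]
  exact hHn.conj_mem _ (H.mul_mem (H.inv_mem hh) (char_invariant hH a h hh)) _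

/-- **B&G Theorem 5.5(c).** -/
theorem main (hane : a ≠ 1) : q ∣ p + 1 ∧
    (Subgroup.closure {z : R | ∃ x : R, z = x⁻¹ * a x} = ⊤ → (¬ ∀ x y : R, x * y = y * x) →
      Nat.card R = p ^ 3) := by
  have hne : q ≠ p := by
    rintro rfl
    exact hq (dvd_mul_right _ _)
  obtain ⟨H, hH, hexp, hcl, hfaith⟩ :=
    Cfsg.Agent.OddOrderLocal.OmegaCritical.exists_omega_critical hp hR
  have hcop : (orderOf a).Coprime p := by
    refine Nat.Coprime.coprime_dvd_left (orderOf_dvd_of_pow_eq_one ha) ?_
    exact (Nat.coprime_primes hqf.out hpf.out).mpr hne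
  have hnf : ¬ H ≤ fixedBy a := fun h => hane (hfaith a hcop h)
  by_cases hab : ∀ x ∈ H, ∀ y ∈ H, x * y = y * x
  · obtain ⟨h1, h2⟩ := abelian_case hp hR hr hq ha H hH hexp hab hnf
    exact ⟨h1, fun _ h3 => absurd h2 h3⟩
  · obtain ⟨u, hu, huc⟩ : ∃ u ∈ H, u ∉ centerOf H := by
      by_contra hcon
      push Not at hcon
      apply hab
      intro x hx y hy
      exact (mem_centerOf.mp (hcon y hy)).2 x hx
    obtain ⟨h1, h2, h3⟩ := nonabelian_case hp hR hr hq ha H hH hexp hcl hnf hu huc
    refine ⟨h1, fun h4 _ => ?_⟩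
    have h5 : Subgroup.closure {z : R | ∃ x : R, z = x⁻¹ * a x} ≤ H := by
      rw [closure_le]
      rintro z ⟨x, rfl⟩
      exact h3 x
    rw [h4, top_le_iff] at h5
    rw [h5, Subgroup.card_top] at h2
    exact h2

end Main

end Cfsg.Agent.OddOrderLocal.RankTwoPrimeAut
end
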