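import Mathlib
import Cfsg.Prelude.Def_OddOrderLocal
import Cfsg.Agent.OddOrderLocal.SigmaCompl809
import Cfsg.Agent.S1416
import Cfsg.Agent.OddOrderLocal.SigmaBasic
import Cfsg.Agent.OddOrderLocal.Rank
import Cfsg.Agent.OddOrderLocal.MinSimpleBasic
import Cfsg.Agent.Lib.Cores
import Cfsg.Agent.S0126
import Cfsg.Agent.S1350
import Cfsg.Agent.S1404
import Cfsg.Agent.S1405
import Cfsg.Agent.S1417
import Cfsg.Agent.S1418
import Cfsg.Agent.S1419
set_option linter.all false

/-!
B & G, Corollary 12.10 (a) and second part of (b): in a minimal simple group of odd order, for a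
maximal subgroup `M`, nilpotent `σ(M)'`-subgroups and `τ₂(M)`-subgroups of `M` are abelian.
-/

set_option autoImplicit false
set_option linter.style.haveILetI false

namespace Cfsg.Agent.OddOrderLocal.Tau2Abelian

open Cfsg
open Cfsg.Agent.OddOrderLocal

variable {G : Type*} [Group G] [Finite G]

/-- `α(M) ⊆ σ(M)`. -/
theorem mem_sigma_of_mem_alpha (hG : IsMinSimpleOddOrder G) {M : Subgroup G} (hM : IsCoatom M)
    {p : ℕ} (hp : p ∈ alpha M) : p ∈ sigma M := by
  have hpp : p.Prime := hp.1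
  haveI : Fact p.Prime := ⟨hpp⟩
  obtain ⟨h1, -, h3, -, -⟩ := Cfsg.Agent.S1405.result hG M hM
  have hd : p ∣ Nat.card M := Rank.dvd_card_of_not_pRankLE hp.2
  have h5 : p ∣ Nat.card (alphaCore M) := by
    have h6 := Subgroup.relIndex_mul_relIndex ⊥ (alphaCore M) M bot_le h1.1
    rw [Subgroup.relIndex_bot_left, Subgroup.relIndex_bot_left] at h6
    rw [← h6] at hd
    rcases hpp.dvd_mul.mp hd with h | h
    · exact h
    · exact absurd h (h1.2.2 p hpp hp)
  exact SigmaElements.mem_sigma_of_dvd_card_sigmaCore hpp (h5.trans (Subgroup.card_dvd_of_le h3))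

/-- For `p ∉ σ(M)` the `p`-rank of `M` is at most 2. -/
theorem pRankLE_two (hG : IsMinSimpleOddOrder G) {M : Subgroup G} (hM : IsCoatom M)
    {p : ℕ} (hpp : p.Prime) (hp : p ∉ sigma M) : PRankLE p 2 M := by
  by_contra h
  exact hp (mem_sigma_of_mem_alpha hG hM ⟨hpp, h⟩)

/-- A noncyclic `p`-subgroup of a minimal simple group of odd order contains an elementary abelian
subgroup of order `p ^ 2`. -/
theorem exists_elemAb_of_not_isCyclic (hG : IsMinSimpleOddOrder G) {p : ℕ} [Fact p.Prime]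
    {P : Subgroup G} (hP : IsPGroup p P) (hc : ¬ IsCyclic P) :
    ∃ A : Subgroup G, A ≤ P ∧ IsElementaryAbelian p A ∧ Nat.card A = p ^ 2 := by
  have hne : P ≠ ⊥ := by
    rintro rfl
    exact hc inferInstance
  have hp2 : p ≠ 2 := MinSimpleBasic.prime_ne_two_of_isPGroup hG hP hne
  obtain ⟨A, -, hA, hAc⟩ := Cfsg.Agent.S0126.result hp2 hP hc
  exact ⟨A.map P.subtype, Subgroup.map_subtype_le A, Rank.elemAb_map _ hA, by
    rw [Subgroup.card_subtype, hAc]⟩

/-- For `p ∉ σ(M)` the `p`-subgroups of `M` are abelian. -/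
theorem isMulCommutative_of_isPGroup (hG : IsMinSimpleOddOrder G) {M : Subgroup G}
    (hM : IsCoatom M) {p : ℕ} [hpp : Fact p.Prime] (hp : p ∉ sigma M) {P : Subgroup G}
    (hPM : P ≤ M) (hP : IsPGroup p P) : IsMulCommutative P := by
  by_cases hc : IsCyclic P
  · infer_instance
  obtain ⟨A, hAP, hA, hAc⟩ := exists_elemAb_of_not_isCyclic hG hP hc
  have hpt : p ∈ tau2 M := by
    refine ⟨hpp.out, hp, pRankLE_two hG hM hpp.out hp, ?_⟩
    refine Rank.not_pRankLE_of_elemAb (hAP.trans hPM) hA ?_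
    rw [hAc]
    exact Nat.pow_lt_pow_right hpp.out.one_lt (by norm_num)
  obtain ⟨Q, hQ⟩ := SigmaCoreBasic808.exists_sylow_ge hP hPM
  have h1 := ((Cfsg.Agent.S1417.result hG M hM p hpt A ⟨hAP.trans hPM, hA, hAc⟩).2.1 Q).1
  refine ⟨⟨?_⟩⟩
  rintro ⟨a, ha⟩ ⟨b, hb⟩
  obtain ⟨a', ha', rfl⟩ := hQ ha
  obtain ⟨b', hb', rfl⟩ := hQ hb
  have h2 := congrArg Subtype.val (h1.is_comm.comm (⟨a', ha'⟩ : (Q : Subgroup M)) ⟨b', hb'⟩)
  have h3 : (a' : G) * b' = b' * a' := congrArg Subtype.val h2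
  apply Subtype.ext
  exact h3

/-- B & G, Corollary 12.10 (a): nilpotent `σ(M)'`-subgroups of `M` are abelian. -/
theorem isMulCommutative_of_isNilpotent (hG : IsMinSimpleOddOrder G) {M : Subgroup G}
    (hM : IsCoatom M) {N : Subgroup G} (hNM : N ≤ M) (hN : Group.IsNilpotent N)
    (hπ : ∀ p : ℕ, p.Prime → p ∣ Nat.card N → p ∉ sigma M) : IsMulCommutative N := by
  haveI := hN
  refine SigmaCompl809.isMulCommutative_of_nilpotent (H := N) ?_
  intro p hpF P hd
  have hp := hπ p hpF.out hd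
  have h1 := isMulCommutative_of_isPGroup hG hM hp (P := (P : Subgroup N).map N.subtype)
    ((Subgroup.map_subtype_le _).trans hNM) (P.isPGroup'.map _)
  refine ⟨⟨?_⟩⟩
  rintro ⟨a, ha⟩ ⟨b, hb⟩
  have h2 := congrArg Subtype.val (h1.is_comm.comm
    (⟨(a : G), ⟨a, ha, rfl⟩⟩ : (P : Subgroup N).map N.subtype) ⟨(b : G), ⟨b, hb, rfl⟩⟩)
  apply Subtype.ext
  apply Subtype.ext
  exact h2

/-- `M_σ ≤ M'`. -/
theorem sigmaCore_le_derived (hG : IsMinSimpleOddOrder G) {M : Subgroup G} (hM : IsCoatom M) :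
    piCore (sigma M) M ≤ commutator M := by
  have h1 := Cfsg.Agent.S1350.result hG M hM
  have hcon : ∀ p : ℕ, p ∈ sigma M → SigmaBasic.ControlsPFusion p M := by
    intro p hp X hX hX1 hXM g hg
    haveI : Fact p.Prime := ⟨hp.1⟩
    exact (Cfsg.Agent.S1404.result hG M hM p hp X hX hX1 hXM).1 g hg
  -- the subgroup `commutator M ⊓ piCore` of `piCore` contains Sylow subgroups for all primes
  have h2 : (commutator M).subgroupOf (piCore (sigma M) M) = ⊤ := by
    refine Cfsg.Agent.Lib.Cores.eq_top_of_sylow_le fun p hpF => ?_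
    obtain ⟨P⟩ := (inferInstance : Nonempty (Sylow p (piCore (sigma M) M)))
    refine ⟨P, ?_⟩
    by_cases hd : p ∣ Nat.card (piCore (sigma M) M)
    · have hps : p ∈ sigma M := PiCore.piCore_isPi _ p hpF.out hd
      obtain ⟨Q, hQ⟩ := (P.isPGroup'.map (piCore (sigma M) M).subtype).exists_le_sylow
      have h3 := SigmaBasic.sylow_le_commutator (MinSimpleBasic.commutator_eq_top hG) hps
        (hcon p hps) Q
      intro x hx
      rw [Subgroup.mem_subgroupOf]
      exact h3 (hQ ⟨x, hx, rfl⟩)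
    · have : (P : Subgroup (piCore (sigma M) M)) = ⊥ := by
        rw [← Subgroup.card_eq_one, P.card_eq_multiplicity,
          Nat.factorization_eq_zero_of_not_dvd hd, pow_zero]
      rw [this]
      exact bot_le
  rwa [Subgroup.subgroupOf_eq_top] at h2

/-- For `p ∈ τ₂(M)`, a complement `E` of `M_σ` in `M` contains an elementary abelian subgroup of order
`p ^ 2`. -/
theorem exists_elemAb_le (hG : IsMinSimpleOddOrder G) {M : Subgroup G} (hM : IsCoatom M)
    {E : Subgroup G} (hE : IsComplIn E (sigmaCore M) M) {p : ℕ} [hpF : Fact p.Prime]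
    (hp : p ∈ tau2 M) : ∃ A : Subgroup G, A ≤ E ∧ IsElementaryAbelian p A ∧ Nat.card A = p ^ 2 := by
  obtain ⟨A, hAM, hA, hAc⟩ := Rank.exists_elemAb_of_not_pRankLE hp.2.2.2
  obtain ⟨g, hg, hgA⟩ := SigmaCompl809.exists_conj_le
    (MinSimpleBasic.isSolvable_of_isCoatom hG hM) hE (Cfsg.Agent.S1350.result hG M hM).1 A hAM
    (by
      intro q hq hd hqs
      rw [hAc] at hd
      have : q = p := (Nat.prime_dvd_prime_iff_eq hq hpF.out).mp (hq.dvd_of_dvd_pow hd)
      rw [this] at hqs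
      exact hp.2.1 hqs)
  exact ⟨_, hgA, Rank.elemAb_map _ hA, by rw [MinSimpleBasic.card_map_conj, hAc]⟩

/-- If `p ∈ τ₂(M)` and some Sylow `p`-subgroup of `G` is abelian, then `p`-rank of `G` is at most 2. -/
theorem pRankLE_two_of_comm (hG : IsMinSimpleOddOrder G) {M : Subgroup G} (hM : IsCoatom M)
    {E : Subgroup G} (hE : IsComplIn E (sigmaCore M) M) {p : ℕ} [hpF : Fact p.Prime]
    (hp : p ∈ tau2 M) (hS : ∃ S : Sylow p G, IsMulCommutative (S : Subgroup G))
    {A : Subgroup G} (hAE : A ≤ E) (hA : IsElementaryAbelian p A) (hAc : Nat.card A = p ^ 2) :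
    PRankLE p 2 G ∧ ∃ S : Sylow p G, A ≤ (S : Subgroup G) ∧ (S : Subgroup G) ≤ E ∧
      (S : Subgroup G) ≤ Subgroup.centralizer (A : Set G) := by
  obtain ⟨S, hAS⟩ := (Rank.elemAb_isPGroup hA).exists_le_sylow
  have hSc : IsMulCommutative (S : Subgroup G) := by
    obtain ⟨T, hT⟩ := hS
    obtain ⟨g, hg⟩ := MulAction.exists_smul_eq G T S
    rw [← hg]
    refine ⟨⟨?_⟩⟩
    rintro ⟨_, a, ha, rfl⟩ ⟨_, b, hb, rfl⟩
    have h2 := congrArg Subtype.val (hT.is_comm.comm (⟨a, ha⟩ : (T : Subgroup G)) ⟨b, hb⟩)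
    apply Subtype.ext
    have h3 : a * b = b * a := h2
    change (MulAut.conj g) a * (MulAut.conj g) b = (MulAut.conj g) b * (MulAut.conj g) a
    rw [← map_mul, h3, map_mul]
  have hSA : (S : Subgroup G) ≤ Subgroup.centralizer (A : Set G) := by
    intro s hs
    rw [Subgroup.mem_centralizer_iff]
    intro a ha
    exact congrArg Subtype.val
      (hSc.is_comm.comm (⟨a, hAS ha⟩ : (S : Subgroup G)) ⟨s, hs⟩)
  obtain ⟨-, ⟨h1, h2, -⟩, -⟩ := Cfsg.Agent.S1418.result hG M hM E hE p hp A ⟨hAE, hA, hAc⟩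
  have hSE : (S : Subgroup G) ≤ E := by
    rw [← h2]
    exact hSA.trans h1
  refine ⟨?_, S, hAS, hSE, hSA⟩
  rw [← Rank.pRankLE_sylow S]
  exact Rank.pRankLE_mono (hSE.trans hE.1) hp.2.2.1

/-- B & G, Corollary 12.10 (b), second part: `τ₂(M)`-subgroups of a complement of `M_σ` are abelian. -/
theorem isMulCommutative_of_tau2 (hG : IsMinSimpleOddOrder G) {M : Subgroup G}
    (hM : IsCoatom M) {E : Subgroup G} (hE : IsComplIn E (sigmaCore M) M) {K : Subgroup G}
    (hKE : K ≤ E) (hK : ∀ p : ℕ, p.Prime → p ∣ Nat.card K → p ∈ tau2 M) : IsMulCommutative K := by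
  have hKM : K ≤ M := hKE.trans hE.1
  by_cases hK1 : K = ⊥
  · subst hK1
    infer_instance
  by_cases hnab : ∃ p : ℕ, ∃ _ : Fact p.Prime, p ∈ tau2 M ∧
      ∀ S : Sylow p G, ¬ IsMulCommutative (S : Subgroup G)
  · obtain ⟨p, hpF, hp, hS⟩ := hnab
    obtain ⟨A, hAE, hA, hAc⟩ := exists_elemAb_le hG hM hE hp
    obtain ⟨h1, -, -⟩ := Cfsg.Agent.S1419.result hG M hM E hE p hp hS A ⟨hAE, hA, hAc⟩
    refine isMulCommutative_of_isPGroup hG hM hp.2.1 hKM ?_
    rw [IsPGroup.iff_card]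
    refine ⟨(Nat.card K).primeFactorsList.length, ?_⟩
    refine Nat.eq_prime_pow_of_unique_prime_dvd Nat.card_pos.ne' ?_
    intro q hq hqd
    have h2 := hK q hq hqd
    rw [h1, Set.mem_singleton_iff] at h2
    exact h2
  -- all Sylow subgroups for primes of `τ₂(M)` are abelian
  have hab : ∀ p : ℕ, ∀ _ : Fact p.Prime, p ∈ tau2 M →
      ∃ S : Sylow p G, IsMulCommutative (S : Subgroup G) := by
    intro p hpF hp
    by_contra h
    push Not at h
    exact hnab ⟨p, hpF, hp, h⟩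
  -- choose a prime `p` dividing `|K|`
  obtain ⟨p, hpp, hpd⟩ : ∃ p : ℕ, p.Prime ∧ p ∣ Nat.card K := by
    apply Nat.exists_prime_and_dvd
    rwa [Ne, Subgroup.card_eq_one]
  haveI : Fact p.Prime := ⟨hpp⟩
  have hp : p ∈ tau2 M := hK p hpp hpd
  obtain ⟨A, hAE, hA, hAc⟩ := exists_elemAb_le hG hM hE hp
  obtain ⟨⟨hAn, hAall⟩, ⟨hCA, hNA, hNA'⟩, -⟩ :=
    Cfsg.Agent.S1418.result hG M hM E hE p hp A ⟨hAE, hA, hAc⟩
  have hA1 : A ≠ ⊥ := by
    intro h
    rw [h, Subgroup.card_bot] at hAc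
    exact absurd hAc (Nat.one_lt_pow (by norm_num) hpp.one_lt).ne
  obtain ⟨M', hM', hNM'⟩ := MinSimpleBasic.exists_coatom_normalizer_le hG hA1
    (MinSimpleBasic.ne_top_of_isPGroup hG (Rank.elemAb_isPGroup hA))
  have hne : M' ≠ M := by
    rintro rfl
    exact hNA' hNM'
  have hEM' : E ≤ M' := hAn.trans hNM'
  have hAM' : A ≤ M' := hAE.trans hEM'
  have hHall' := (Cfsg.Agent.S1350.result hG M' hM').1
  -- `α(M')` contains no prime of `τ₂(M)`
  have halpha : ∀ q : ℕ, q ∈ tau2 M → q ∉ alpha M' := by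
    intro q hq hqa
    haveI : Fact q.Prime := ⟨hq.1⟩
    obtain ⟨B, hBE, hB, hBc⟩ := exists_elemAb_le hG hM hE hq
    have h1 := (pRankLE_two_of_comm hG hM hE hq (hab q inferInstance hq) hBE hB hBc).1
    exact hqa.2 (Rank.pRankLE_subgroup h1)
  -- `p ∈ σ(M')`
  have hps : p ∈ sigma M' := by
    obtain ⟨-, S, hAS, hSE, hSA⟩ := pRankLE_two_of_comm hG hM hE hp (hab p inferInstance hp)
      hAE hA hAc
    have hS1 : (S : Subgroup G) ≠ ⊥ := by
      intro h
      rw [h, le_bot_iff] at hAS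
      exact hA1 hAS
    apply MinSimpleBasic.mem_sigma_of_normalizer_le S hS1
    refine le_trans ?_ hNM'
    -- `N_G(S) ≤ N_G(A)` because `A` is the set of elements of order dividing `p` of `S`
    rw [Subgroup.le_normalizer_iff]
    intro n hn a ha
    by_cases ha1 : a = 1
    · subst ha1
      simp [A.one_mem]
    have h1 : n * a * n⁻¹ ∈ (S : Subgroup G) :=
      (Subgroup.mem_normalizer_iff.mp hn a).mp (hAS ha)
    have h2 : orderOf (n * a * n⁻¹) = p := by
      apply orderOf_eq_prime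
      · rw [conj_pow, hA.2 a ha]
        simp
      · intro h
        apply ha1
        have : a = n⁻¹ * (n * a * n⁻¹) * n := by group
        rw [this, h]
        simp
    have h3 := hAall (Subgroup.zpowers (n * a * n⁻¹))
      (Subgroup.zpowers_le.mpr (hSE h1)) (by rw [Nat.card_zpowers, h2])
    exact h3 (Subgroup.mem_zpowers _)
  have hAσ : A ≤ sigmaCore M' := by
    refine SigmaElements.le_sigmaCore_of_card hHall' hAM' ?_
    intro q hq hd
    rw [hAc] at hd
    have : q = p := (Nat.prime_dvd_prime_iff_eq hq hpp).mp (hq.dvd_of_dvd_pow hd)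
    rwa [this]
  -- all primes of `τ₂(M)` are in `σ(M')`
  have hsig : ∀ q : ℕ, q ∈ tau2 M → q ∈ sigma M' := by
    intro q hq
    haveI : Fact q.Prime := ⟨hq.1⟩
    by_contra hqs
    obtain ⟨B, hBE, hB, hBc⟩ := exists_elemAb_le hG hM hE hq
    have hBM' : B ≤ M' := hBE.trans hEM'
    have hq' : q ∈ tau2 M' := by
      refine ⟨hq.1, hqs, ?_, ?_⟩
      · by_contra h
        exact halpha q hq ⟨hq.1, h⟩
      · refine Rank.not_pRankLE_of_elemAb hBM' hB ?_
        rw [hBc]
        exact Nat.pow_lt_pow_right hq.1.one_lt (by norm_num)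
    have h1 := (Cfsg.Agent.S1417.result hG M' hM' q hq' B ⟨hBM', hB, hBc⟩).2.2.2.2.1 M hM
      (Ne.symm hne) (hBE.trans hE.1)
    apply hA1
    rw [eq_bot_iff, ← h1]
    exact le_inf hAσ (hAE.trans hE.1)
  -- so `K ≤ M'_σ ≤ M''`
  have hKM' : K ≤ M' := hKE.trans hEM'
  have hKσ : K ≤ sigmaCore M' := SigmaElements.le_sigmaCore_of_card hHall' hKM'
    fun q hq hd => hsig q (hK q hq hd)
  refine isMulCommutative_of_isNilpotent hG hM hKM ?_ fun q hq hd => (hK q hq hd).2.1
  obtain ⟨-, -, -, -, hnil⟩ := Cfsg.Agent.S1405.result hG M' hM'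
  haveI := hnil
  -- `K` embeds in `M'' M'_α / M'_α`
  have hmem : ∀ k : K, (⟨(k : G), hKM' k.2⟩ : M') ∈ commutator M' := by
    intro k
    apply sigmaCore_le_derived hG hM'
    obtain ⟨y, hy, hyk⟩ := hKσ k.2
    have : y = (⟨(k : G), hKM' k.2⟩ : M') := Subtype.ext hyk
    rwa [← this]
  let f : K →* ↥((commutator M').map (QuotientGroup.mk' (piCore (alpha M') M'))) :=
    { toFun := fun k => ⟨QuotientGroup.mk' (piCore (alpha M') M') ⟨(k : G), hKM' k.2⟩,
        ⟨_, hmem k, rfl⟩⟩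
      map_one' := by
        apply Subtype.ext
        exact map_one (QuotientGroup.mk' (piCore (alpha M') M'))
      map_mul' := by
        intro a b
        apply Subtype.ext
        exact map_mul (QuotientGroup.mk' (piCore (alpha M') M')) (⟨(a : G), hKM' a.2⟩ : M')
          ⟨(b : G), hKM' b.2⟩ }
  have hf : Function.Injective f := by
    rw [injective_iff_map_eq_one]
    intro k hk
    have h1 : QuotientGroup.mk' (piCore (alpha M') M') (⟨(k : G), hKM' k.2⟩ : M') = 1 :=
      congrArg Subtype.val hk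
    rw [QuotientGroup.mk'_apply, QuotientGroup.eq_one_iff] at h1
    by_contra hk1
    have hk2 : orderOf (⟨(k : G), hKM' k.2⟩ : M') ≠ 1 := by
      rw [Ne, orderOf_eq_one_iff]
      intro h
      apply hk1
      have h' : (k : G) = 1 := congrArg Subtype.val h
      exact Subtype.ext h'
    obtain ⟨q, hq, hqd⟩ := Nat.exists_prime_and_dvd hk2
    have h3 : q ∈ alpha M' := by
      refine PiCore.piCore_isPi (G := M') (alpha M') q hq ?_
      refine hqd.trans ?_
      have := orderOf_dvd_natCard (⟨_, h1⟩ : piCore (alpha M') M')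
      rwa [Subgroup.orderOf_mk] at this
    have h4 : q ∣ Nat.card K := by
      refine hqd.trans ?_
      have h5 := orderOf_dvd_natCard k
      rwa [← Subgroup.orderOf_coe, ← Subgroup.orderOf_mk (H := M') (k : G) (hKM' k.2)] at h5
    exact halpha q (hK q hq h4) h3
  exact Subgroup.isNilpotent_of_ker_le_center f
    (by rw [(MonoidHom.ker_eq_bot_iff f).mpr hf]; exact bot_le)

end Cfsg.Agent.OddOrderLocal.Tau2Abelian
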