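import Mathlib
import Cfsg.Prelude.Def_OddOrderLocal
import Cfsg.Agent.Lib.Cores
import Cfsg.Agent.OddOrderLocal.FitAux
set_option linter.all false

/-!
Complements inside a subgroup (`Cfsg.IsComplIn`), Schur-Zassenhaus in ambient form, centralizer of a
normal Hall subgroup and the Fitting subgroup, commutator subgroups of products, coprime tricks.
-/

set_option autoImplicit false
open Cfsg

namespace Cfsg.Agent.OddOrderLocal.ComplAux

open Subgroup
open scoped commutatorElement Pointwise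
open Cfsg.Agent.OddOrderLocal.FitAux

variable {G : Type*} [Group G]

/-- `IsComplIn` gives `IsComplement'` inside `M`. -/
theorem isComplement'_of_isComplIn {A B M : Subgroup G} (h : IsComplIn A B M) :
    Subgroup.IsComplement' (A.subgroupOf M) (B.subgroupOf M) := by
  obtain ⟨hA, hB, hAB, hf⟩ := h
  apply Subgroup.isComplement'_of_disjoint_and_mul_eq_univ
  · rw [disjoint_iff, ← Subgroup.inf_subgroupOf_right, eq_bot_iff]
    intro x hx
    rw [Subgroup.mem_bot]
    have h1 : (x : G) ∈ A ⊓ B := by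
      have := Subgroup.mem_inf.mp (show x ∈ A.subgroupOf M ⊓ B.subgroupOf M by
        simpa [Subgroup.inf_subgroupOf_right] using hx)
      exact ⟨Subgroup.mem_subgroupOf.mp this.1, Subgroup.mem_subgroupOf.mp this.2⟩
    rw [hAB, Subgroup.mem_bot] at h1
    exact Subtype.ext h1
  · apply Set.eq_univ_of_forall
    intro m
    obtain ⟨a, ha, b, hb, hab⟩ := hf m m.2
    exact ⟨⟨a, hA ha⟩, ha, ⟨b, hB hb⟩, hb, Subtype.ext hab.symm⟩

theorem card_mul_card_of_isComplIn {A B M : Subgroup G} (h : IsComplIn A B M) :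
    Nat.card A * Nat.card B = Nat.card M := by
  have h1 := (isComplement'_of_isComplIn h).card_mul_card
  rwa [Nat.card_congr (Subgroup.subgroupOfEquivOfLe h.1).toEquiv,
    Nat.card_congr (Subgroup.subgroupOfEquivOfLe h.2.1).toEquiv] at h1

theorem relIndex_left_of_isComplIn [Finite G] {A B M : Subgroup G} (h : IsComplIn A B M) :
    A.relIndex M = Nat.card B := by
  have h1 := card_mul_card_of_isComplIn h
  have h2 := card_mul_relIndex h.1
  rw [← h1] at h2
  exact Nat.eq_of_mul_eq_mul_left Nat.card_pos h2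

theorem relIndex_right_of_isComplIn [Finite G] {A B M : Subgroup G} (h : IsComplIn A B M) :
    B.relIndex M = Nat.card A := by
  have h1 := card_mul_card_of_isComplIn h
  have h2 := card_mul_relIndex h.2.1
  rw [← h1, mul_comm] at h2
  exact Nat.eq_of_mul_eq_mul_right Nat.card_pos h2

theorem isComplIn_symm {A B M : Subgroup G} (h : IsComplIn A B M) : IsComplIn B A M := by
  obtain ⟨hA, hB, hAB, hf⟩ := h
  refine ⟨hB, hA, by rwa [inf_comm], fun m hm => ?_⟩
  obtain ⟨a, ha, b, hb, hab⟩ := hf m⁻¹ (inv_mem hm)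
  refine ⟨b⁻¹, inv_mem hb, a⁻¹, inv_mem ha, ?_⟩
  rw [← mul_inv_rev, ← hab, inv_inv]

/-- Schur-Zassenhaus inside a subgroup `M`. -/
theorem exists_isComplIn [Finite G] {N M : Subgroup G} (hNM : N ≤ M)
    (hn : M ≤ Subgroup.normalizer (N : Set G)) (hc : (Nat.card N).Coprime (N.relIndex M)) :
    ∃ L : Subgroup G, IsComplIn N L M := by
  have := subgroupOf_normal hn
  have hc' : (Nat.card (N.subgroupOf M)).Coprime (N.subgroupOf M).index := by
    rw [Nat.card_congr (Subgroup.subgroupOfEquivOfLe hNM).toEquiv]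
    exact hc
  obtain ⟨L, hL⟩ := Subgroup.exists_right_complement'_of_coprime hc'
  refine ⟨L.map M.subtype, hNM, Subgroup.map_subtype_le _, ?_, ?_⟩
  · rw [eq_bot_iff]
    rintro x ⟨hx1, y, hy, rfl⟩
    have h1 : y ∈ N.subgroupOf M ⊓ L := ⟨hx1, hy⟩
    rw [hL.disjoint.eq_bot, Subgroup.mem_bot] at h1
    simp [h1]
  · intro m hm
    have h1 : (⟨m, hm⟩ : M) ∈ ((N.subgroupOf M : Set M) * (L : Set M)) := by
      rw [hL.mul_eq]; trivial
    obtain ⟨a, ha, b, hb, hab⟩ := h1
    exact ⟨a, ha, b, ⟨b, hb, rfl⟩, (congrArg Subtype.val hab).symm⟩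

/-- conjugate of a complement of a normal subgroup. -/
theorem isComplIn_conj {N L M : Subgroup G} (hn : M ≤ Subgroup.normalizer (N : Set G))
    (h : IsComplIn N L M) {m : G} (hm : m ∈ M) :
    IsComplIn N (L.map (MulAut.conj m).toMonoidHom) M := by
  obtain ⟨hN, hL, hNL, hf⟩ := h
  have hN' : ∀ x, x ∈ N ↔ m⁻¹ * x * m ∈ N := by
    intro x
    have := Subgroup.mem_normalizer_iff.mp (hn (inv_mem hm)) x
    simpa using this
  refine ⟨hN, ?_, ?_, ?_⟩
  · rintro _ ⟨y, hy, rfl⟩
    exact mul_mem (mul_mem hm (hL hy)) (inv_mem hm)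
  · rw [eq_bot_iff]
    rintro x ⟨hx1, y, hy, rfl⟩
    have h1 : y ∈ N ⊓ L := by
      refine ⟨?_, hy⟩
      have h2 := (hN' _).mp hx1
      simpa [mul_assoc] using h2
    rw [hNL, Subgroup.mem_bot] at h1
    simp [h1]
  · intro x hx
    obtain ⟨a, ha, b, hb, hab⟩ := hf (m⁻¹ * x * m) (mul_mem (mul_mem (inv_mem hm) hx) hm)
    refine ⟨m * a * m⁻¹, ?_, m * b * m⁻¹, ⟨b, hb, rfl⟩, ?_⟩
    · rw [hN']; simpa [mul_assoc] using ha
    · have : x = m * (a * b) * m⁻¹ := by rw [← hab]; group
      rw [this]; group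

/-- A normal `p`-subgroup lies in every normal subgroup of index prime to `p`. -/
theorem le_of_isPGroup_of_not_dvd [Finite G] {p : ℕ} [hp : Fact p.Prime] {P H : Subgroup G}
    (hP : IsPGroup p P) [H.Normal] (h : ¬ p ∣ H.index) : P ≤ H := by
  rw [← Subgroup.relIndex_eq_one]
  obtain ⟨n, hn⟩ := IsPGroup.iff_card.mp hP
  have h1 : H.relIndex P ∣ p ^ n := hn ▸ Subgroup.relIndex_dvd_card H P
  have h2 : H.relIndex P ∣ H.index := Subgroup.relIndex_dvd_index_of_normal H P
  obtain ⟨k, -, hk⟩ := (Nat.dvd_prime_pow hp.out).mp h1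
  rcases Nat.eq_zero_or_pos k with h0 | h0
  · rw [hk, h0, pow_zero]
  · exfalso
    apply h
    refine (dvd_pow_self p h0.ne').trans ?_
    rw [← hk]; exact h2

/-- the Fitting subgroup is in `C(H) H` for a normal Hall subgroup `H`. -/
theorem fittingSubgroup_le [Finite G] {H : Subgroup G} [H.Normal]
    (hc : (Nat.card H).Coprime H.index) :
    fittingSubgroup G ≤ Subgroup.centralizer (H : Set G) ⊔ H := by
  have hFn : (fittingSubgroup G).Normal := Cfsg.Agent.Lib.Cores.fittingSubgroup_normal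
  have := Cfsg.Agent.Lib.Cores.fittingSubgroup_isNilpotent (G := G)
  rw [← Subgroup.subgroupOf_eq_top]
  refine Cfsg.Agent.Lib.Cores.eq_top_of_sylow_le fun p hp => ?_
  obtain ⟨P⟩ := (inferInstance : Nonempty (Sylow p (fittingSubgroup G)))
  refine ⟨P, ?_⟩
  have : P.Normal := inferInstance
  have : (P : Subgroup (fittingSubgroup G)).Characteristic :=
    Sylow.characteristic_of_normal P inferInstance
  rw [Subgroup.subgroupOf, ← Subgroup.map_le_iff_le_comap]
  set P' : Subgroup G := (P : Subgroup (fittingSubgroup G)).map (fittingSubgroup G).subtype with hP'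
  have hPn : P'.Normal := inferInstance
  have hPp : IsPGroup p P' := P.isPGroup'.map _
  by_cases hd : p ∣ Nat.card H
  · refine le_trans (le_of_isPGroup_of_not_dvd hPp ?_) le_sup_right
    intro h2
    have := Nat.dvd_gcd hd h2
    rw [hc] at this
    exact hp.out.one_lt.ne' (Nat.dvd_one.mp this)
  · refine le_trans ?_ le_sup_left
    have hdis : Disjoint P' H := by
      obtain ⟨n, hn⟩ := IsPGroup.iff_card.mp hPp
      apply Subgroup.disjoint_of_coprime_natCard
      rw [hn]
      exact Nat.Coprime.pow_left _ ((Nat.Prime.coprime_iff_not_dvd hp.out).mpr hd)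
    intro x hx
    rw [Subgroup.mem_centralizer_iff]
    intro y hy
    exact ((Subgroup.commute_of_normal_of_disjoint P' H inferInstance inferInstance hdis x y hx hy).eq).symm

/-- ambient form: `F(M) ≤ C_M(H) H` for a Hall subgroup `H` of `M` normalised by `M`. -/
theorem fittingOf_le_sup [Finite G] {M H : Subgroup G} (hHM : H ≤ M)
    (hn : M ≤ Subgroup.normalizer (H : Set G)) (hc : (Nat.card H).Coprime (H.relIndex M)) :
    fittingOf M ≤ (M ⊓ Subgroup.centralizer (H : Set G)) ⊔ H := by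
  have := subgroupOf_normal hn
  have hc' : (Nat.card (H.subgroupOf M)).Coprime (H.subgroupOf M).index := by
    rw [Nat.card_congr (Subgroup.subgroupOfEquivOfLe hHM).toEquiv]
    exact hc
  have h1 := Subgroup.map_mono (f := M.subtype) (fittingSubgroup_le hc')
  rw [Subgroup.map_sup, Subgroup.subgroupOf_map_subtype, inf_eq_left.mpr hHM] at h1
  refine le_trans h1 (sup_le_sup_right ?_ _)
  rintro _ ⟨y, hy, rfl⟩
  refine ⟨y.2, ?_⟩
  change (y : G) ∈ Subgroup.centralizer (H : Set G)
  rw [Subgroup.mem_centralizer_iff]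
  intro h hh
  exact congrArg Subtype.val (Subgroup.mem_centralizer_iff.mp hy ⟨h, hHM hh⟩ hh)

/-- commutator subgroup of a product `A N` with `N` normalised by `A`. -/
theorem commutator_sup_le {A N : Subgroup G} (hn : A ≤ Subgroup.normalizer (N : Set G)) :
    ⁅A ⊔ N, A ⊔ N⁆ ≤ ⁅A, A⁆ ⊔ N := by
  have hn' : (A ⊔ N) ≤ Subgroup.normalizer (N : Set G) := sup_le hn Subgroup.le_normalizer
  have hN := subgroupOf_normal hn'
  set S := A ⊔ N with hS
  have hA : A ≤ S := le_sup_left
  have hNS : N ≤ S := le_sup_right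
  -- work in `↥S`
  let f := QuotientGroup.mk' (N.subgroupOf S)
  have h1 : (⊤ : Subgroup S) = A.subgroupOf S ⊔ N.subgroupOf S := by
    apply Subgroup.map_injective S.subtype_injective
    rw [Subgroup.map_sup, Subgroup.subgroupOf_map_subtype, Subgroup.subgroupOf_map_subtype,
      inf_eq_left.mpr hA, inf_eq_left.mpr hNS, ← MonoidHom.range_eq_map, Subgroup.range_subtype]
  have h2 : (⊤ : Subgroup S).map f = (A.subgroupOf S).map f := by
    rw [h1, Subgroup.map_sup]
    have : (N.subgroupOf S).map f = ⊥ := by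
      rw [Subgroup.map_eq_bot_iff, QuotientGroup.ker_mk']
    rw [this, sup_bot_eq]
  have h3 : (⁅(⊤ : Subgroup S), (⊤ : Subgroup S)⁆).map f = (⁅A.subgroupOf S, A.subgroupOf S⁆).map f := by
    rw [Subgroup.map_commutator, h2, Subgroup.map_commutator]
  have h4 : ⁅(⊤ : Subgroup S), (⊤ : Subgroup S)⁆ ≤ ⁅A.subgroupOf S, A.subgroupOf S⁆ ⊔ N.subgroupOf S := by
    have := (Subgroup.map_le_iff_le_comap.mp h3.le)
    refine this.trans ?_
    rw [Subgroup.comap_map_eq, QuotientGroup.ker_mk']
  have h5 := Subgroup.map_mono (f := S.subtype) h4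
  rw [Subgroup.map_sup, Subgroup.map_commutator, Subgroup.map_commutator,
    Subgroup.subgroupOf_map_subtype, Subgroup.subgroupOf_map_subtype,
      inf_eq_left.mpr hA, inf_eq_left.mpr hNS, ← MonoidHom.range_eq_map, Subgroup.range_subtype] at h5
  exact h5

/-- If `d` commutes with `[d, x]`, the order of `d` is prime to that of `[d,x]`... then `d`
commutes with `x`. -/
theorem commute_of_commute_commutator {d x : G} (hc : Commute d ⁅d, x⁆)
    (hcop : (orderOf d).Coprime (orderOf ⁅d, x⁆)) : Commute d x := by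
  have h1 : ∀ n : ℕ, d ^ n * x * (d ^ n)⁻¹ = ⁅d, x⁆ ^ n * x := by
    intro n
    induction n with
    | zero => simp
    | succ n ih =>
      have : d ^ (n + 1) * x * (d ^ (n + 1))⁻¹ = d * (d ^ n * x * (d ^ n)⁻¹) * d⁻¹ := by
        rw [pow_succ']; group
      rw [this, ih]
      have h2 : d * (⁅d, x⁆ ^ n * x) * d⁻¹ = (d * ⁅d, x⁆ ^ n * d⁻¹) * (d * x * d⁻¹) := by group
      have h3 : d * ⁅d, x⁆ ^ n * d⁻¹ = ⁅d, x⁆ ^ n := by
        rw [(hc.pow_right n).eq]; group
      have h4 : d * x * d⁻¹ = ⁅d, x⁆ * x := by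
        rw [commutatorElement_def]; group
      rw [h2, h3, h4, ← mul_assoc, pow_succ]
  have h2 := h1 (orderOf d)
  rw [pow_orderOf_eq_one] at h2
  have h3 : ⁅d, x⁆ ^ orderOf d = 1 := by
    have : ⁅d, x⁆ ^ orderOf d * x = x := by rw [← h2]; simp
    simpa using this
  have h4 : ⁅d, x⁆ = 1 := by
    have h5 : orderOf ⁅d, x⁆ ∣ orderOf d := orderOf_dvd_of_pow_eq_one h3
    have h6 : orderOf ⁅d, x⁆ = 1 := Nat.eq_one_of_dvd_coprimes hcop h5 dvd_rfl
    exact orderOf_eq_one_iff.mp h6
  exact commutatorElement_eq_one_iff_commute.mp h4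

/-- index of a subgroup normalised by the other factor. -/
theorem relIndex_sup_of_le_normalizer {K S : Subgroup G}
    (h : K ≤ Subgroup.normalizer (S : Set G)) : S.relIndex (K ⊔ S) = S.relIndex K := by
  have := Subgroup.normal_subgroupOf_of_le_normalizer h
  have := Subgroup.normal_subgroupOf_sup_of_le_normalizer h
  exact (Nat.card_congr (QuotientGroup.quotientInfEquivProdNormalizerQuotient K S h).toEquiv).symm

/-- the order of `K S` divides `|K| |S|`, for `K` normalising `S`. -/
theorem card_sup_dvd_of_le_normalizer {K S : Subgroup G}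
    (h : K ≤ Subgroup.normalizer (S : Set G)) :
    Nat.card ↥(K ⊔ S) ∣ Nat.card K * Nat.card S := by
  have h5 := relIndex_sup_of_le_normalizer h
  have h6 := card_mul_relIndex (H := S) (K := K ⊔ S) le_sup_right
  rw [← h6, h5, mul_comm]
  exact Nat.mul_dvd_mul_right (Subgroup.relIndex_dvd_card S K) _

/-- cyclic Sylow `r`-subgroups: `r`-rank at most one. -/
theorem pRankLE_one_of_isCyclic_sylow {M : Type*} [Group M] [Finite M] {r : ℕ}
    [hr : Fact r.Prime] (h : ∀ P : Sylow r M, IsCyclic P) : PRankLE r 1 M := by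
  intro A _ hA
  have hAp : IsPGroup r A := fun a => ⟨1, by
    rw [pow_one]; exact Subtype.ext (hA a a.2)⟩
  obtain ⟨P, hP⟩ := hAp.exists_le_sylow
  have := h P
  have hc : IsCyclic A :=
    isCyclic_of_injective (Subgroup.inclusion hP) (Subgroup.inclusion_injective hP)
  obtain ⟨g, hg⟩ := hc.exists_generator
  have h1 : Nat.card A = orderOf g := (orderOf_eq_card_of_forall_mem_zpowers hg).symm
  rw [h1, pow_one]
  apply Nat.le_of_dvd hr.out.pos
  apply orderOf_dvd_of_pow_eq_one
  exact Subtype.ext (hA g g.2)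

end Cfsg.Agent.OddOrderLocal.ComplAux
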