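import Mathlib
import Cfsg.Prelude.Def_OddOrderLocal
import Cfsg.Agent.OddOrderLocal.MinSimpleBasic
import Cfsg.Agent.OddOrderLocal.MinSimple
import Cfsg.Agent.OddOrderLocal.Rank
import Cfsg.Agent.OddOrderLocal.PiCore
import Cfsg.Agent.S1416
import Cfsg.Agent.OddOrderLocal.HallPi
import Cfsg.Agent.S0126
import Cfsg.Agent.S1350
import Cfsg.Agent.S1378
import Cfsg.Agent.S1404
import Cfsg.Agent.S1405
import Cfsg.Agent.S1417
import Cfsg.Agent.S1418
import Cfsg.Agent.S1420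
import Cfsg.Agent.S1424
set_option linter.all false

/-!
Bender–Glauberman Theorem 14.4 (first half): for a maximal subgroup `M` of a minimal simple group of odd
order and `1 ≠ x ∈ M_σ` the centralizer `C_G(x)` permutes transitively the conjugates of `M` containing `x`;
if `C_G(x)` is not contained in `M` then, for a prime `q` dividing the order of `x` and `y ∈ ⟨x⟩` of order
`q`, every maximal `N ≥ N_G(⟨y⟩)` has `q ∈ τ₂(N)` and `M ∩ N` is a complement of `N_σ` in `N`.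
-/

set_option autoImplicit false

namespace Cfsg.Agent.OddOrderLocal.Thm144

open Subgroup

variable {G : Type*} [Group G] [Finite G]

open SigmaCoreFacts

/-- `α(M) ⊆ σ(M)`. -/
theorem alpha_subset_sigma (hG : Cfsg.IsMinSimpleOddOrder G) {M : Subgroup G} (hM : IsCoatom M) :
    Cfsg.alpha M ⊆ Cfsg.sigma M := by
  intro p hp
  have : Fact p.Prime := ⟨hp.1⟩
  obtain ⟨h1, -, h2, -⟩ := S1405.result hG M hM
  have h3 : p ∣ Nat.card M := Rank.dvd_card_of_not_pRankLE hp.2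
  have h4 : Nat.card (Cfsg.alphaCore M) * (Cfsg.alphaCore M).relIndex M = Nat.card M := by
    have := Subgroup.relIndex_mul_relIndex (⊥ : Subgroup G) (Cfsg.alphaCore M) M bot_le h1.1
    rwa [Subgroup.relIndex_bot_left, Subgroup.relIndex_bot_left] at this
  rw [← h4] at h3
  rcases hp.1.dvd_mul.mp h3 with h5 | h5
  · exact mem_sigma_of_dvd_card_sigmaCore hp.1 (h5.trans (Subgroup.card_dvd_of_le h2))
  · exact absurd h5 (h1.2.2 p hp.1 hp)

/-- A noncyclic `q`-subgroup of odd order contains an elementary abelian subgroup of order `q ^ 2`. -/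
theorem exists_elemAb_of_not_isCyclic {q : ℕ} [Fact q.Prime] (hq : q ≠ 2) {S : Subgroup G}
    (hS : IsPGroup q S) (hnc : ¬ IsCyclic S) :
    ∃ A : Subgroup G, A ≤ S ∧ Cfsg.IsElementaryAbelian q A ∧ Nat.card A = q ^ 2 := by
  obtain ⟨A, -, hA, hc⟩ := S0126.result hq hS hnc
  exact ⟨A.map S.subtype, Subgroup.map_subtype_le A, Rank.elemAb_map _ hA, by
    rw [Subgroup.card_subtype, hc]⟩

/-- The normalizer of a cyclic subgroup normalizes each of its subgroups. -/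
theorem normalizer_le_of_isCyclic {S X : Subgroup G} (hS : IsCyclic S) (hXS : X ≤ S) :
    Subgroup.normalizer (S : Set G) ≤ Subgroup.normalizer (X : Set G) := by
  have key : ∀ g ∈ Subgroup.normalizer (S : Set G), ∀ x ∈ X, g * x * g⁻¹ ∈ X := by
    intro g hg x hx
    let f : S →* S := ((MulAut.conj g).toMonoidHom.comp S.subtype).codRestrict S
      (fun s => (Subgroup.mem_normalizer_iff.mp hg s).mp s.2)
    obtain ⟨m, hm⟩ := MonoidHom.map_cyclic f
    have h1 := congrArg Subtype.val (hm ⟨x, hXS hx⟩)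
    have h2 : g * x * g⁻¹ = x ^ m := h1
    rw [h2]
    exact X.zpow_mem hx m
  intro g hg
  rw [Subgroup.mem_normalizer_iff]
  intro x
  refine ⟨key g hg x, fun h => ?_⟩
  have := key g⁻¹ (Subgroup.inv_mem _ hg) _ h
  simpa [mul_assoc] using this

/-- An elementary abelian group of order `q ^ 2` is not cyclic. -/
theorem not_isCyclic_of_elemAb {q : ℕ} [hqf : Fact q.Prime] {A : Subgroup G}
    (hA : Cfsg.IsElementaryAbelian q A) (hc : Nat.card A = q ^ 2) : ¬ IsCyclic A := by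
  intro h
  obtain ⟨g, hg⟩ := IsCyclic.exists_ofOrder_eq_natCard (α := A)
  have h1 : g ^ q = 1 := Subtype.ext (hA.2 g g.2)
  have h2 : orderOf g ∣ q := orderOf_dvd_of_pow_eq_one h1
  have h3 : q ^ 2 ≤ q := by
    have := Nat.le_of_dvd hqf.out.pos h2
    rwa [hg, hc] at this
  have h4 : q ^ 1 < q ^ 2 := Nat.pow_lt_pow_right hqf.out.one_lt (by norm_num)
  rw [pow_one] at h4
  exact absurd h3 (not_le.mpr h4)

/-- A `q`-subgroup `S` of `N` of index prime to `q`, as a Sylow subgroup of `N`. -/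
theorem exists_sylow_eq {N S : Subgroup G} {q : ℕ} [Fact q.Prime] (hSN : S ≤ N)
    (hS : IsPGroup q S) (hi : ¬ q ∣ S.relIndex N) :
    ∃ P : Sylow q N, (P : Subgroup N).map N.subtype = S := by
  have h1 : IsPGroup q (S.subgroupOf N) := hS.of_equiv (Subgroup.subgroupOfEquivOfLe hSN).symm
  refine ⟨h1.toSylow hi, ?_⟩
  show (S.subgroupOf N).map N.subtype = S
  rw [Subgroup.subgroupOf_map_subtype, inf_eq_left.mpr hSN]

/-- B–G Proposition 12.15(e): if `q ∈ σ(M)`, `1 ≠ X ≤ M` is a `q`-group, `N ≠ M` is maximal with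
`N_G(X) ≤ N`, then `q ∈ τ₂(N)`, `M ∩ N` contains an elementary abelian subgroup of order `q ^ 2` and is a
complement of `N_σ` in `N`. (Here the case `q ∈ σ(N)` is excluded by the theorem that non-conjugate maximal
subgroups have disjoint `σ`.) -/
theorem tau2_of_normalizer_le (hG : Cfsg.IsMinSimpleOddOrder G) {M : Subgroup G} (hM : IsCoatom M)
    {q : ℕ} [hqf : Fact q.Prime] (hq : q ∈ Cfsg.sigma M) {X : Subgroup G} (hXq : IsPGroup q X)
    (hX1 : X ≠ ⊥) (hXM : X ≤ M) {N : Subgroup G} (hN : IsCoatom N) (hne : N ≠ M)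
    (hNX : Subgroup.normalizer (X : Set G) ≤ N) :
    (∀ g : G, N ≠ M.map (MulAut.conj g).toMonoidHom) ∧ q ∈ Cfsg.tau2 N ∧
      (∃ A : Subgroup G, A ≤ M ⊓ N ∧ Cfsg.IsElementaryAbelian q A ∧ Nat.card A = q ^ 2) ∧
      Cfsg.IsComplIn (M ⊓ N) (Cfsg.sigmaCore N) N ∧ Group.IsNilpotent (Cfsg.sigmaCore N) := by
  have hXN : X ≤ N := Subgroup.le_normalizer.trans hNX
  have hXMN : X ≤ M ⊓ N := le_inf hXM hXN
  -- a Sylow `q`-subgroup of `M ∩ N` over `X`
  obtain ⟨S, hS⟩ := (hXq.of_equiv (Subgroup.subgroupOfEquivOfLe hXMN).symm).exists_le_sylow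
  have hXS : X ≤ (S : Subgroup ↥(M ⊓ N)).map (M ⊓ N).subtype := by
    have := Subgroup.map_mono (f := (M ⊓ N).subtype) hS
    rwa [Subgroup.subgroupOf_map_subtype, inf_eq_left.mpr hXMN] at this
  obtain ⟨hnc, hNS, hSi⟩ := S1424.result hG M hM q hq X hXq hX1 hXM N hN hne hNX S hXS
  set T : Subgroup G := (S : Subgroup ↥(M ⊓ N)).map (M ⊓ N).subtype with hT
  have hTMN : T ≤ M ⊓ N := Subgroup.map_subtype_le _
  have hTq : IsPGroup q T := S.isPGroup'.map _
  -- `q ∉ σ(N)`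
  have hqN : q ∉ Cfsg.sigma N := by
    intro h
    obtain ⟨g, hg⟩ := (S1378.result hG).2 M N hM hN ⟨q, hq, h⟩
    exact hnc g hg
  have hq2 : q ≠ 2 := by
    have hd : q ∣ Nat.card M := hq.2.1
    exact MinSimple.ne_two_of_dvd hG hd
  have hqdN : q ∣ Nat.card N := by
    have : Nontrivial X := (Subgroup.nontrivial_iff_ne_bot _).mpr hX1
    obtain ⟨n, hn, hc⟩ := hXq.nontrivial_iff_card.mp inferInstance
    exact (dvd_pow_self q hn.ne').trans (hc ▸ Subgroup.card_dvd_of_le hXN)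
  -- `T` is not cyclic
  have hTnc : ¬ IsCyclic T := by
    intro hc
    apply hqN
    obtain ⟨P, hP⟩ := exists_sylow_eq (hTMN.trans inf_le_right) hTq hSi
    refine ⟨hqf.out, hqdN, P, ?_⟩
    rw [hP]
    exact (normalizer_le_of_isCyclic hc hXS).trans hNX
  obtain ⟨A, hAT, hAe, hAc⟩ := exists_elemAb_of_not_isCyclic hq2 hTq hTnc
  have hAMN : A ≤ M ⊓ N := hAT.trans hTMN
  have hAN : A ≤ N := hAMN.trans inf_le_right
  have hAM : A ≤ M := hAMN.trans inf_le_left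
  -- `q ∈ τ₂(N)`
  have hτ : q ∈ Cfsg.tau2 N := by
    refine ⟨hqf.out, hqN, ?_, ?_⟩
    · by_contra h
      exact hqN (alpha_subset_sigma hG hN ⟨hqf.out, h⟩)
    · apply Rank.not_pRankLE_of_elemAb hAN hAe
      rw [hAc]
      exact Nat.pow_lt_pow_right hqf.out.one_lt (by norm_num)
  obtain ⟨hnil, -, hAn, -, hint, -⟩ := S1417.result hG N hN q hτ A ⟨hAN, hAe, hAc⟩
  -- a complement of `N_σ` containing `A`
  obtain ⟨E, hE, hAE⟩ : ∃ E : Subgroup G, Cfsg.IsComplIn E (Cfsg.sigmaCore N) N ∧ A ≤ E := by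
    apply HallPi.exists_isComplIn_ge (MinSimpleBasic.isSolvable_of_isCoatom hG hN)
      (sigmaCore_isPiHallOf hG hN) hAN
    intro p hp hd
    rw [hAc] at hd
    rwa [(Nat.prime_dvd_prime_iff_eq hp hqf.out).mp (hp.dvd_of_dvd_pow hd)]
  have hEM : E ≤ M := by
    obtain ⟨⟨h1, -⟩, -⟩ := S1418.result hG N hN E hE q hτ A ⟨hAE, hAe, hAc⟩
    obtain ⟨F, hF⟩ := exists_compl hG hM
    obtain ⟨-, -, h2, -⟩ := S1420.result hG M hM F hF
    exact h1.trans (h2 q A hq (Rank.elemAb_isPGroup hAe) hAM (not_isCyclic_of_elemAb hAe hAc))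
  refine ⟨hnc, hτ, ⟨A, hAMN, hAe, hAc⟩, ⟨inf_le_right, sigmaCore_le N, ?_, ?_⟩, hnil⟩
  · rw [eq_bot_iff, ← hint M hM (Ne.symm hne) hAM]
    exact le_inf inf_le_right (inf_le_left.trans inf_le_left)
  · intro n hn
    obtain ⟨e, he, s, hs, rfl⟩ := hE.2.2.2 n hn
    exact ⟨e, ⟨hEM he, hE.1 he⟩, s, hs, rfl⟩

omit [Finite G] in
/-- If `M ∩ N` is a complement of `N_σ` in `N` and `x ∈ M ∩ N`, every element of `N` commuting with `x` is a
product of an element of `M ∩ N` and an element of `N_σ`, both commuting with `x`. -/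
theorem exists_mul_of_commute {M N : Subgroup G}
    (hc : Cfsg.IsComplIn (M ⊓ N) (Cfsg.sigmaCore N) N) {x y : G} (hx : x ∈ M ⊓ N)
    (hy : y ∈ N) (hyx : y * x = x * y) :
    ∃ m ∈ M ⊓ N, m * x = x * m ∧ ∃ s ∈ Cfsg.sigmaCore N, s * x = x * s ∧ y = m * s := by
  obtain ⟨m, hm, s, hs, rfl⟩ := hc.2.2.2 y hy
  have hxN : x ∈ N := hx.2
  have h1 : m⁻¹ * (x⁻¹ * m * x) = s * (x⁻¹ * s⁻¹ * (x⁻¹)⁻¹) := by
    have h2 : m * s = x⁻¹ * (m * s) * x := by
      rw [mul_assoc x⁻¹, hyx]; group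
    have h3 : s = m⁻¹ * (x⁻¹ * (m * s) * x) := by rw [← h2]; group
    calc m⁻¹ * (x⁻¹ * m * x) = (m⁻¹ * (x⁻¹ * (m * s) * x)) * (x⁻¹ * s⁻¹ * (x⁻¹)⁻¹) := by group
      _ = s * (x⁻¹ * s⁻¹ * (x⁻¹)⁻¹) := by rw [← h3]
  have h2 : m⁻¹ * (x⁻¹ * m * x) ∈ (M ⊓ N) ⊓ Cfsg.sigmaCore N := by
    constructor
    · exact (M ⊓ N).mul_mem ((M ⊓ N).inv_mem hm)
        ((M ⊓ N).mul_mem ((M ⊓ N).mul_mem ((M ⊓ N).inv_mem hx) hm) hx)
    · rw [h1]
      exact (Cfsg.sigmaCore N).mul_mem hs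
        (conj_mem_sigmaCore (N.inv_mem hxN) ((Cfsg.sigmaCore N).inv_mem hs))
  rw [hc.2.2.1, Subgroup.mem_bot] at h2
  have h3 : s * (x⁻¹ * s⁻¹ * (x⁻¹)⁻¹) = 1 := by rw [← h1, h2]
  refine ⟨m, hm, ?_, s, hs, ?_, rfl⟩
  · have : x⁻¹ * m * x = m := by
      have := congrArg (m * ·) h2
      simpa [mul_assoc] using this
    calc m * x = x * (x⁻¹ * m * x) := by group
      _ = x * m := by rw [this]
  · have h4 : s = x⁻¹ * s * x := by
      have := congrArg (· * (x⁻¹ * s * x)) h3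
      simpa [mul_assoc] using this
    calc s * x = x * (x⁻¹ * s * x) := by group
      _ = x * s := by rw [← h4]

/-- Same, with the element of `N_σ` on the left. -/
theorem exists_mul_of_commute' {M N : Subgroup G}
    (hc : Cfsg.IsComplIn (M ⊓ N) (Cfsg.sigmaCore N) N) {x y : G} (hx : x ∈ M ⊓ N)
    (hy : y ∈ N) (hyx : y * x = x * y) :
    ∃ r ∈ Cfsg.sigmaCore N, r * x = x * r ∧ ∃ m ∈ M ⊓ N, m * x = x * m ∧ y = r * m := by
  obtain ⟨m, hm, hmx, s, hs, hsx, rfl⟩ := exists_mul_of_commute hc hx hy hyx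
  refine ⟨m * s * m⁻¹, conj_mem_sigmaCore hm.2 hs, ?_, m, hm, hmx, by group⟩
  have h1 : m⁻¹ * x = x * m⁻¹ := by
    calc m⁻¹ * x = m⁻¹ * (x * m) * m⁻¹ := by group
      _ = m⁻¹ * (m * x) * m⁻¹ := by rw [hmx]
      _ = x * m⁻¹ := by group
  calc m * s * m⁻¹ * x = m * s * (m⁻¹ * x) := by group
    _ = m * (s * x) * m⁻¹ := by rw [h1]; group
    _ = (m * x) * s * m⁻¹ := by rw [hsx]; group
    _ = x * (m * s * m⁻¹) := by rw [hmx]; group

/-- An element of prime order in the cyclic group generated by `x ≠ 1`. -/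
theorem exists_pow_prime {x : G} (hx1 : x ≠ 1) :
    ∃ (q : ℕ) (k : ℕ), q.Prime ∧ q ∣ orderOf x ∧ orderOf (x ^ k) = q := by
  obtain ⟨q, hq, hd⟩ := Nat.exists_prime_and_dvd (n := orderOf x) (by rwa [Ne, orderOf_eq_one_iff])
  refine ⟨q, orderOf x / q, hq, hd, ?_⟩
  exact orderOf_pow_orderOf_div (orderOf_pos x).ne' hd

/-- The core situation of Theorem 14.4: `q` divides the order of `1 ≠ x ∈ M_σ`, `y = x ^ k` has order `q`
and `N_G(⟨y⟩)` is not contained in `M`. -/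
theorem exists_N_of_pow (hG : Cfsg.IsMinSimpleOddOrder G) {M : Subgroup G} (hM : IsCoatom M)
    {y : G} {q : ℕ} (hq : q.Prime) (hy : y ∈ Cfsg.sigmaCore M) (hyq : orderOf y = q)
    (hyM : ¬ Subgroup.normalizer (Subgroup.zpowers y : Set G) ≤ M) :
    ∃ N : Subgroup G, IsCoatom N ∧ Subgroup.normalizer (Subgroup.zpowers y : Set G) ≤ N ∧
      Subgroup.centralizer ({y} : Set G) ≤ N ∧
      (∀ g : G, N ≠ M.map (MulAut.conj g).toMonoidHom) ∧ q ∈ Cfsg.tau2 N ∧
      (∃ A : Subgroup G, A ≤ M ⊓ N ∧ Cfsg.IsElementaryAbelian q A ∧ Nat.card A = q ^ 2) ∧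
      Cfsg.IsComplIn (M ⊓ N) (Cfsg.sigmaCore N) N ∧ Group.IsNilpotent (Cfsg.sigmaCore N) := by
  have : Fact q.Prime := ⟨hq⟩
  have hy1 : y ≠ 1 := by
    rintro rfl
    rw [orderOf_one] at hyq
    exact hq.one_lt.ne hyq
  have hX1 : Subgroup.zpowers y ≠ ⊥ := by rwa [Ne, Subgroup.zpowers_eq_bot]
  have hXc : Nat.card (Subgroup.zpowers y) = q := by rw [Nat.card_zpowers, hyq]
  have hXq : IsPGroup q (Subgroup.zpowers y) := IsPGroup.of_card (n := 1) (by rw [hXc, pow_one])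
  have hXM : Subgroup.zpowers y ≤ M := by
    rw [Subgroup.zpowers_le]; exact sigmaCore_le M hy
  obtain ⟨N, hN, hNX⟩ := MinSimpleBasic.exists_coatom_normalizer_le hG hX1
    (MinSimpleBasic.ne_top_of_isPGroup hG hXq)
  have hne : N ≠ M := by
    rintro rfl; exact hyM hNX
  have hqσ : q ∈ Cfsg.sigma M := mem_sigma_of_dvd_orderOf hq hy (by rw [hyq])
  have hcN : Subgroup.centralizer ({y} : Set G) ≤ Subgroup.normalizer (Subgroup.zpowers y : Set G) := by
    intro g hg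
    rw [Subgroup.mem_centralizer_singleton_iff] at hg
    rw [Subgroup.mem_normalizer_iff_map_conj_eq, MonoidHom.map_zpowers]
    congr 1
    simp [hg]
  exact ⟨N, hN, hNX, hcN.trans hNX, tau2_of_normalizer_le hG hM hqσ hXq hX1 hXM hN hne hNX⟩

/-- B–G Theorem 14.4 (transitivity): if `1 ≠ x ∈ M_σ` and `x ∈ g M g⁻¹` then `g M g⁻¹ = c M c⁻¹` for some
`c ∈ C_G(x)`. In other words `g = c m` with `c ∈ C_G(x)`, `m ∈ M`. -/
theorem exists_centralizer_mul (hG : Cfsg.IsMinSimpleOddOrder G) {M : Subgroup G}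
    (hM : IsCoatom M) {x : G} (hx : x ∈ Cfsg.sigmaCore M) (hx1 : x ≠ 1) {g : G}
    (hg : g⁻¹ * x * g ∈ M) : ∃ c m : G, c * x = x * c ∧ m ∈ M ∧ g = c * m := by
  have hxM : x ∈ M := sigmaCore_le M hx
  obtain ⟨q, k, hq, hqd, hk⟩ := exists_pow_prime hx1
  have : Fact q.Prime := ⟨hq⟩
  set y := x ^ k with hydef
  have hy : y ∈ Cfsg.sigmaCore M := (Cfsg.sigmaCore M).pow_mem hx k
  have hyM : y ∈ M := M.pow_mem hxM k
  have hqσ : q ∈ Cfsg.sigma M := mem_sigma_of_dvd_orderOf hq hx hqd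
  have hy1 : y ≠ 1 := by
    intro h
    rw [h, orderOf_one] at hk
    exact hq.one_lt.ne hk
  have hX1 : Subgroup.zpowers y ≠ ⊥ := by rwa [Ne, Subgroup.zpowers_eq_bot]
  have hXc : Nat.card (Subgroup.zpowers y) = q := by rw [Nat.card_zpowers, hk]
  have hXq : IsPGroup q (Subgroup.zpowers y) := IsPGroup.of_card (n := 1) (by rw [hXc, pow_one])
  have hXM : Subgroup.zpowers y ≤ M := by rwa [Subgroup.zpowers_le]
  have hcomm : y * x = x * y := (Commute.pow_self x k).eq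
  -- by Theorem 10.1, `g = c m` with `c` centralizing `y`
  obtain ⟨m, hm, c, hc, hgc⟩ := (S1404.result hG M hM q hqσ (Subgroup.zpowers y) hXq hX1 hXM).1 g⁻¹ (by
    rw [MonoidHom.map_zpowers, Subgroup.zpowers_le]
    have h1 : (MulAut.conj g⁻¹).toMonoidHom y = (g⁻¹ * x * g) ^ k := by
      show g⁻¹ * y * g⁻¹⁻¹ = (g⁻¹ * x * g) ^ k
      rw [hydef, inv_inv]
      have : (g⁻¹ * x * g⁻¹⁻¹) ^ k = g⁻¹ * x ^ k * g⁻¹⁻¹ := conj_pow
      rw [inv_inv] at this
      exact this.symm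
    rw [h1]
    exact M.pow_mem hg k)
  have hcy : c * y = y * c := by
    have := Subgroup.mem_centralizer_iff.mp hc y (Subgroup.mem_zpowers y)
    exact this.symm
  have hgc' : g = c⁻¹ * m⁻¹ := by
    have := congrArg (·⁻¹) hgc
    simpa using this
  by_cases hNM : Subgroup.normalizer (Subgroup.zpowers y : Set G) ≤ M
  · -- `C_G(y) ≤ M`, so `g ∈ M`
    have hcN : c ∈ Subgroup.normalizer (Subgroup.zpowers y : Set G) := by
      rw [Subgroup.mem_normalizer_iff_map_conj_eq, MonoidHom.map_zpowers]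
      congr 1
      simp [hcy]
    refine ⟨1, g, by simp, ?_, by simp⟩
    rw [hgc']
    exact M.mul_mem (M.inv_mem (hNM hcN)) (M.inv_mem hm)
  · obtain ⟨N, hN, -, hCN, -, -, -, hcompl, -⟩ := exists_N_of_pow hG hM hq hy hk hNM
    have hyN : y ∈ N := hCN (Subgroup.mem_centralizer_singleton_iff.mpr rfl)
    have hxN : x ∈ N := hCN (Subgroup.mem_centralizer_singleton_iff.mpr hcomm.symm)
    have hcN : c⁻¹ ∈ N := N.inv_mem (hCN (Subgroup.mem_centralizer_singleton_iff.mpr hcy))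
    have hcy' : c⁻¹ * y = y * c⁻¹ := by
      calc c⁻¹ * y = c⁻¹ * (y * c) * c⁻¹ := by group
        _ = c⁻¹ * (c * y) * c⁻¹ := by rw [hcy]
        _ = y * c⁻¹ := by group
    obtain ⟨r, hr, hry, n, hn, hny, hrn⟩ := exists_mul_of_commute' hcompl ⟨hyM, hyN⟩ hcN hcy'
    refine ⟨r, n * m⁻¹, ?_, M.mul_mem hn.1 (M.inv_mem hm), by rw [hgc', hrn]; group⟩
    -- `r⁻¹ x r ∈ M`
    have h1 : r⁻¹ * x * r ∈ M := by
      have h2 : r⁻¹ * x * r = (n * m⁻¹) * (g⁻¹ * x * g) * (n * m⁻¹)⁻¹ := by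
        rw [hgc', hrn]; group
      rw [h2]
      have h3 : n * m⁻¹ ∈ M := M.mul_mem hn.1 (M.inv_mem hm)
      exact M.mul_mem (M.mul_mem h3 hg) (M.inv_mem h3)
    have h2 : r⁻¹ * (x * r * x⁻¹) ∈ (M ⊓ N) ⊓ Cfsg.sigmaCore N := by
      have h3 : r⁻¹ * (x * r * x⁻¹) ∈ Cfsg.sigmaCore N :=
        (Cfsg.sigmaCore N).mul_mem ((Cfsg.sigmaCore N).inv_mem hr) (conj_mem_sigmaCore hxN hr)
      refine ⟨⟨?_, sigmaCore_le N h3⟩, h3⟩
      have h4 : r⁻¹ * (x * r * x⁻¹) = (r⁻¹ * x * r) * x⁻¹ := by group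
      rw [h4]
      exact M.mul_mem h1 (M.inv_mem hxM)
    rw [hcompl.2.2.1, Subgroup.mem_bot] at h2
    calc r * x = r * (r⁻¹ * (x * r * x⁻¹)) * x := by rw [h2]; group
      _ = x * r := by group

/-- B–G Theorem 14.4, first half: for `1 ≠ x ∈ M_σ` with `C_G(x)` not contained in `M` there is a maximal
subgroup `N` containing `C_G(x)`, not conjugate to `M`, such that `M ∩ N` is a complement of the nilpotent
group `N_σ` in `N`, and some prime divisor `q` of the order of `x` lies in `τ₂(N)`. -/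
theorem exists_N (hG : Cfsg.IsMinSimpleOddOrder G) {M : Subgroup G} (hM : IsCoatom M) {x : G}
    (hx : x ∈ Cfsg.sigmaCore M) (hx1 : x ≠ 1) (hxM : ¬ Subgroup.centralizer ({x} : Set G) ≤ M) :
    ∃ (N : Subgroup G) (q : ℕ), IsCoatom N ∧ Subgroup.centralizer ({x} : Set G) ≤ N ∧
      (∀ g : G, N ≠ M.map (MulAut.conj g).toMonoidHom) ∧ q.Prime ∧ q ∣ orderOf x ∧ q ∈ Cfsg.tau2 N ∧
      (∃ A : Subgroup G, A ≤ M ⊓ N ∧ Cfsg.IsElementaryAbelian q A ∧ Nat.card A = q ^ 2) ∧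
      Cfsg.IsComplIn (M ⊓ N) (Cfsg.sigmaCore N) N ∧ Group.IsNilpotent (Cfsg.sigmaCore N) := by
  obtain ⟨q, k, hq, hqd, hk⟩ := exists_pow_prime hx1
  have hcomm : x ^ k * x = x * x ^ k := (Commute.pow_self x k).eq
  have hCC : Subgroup.centralizer ({x} : Set G) ≤ Subgroup.centralizer ({x ^ k} : Set G) := by
    intro c hc
    rw [Subgroup.mem_centralizer_singleton_iff] at hc ⊢
    exact (Commute.pow_right (show Commute c x from hc) k).eq
  have hcN : Subgroup.centralizer ({x ^ k} : Set G) ≤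
      Subgroup.normalizer (Subgroup.zpowers (x ^ k) : Set G) := by
    intro g hg
    rw [Subgroup.mem_centralizer_singleton_iff] at hg
    rw [Subgroup.mem_normalizer_iff_map_conj_eq, MonoidHom.map_zpowers]
    congr 1
    simp [hg]
  obtain ⟨N, hN, -, hCN, h1, h2, h3, h4, h5⟩ := exists_N_of_pow hG hM hq
    ((Cfsg.sigmaCore M).pow_mem hx k) hk (fun h => hxM ((hCC.trans hcN).trans h))
  exact ⟨N, q, hN, hCC.trans hCN, h1, hq, hqd, h2, h3, h4, h5⟩

/-- Consequences of `M ∩ N` being a complement of `N_σ` in `N` for the centralizer of `x ∈ M ∩ N` when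
`C_G(x) ≤ N`: `C_G(x)` is the semidirect product of `C_{N_σ}(x)` and `C_M(x)`. -/
theorem compl_centralizer {M N : Subgroup G} (hcompl : Cfsg.IsComplIn (M ⊓ N) (Cfsg.sigmaCore N) N)
    {x : G} (hxM : x ∈ M) (hCN : Subgroup.centralizer ({x} : Set G) ≤ N) :
    Cfsg.IsComplIn (M ⊓ Subgroup.centralizer ({x} : Set G))
      (Cfsg.sigmaCore N ⊓ Subgroup.centralizer ({x} : Set G)) (Subgroup.centralizer ({x} : Set G)) := by
  have hxN : x ∈ N := hCN (Subgroup.mem_centralizer_singleton_iff.mpr rfl)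
  refine ⟨inf_le_right, inf_le_right, ?_, ?_⟩
  · rw [eq_bot_iff, ← hcompl.2.2.1]
    rintro c ⟨⟨h1, h2⟩, ⟨h3, -⟩⟩
    exact ⟨⟨h1, hCN h2⟩, h3⟩
  · intro c hc
    obtain ⟨m, hm, hmx, s, hs, hsx, rfl⟩ := exists_mul_of_commute hcompl ⟨hxM, hxN⟩ (hCN hc)
      (Subgroup.mem_centralizer_singleton_iff.mp hc)
    exact ⟨m, ⟨hm.1, Subgroup.mem_centralizer_singleton_iff.mpr hmx⟩, s,
      ⟨hs, Subgroup.mem_centralizer_singleton_iff.mpr hsx⟩, rfl⟩

/-- `C_G(x) ≤ N` normalizes `C_{N_σ}(x)`. -/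
theorem centralizer_le_normalizer {N : Subgroup G} {x : G}
    (hCN : Subgroup.centralizer ({x} : Set G) ≤ N) :
    Subgroup.centralizer ({x} : Set G) ≤
      Subgroup.normalizer ((Cfsg.sigmaCore N ⊓ Subgroup.centralizer ({x} : Set G) : Subgroup G) : Set G) := by
  have key : ∀ c ∈ Subgroup.centralizer ({x} : Set G),
      ∀ y ∈ (Cfsg.sigmaCore N ⊓ Subgroup.centralizer ({x} : Set G) : Subgroup G),
      c * y * c⁻¹ ∈ (Cfsg.sigmaCore N ⊓ Subgroup.centralizer ({x} : Set G) : Subgroup G) := by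
    rintro c hc y ⟨hy1, hy2⟩
    exact ⟨conj_mem_sigmaCore (hCN hc) hy1,
      Subgroup.mul_mem _ (Subgroup.mul_mem _ hc hy2) (Subgroup.inv_mem _ hc)⟩
  intro c hc
  rw [Subgroup.mem_normalizer_iff]
  intro y
  refine ⟨key c hc y, fun h => ?_⟩
  have := key c⁻¹ (Subgroup.inv_mem _ hc) _ h
  simpa [mul_assoc] using this

/-- A prime of `τ₂(N)` is not in `κ(N)`. -/
theorem not_mem_kappa_of_mem_tau2 {N : Subgroup G} {q : ℕ} (h : q ∈ Cfsg.tau2 N) :
    q ∉ Cfsg.kappa N := by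
  intro hκ
  have : Fact q.Prime := ⟨h.1⟩
  obtain ⟨A, hAN, hA, hc⟩ := Rank.exists_elemAb_of_not_pRankLE h.2.2.2
  have hAq : IsPGroup q (A.subgroupOf N) :=
    (Rank.elemAb_isPGroup hA).of_equiv (Subgroup.subgroupOfEquivOfLe hAN).symm
  obtain ⟨P, hP⟩ := hAq.exists_le_sylow
  have hPc : IsCyclic P := (hκ.2.2.2 P).1
  have h1 : IsCyclic (A.subgroupOf N) :=
    isCyclic_of_injective (Subgroup.inclusion hP) (Subgroup.inclusion_injective hP)
  have h2 : IsCyclic A :=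
    isCyclic_of_surjective (Subgroup.subgroupOfEquivOfLe hAN).toMonoidHom
      (Subgroup.subgroupOfEquivOfLe hAN).surjective
  exact not_isCyclic_of_elemAb hA hc h2

/-- If `N` normalizes `V ≤ N` and `N = ⟨K, V⟩` then the index of `V` in `N` divides the order of `K`. -/
theorem relIndex_dvd_card_of_sup {N V K : Subgroup G} (hV : V ≤ N) (hK : K ≤ N)
    (hn : N ≤ Subgroup.normalizer (V : Set G)) (hs : N ≤ K ⊔ V) : V.relIndex N ∣ Nat.card K := by
  have hn' : (V.subgroupOf N).Normal := (Subgroup.normal_subgroupOf_iff_le_normalizer hV).mpr hn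
  have h1 : K.subgroupOf N ⊔ V.subgroupOf N = ⊤ := by
    rw [← Subgroup.subgroupOf_sup hK hV, Subgroup.subgroupOf_eq_top]
    exact hs
  have h2 : V.relIndex N = (V.subgroupOf N).relIndex (K.subgroupOf N) := by
    rw [← Subgroup.relIndex_sup_right (K.subgroupOf N) (V.subgroupOf N), h1, Subgroup.relIndex_top_right]
    rfl
  rw [h2, ← Nat.card_congr (Subgroup.subgroupOfEquivOfLe hK).toEquiv]
  exact Subgroup.relIndex_dvd_card _ _

/-- If `N` normalizes `V ≤ N`, `N = ⟨K, V⟩` and `x ∈ N` has order coprime to that of `K` then `x ∈ V`. -/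
theorem mem_of_coprime_card {N V K : Subgroup G} (hV : V ≤ N) (hK : K ≤ N)
    (hn : N ≤ Subgroup.normalizer (V : Set G)) (hs : N ≤ K ⊔ V) {x : G} (hx : x ∈ N)
    (hc : (orderOf x).Coprime (Nat.card K)) : x ∈ V := by
  have hn' : (V.subgroupOf N).Normal := (Subgroup.normal_subgroupOf_iff_le_normalizer hV).mpr hn
  have h1 : (⟨x, hx⟩ : N) ∈ V.subgroupOf N := by
    apply mem_of_coprime_index
    rw [Subgroup.orderOf_mk]
    exact Nat.Coprime.coprime_dvd_right (relIndex_dvd_card_of_sup hV hK hn hs) hc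
  exact h1

end Cfsg.Agent.OddOrderLocal.Thm144
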