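/-
Elementary facts about the standard factorisation `M = K U M_σ` (`Cfsg.IsSigmaDecomposition M K U`):
orders and primes of the factors, normality of `U M_σ`, conjugating σ(M)'-elements of `U M_σ` into `U`.
-/
import Mathlib
import Cfsg.Prelude.Def_OddOrderLocal
set_option linter.all false

set_option autoImplicit false

namespace Cfsg.Agent.OddOrderLocal.DecompBasic

open Subgroup

variable {G : Type*} [Group G]

/-- Order times relative index. -/
theorem card_mul_relIndex {H K : Subgroup G} (h : H ≤ K) :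
    Nat.card H * H.relIndex K = Nat.card K := by
  have := Subgroup.relIndex_mul_relIndex (⊥ : Subgroup G) H K bot_le h
  simpa [Subgroup.relIndex_bot_left] using this

theorem sigmaCore_le (M : Subgroup G) : Cfsg.sigmaCore M ≤ M :=
  Subgroup.map_subtype_le _

/-- `M` normalizes `M_σ`. -/
theorem le_normalizer_sigmaCore (M : Subgroup G) :
    M ≤ Subgroup.normalizer (Cfsg.sigmaCore M : Set G) := by
  have key : ∀ a ∈ M, ∀ x ∈ Cfsg.sigmaCore M, a * x * a⁻¹ ∈ Cfsg.sigmaCore M := by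
    intro a ha x hx
    obtain ⟨y, hy, rfl⟩ := Subgroup.mem_map.mp hx
    exact Subgroup.mem_map.mpr ⟨⟨a, ha⟩ * y * ⟨a, ha⟩⁻¹,
      (Cfsg.piCore_normal (Cfsg.sigma M) M).conj_mem y hy ⟨a, ha⟩, rfl⟩
  intro m hm
  rw [Subgroup.mem_normalizer_iff]
  intro x
  refine ⟨key m hm x, fun hx => ?_⟩
  have := key m⁻¹ (inv_mem hm) _ hx
  simpa [mul_assoc] using this

/-- Conjugation by elements of `M` preserves `M_σ`. -/
theorem conj_mem_sigmaCore {M : Subgroup G} {m x : G} (hm : m ∈ M) (hx : x ∈ Cfsg.sigmaCore M) :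
    m * x * m⁻¹ ∈ Cfsg.sigmaCore M :=
  (Subgroup.mem_normalizer_iff.mp (le_normalizer_sigmaCore M hm) x).mp hx

/-- `M` normalizes `U M_σ` for every standard factorisation. -/
theorem le_normalizer_sup {M K U : Subgroup G} (h : Cfsg.IsSigmaDecomposition M K U) :
    M ≤ Subgroup.normalizer ((U ⊔ Cfsg.sigmaCore M : Subgroup G) : Set G) := by
  obtain ⟨hU, hL, -, hfac⟩ := h.compl
  have hKM : K ≤ M := le_sup_left.trans hL
  have hS := le_normalizer_sigmaCore M
  have h1 : U ≤ Subgroup.normalizer ((U ⊔ Cfsg.sigmaCore M : Subgroup G) : Set G) :=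
    le_sup_left.trans Subgroup.le_normalizer
  have h2 : Cfsg.sigmaCore M ≤ Subgroup.normalizer ((U ⊔ Cfsg.sigmaCore M : Subgroup G) : Set G) :=
    le_sup_right.trans Subgroup.le_normalizer
  have h3 : K ≤ Subgroup.normalizer ((U ⊔ Cfsg.sigmaCore M : Subgroup G) : Set G) := by
    intro k hk
    have hkU := h.normal hk
    have hkS := hS (hKM hk)
    rw [Subgroup.mem_normalizer_iff_map_conj_eq] at *
    rw [Subgroup.map_sup, hkU, hkS]
  intro m hm
  obtain ⟨a, ha, b, hb, rfl⟩ := hfac m hm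
  exact mul_mem (h1 ha) ((sup_le h3 h2) hb)

/-- `U` and `K M_σ` are complements: orders. -/
theorem card_eq_of_isComplIn [Finite G] {A B M : Subgroup G} (h : Cfsg.IsComplIn A B M) :
    Nat.card A * Nat.card B = Nat.card M := by
  obtain ⟨hA, hB, hAB, hfac⟩ := h
  have hcompl : Subgroup.IsComplement' (A.subgroupOf M) (B.subgroupOf M) := by
    refine ⟨?_, ?_⟩
    · rintro ⟨⟨a, ha⟩, ⟨b, hb⟩⟩ ⟨⟨a', ha'⟩, ⟨b', hb'⟩⟩ hab
      have h1 : a * b = a' * b' := hab
      have h2 : a'⁻¹ * a = b' * b⁻¹ := by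
        calc a'⁻¹ * a = a'⁻¹ * (a * b) * b⁻¹ := by group
          _ = a'⁻¹ * (a' * b') * b⁻¹ := by rw [h1]
          _ = b' * b⁻¹ := by group
      have hcast : ((a'⁻¹ * a : M) : G) ∈ A ⊓ B := by
        refine ⟨?_, ?_⟩
        · exact mem_subgroupOf.mp (mul_mem (inv_mem ha') ha)
        · rw [h2]
          exact mem_subgroupOf.mp (mul_mem hb' (inv_mem hb))
      rw [hAB, Subgroup.mem_bot] at hcast
      have h3 : a'⁻¹ * a = 1 := by exact_mod_cast hcast
      have h4 : a = a' := (inv_mul_eq_one.mp h3).symm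
      have h5 : b = b' := by
        rw [h4] at h1
        exact mul_left_cancel h1
      subst h4; subst h5
      rfl
    · rintro ⟨m, hm⟩
      obtain ⟨a, ha, b, hb, hab⟩ := hfac m hm
      refine ⟨⟨⟨⟨a, hA ha⟩, mem_subgroupOf.mpr ha⟩, ⟨⟨b, hB hb⟩, mem_subgroupOf.mpr hb⟩⟩, ?_⟩
      exact Subtype.ext hab.symm
  have h1 := hcompl.card_mul_card
  rwa [Nat.card_congr (Subgroup.subgroupOfEquivOfLe hA).toEquiv,
    Nat.card_congr (Subgroup.subgroupOfEquivOfLe hB).toEquiv] at h1

/-- The order of `K ⊔ N` divides `|K| |N|` when `K` normalizes `N`. -/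
theorem card_sup_dvd [Finite G] {K N : Subgroup G}
    (h : K ≤ Subgroup.normalizer (N : Set G)) :
    Nat.card (K ⊔ N : Subgroup G) ∣ Nat.card K * Nat.card N := by
  have hN : N ≤ Subgroup.normalizer (N : Set G) := Subgroup.le_normalizer
  have h1 : (N.relIndex (K ⊔ N)) = N.relIndex K := by
    have hKL : K ≤ Subgroup.normalizer (N : Set G) := h
    have hsup : K ⊔ N ≤ Subgroup.normalizer (N : Set G) := sup_le h hN
    rw [← Subgroup.relIndex_subgroupOf (H := N) hsup, ← Subgroup.relIndex_subgroupOf (H := N) hKL,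
      Subgroup.subgroupOf_sup h hN, Subgroup.relIndex_sup_right]
  have h2 := card_mul_relIndex (le_sup_right : N ≤ K ⊔ N)
  rw [← h2, h1, mul_comm]
  exact Nat.mul_dvd_mul_right (Subgroup.relIndex_dvd_card N K) _

/-- The relative index of `U` in `M` is the order of `K M_σ`, and conversely. -/
theorem relIndex_eq_of_isComplIn [Finite G] {A B M : Subgroup G} (h : Cfsg.IsComplIn A B M) :
    A.relIndex M = Nat.card B ∧ B.relIndex M = Nat.card A := by
  have h0 := card_eq_of_isComplIn h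
  refine ⟨?_, ?_⟩
  · have h1 := card_mul_relIndex h.1
    rw [← h0] at h1
    exact Nat.eq_of_mul_eq_mul_left Nat.card_pos h1
  · have h1 := card_mul_relIndex h.2.1
    rw [← h0, mul_comm] at h1
    exact Nat.eq_of_mul_eq_mul_right Nat.card_pos h1

/-- In the standard factorisation, `U` is a Hall subgroup of `M` for the primes outside `κ(M) ∪ σ(M)`. -/
theorem isPiHallOf_compl [Finite G] {M K U : Subgroup G}
    (hs : Cfsg.IsPiHallOf (Cfsg.sigma M) (Cfsg.sigmaCore M) M)
    (h : Cfsg.IsSigmaDecomposition M K U) :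
    Cfsg.IsPiHallOf {q | q.Prime ∧ q ∉ Cfsg.kappa M ∧ q ∉ Cfsg.sigma M} U M := by
  obtain ⟨hr1, hr2⟩ := relIndex_eq_of_isComplIn h.compl
  have hKM : K ≤ M := le_sup_left.trans h.compl.2.1
  have hdvd : Nat.card U ∣ (Cfsg.sigmaCore M).relIndex M := by
    rw [← hr2]; exact Subgroup.relIndex_dvd_of_le_left M le_sup_right
  have hdvd' : Nat.card U ∣ K.relIndex M := by
    rw [← hr2]; exact Subgroup.relIndex_dvd_of_le_left M le_sup_left
  refine ⟨h.compl.1, ?_, ?_⟩
  · intro p hp hpU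
    exact ⟨hp, fun hk => h.hall.2.2 p hp hk (hpU.trans hdvd'),
      fun hk => hs.2.2 p hp hk (hpU.trans hdvd)⟩
  · rintro p hp ⟨-, hk, hsig⟩ hpd
    rw [hr1] at hpd
    have := hpd.trans (card_sup_dvd (hKM.trans (le_normalizer_sigmaCore M)))
    rcases (hp.dvd_mul).mp this with h1 | h1
    · exact hk (h.hall.2.1 p hp h1)
    · exact hsig (hs.2.1 p hp h1)

/-- Two Hall `π`-subgroups of `M` have the same order. -/
theorem card_eq_of_isPiHallOf [Finite G] {π : Set ℕ} {A B M : Subgroup G}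
    (hA : Cfsg.IsPiHallOf π A M) (hB : Cfsg.IsPiHallOf π B M) : Nat.card A = Nat.card B := by
  have hA0 := card_mul_relIndex hA.1
  have hB0 := card_mul_relIndex hB.1
  have key : ∀ {A B : Subgroup G}, Cfsg.IsPiHallOf π A M → Cfsg.IsPiHallOf π B M →
      Nat.card A * A.relIndex M = Nat.card B * B.relIndex M → Nat.card A ∣ Nat.card B := by
    intro A B hA hB h
    have hcop : (Nat.card A).Coprime (B.relIndex M) := by
      by_contra hne
      rw [Nat.Prime.not_coprime_iff_dvd] at hne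
      obtain ⟨p, hp, h1, h2⟩ := hne
      exact hB.2.2 p hp (hA.2.1 p hp h1) h2
    exact hcop.dvd_of_dvd_mul_right (h ▸ Dvd.intro _ rfl)
  exact Nat.dvd_antisymm (key hA hB (hA0.trans hB0.symm)) (key hB hA (hB0.trans hA0.symm))

/-- Order and index of a Hall subgroup are coprime. -/
theorem coprime_of_isPiHallOf [Finite G] {π : Set ℕ} {A M : Subgroup G}
    (hA : Cfsg.IsPiHallOf π A M) : (Nat.card A).Coprime (A.relIndex M) := by
  by_contra hne
  rw [Nat.Prime.not_coprime_iff_dvd] at hne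
  obtain ⟨p, hp, h1, h2⟩ := hne
  exact hA.2.2 p hp (hA.2.1 p hp h1) h2

/-- `|U|` is coprime to `|M_σ|`. -/
theorem coprime_card [Finite G] {M K U : Subgroup G}
    (hs : Cfsg.IsPiHallOf (Cfsg.sigma M) (Cfsg.sigmaCore M) M)
    (h : Cfsg.IsSigmaDecomposition M K U) :
    (Nat.card U).Coprime (Nat.card (Cfsg.sigmaCore M)) := by
  have hU := isPiHallOf_compl hs h
  by_contra hne
  rw [Nat.Prime.not_coprime_iff_dvd] at hne
  obtain ⟨p, hp, h1, h2⟩ := hne
  exact (hU.2.1 p hp h1).2.2 (hs.2.1 p hp h2)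

/-- `U` and `M_σ` are complements in `U M_σ`. -/
theorem isComplIn_sup [Finite G] {M K U : Subgroup G}
    (hs : Cfsg.IsPiHallOf (Cfsg.sigma M) (Cfsg.sigmaCore M) M)
    (h : Cfsg.IsSigmaDecomposition M K U) :
    Cfsg.IsComplIn U (Cfsg.sigmaCore M) (U ⊔ Cfsg.sigmaCore M) := by
  refine ⟨le_sup_left, le_sup_right,
    (Subgroup.disjoint_of_coprime_natCard (coprime_card hs h)).eq_bot, ?_⟩
  intro m hm
  have hn : U ≤ Subgroup.normalizer (Cfsg.sigmaCore M : Set G) :=
    h.compl.1.trans (le_normalizer_sigmaCore M)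
  rw [← SetLike.mem_coe, Subgroup.coe_mul_of_left_le_normalizer_right _ _ hn] at hm
  obtain ⟨a, ha, b, hb, rfl⟩ := hm
  exact ⟨a, ha, b, hb, rfl⟩

end Cfsg.Agent.OddOrderLocal.DecompBasic
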