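import Mathlib
import Cfsg.Prelude.Def_OddOrderLocal
import Cfsg.Agent.OddOrderLocal.Thm147
set_option linter.all false

/-!
Consequences of B & G, Theorem 14.7 for an arbitrary partner `M*` of `(M, K)`:
uniqueness, `M ∩ M* = K K*`, types.
-/

set_option autoImplicit false
set_option linter.unusedSectionVars false

namespace Cfsg.Agent.OddOrderLocal.Partner147

open Cfsg
open Cfsg.Agent.OddOrderLocal.CommProd Cfsg.Agent.OddOrderLocal.PiCoreOf
open Cfsg.Agent.OddOrderLocal Cfsg.Agent.OddOrderLocal.Struct147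
open Cfsg.Agent.OddOrderLocal.Struct147.PPair Cfsg.Agent.OddOrderLocal.Thm147

universe u

variable {G : Type u} [Group G]

/-- `K* = C_{M_σ}(K)`. -/
local notation "star(" M ", " K ")" =>
  (sigmaCore M ⊓ Subgroup.centralizer (K : Set G) : Subgroup G)

/-- `N` is the partner of `(M, K)`: `K*` is a nontrivial Hall `κ(N)`-subgroup of `N` and
`K = C_{N_σ}(K*)`. -/
structure IsPartner (M K N : Subgroup G) : Prop where
  pair : PPair M K
  pair' : PPair N star(M, K)
  eq : K = star(N, star(M, K))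

namespace IsPartner

theorem symm {M K N : Subgroup G} (h : IsPartner M K N) : IsPartner N star(M, K) M := by
  refine ⟨h.pair', ?_, ?_⟩
  · rw [← h.eq]; exact h.pair
  · rw [← h.eq]

variable [Finite G]

theorem star_le_N {M K N : Subgroup G} (h : IsPartner M K N) : star(M, K) ≤ N := h.pair'.K_le

theorem K_le_sigmaCore {M K N : Subgroup G} (h : IsPartner M K N) : K ≤ sigmaCore N := by
  have := h.eq
  rw [this]
  exact inf_le_left

theorem K_le_N {M K N : Subgroup G} (h : IsPartner M K N) : K ≤ N :=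
  h.K_le_sigmaCore.trans (sigmaCore_le N)

variable (hG : IsMinSimpleOddOrder G)
include hG

theorem mk' {M K N : Subgroup G} (h : PPair M K) (hN : IsCoatom N)
    (heq : K = sigmaCore N ⊓ Subgroup.centralizer ((star(M, K) : Subgroup G) : Set G))
    (hS : IsPiHallOf (kappa N) star(M, K) N) : IsPartner M K N :=
  ⟨h, ⟨hN, hS, h.star_ne_bot hG⟩, heq⟩

theorem sigma_disj {M K N : Subgroup G} (h : IsPartner M K N) : ∀ p ∈ sigma M, p ∉ sigma N := by
  intro q hq
  have h1 : Nat.card ↥star(M, K) ≠ 1 := fun h' =>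
    h.pair.star_ne_bot hG (Subgroup.eq_bot_of_card_eq _ h')
  obtain ⟨p, hp, hd⟩ := Nat.exists_prime_and_dvd h1
  exact sigma_disjoint hG h.pair'.max h.pair.max (star_pi p hp hd)
    (kappa_not_sigma p (h.pair'.K_pi p hp hd)) hq

theorem unique {M K N N' : Subgroup G} (h : IsPartner M K N) (h' : IsPartner M K N') : N' = N := by
  obtain ⟨k, hk, hk1⟩ := K.bot_or_exists_ne_one.resolve_left h.pair.ne
  have h1 : Nat.card K ≠ 1 := fun h'' => h.pair.ne (Subgroup.eq_bot_of_card_eq _ h'')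
  obtain ⟨p, hp, hd⟩ := Nat.exists_prime_and_dvd h1
  have hpN : p ∈ sigma N :=
    sigmaCore_isPi N p hp (hd.trans (Subgroup.card_dvd_of_le h.K_le_sigmaCore))
  have hpN' : p ∈ sigma N' :=
    sigmaCore_isPi N' p hp (hd.trans (Subgroup.card_dvd_of_le h'.K_le_sigmaCore))
  obtain ⟨g, hg⟩ := sigma_eq_of_mem hG h.pair'.max h'.pair'.max hpN hpN'
  have hkS : k ∈ star(N, star(M, K)) := by rw [← h.eq]; exact hk
  have h2 : g ∈ N := h.pair'.mem_of_mem_conj hG hkS hk1 (hg ▸ h'.K_le_N hk)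
  rw [hg, MinSimpleBasic.map_conj_of_mem h2]

theorem sigmaCore_inf {M K N : Subgroup G} (h : IsPartner M K N) :
    sigmaCore M ⊓ N = star(M, K) := by
  apply le_antisymm
  · rintro d ⟨hdσ, hdN⟩
    refine Subgroup.mem_inf.2 ⟨hdσ, Subgroup.mem_centralizer_iff.2 ?_⟩
    intro k hk
    have h1 : d * k * d⁻¹ * k⁻¹ ∈ sigmaCore N :=
      (sigmaCore N).mul_mem ((Subgroup.mem_normalizer_iff.1
        (le_normalizer_sigmaCore N hdN) k).1 (h.K_le_sigmaCore hk))
        ((sigmaCore N).inv_mem (h.K_le_sigmaCore hk))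
    have h2 : d * k * d⁻¹ * k⁻¹ ∈ sigmaCore M := by
      have h3 : k * d⁻¹ * k⁻¹ ∈ sigmaCore M := (Subgroup.mem_normalizer_iff.1
        (le_normalizer_sigmaCore M (h.pair.K_le hk)) _).1 ((sigmaCore M).inv_mem hdσ)
      have h4 : d * k * d⁻¹ * k⁻¹ = d * (k * d⁻¹ * k⁻¹) := by group
      rw [h4]
      exact (sigmaCore M).mul_mem hdσ h3
    have h3 : d * k * d⁻¹ * k⁻¹ = 1 :=
      eq_one_of_pi (h.sigma_disj hG) (orderOf_pi (sigmaCore_isPi M) h2)
        (orderOf_pi (sigmaCore_isPi N) h1)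
    calc k * d = (d * k * d⁻¹ * k⁻¹)⁻¹ * (d * k) := by group
      _ = d * k := by rw [h3]; group
  · exact le_inf inf_le_left h.star_le_N

theorem inter {M K N : Subgroup G} (h : IsPartner M K N) : M ⊓ N = K ⊔ star(M, K) := by
  apply le_antisymm
  · rw [← h.pair.inf_normalizer_K hG]
    have h0 : sigmaCore N ⊓ M = K := by rw [h.symm.sigmaCore_inf hG, ← h.eq]
    have key : ∀ x ∈ M ⊓ N, ∀ k ∈ K, x * k * x⁻¹ ∈ K := by
      rintro x ⟨hxM, hxN⟩ k hk
      rw [← h0]
      exact ⟨(Subgroup.mem_normalizer_iff.1 (le_normalizer_sigmaCore N hxN) k).1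
        (h.K_le_sigmaCore hk), M.mul_mem (M.mul_mem hxM (h.pair.K_le hk)) (M.inv_mem hxM)⟩
    intro x hx
    refine Subgroup.mem_inf.2 ⟨hx.1, Subgroup.mem_normalizer_iff.2 ?_⟩
    intro k
    refine ⟨key x hx k, fun hk => ?_⟩
    have h1 := key x⁻¹ ((M ⊓ N).inv_mem hx) _ hk
    have h2 : x⁻¹ * (x * k * x⁻¹) * x⁻¹⁻¹ = k := by group
    rwa [h2] at h1
  · exact le_inf h.pair.Z_le (sup_le h.K_le_N h.star_le_N)

end IsPartner

end Cfsg.Agent.OddOrderLocal.Partner147
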