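import Mathlib
import Cfsg.Prelude.Def_OddOrderLocal
import Cfsg.Agent.OddOrderLocal.FitAux
import Cfsg.Agent.OddOrderLocal.PiCore
import Cfsg.Agent.Solvable.Hall
set_option linter.all false

/-!
Unconditional basic facts on the standard factorisation `M = K U M_σ` (`Cfsg.IsSigmaDecomposition M K U`):
`U M_σ` is a normal Hall `κ(M)'`-subgroup of `M` with complement `K`.
-/

set_option autoImplicit false
open Cfsg

namespace Cfsg.Agent.OddOrderLocal.SigmaDecomp

open Subgroup Cfsg.Agent.OddOrderLocal.FitAux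
open scoped Pointwise

variable {G : Type*} [Group G]

theorem not_mem_sigma_of_mem_kappa {M : Subgroup G} {p : ℕ} (hp : p ∈ kappa M) : p ∉ sigma M :=
  hp.2.2.1

theorem K_le {M K U : Subgroup G} (h : IsSigmaDecomposition M K U) : K ≤ M := h.hall.1

theorem U_le {M K U : Subgroup G} (h : IsSigmaDecomposition M K U) : U ≤ M := h.compl.1

theorem sup_le_M {M K U : Subgroup G} (h : IsSigmaDecomposition M K U) :
    U ⊔ sigmaCore M ≤ M := sup_le (U_le h) (sigmaCore_le M)

/-- Every prime divisor of the order of `M_σ` lies in `σ(M)`. -/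
theorem mem_sigma_of_dvd [Finite G] {M : Subgroup G} {p : ℕ} (hp : p.Prime)
    (h : p ∣ Nat.card (sigmaCore M)) : p ∈ sigma M := by
  have hc : Nat.card (sigmaCore M) = Nat.card (piCore (sigma M) M) :=
    (Nat.card_congr ((piCore (sigma M) M).equivMapOfInjective M.subtype
      M.subtype_injective).toEquiv).symm
  rw [hc] at h
  exact PiCore.piCore_isPi (sigma M) p hp h

/-- A `κ(M)`-subgroup and `M_σ` have coprime orders. -/
theorem coprime_card_sigmaCore [Finite G] {M K : Subgroup G}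
    (hK : ∀ p : ℕ, p.Prime → p ∣ Nat.card K → p ∈ kappa M) :
    (Nat.card K).Coprime (Nat.card (sigmaCore M)) := by
  rw [Nat.coprime_iff_gcd_eq_one]
  by_contra hne
  obtain ⟨p, hp, hd⟩ := Nat.exists_prime_and_dvd hne
  exact not_mem_sigma_of_mem_kappa (hK p hp (hd.trans (Nat.gcd_dvd_left _ _)))
    (mem_sigma_of_dvd hp (hd.trans (Nat.gcd_dvd_right _ _)))

theorem K_inf_sigmaCore [Finite G] {M K U : Subgroup G} (h : IsSigmaDecomposition M K U) :
    K ⊓ sigmaCore M = ⊥ :=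
  (Subgroup.disjoint_of_coprime_natCard (coprime_card_sigmaCore h.hall.2.1)).eq_bot

theorem mem_sup_iff {M V : Subgroup G} (hV : V ≤ M) (x : G) :
    x ∈ V ⊔ sigmaCore M ↔ ∃ v ∈ V, ∃ s ∈ sigmaCore M, x = v * s := by
  have h1 : V ≤ Subgroup.normalizer (sigmaCore M : Set G) := hV.trans (le_normalizer_sigmaCore M)
  rw [← SetLike.mem_coe, Subgroup.coe_mul_of_left_le_normalizer_right V (sigmaCore M) h1,
    Set.mem_mul]
  constructor
  · rintro ⟨v, hv, s, hs, rfl⟩
    exact ⟨v, hv, s, hs, rfl⟩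
  · rintro ⟨v, hv, s, hs, rfl⟩
    exact ⟨v, hv, s, hs, rfl⟩

theorem U_inf_sigmaCore {M K U : Subgroup G} (h : IsSigmaDecomposition M K U) :
    U ⊓ sigmaCore M = ⊥ := by
  rw [eq_bot_iff, ← h.compl.2.2.1]
  exact inf_le_inf_left _ le_sup_right

/-- `K ∩ U M_σ = 1`. -/
theorem K_inf_sup [Finite G] {M K U : Subgroup G} (h : IsSigmaDecomposition M K U) :
    K ⊓ (U ⊔ sigmaCore M) = ⊥ := by
  rw [eq_bot_iff]
  rintro k ⟨hk, hk'⟩
  obtain ⟨u, hu, s, hs, rfl⟩ := (mem_sup_iff (U_le h) k).1 hk'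
  have h1 : u ∈ U ⊓ (K ⊔ sigmaCore M) := by
    refine ⟨hu, ?_⟩
    have : u = (u * s) * s⁻¹ := by group
    rw [this]
    exact mul_mem (Subgroup.mem_sup_left hk) (Subgroup.mem_sup_right (inv_mem hs))
  rw [h.compl.2.2.1, Subgroup.mem_bot] at h1
  subst h1
  rw [one_mul] at hk ⊢
  have h2 : s ∈ K ⊓ sigmaCore M := ⟨hk, hs⟩
  rw [K_inf_sigmaCore h] at h2
  exact h2

/-- `M` normalizes `U M_σ`. -/
theorem le_normalizer_sup {M K U : Subgroup G} (h : IsSigmaDecomposition M K U) :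
    M ≤ Subgroup.normalizer ((U ⊔ sigmaCore M : Subgroup G) : Set G) := by
  have hfac := h.compl.2.2.2
  have hS := le_normalizer_sigmaCore M
  have h1 : U ≤ Subgroup.normalizer ((U ⊔ sigmaCore M : Subgroup G) : Set G) :=
    le_sup_left.trans Subgroup.le_normalizer
  have h2 : sigmaCore M ≤ Subgroup.normalizer ((U ⊔ sigmaCore M : Subgroup G) : Set G) :=
    le_sup_right.trans Subgroup.le_normalizer
  have h3 : K ≤ Subgroup.normalizer ((U ⊔ sigmaCore M : Subgroup G) : Set G) := by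
    intro k hk
    have hkU := h.normal hk
    have hkS := hS (K_le h hk)
    rw [Subgroup.mem_normalizer_iff_map_conj_eq] at *
    rw [Subgroup.map_sup, hkU, hkS]
  intro m hm
  obtain ⟨a, ha, b, hb, rfl⟩ := hfac m hm
  exact mul_mem (h1 ha) ((sup_le h3 h2) hb)

/-- Every element of `M` is a product `k n` with `k ∈ K`, `n ∈ U M_σ`. -/
theorem exists_mul {M K U : Subgroup G} (h : IsSigmaDecomposition M K U) {m : G} (hm : m ∈ M) :
    ∃ k ∈ K, ∃ n ∈ U ⊔ sigmaCore M, m = k * n := by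
  obtain ⟨u, hu, b, hb, rfl⟩ := h.compl.2.2.2 m hm
  obtain ⟨k, hk, s, hs, rfl⟩ := (mem_sup_iff (K_le h) b).1 hb
  refine ⟨k, hk, k⁻¹ * (u * k) * s, ?_, by group⟩
  refine mul_mem ?_ (Subgroup.mem_sup_right hs)
  have h1 : k⁻¹ * u * k⁻¹⁻¹ ∈ U ⊔ sigmaCore M :=
    (Subgroup.mem_normalizer_iff.1 (le_normalizer_sup h (inv_mem (K_le h hk))) u).1
      (Subgroup.mem_sup_left hu)
  rw [inv_inv] at h1
  rw [← mul_assoc]
  exact h1

/-- `K` is a complement of `U M_σ` in `M`. -/
theorem isComplement' [Finite G] {M K U : Subgroup G} (h : IsSigmaDecomposition M K U) :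
    (K.subgroupOf M).IsComplement' ((U ⊔ sigmaCore M).subgroupOf M) := by
  have : ((U ⊔ sigmaCore M).subgroupOf M).Normal := subgroupOf_normal (le_normalizer_sup h)
  apply Subgroup.isComplement'_of_disjoint_and_mul_eq_univ
  · rw [disjoint_iff, eq_bot_iff]
    rintro ⟨x, hx⟩ hx'
    rw [Subgroup.mem_inf, Subgroup.mem_subgroupOf, Subgroup.mem_subgroupOf] at hx'
    have h3 : x ∈ K ⊓ (U ⊔ sigmaCore M) := hx'
    rw [K_inf_sup h, Subgroup.mem_bot] at h3
    rw [Subgroup.mem_bot]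
    exact Subtype.ext h3
  · rw [Set.eq_univ_iff_forall]
    rintro ⟨x, hx⟩
    obtain ⟨k, hk, n, hn, rfl⟩ := exists_mul h hx
    exact Set.mem_mul.2 ⟨⟨k, K_le h hk⟩, hk, ⟨n, sup_le_M h hn⟩, hn, rfl⟩

/-- `|M| = |K| |U M_σ|`. -/
theorem card_eq [Finite G] {M K U : Subgroup G} (h : IsSigmaDecomposition M K U) :
    Nat.card M = Nat.card K * Nat.card (U ⊔ sigmaCore M : Subgroup G) := by
  rw [← (isComplement' h).card_mul_card, Nat.card_congr (Subgroup.subgroupOfEquivOfLe (K_le h)).toEquiv,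
    Nat.card_congr (Subgroup.subgroupOfEquivOfLe (sup_le_M h)).toEquiv]

/-- The index of `K` in `M` is the order of `U M_σ`. -/
theorem relIndex_K [Finite G] {M K U : Subgroup G} (h : IsSigmaDecomposition M K U) :
    K.relIndex M = Nat.card (U ⊔ sigmaCore M : Subgroup G) := by
  have h1 := card_mul_relIndex (K_le h)
  rw [card_eq h] at h1
  exact Nat.eq_of_mul_eq_mul_left Nat.card_pos h1

theorem coprime_card_K_card_sup [Finite G] {M K U : Subgroup G} (h : IsSigmaDecomposition M K U) :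
    (Nat.card K).Coprime (Nat.card (U ⊔ sigmaCore M : Subgroup G)) := by
  rw [← relIndex_K h]
  exact coprime_of_isPiHallOf h.hall

/-- `|U M_σ| = |U| |M_σ|`. -/
theorem card_sup [Finite G] {M K U : Subgroup G} (h : IsSigmaDecomposition M K U) :
    Nat.card (U ⊔ sigmaCore M : Subgroup G) = Nat.card U * Nat.card (sigmaCore M) := by
  set N : Subgroup G := U ⊔ sigmaCore M with hN
  have hUN : U ≤ N := le_sup_left
  have hSN : sigmaCore M ≤ N := le_sup_right
  have hc : (U.subgroupOf N).IsComplement' ((sigmaCore M).subgroupOf N) := by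
    have : ((sigmaCore M).subgroupOf N).Normal :=
      subgroupOf_normal ((sup_le_M h).trans (le_normalizer_sigmaCore M))
    apply Subgroup.isComplement'_of_disjoint_and_mul_eq_univ
    · rw [disjoint_iff, eq_bot_iff]
      rintro ⟨x, hx⟩ hx'
      rw [Subgroup.mem_inf, Subgroup.mem_subgroupOf, Subgroup.mem_subgroupOf] at hx'
      have h3 : x ∈ U ⊓ sigmaCore M := hx'
      rw [U_inf_sigmaCore h, Subgroup.mem_bot] at h3
      rw [Subgroup.mem_bot]
      exact Subtype.ext h3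
    · rw [Set.eq_univ_iff_forall]
      rintro ⟨x, hx⟩
      obtain ⟨u, hu, s, hs, rfl⟩ := (mem_sup_iff (U_le h) x).1 hx
      exact Set.mem_mul.2 ⟨⟨u, hUN hu⟩, hu, ⟨s, hSN hs⟩, hs, rfl⟩
  rw [← hc.card_mul_card, Nat.card_congr (Subgroup.subgroupOfEquivOfLe hUN).toEquiv,
    Nat.card_congr (Subgroup.subgroupOfEquivOfLe hSN).toEquiv]

/-- The primes of `U M_σ` do not lie in `κ(M)`. -/
theorem not_mem_kappa_of_dvd [Finite G] {M K U : Subgroup G} (h : IsSigmaDecomposition M K U)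
    {p : ℕ} (hp : p.Prime) (hd : p ∣ Nat.card (U ⊔ sigmaCore M : Subgroup G)) : p ∉ kappa M := by
  intro hk
  rw [← relIndex_K h] at hd
  exact h.hall.2.2 p hp hk hd

/-- The primes of `U` do not lie in `σ(M)` if `M_σ` is a Hall subgroup of `M`. -/
theorem not_mem_sigma_of_dvd_U [Finite G] {M K U : Subgroup G} (h : IsSigmaDecomposition M K U)
    (hS : IsPiHallOf (sigma M) (sigmaCore M) M) {p : ℕ} (hp : p.Prime) (hd : p ∣ Nat.card U) :
    p ∉ sigma M := by
  intro hs
  refine hS.2.2 p hp hs ?_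
  have h1 := card_mul_relIndex (sigmaCore_le M)
  rw [card_eq h, card_sup h] at h1
  have h2 : Nat.card (sigmaCore M) * (sigmaCore M).relIndex M =
      Nat.card (sigmaCore M) * (Nat.card K * Nat.card U) := by rw [h1]; ring
  rw [Nat.eq_of_mul_eq_mul_left Nat.card_pos h2]
  exact hd.mul_left _

/-- An element of `M` of order prime to `|K|` lies in `U M_σ`. -/
theorem mem_sup_of_coprime [Finite G] {M K U : Subgroup G} (h : IsSigmaDecomposition M K U)
    {x : G} (hx : x ∈ M) (hc : (orderOf x).Coprime (Nat.card K)) : x ∈ U ⊔ sigmaCore M := by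
  have hn : ((U ⊔ sigmaCore M).subgroupOf M).Normal := subgroupOf_normal (le_normalizer_sup h)
  have hi : ((U ⊔ sigmaCore M).subgroupOf M).index = Nat.card K := by
    have := card_mul_relIndex (sup_le_M h)
    rw [card_eq h, mul_comm] at this
    exact Nat.eq_of_mul_eq_mul_right Nat.card_pos this
  have h1 : (QuotientGroup.mk' ((U ⊔ sigmaCore M).subgroupOf M) ⟨x, hx⟩) = 1 := by
    rw [← orderOf_eq_one_iff]
    have h2 : orderOf (QuotientGroup.mk' ((U ⊔ sigmaCore M).subgroupOf M) ⟨x, hx⟩) ∣ orderOf x := by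
      refine (orderOf_map_dvd _ _).trans ?_
      rw [← Subgroup.orderOf_coe]
    have h3 : orderOf (QuotientGroup.mk' ((U ⊔ sigmaCore M).subgroupOf M) ⟨x, hx⟩) ∣ Nat.card K := by
      rw [← hi, Subgroup.index_eq_card]
      exact orderOf_dvd_natCard _
    exact Nat.eq_one_of_dvd_coprimes hc h2 h3
  rw [QuotientGroup.mk'_apply, QuotientGroup.eq_one_iff, Subgroup.mem_subgroupOf] at h1
  exact h1

/-- In a solvable `M`, an element of `M` whose order is prime to `|U M_σ|` is `M`-conjugate into `K`. -/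
theorem exists_conj_mem_K [Finite G] {M K U : Subgroup G} (h : IsSigmaDecomposition M K U)
    (hs : Group.IsSolvable M) {x : G} (hx : x ∈ M)
    (hc : (orderOf x).Coprime (Nat.card (U ⊔ sigmaCore M : Subgroup G))) :
    ∃ m ∈ M, m * x * m⁻¹ ∈ K := by
  have hM : Nat.card M = Nat.card K * Nat.card (U ⊔ sigmaCore M : Subgroup G) := card_eq h
  obtain ⟨g, hg⟩ := Solvable.Hall.hall_conj_le (G := M) (Nat.card K)
    (Nat.card (U ⊔ sigmaCore M : Subgroup G)) hM (coprime_card_K_card_sup h)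
    (K.subgroupOf M) (Subgroup.zpowers (⟨x, hx⟩ : M))
    (Nat.card_congr (Subgroup.subgroupOfEquivOfLe (K_le h)).toEquiv)
    (by rw [Nat.card_zpowers, ← Subgroup.orderOf_coe]; exact hc)
  refine ⟨g, g.2, ?_⟩
  have h1 : g * ⟨x, hx⟩ * g⁻¹ ∈ K.subgroupOf M := by
    apply hg
    rw [← MulAut.conj_apply, ← MulAut.smul_def]
    exact Subgroup.smul_mem_pointwise_smul _ _ _ (Subgroup.mem_zpowers _)
  rw [Subgroup.mem_subgroupOf] at h1
  exact h1

/-- An element of the solvable group `M` outside `U M_σ` is conjugate in `M` to one centralizing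
a nontrivial element of `K`. -/
theorem exists_conj_commute [Finite G] {M K U : Subgroup G} (h : IsSigmaDecomposition M K U)
    (hs : Group.IsSolvable M) {a : G} (ha : a ∈ M) (ha' : a ∉ U ⊔ sigmaCore M) :
    ∃ m ∈ M, ∃ k ∈ K, k ≠ 1 ∧ Commute k (m * a * m⁻¹) := by
  set e := Nat.card K with he
  set f := Nat.card (U ⊔ sigmaCore M : Subgroup G) with hf
  have hef : e.Coprime f := coprime_card_K_card_sup h
  have hM : a ^ (e * f) = 1 := by
    have h1 : (⟨a, ha⟩ : M) ^ (Nat.card M) = 1 := pow_card_eq_one'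
    rw [card_eq h] at h1
    exact congrArg Subtype.val h1
  have hMz : a ^ ((e : ℤ) * f) = 1 := by
    have : a ^ ((e : ℤ) * f) = a ^ (e * f) := by rw [← zpow_natCast]; push_cast; rfl
    rw [this, hM]
  have hbez : (1 : ℤ) = e * e.gcdA f + f * e.gcdB f := by
    have := Nat.gcd_eq_gcd_ab e f
    rw [Nat.coprime_iff_gcd_eq_one.1 hef] at this
    exact_mod_cast this
  set b := a ^ ((f : ℤ) * e.gcdB f) with hb
  set c := a ^ ((e : ℤ) * e.gcdA f) with hc
  have hbc : a = c * b := by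
    rw [hb, hc, ← zpow_add, ← hbez, zpow_one]
  have hbe : b ^ e = 1 := by
    rw [hb, ← zpow_natCast, ← zpow_mul,
      show (f : ℤ) * e.gcdB f * (e : ℕ) = (e * f) * e.gcdB f by ring, zpow_mul, hMz, one_zpow]
  have hcf : c ^ f = 1 := by
    rw [hc, ← zpow_natCast, ← zpow_mul,
      show (e : ℤ) * e.gcdA f * (f : ℕ) = (e * f) * e.gcdA f by ring, zpow_mul, hMz, one_zpow]
  have hcM : c ∈ M := zpow_mem ha _
  have hbM : b ∈ M := zpow_mem ha _
  have hcN : c ∈ U ⊔ sigmaCore M :=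
    mem_sup_of_coprime h hcM ((hef.coprime_dvd_right (orderOf_dvd_of_pow_eq_one hcf)).symm)
  have hb1 : b ≠ 1 := by
    intro h1
    rw [h1, mul_one] at hbc
    rw [hbc] at ha'
    exact ha' hcN
  obtain ⟨m, hm, hmK⟩ := exists_conj_mem_K h hs hbM
    (hef.coprime_dvd_left (orderOf_dvd_of_pow_eq_one hbe))
  refine ⟨m, hm, _, hmK, ?_, ?_⟩
  · intro h1
    apply hb1
    have : b = m⁻¹ * (m * b * m⁻¹) * m := by group
    rw [this, h1]
    group
  · have h1 : Commute b a := (Commute.refl a).zpow_left _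
    change m * b * m⁻¹ * (m * a * m⁻¹) = m * a * m⁻¹ * (m * b * m⁻¹)
    calc m * b * m⁻¹ * (m * a * m⁻¹) = m * (b * a) * m⁻¹ := by group
      _ = m * (a * b) * m⁻¹ := by rw [h1.eq]
      _ = m * a * m⁻¹ * (m * b * m⁻¹) := by group

end Cfsg.Agent.OddOrderLocal.SigmaDecomp
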