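import Mathlib
import Cfsg.Prelude.Def_OddOrderLocal
import Cfsg.Agent.OddOrderLocal.FitAux
import Cfsg.Agent.OddOrderLocal.MinSimple
import Cfsg.Agent.OddOrderLocal.Equivariance
set_option linter.all false

/-!
Facts on subgroups of Frobenius type (`Cfsg.IsOfTypeF`): it excludes a nontrivial Hall subgroup all of
whose non-identity elements centralize a common nontrivial subgroup of `M_F`; hence type F (in
particular Type I) excludes type P.
-/

set_option autoImplicit false
open Cfsg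

namespace Cfsg.Agent.OddOrderLocal.TypeFData

open Subgroup

variable {G : Type*} [Group G]

/-- A `p`-subgroup is conjugate into every subgroup of index prime to `p`. -/
theorem exists_conj_le_of_not_dvd_index [Finite G] {p : ℕ} [Fact p.Prime] {W X : Subgroup G}
    (hW : ¬ p ∣ W.index) (hX : IsPGroup p X) :
    ∃ g : G, X.map (MulAut.conj g).toMonoidHom ≤ W := by
  obtain ⟨P⟩ : Nonempty (Sylow p W) := inferInstance
  have hPp : IsPGroup p ((P : Subgroup W).map W.subtype : Subgroup G) := P.2.map _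
  have hind : ¬ p ∣ ((P : Subgroup W).map W.subtype : Subgroup G).index := by
    rw [Subgroup.index_map_subtype]
    intro h
    rcases (Fact.out : p.Prime).dvd_mul.1 h with h | h
    · exact P.not_dvd_index h
    · exact hW h
  let S : Sylow p G := hPp.toSylow hind
  obtain ⟨Q, hQ⟩ := hX.exists_le_sylow
  obtain ⟨g, hg⟩ := MulAction.exists_smul_eq G Q S
  refine ⟨g, ?_⟩
  have h1 : (Q : Subgroup G).map (MulAut.conj g).toMonoidHom = (S : Subgroup G) := by
    rw [← hg]
    rfl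
  calc X.map (MulAut.conj g).toMonoidHom ≤ (Q : Subgroup G).map (MulAut.conj g).toMonoidHom :=
        Subgroup.map_mono hQ
    _ = (S : Subgroup G) := h1
    _ ≤ W := Subgroup.map_subtype_le _

/-- An element of prime order `p` of `M` is `M`-conjugate into every subgroup of `M` whose index in `M` is
prime to `p`. -/
theorem exists_conj_mem_of_not_dvd_relIndex [Finite G] {p : ℕ} [Fact p.Prime] {M W : Subgroup G}
    (hW : ¬ p ∣ W.relIndex M) {u : G} (hu : u ∈ M) (hup : IsPGroup p (Subgroup.zpowers u)) :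
    ∃ m ∈ M, m * u * m⁻¹ ∈ W := by
  have h1 : IsPGroup p (Subgroup.zpowers (⟨u, hu⟩ : M)) := by
    have h2 : (Subgroup.zpowers (⟨u, hu⟩ : M)).map M.subtype = Subgroup.zpowers u := by
      rw [MonoidHom.map_zpowers]; rfl
    intro x
    obtain ⟨k, hk⟩ := hup ⟨(x : G), by
      rw [← h2]; exact Subgroup.mem_map_of_mem _ x.2⟩
    refine ⟨k, ?_⟩
    apply Subtype.ext
    apply Subtype.ext
    have := congrArg Subtype.val hk
    simpa using this
  obtain ⟨g, hg⟩ := exists_conj_le_of_not_dvd_index (G := M) (W := W.subgroupOf M) hW h1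
  refine ⟨g, g.2, ?_⟩
  have h3 : (MulAut.conj g).toMonoidHom (⟨u, hu⟩ : M) ∈ W.subgroupOf M :=
    hg (Subgroup.mem_map_of_mem _ (Subgroup.mem_zpowers _))
  rw [Subgroup.mem_subgroupOf] at h3
  simpa using h3

/-- If `M` is of Frobenius type, then no nontrivial subgroup `W₁` of `M` of order prime to its index in `M`
and to the order of `M_F` has all its non-identity elements centralizing one and the same
nontrivial subgroup `W₂` of `M_F`. -/
theorem not_isOfTypeF_of_fixed [Finite G] {M W₁ W₂ : Subgroup G} (hF : Cfsg.IsOfTypeF M)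
    (hW₁M : W₁ ≤ M) (hW₁ : W₁ ≠ ⊥) (hhall : (Nat.card W₁).Coprime (W₁.relIndex M))
    (hcop : (Nat.card W₁).Coprime (Nat.card (Cfsg.fittingHallOf M)))
    (hW₂ : W₂ ≠ ⊥) (hW₂le : W₂ ≤ Cfsg.fittingHallOf M)
    (hc : ∀ x ∈ W₁, x ≠ 1 → ∀ y ∈ W₂, x * y = y * x) : False := by
  obtain ⟨-, -, -, -, V, -, hV, -, V₀, hV₀, hexp, hfree⟩ := hF
  -- a prime dividing the order of `W₁`
  have hcard : Nat.card W₁ ≠ 1 := by
    intro h
    exact hW₁ (Subgroup.card_eq_one.mp h)
  obtain ⟨p, hp, hpd⟩ := Nat.exists_prime_and_dvd hcard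
  have : Fact p.Prime := ⟨hp⟩
  have hp1 : ¬ p ∣ W₁.relIndex M := fun h => by
    have := Nat.dvd_gcd hpd h
    rw [hhall] at this
    exact hp.one_lt.ne' (Nat.dvd_one.mp this)
  have hp2 : ¬ p ∣ Nat.card (Cfsg.fittingHall M) := fun h => by
    have h1 : Nat.card (Cfsg.fittingHallOf M) = Nat.card (Cfsg.fittingHall M) :=
      Subgroup.card_map_of_injective (Subgroup.subtype_injective M)
    have := Nat.dvd_gcd hpd (h1 ▸ h)
    rw [hcop] at this
    exact hp.one_lt.ne' (Nat.dvd_one.mp this)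
  -- hence it divides the exponent of `V`, and so the order of `V₀`
  have hpV : p ∣ Nat.card V := by
    have h1 : Nat.card (Cfsg.fittingHall M) * Nat.card V = Nat.card M := hV.card_mul_card
    have h2 : p ∣ Nat.card M := hpd.trans (Subgroup.card_dvd_of_le hW₁M)
    rw [← h1] at h2
    exact (hp.dvd_mul.mp h2).resolve_left hp2
  have hpV₀ : p ∣ Nat.card V₀ := by
    obtain ⟨v, hv⟩ := exists_prime_orderOf_dvd_card' p hpV
    have h1 : p ∣ Monoid.exponent V := hv ▸ Monoid.order_dvd_exponent v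
    rw [← hexp] at h1
    exact h1.trans Group.exponent_dvd_nat_card
  obtain ⟨u, hu⟩ := exists_prime_orderOf_dvd_card' p hpV₀
  have hu1 : (u : M) ≠ 1 := by
    intro h
    have : u = 1 := Subtype.ext h
    rw [this, orderOf_one] at hu
    exact hp.one_lt.ne hu
  have huo : orderOf ((u : M) : G) = p := by
    rw [Subgroup.orderOf_coe, Subgroup.orderOf_coe, hu]
  have hupg : IsPGroup p (Subgroup.zpowers ((u : M) : G)) := by
    refine IsPGroup.of_card (n := 1) ?_
    rw [Nat.card_zpowers, huo, pow_one]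
  obtain ⟨m, hm, hmu⟩ := exists_conj_mem_of_not_dvd_relIndex hp1 (u : M).2 hupg
  obtain ⟨y, hy⟩ := Subgroup.ne_bot_iff_exists_ne_one.mp hW₂
  have hmu1 : m * ((u : M) : G) * m⁻¹ ≠ 1 := by
    intro h
    apply hu1
    apply Subtype.ext
    have := congrArg (fun z => m⁻¹ * z * m) h
    simpa [mul_assoc] using this
  have hcomm := hc _ hmu hmu1 y y.2
  obtain ⟨y', hy', hyy'⟩ := hW₂le y.2
  have hyy' : (y' : G) = (y : G) := hyy'
  -- transport back
  set m' : M := ⟨m, hm⟩ with hm'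
  have h1 : m'⁻¹ * y' * m' ∈ Cfsg.fittingHall M := by
    have := (Cfsg.fittingHall_normal M).conj_mem y' hy' m'⁻¹
    simpa using this
  have h2 : (u : M) * (m'⁻¹ * y' * m') = (m'⁻¹ * y' * m') * (u : M) := by
    apply Subtype.ext
    have e : ((m' : M) : G) = m := rfl
    simp only [Subgroup.coe_mul, InvMemClass.coe_inv, e, hyy']
    have e1 : ((u : M) : G) = m⁻¹ * (m * ((u : M) : G) * m⁻¹) * m := by group
    calc ((u : M) : G) * (m⁻¹ * (y : G) * m)
        = m⁻¹ * ((m * ((u : M) : G) * m⁻¹) * (y : G)) * m := by group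
      _ = m⁻¹ * ((y : G) * (m * ((u : M) : G) * m⁻¹)) * m := by rw [hcomm]
      _ = m⁻¹ * (y : G) * m * ((u : M) : G) := by group
  have h3 := hfree (u : M) u.2 hu1 _ h1 h2
  apply hy
  apply Subtype.ext
  have h4 : y' = 1 := by
    have := congrArg (fun z => m' * z * m'⁻¹) h3
    simpa [mul_assoc] using this
  rw [← hyy', h4]
  rfl

/-- Orders of complements (in the sense of `IsComplIn`). -/
theorem card_mul_card_of_isComplIn {A B M : Subgroup G} (h : Cfsg.IsComplIn A B M) :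
    Nat.card A * Nat.card B = Nat.card M := by
  obtain ⟨hA, hB, hdisj, hfac⟩ := h
  have hbij : Function.Bijective (fun x : A × B =>
      (⟨(x.1 : G) * (x.2 : G), M.mul_mem (hA x.1.2) (hB x.2.2)⟩ : M)) := by
    constructor
    · rintro ⟨a, b⟩ ⟨a', b'⟩ h
      have h' : (a : G) * (b : G) = (a' : G) * (b' : G) := congrArg Subtype.val h
      have h4 : (a' : G)⁻¹ * (a : G) = (b' : G) * (b : G)⁻¹ := by
        calc (a' : G)⁻¹ * (a : G) = (a' : G)⁻¹ * ((a : G) * (b : G)) * (b : G)⁻¹ := by group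
          _ = (b' : G) * (b : G)⁻¹ := by rw [h']; group
      have h5 : (a' : G)⁻¹ * (a : G) ∈ A ⊓ B :=
        ⟨Subgroup.mul_mem _ (Subgroup.inv_mem _ a'.2) a.2, by
          rw [h4]; exact B.mul_mem b'.2 (B.inv_mem b.2)⟩
      rw [hdisj, Subgroup.mem_bot] at h5
      have h6 : (a : G) = a' := by
        have := congrArg (fun z => (a' : G) * z) h5
        simpa using this
      have h7 : (b : G) = b' := by
        rw [h6] at h'
        exact mul_left_cancel h'
      exact Prod.ext (Subtype.ext h6) (Subtype.ext h7)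
    · intro m
      obtain ⟨a, ha, b, hb, hab⟩ := hfac m m.2
      exact ⟨(⟨a, ha⟩, ⟨b, hb⟩), Subtype.ext hab.symm⟩
  rw [← Nat.card_prod]
  exact Nat.card_congr (Equiv.ofBijective _ hbij)

theorem relIndex_left_of_isComplIn [Finite G] {A B M : Subgroup G} (h : Cfsg.IsComplIn A B M) :
    A.relIndex M = Nat.card B := by
  have h1 := card_mul_card_of_isComplIn h
  have h2 := FitAux.card_mul_relIndex h.1
  exact Nat.eq_of_mul_eq_mul_left (Nat.card_pos (α := A)) (h2.trans h1.symm)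

theorem relIndex_right_of_isComplIn [Finite G] {A B M : Subgroup G} (h : Cfsg.IsComplIn A B M) :
    B.relIndex M = Nat.card A := by
  have h1 := card_mul_card_of_isComplIn h
  have h2 := FitAux.card_mul_relIndex h.2.1
  rw [mul_comm] at h1
  exact Nat.eq_of_mul_eq_mul_left (Nat.card_pos (α := B)) (h2.trans h1.symm)

theorem isComplIn_symm {A B M : Subgroup G} (h : Cfsg.IsComplIn A B M) : Cfsg.IsComplIn B A M := by
  refine ⟨h.2.1, h.1, by rw [inf_comm]; exact h.2.2.1, ?_⟩
  intro m hm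
  obtain ⟨a, ha, b, hb, hab⟩ := h.2.2.2 m⁻¹ (M.inv_mem hm)
  refine ⟨b⁻¹, B.inv_mem hb, a⁻¹, A.inv_mem ha, ?_⟩
  rw [← mul_inv_rev, ← hab, inv_inv]

/-- Type F excludes type P (in particular Type I excludes Types II, III, IV and V). -/
theorem not_isTypePWith_of_isOfTypeF [Finite G] {M W₁ V W₂ : Subgroup G} (hF : Cfsg.IsOfTypeF M)
    (hP : Cfsg.IsTypePWith M W₁ V W₂) : False := by
  have hW₁M : W₁ ≤ M := hP.W₁_compl.2.1
  have hH : Cfsg.fittingHallOf M ≤ ⁅M, M⁆ := hP.U_compl.1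
  obtain ⟨hW1, hW2, hdisj, hcomm, -, -⟩ := hP.selfNormalizing
  -- the order of `M_F` divides the index of `W₁` in `M`
  have hcop : (Nat.card W₁).Coprime (Nat.card (Cfsg.fittingHallOf M)) := by
    have h7 := hP.W₁_hall
    rw [relIndex_right_of_isComplIn hP.W₁_compl] at h7
    exact Nat.Coprime.coprime_dvd_right (Subgroup.card_dvd_of_le hH) h7
  refine not_isOfTypeF_of_fixed hF hW₁M hW1 hP.W₁_hall hcop hW2 (hP.W₂_le.trans inf_le_left) ?_
  intro x hx _ y hy
  exact hcomm x hx y hy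

theorem not_isOfTypeP_of_isOfTypeF [Finite G] {M : Subgroup G} (hF : Cfsg.IsOfTypeF M) :
    ¬ Cfsg.IsOfTypeP M := by
  rintro ⟨W₁, V, W₂, hP⟩
  exact not_isTypePWith_of_isOfTypeF hF hP

theorem not_isOfTypeP_of_isOfTypeI [Finite G] {M : Subgroup G} (hF : Cfsg.IsOfTypeI M) :
    ¬ Cfsg.IsOfTypeP M :=
  not_isOfTypeP_of_isOfTypeF hF.1

theorem isOfTypeP_of_isOfTypeII {M : Subgroup G} (h : Cfsg.IsOfTypeII M) : Cfsg.IsOfTypeP M := by
  obtain ⟨W₁, U, W₂, hP, -⟩ := h
  exact ⟨W₁, U, W₂, hP⟩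

theorem isOfTypeP_of_isOfTypeIII {M : Subgroup G} (h : Cfsg.IsOfTypeIII M) : Cfsg.IsOfTypeP M := by
  obtain ⟨W₁, U, W₂, hP, -⟩ := h
  exact ⟨W₁, U, W₂, hP⟩

theorem isOfTypeP_of_isOfTypeIV {M : Subgroup G} (h : Cfsg.IsOfTypeIV M) : Cfsg.IsOfTypeP M := by
  obtain ⟨W₁, U, W₂, hP, -⟩ := h
  exact ⟨W₁, U, W₂, hP⟩

theorem isOfTypeP_of_isOfTypeV {M : Subgroup G} (h : Cfsg.IsOfTypeV M) : Cfsg.IsOfTypeP M := by
  obtain ⟨W₁, U, W₂, hP, -⟩ := h
  exact ⟨W₁, U, W₂, hP⟩

end Cfsg.Agent.OddOrderLocal.TypeFData
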