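import Mathlib
import Cfsg.Prelude.Def_OddOrderLocal
import Cfsg.Agent.OddOrderLocal.Rank
import Cfsg.Agent.OddOrderLocal.RankOneCyclic
set_option linter.all false

/-!
Elements and cyclic subgroups acting freely on `M_σ`: reduction to elements of prime order, primes outside
`σ(M) ∪ κ(M)` with cyclic Sylow subgroup, and the construction of an element of order `exp U` of an abelian group
acting freely from elements of order `p ^ a` for the primes `p`.
-/

set_option autoImplicit false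

namespace Cfsg.Agent.OddOrderLocal.FreeCyclic

open Subgroup
open scoped Pointwise

variable {G : Type*} [Group G]

/-- In a finite cyclic group an element whose order divides that of `b` is a power of `b`. -/
theorem mem_zpowers_of_orderOf_dvd {C : Type*} [Group C] [Finite C] [IsCyclic C] {a b : C}
    (h : orderOf a ∣ orderOf b) : a ∈ Subgroup.zpowers b := by
  classical
  have := Fintype.ofFinite C
  have h1 : (Finset.univ.filter (fun x : C => x ^ orderOf b = 1)).card ≤ orderOf b :=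
    IsCyclic.card_pow_eq_one_le (orderOf_pos b)
  have h2 : (Finset.univ.filter (fun x : C => x ∈ Subgroup.zpowers b)).card = orderOf b := by
    rw [← Nat.card_zpowers, ← Fintype.card_subtype, Nat.card_eq_fintype_card]
  have h3 : Finset.univ.filter (fun x : C => x ∈ Subgroup.zpowers b) ⊆
      Finset.univ.filter (fun x : C => x ^ orderOf b = 1) := by
    intro x hx
    rw [Finset.mem_filter] at hx ⊢
    exact ⟨Finset.mem_univ _, orderOf_dvd_iff_pow_eq_one.mp (orderOf_dvd_of_mem_zpowers hx.2)⟩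
  have h4 := Finset.eq_of_subset_of_card_le h3 (by rw [h2]; exact h1)
  have h5 : a ∈ Finset.univ.filter (fun x : C => x ^ orderOf b = 1) :=
    Finset.mem_filter.mpr ⟨Finset.mem_univ _, orderOf_dvd_iff_pow_eq_one.mp h⟩
  rw [← h4, Finset.mem_filter] at h5
  exact h5.2

/-- Two powers of `x` with orders dividing one another. -/
theorem mem_zpowers_of_mem_zpowers [Finite G] {x a b : G} (ha : a ∈ Subgroup.zpowers x)
    (hb : b ∈ Subgroup.zpowers x) (h : orderOf a ∣ orderOf b) : a ∈ Subgroup.zpowers b := by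
  have h1 := mem_zpowers_of_orderOf_dvd (C := Subgroup.zpowers x) (a := ⟨a, ha⟩) (b := ⟨b, hb⟩)
    (by rwa [Subgroup.orderOf_mk, Subgroup.orderOf_mk])
  obtain ⟨k, hk⟩ := h1
  exact ⟨k, congrArg Subtype.val hk⟩

/-- `M` normalizes `M_σ`, element form. -/
theorem conj_mem_sigmaCore {M : Subgroup G} {m y : G} (hm : m ∈ M) (hy : y ∈ Cfsg.sigmaCore M) :
    m * y * m⁻¹ ∈ Cfsg.sigmaCore M := by
  obtain ⟨z, hz, rfl⟩ := Subgroup.mem_map.mp hy
  exact Subgroup.mem_map.mpr ⟨⟨m, hm⟩ * z * ⟨m, hm⟩⁻¹,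
    (Cfsg.piCore_normal (Cfsg.sigma M) M).conj_mem z hz ⟨m, hm⟩, rfl⟩

/-- `C_{M_σ}(x) ≤ C_{M_σ}(x ^ k)`. -/
theorem inf_centralizer_le_pow (S : Subgroup G) (x : G) (k : ℕ) :
    S ⊓ Subgroup.centralizer ({x} : Set G) ≤ S ⊓ Subgroup.centralizer ({x ^ k} : Set G) := by
  refine inf_le_inf le_rfl ?_
  intro y hy
  rw [Subgroup.mem_centralizer_singleton_iff] at hy ⊢
  exact ((show Commute y x from hy).pow_right k)

theorem inf_centralizer_le_of_mem_zpowers (S : Subgroup G) {x e : G}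
    (he : e ∈ Subgroup.zpowers x) :
    S ⊓ Subgroup.centralizer ({x} : Set G) ≤ S ⊓ Subgroup.centralizer ({e} : Set G) := by
  refine inf_le_inf le_rfl ?_
  intro y hy
  rw [Subgroup.mem_centralizer_singleton_iff] at hy ⊢
  obtain ⟨k, rfl⟩ := he
  exact ((show Commute y x from hy).zpow_right k)

/-- Membership in `M̂_σ` in terms of centralizers. -/
theorem mem_sigmaHat_iff {M : Subgroup G} {a : G} :
    a ∈ Cfsg.sigmaHat M ↔ a ∈ M ∧ Cfsg.sigmaCore M ⊓ Subgroup.centralizer ({a} : Set G) ≠ ⊥ := by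
  constructor
  · rintro ⟨haM, y, hy, hy1, hc⟩
    refine ⟨haM, fun h => hy1 ?_⟩
    have : y ∈ Cfsg.sigmaCore M ⊓ Subgroup.centralizer ({a} : Set G) := by
      refine Subgroup.mem_inf.mpr ⟨hy, ?_⟩
      rw [Subgroup.mem_centralizer_singleton_iff]
      exact hc.symm
    rwa [h, Subgroup.mem_bot] at this
  · rintro ⟨haM, h⟩
    obtain ⟨⟨y, hy, hyc⟩, hy1⟩ := Subgroup.ne_bot_iff_exists_ne_one.mp h
    refine ⟨haM, y, hy, fun h1 => hy1 (Subtype.ext h1), ?_⟩
    have h2 := Subgroup.mem_centralizer_singleton_iff.mp hyc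
    exact h2.symm

/-- A finite subgroup element `u ≠ 1` with nontrivial centralizer in `S` has a power of prime order with nontrivial
centralizer in `S`. -/
theorem exists_prime_power_mem {S : Subgroup G} [Finite G] {u : G} (hu : u ≠ 1)
    (h : S ⊓ Subgroup.centralizer ({u} : Set G) ≠ ⊥) :
    ∃ p : ℕ, p.Prime ∧ p ∣ orderOf u ∧ ∃ e ∈ Subgroup.zpowers u, orderOf e = p ∧
      S ⊓ Subgroup.centralizer ({e} : Set G) ≠ ⊥ := by
  have h1 : orderOf u ≠ 1 := fun h => hu (orderOf_eq_one_iff.mp h)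
  obtain ⟨p, hp, hpu⟩ := Nat.exists_prime_and_dvd h1
  refine ⟨p, hp, hpu, u ^ (orderOf u / p), Subgroup.pow_mem _ (Subgroup.mem_zpowers u) _, ?_, ?_⟩
  · exact orderOf_pow_orderOf_div (orderOf_pos u).ne' hpu
  · intro h2
    exact h (le_bot_iff.mp (h2 ▸ inf_centralizer_le_pow S u _))

/-- For a prime `p` dividing the order of `M`, outside `σ(M)` and `κ(M)`, with cyclic Sylow `p`-subgroup, the elements
of order `p` of `M` act freely on `M_σ`. -/
theorem inf_centralizer_eq_bot_of_not_mem_kappa [Finite G] {M : Subgroup G} {p : ℕ}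
    (hp : p.Prime) (hσ : p ∉ Cfsg.sigma M) (hκ : p ∉ Cfsg.kappa M)
    (hcyc : ∀ P : Sylow p M, IsCyclic P) {e : G} (heM : e ∈ M) (he : orderOf e = p) :
    Cfsg.sigmaCore M ⊓ Subgroup.centralizer ({e} : Set G) = ⊥ := by
  have : Fact p.Prime := ⟨hp⟩
  by_contra hne
  apply hκ
  refine ⟨hp, ?_, hσ, ?_⟩
  · rw [← he]
    rw [← Subgroup.orderOf_mk e heM]
    exact orderOf_dvd_natCard _
  · intro P
    refine ⟨hcyc P, ?_⟩
    -- a conjugate of `e` lies in `P`
    have hE : IsPGroup p (Subgroup.zpowers (⟨e, heM⟩ : M)) := by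
      apply IsPGroup.of_card (n := 1)
      rw [Nat.card_zpowers, Subgroup.orderOf_mk, he, pow_one]
    obtain ⟨Q, hQ⟩ := hE.exists_le_sylow
    obtain ⟨m, hm⟩ := MulAction.exists_smul_eq M Q P
    obtain ⟨⟨y, hy, hyc⟩, hy1⟩ := Subgroup.ne_bot_iff_exists_ne_one.mp hne
    refine ⟨m * ⟨e, heM⟩ * m⁻¹, ?_, ?_, m * y * m⁻¹, ?_, ?_, ?_⟩
    · rw [← hm]
      have h1 : (⟨e, heM⟩ : M) ∈ (Q : Subgroup M) := hQ (Subgroup.mem_zpowers _)
      have h2 : MulAut.conj m • (⟨e, heM⟩ : M) ∈ MulAut.conj m • (Q : Subgroup M) :=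
        Subgroup.smul_mem_pointwise_smul _ _ _ h1
      rw [Sylow.coe_subgroup_smul]
      exact h2
    · intro h1
      have h2 : (⟨e, heM⟩ : M) = 1 := by
        have := conj_eq_one_iff.mp h1
        exact this
      have h3 : e = 1 := congrArg Subtype.val h2
      rw [h3, orderOf_one] at he
      exact hp.one_lt.ne he
    · exact conj_mem_sigmaCore m.2 hy
    · intro h1
      apply hy1
      apply Subtype.ext
      exact conj_eq_one_iff.mp h1
    · have h2 := Subgroup.mem_centralizer_singleton_iff.mp hyc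
      have h3 : e * y = y * e := h2.symm
      simp only [Subgroup.coe_mul, Subgroup.coe_inv]
      calc (m : G) * e * (m : G)⁻¹ * (m * y * (m : G)⁻¹) = m * (e * y) * (m : G)⁻¹ := by group
        _ = m * (y * e) * (m : G)⁻¹ := by rw [h3]
        _ = m * y * (m : G)⁻¹ * (m * e * (m : G)⁻¹) := by group

/-- Combining elements of prime power order in a finite abelian group: if a property `bad` passes to powers and for
every prime `p` dividing the exponent there is an element of order the `p`-part of the exponent none of whose nontrivial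
powers is bad, then there is an element of order the exponent none of whose nontrivial powers is bad. -/
theorem exists_free_of_forall_prime {U : Type*} [CommGroup U] [Finite U] (bad : U → Prop)
    (hbad : ∀ x, bad x → ∀ k : ℕ, bad (x ^ k))
    (h : ∀ p : ℕ, p.Prime → p ∣ Monoid.exponent U → ∃ x : U,
      orderOf x = p ^ (Monoid.exponent U).factorization p ∧ ∀ e ∈ Subgroup.zpowers x, e ≠ 1 → ¬ bad e) :
    ∃ x : U, orderOf x = Monoid.exponent U ∧ ∀ e ∈ Subgroup.zpowers x, e ≠ 1 → ¬ bad e := by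
  classical
  set n := Monoid.exponent U with hn
  have hn0 : n ≠ 0 := Monoid.exponent_ne_zero_of_finite
  choose! f hf1 hf2 using h
  let x : U := ∏ p ∈ n.primeFactors, f p
  have hcop : ∀ p : ℕ, p.Prime → (p ^ n.factorization p).Coprime (n / p ^ n.factorization p) :=
    fun p hp => (Nat.coprime_ordCompl hp hn0).pow_left _
  have hprod : ∀ p : ℕ, p ^ n.factorization p * (n / p ^ n.factorization p) = n :=
    fun p => Nat.ordProj_mul_ordCompl_eq_self n p
  -- a power of `x` is a generator of `⟨f p⟩`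
  have hpow : ∀ p ∈ n.primeFactors, x ^ (n / p ^ n.factorization p) =
      f p ^ (n / p ^ n.factorization p) := by
    intro p hp
    have hpp := Nat.prime_of_mem_primeFactors hp
    change (∏ q ∈ n.primeFactors, f q) ^ (n / p ^ n.factorization p) = _
    rw [← Finset.prod_pow]
    apply Finset.prod_eq_single p
    · intro q hq hqp
      have hqq := Nat.prime_of_mem_primeFactors hq
      have hqn := Nat.dvd_of_mem_primeFactors hq
      apply orderOf_dvd_iff_pow_eq_one.mp
      rw [hf1 q hqq hqn]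
      have h1 : q ^ n.factorization q ∣ p ^ n.factorization p * (n / p ^ n.factorization p) := by
        rw [hprod p]; exact Nat.ordProj_dvd n q
      refine Nat.Coprime.dvd_of_dvd_mul_left ?_ h1
      exact Nat.Coprime.pow _ _ ((Nat.coprime_primes hqq hpp).mpr hqp)
    · intro h1; exact absurd hp h1
  have hmem : ∀ p ∈ n.primeFactors, f p ∈ Subgroup.zpowers x := by
    intro p hp
    have hpp := Nat.prime_of_mem_primeFactors hp
    have hpn := Nat.dvd_of_mem_primeFactors hp
    have h1 : f p ^ (n / p ^ n.factorization p) ∈ Subgroup.zpowers x := by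
      rw [← hpow p hp]; exact Subgroup.pow_mem _ (Subgroup.mem_zpowers x) _
    have h2 : Subgroup.zpowers (f p ^ (n / p ^ n.factorization p)) = Subgroup.zpowers (f p) := by
      apply Subgroup.eq_of_le_of_card_ge
      · rw [Subgroup.zpowers_le]; exact Subgroup.pow_mem _ (Subgroup.mem_zpowers _) _
      · rw [Nat.card_zpowers, Nat.card_zpowers, Nat.Coprime.orderOf_pow]
        rw [hf1 p hpp hpn]; exact hcop p hpp
    have h3 : Subgroup.zpowers (f p ^ (n / p ^ n.factorization p)) ≤ Subgroup.zpowers x := by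
      rw [Subgroup.zpowers_le]; exact h1
    rw [h2] at h3
    exact h3 (Subgroup.mem_zpowers _)
  have hord : orderOf x = n := by
    apply Nat.dvd_antisymm
    · exact Monoid.order_dvd_exponent x
    · rw [Nat.dvd_iff_prime_pow_dvd_dvd]
      intro p k hp hk
      rcases Nat.eq_zero_or_pos k with h0 | h0
      · rw [h0, pow_zero]; exact one_dvd _
      have hpn : p ∣ n := (dvd_pow_self p h0.ne').trans hk
      have hpm : p ∈ n.primeFactors := Nat.mem_primeFactors.mpr ⟨hp, hpn, hn0⟩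
      have h1 : p ^ k ∣ orderOf (f p) := by
        rw [hf1 p hp hpn]
        exact pow_dvd_pow p ((hp.pow_dvd_iff_le_factorization hn0).mp hk)
      refine h1.trans ?_
      exact orderOf_dvd_of_mem_zpowers (hmem p hpm)
  refine ⟨x, hord, ?_⟩
  intro e he he1 hb
  have he2 : orderOf e ≠ 1 := fun h => he1 (orderOf_eq_one_iff.mp h)
  obtain ⟨q, hq, hqe⟩ := Nat.exists_prime_and_dvd he2
  have hqn : q ∣ n := by
    rw [← hord]; exact hqe.trans (orderOf_dvd_of_mem_zpowers he)
  have hqm : q ∈ n.primeFactors := Nat.mem_primeFactors.mpr ⟨hq, hqn, hn0⟩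
  set e' := e ^ (orderOf e / q) with he'
  have hoe' : orderOf e' = q := orderOf_pow_orderOf_div (orderOf_pos e).ne' hqe
  have hqf : q ∣ orderOf (f q) := by
    rw [hf1 q hq hqn]
    exact dvd_pow_self q (hq.factorization_pos_of_dvd hn0 hqn).ne'
  set g' := f q ^ (orderOf (f q) / q) with hg'
  have hog' : orderOf g' = q := orderOf_pow_orderOf_div (orderOf_pos _).ne' hqf
  have h1 : e' ∈ Subgroup.zpowers x := Subgroup.pow_mem _ he _
  have h2 : g' ∈ Subgroup.zpowers x := Subgroup.pow_mem _ (hmem q hqm) _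
  have h4 : e' ∈ Subgroup.zpowers (f q) := by
    have h5 : e' ∈ Subgroup.zpowers g' :=
      mem_zpowers_of_mem_zpowers h1 h2 (by rw [hoe', hog'])
    have h6 : Subgroup.zpowers g' ≤ Subgroup.zpowers (f q) := by
      rw [Subgroup.zpowers_le]; exact Subgroup.pow_mem _ (Subgroup.mem_zpowers _) _
    exact h6 h5
  refine hf2 q hq hqn e' h4 ?_ (hbad e hb _)
  intro h5
  rw [h5, orderOf_one] at hoe'
  exact hq.one_lt.ne hoe'

/-- The same for a group with commuting elements. -/
theorem exists_free_of_forall_prime' {U : Type*} [Group U] [Finite U]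
    (hc : ∀ a b : U, a * b = b * a) (bad : U → Prop)
    (hbad : ∀ x, bad x → ∀ k : ℕ, bad (x ^ k))
    (h : ∀ p : ℕ, p.Prime → p ∣ Monoid.exponent U → ∃ x : U,
      orderOf x = p ^ (Monoid.exponent U).factorization p ∧ ∀ e ∈ Subgroup.zpowers x, e ≠ 1 → ¬ bad e) :
    ∃ x : U, orderOf x = Monoid.exponent U ∧ ∀ e ∈ Subgroup.zpowers x, e ≠ 1 → ¬ bad e := by
  letI : CommGroup U := { (inferInstance : Group U) with mul_comm := hc }
  exact exists_free_of_forall_prime bad hbad h

/-- If every element of prime order of the cyclic group `⟨x⟩`, for the primes dividing the order of `x`, acts freely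
on `S`, then so does every nontrivial element of `⟨x⟩`. -/
theorem free_of_prime_order [Finite G] {S : Subgroup G} {x : G}
    (h : ∀ p : ℕ, p.Prime → p ∣ orderOf x → ∀ e ∈ Subgroup.zpowers x, orderOf e = p →
      S ⊓ Subgroup.centralizer ({e} : Set G) = ⊥) {e : G} (he : e ∈ Subgroup.zpowers x)
    (he1 : e ≠ 1) : S ⊓ Subgroup.centralizer ({e} : Set G) = ⊥ := by
  by_contra hne
  obtain ⟨q, hq, hqe, e', he', hoe', hne'⟩ := exists_prime_power_mem he1 hne
  exact hne' (h q hq (hqe.trans (orderOf_dvd_of_mem_zpowers he)) e'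
    ((Subgroup.zpowers_le.mpr he) he') hoe')

/-- If `κ(M)` contains no prime then the nontrivial `τ₁(M) ∪ τ₃(M)`-elements of `M` act freely on `M_σ`. -/
theorem free_of_kappa_empty [Finite G] (hodd : Odd (Nat.card G)) {M : Subgroup G}
    (hκ : ∀ p, p ∉ Cfsg.kappa M) {e : G} (heM : e ∈ M) (he1 : e ≠ 1)
    (he : ∀ p : ℕ, p.Prime → p ∣ orderOf e → p ∈ Cfsg.tau1 M ∪ Cfsg.tau3 M) :
    Cfsg.sigmaCore M ⊓ Subgroup.centralizer ({e} : Set G) = ⊥ := by
  by_contra hne
  obtain ⟨q, hq, hqe, e', he', hoe', hne'⟩ := exists_prime_power_mem he1 hne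
  have : Fact q.Prime := ⟨hq⟩
  apply hne'
  have he'M : e' ∈ M := (Subgroup.zpowers_le.mpr heM) he'
  have hτ : q ∉ Cfsg.sigma M ∧ Cfsg.PRankLE q 1 M := by
    rcases he q hq hqe with h | h
    · exact ⟨h.2.1, h.2.2.2.2⟩
    · exact ⟨h.2.1, h.2.2.2⟩
  have hq2 : q ≠ 2 := by
    rintro rfl
    have h1 : 2 ∣ Nat.card G := by rw [← hoe']; exact orderOf_dvd_natCard _
    rw [← Nat.not_even_iff_odd] at hodd
    exact hodd (even_iff_two_dvd.mpr h1)
  exact inf_centralizer_eq_bot_of_not_mem_kappa hq hτ.1 (hκ q)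
    (RankOneCyclic.isCyclic_sylow_of_pRankLE_one hq2 hτ.2) he'M hoe'

/-- A trivial Hall `κ(M)`-subgroup means that `κ(M)` is empty. -/
theorem kappa_empty_of_bot {M : Subgroup G} (h : Cfsg.IsPiHallOf (Cfsg.kappa M) ⊥ M) :
    ∀ p, p ∉ Cfsg.kappa M := by
  intro p hp
  apply h.2.2 p hp.1 hp
  rw [Subgroup.relIndex_bot_left]
  exact hp.2.1

/-! ### Complements and Hall subgroups -/

/-- Order of a complement. -/
theorem card_mul_of_isComplIn [Finite G] {U B M : Subgroup G} (hc : Cfsg.IsComplIn U B M) :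
    Nat.card U * Nat.card B = Nat.card M := by
  obtain ⟨hUM, hBM, hdisj, hcov⟩ := hc
  rw [← Nat.card_prod]
  refine Nat.card_congr (Equiv.ofBijective
    (fun x : U × B => (⟨(x.1 : G) * x.2, M.mul_mem (hUM x.1.2) (hBM x.2.2)⟩ : M)) ⟨?_, ?_⟩)
  · rintro ⟨⟨u, hu⟩, ⟨b, hb⟩⟩ ⟨⟨u', hu'⟩, ⟨b', hb'⟩⟩ h
    simp only [Subtype.mk.injEq] at h
    have h1 : u'⁻¹ * u = b' * b⁻¹ := by
      rw [inv_mul_eq_iff_eq_mul, ← mul_assoc, ← h]; group
    have h2 : u'⁻¹ * u ∈ U ⊓ B :=
      ⟨U.mul_mem (U.inv_mem hu') hu, h1 ▸ Subgroup.mul_mem _ hb' (Subgroup.inv_mem _ hb)⟩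
    rw [hdisj, Subgroup.mem_bot] at h2
    have h3 : u = u' := by rw [inv_mul_eq_one] at h2; exact h2.symm
    have h4 : b = b' := by
      rw [h2] at h1
      exact (mul_inv_eq_one.mp h1.symm).symm
    subst h3; subst h4; rfl
  · rintro ⟨m, hm⟩
    obtain ⟨u, hu, b, hb, rfl⟩ := hcov m hm
    exact ⟨(⟨u, hu⟩, ⟨b, hb⟩), rfl⟩

/-- The primes of a complement of a subgroup containing a Hall `π`-subgroup are not in `π`. -/
theorem not_mem_of_dvd_card_compl [Finite G] {U B M H : Subgroup G} {π : Set ℕ}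
    (hall : Cfsg.IsPiHallOf π H M) (hle : H ≤ B) (hc : Cfsg.IsComplIn U B M) :
    ∀ p : ℕ, p.Prime → p ∣ Nat.card U → p ∉ π := by
  intro p hp hpU hps
  have hcard := card_mul_of_isComplIn hc
  have h1 : Nat.card H * H.relIndex M = Nat.card M := by
    rw [← Subgroup.relIndex_bot_left, ← Subgroup.relIndex_bot_left M]
    exact Subgroup.relIndex_mul_relIndex _ _ _ bot_le hall.1
  obtain ⟨c, hcc⟩ := Subgroup.card_dvd_of_le hle
  have h3 : H.relIndex M = Nat.card U * c := by
    have hpos : 0 < Nat.card H := Nat.card_pos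
    apply Nat.eq_of_mul_eq_mul_left hpos
    rw [h1, ← hcard, hcc]; ring
  exact hall.2.2 p hp hps (h3 ▸ (hpU.mul_right c))

/-- The order of `K ⊔ N` divides `|K| |N|` when `K` normalizes `N`. -/
theorem card_sup_dvd_mul [Finite G] {K N : Subgroup G}
    (h : K ≤ Subgroup.normalizer (N : Set G)) :
    Nat.card (K ⊔ N : Subgroup G) ∣ Nat.card K * Nat.card N := by
  have hN : N ≤ Subgroup.normalizer (N : Set G) := Subgroup.le_normalizer
  have h1 : (N.relIndex (K ⊔ N)) = N.relIndex K := by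
    have hsup : K ⊔ N ≤ Subgroup.normalizer (N : Set G) := sup_le h hN
    rw [← Subgroup.relIndex_subgroupOf (H := N) hsup, ← Subgroup.relIndex_subgroupOf (H := N) h,
      Subgroup.subgroupOf_sup h hN, Subgroup.relIndex_sup_right]
  have h2 : Nat.card N * N.relIndex (K ⊔ N) = Nat.card (K ⊔ N : Subgroup G) := by
    rw [← Subgroup.relIndex_bot_left, ← Subgroup.relIndex_bot_left (K ⊔ N)]
    exact Subgroup.relIndex_mul_relIndex _ _ _ bot_le le_sup_right
  rw [← h2, h1, mul_comm]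
  exact Nat.mul_dvd_mul_right (Subgroup.relIndex_dvd_card N K) _

/-- `M` normalizes `M_σ`. -/
theorem le_normalizer_sigmaCore (M : Subgroup G) :
    M ≤ Subgroup.normalizer (Cfsg.sigmaCore M : Set G) := by
  rw [Subgroup.le_normalizer_iff]
  intro m hm y hy
  exact conj_mem_sigmaCore hm hy

/-- In the standard factorisation `M = K U M_σ` with `M_σ` a `σ(M)`-group, `K U` is a complement of `M_σ`. -/
theorem isComplIn_sup_of_isSigmaDecomposition [Finite G] {M K U : Subgroup G}
    (hσ : ∀ p : ℕ, p.Prime → p ∣ Nat.card (Cfsg.sigmaCore M) → p ∈ Cfsg.sigma M)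
    (hKU : Cfsg.IsSigmaDecomposition M K U) : Cfsg.IsComplIn (K ⊔ U) (Cfsg.sigmaCore M) M := by
  obtain ⟨hUM, hBM, hdisj, hcov⟩ := hKU.compl
  have hKM : K ≤ M := hKU.hall.1
  have hσM : Cfsg.sigmaCore M ≤ M := Subgroup.map_subtype_le _
  have hKσ : K ⊓ Cfsg.sigmaCore M = ⊥ := by
    rw [← disjoint_iff]
    apply Subgroup.disjoint_of_coprime_natCard
    rw [Nat.coprime_iff_gcd_eq_one]
    by_contra hne
    obtain ⟨q, hq, hqd⟩ := Nat.exists_prime_and_dvd hne
    have h1 := hKU.hall.2.1 q hq (hqd.trans (Nat.gcd_dvd_left _ _))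
    have h2 := hσ q hq (hqd.trans (Nat.gcd_dvd_right _ _))
    exact h1.2.2.1 h2
  have hσN := le_normalizer_sigmaCore M
  have hmul : ∀ b ∈ K ⊔ Cfsg.sigmaCore M, ∃ k ∈ K, ∃ s ∈ Cfsg.sigmaCore M, b = k * s := by
    intro b hb
    have : b ∈ ((K ⊔ Cfsg.sigmaCore M : Subgroup G) : Set G) := hb
    rw [Subgroup.coe_mul_of_left_le_normalizer_right _ _ (hKM.trans hσN)] at this
    obtain ⟨k, hk, s, hs, rfl⟩ := this
    exact ⟨k, hk, s, hs, rfl⟩
  have hmulE : ∀ b ∈ K ⊔ U, ∃ u ∈ U, ∃ k ∈ K, b = u * k := by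
    intro b hb
    rw [sup_comm] at hb
    have : b ∈ ((U ⊔ K : Subgroup G) : Set G) := hb
    rw [Subgroup.coe_mul_of_right_le_normalizer_left _ _ hKU.normal] at this
    obtain ⟨k, hk, s, hs, rfl⟩ := this
    exact ⟨k, hk, s, hs, rfl⟩
  refine ⟨sup_le hKM hUM, hσM, ?_, ?_⟩
  · rw [eq_bot_iff]
    rintro x ⟨hx1, hx2⟩
    obtain ⟨u, hu, k, hk, rfl⟩ := hmulE x hx1
    have hu1 : u ∈ K ⊔ Cfsg.sigmaCore M := by
      have : u = (u * k) * k⁻¹ := by group
      rw [this]
      exact Subgroup.mul_mem _ ((le_sup_right : Cfsg.sigmaCore M ≤ K ⊔ Cfsg.sigmaCore M) hx2)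
        (Subgroup.inv_mem _ ((le_sup_left : K ≤ K ⊔ Cfsg.sigmaCore M) hk))
    have hu2 : u ∈ U ⊓ (K ⊔ Cfsg.sigmaCore M) := ⟨hu, hu1⟩
    rw [hdisj, Subgroup.mem_bot] at hu2
    subst hu2
    rw [one_mul] at hx2 ⊢
    have : k ∈ K ⊓ Cfsg.sigmaCore M := ⟨hk, hx2⟩
    rwa [hKσ] at this
  · intro m hm
    obtain ⟨u, hu, b, hb, rfl⟩ := hcov m hm
    obtain ⟨k, hk, s, hs, rfl⟩ := hmul b hb
    refine ⟨u * k, ?_, s, hs, by group⟩
    exact Subgroup.mul_mem _ ((le_sup_right : U ≤ K ⊔ U) hu) ((le_sup_left : K ≤ K ⊔ U) hk)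

end Cfsg.Agent.OddOrderLocal.FreeCyclic
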