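import Mathlib
import Cfsg.Prelude.Def_OddOrderLocal
import Cfsg.Agent.S0004
import Cfsg.Agent.S0005
import Cfsg.Agent.OddOrderLocal.MinSimpleBasic
import Cfsg.Agent.OddOrderLocal.PiCore
import Cfsg.Agent.OddOrderLocal.Equivariance
set_option linter.all false

/-!
Complements of `M_F` in `M'`, for Types III and IV.
-/

set_option autoImplicit false
set_option linter.unusedSectionVars false
set_option linter.style.haveILetI false

namespace Cfsg.Agent.OddOrderLocal.TypeThreeFour

open Cfsg

section General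

variable {G : Type*} [Group G] [Finite G]

theorem card_mul_relIndex' {H K : Subgroup G} (h : H ≤ K) :
    Nat.card H * H.relIndex K = Nat.card K := by
  have := Subgroup.relIndex_mul_relIndex (⊥ : Subgroup G) H K bot_le h
  simpa using this

/-- the order of a group is the product of the orders of two complements in it -/
theorem card_of_isComplIn {A B M : Subgroup G} (h : IsComplIn A B M) :
    Nat.card A * Nat.card B = Nat.card M := by
  obtain ⟨hA, hB, hAB, hm⟩ := h
  rw [← Nat.card_prod]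
  refine Nat.card_congr (Equiv.ofBijective
    (fun x : A × B => (⟨x.1 * x.2, M.mul_mem (hA x.1.2) (hB x.2.2)⟩ : M)) ⟨?_, ?_⟩)
  · rintro ⟨⟨a, ha⟩, ⟨b, hb⟩⟩ ⟨⟨a', ha'⟩, ⟨b', hb'⟩⟩ h
    have h1 : a * b = a' * b' := congrArg Subtype.val h
    have h2 : a'⁻¹ * a = b' * b⁻¹ := by
      rw [inv_mul_eq_iff_eq_mul, ← mul_assoc, ← h1]; simp
    have h3 : a'⁻¹ * a ∈ A ⊓ B :=
      ⟨A.mul_mem (A.inv_mem ha') ha, by rw [h2]; exact B.mul_mem hb' (B.inv_mem hb)⟩
    rw [hAB, Subgroup.mem_bot] at h3
    have h4 : a = a' := by rw [inv_mul_eq_one] at h3; exact h3.symm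
    subst h4
    have h5 : b = b' := mul_left_cancel h1
    subst h5
    rfl
  · rintro ⟨m, hmM⟩
    obtain ⟨a, ha, b, hb, rfl⟩ := hm m hmM
    exact ⟨⟨⟨a, ha⟩, ⟨b, hb⟩⟩, rfl⟩

/-- If `F ≤ D` are normal in the solvable group `M`, `F` is a Hall subgroup of `M` and `K ≤ M` has
order coprime to that of `F`, then `F` has a complement in `D` normalized by `K`. -/
theorem exists_invariant_complement_general {M F D K : Subgroup G} (hsol : Group.IsSolvable M)
    (hFD : F ≤ D) (hDM : D ≤ M)
    (hDn : M ≤ Subgroup.normalizer (D : Set G))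
    (hF : (Nat.card F).Coprime (F.relIndex M)) (hKM : K ≤ M)
    (hKF : (Nat.card K).Coprime (Nat.card F)) :
    ∃ V : Subgroup G, K ≤ Subgroup.normalizer (V : Set G) ∧ IsComplIn F V D := by
  have hFM : F ≤ M := hFD.trans hDM
  have hcard : Nat.card M = F.relIndex M * Nat.card F := by
    rw [mul_comm, card_mul_relIndex' hFM]
  have hK' : (Nat.card (K.subgroupOf M)).Coprime (Nat.card F) := by
    rw [Nat.card_congr (Subgroup.subgroupOfEquivOfLe hKM).toEquiv]; exact hKF
  obtain ⟨H, hH, hKH⟩ := Cfsg.Agent.S0005.result (G := M) (F.relIndex M) (Nat.card F) hcard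
    hF.symm (K.subgroupOf M) hK'
  have hFcard : Nat.card (F.subgroupOf M) = Nat.card F :=
    Nat.card_congr (Subgroup.subgroupOfEquivOfLe hFM).toEquiv
  have hcompl : Subgroup.IsComplement' (F.subgroupOf M) H := by
    apply Subgroup.isComplement'_of_coprime
    · rw [hFcard, hH, mul_comm, hcard]
    · rw [hFcard, hH]; exact hF
  refine ⟨H.map M.subtype ⊓ D, ?_, hFD, inf_le_right, ?_, ?_⟩
  · -- K normalizes
    intro k hk
    have hkM : k ∈ M := hKM hk
    have hkH : k ∈ H.map M.subtype := ⟨⟨k, hkM⟩, hKH (by simpa [Subgroup.mem_subgroupOf] using hk), rfl⟩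
    have hkn1 : k ∈ Subgroup.normalizer ((H.map M.subtype : Subgroup G) : Set G) :=
      Subgroup.le_normalizer hkH
    have hkn2 : k ∈ Subgroup.normalizer (D : Set G) := hDn hkM
    rw [Subgroup.mem_normalizer_iff] at hkn1 hkn2 ⊢
    intro h
    simp only [Subgroup.mem_inf]
    exact and_congr (hkn1 h) (hkn2 h)
  · -- trivial intersection
    rw [eq_bot_iff]
    rintro x ⟨hxF, hxH, _⟩
    obtain ⟨y, hy, rfl⟩ := hxH
    have : y ∈ F.subgroupOf M ⊓ H := ⟨by simpa [Subgroup.mem_subgroupOf] using hxF, hy⟩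
    rw [hcompl.disjoint.eq_bot, Subgroup.mem_bot] at this
    rw [this]; simp
  · intro d hd
    obtain ⟨⟨⟨a, ha⟩, ⟨b, hb⟩⟩, hab⟩ := hcompl.2 (⟨d, hDM hd⟩ : M)
    have hab' : (a : G) * b = d := congrArg Subtype.val hab
    have haF : (a : G) ∈ F := by simpa [Subgroup.mem_subgroupOf] using ha
    refine ⟨a, haF, b, ⟨⟨b, hb, rfl⟩, ?_⟩, hab'.symm⟩
    have : (b : G) = (a : G)⁻¹ * d := by rw [← hab']; simp
    rw [this]
    exact D.mul_mem (D.inv_mem (hFD haF)) hd

/-- A complement `V` of `M_F` in `M'` embeds in `M'/M_F`. -/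
theorem isNilpotent_of_isComplIn {M V : Subgroup G}
    (hnil : Group.IsNilpotent
      ↥((commutator ↥M).map (QuotientGroup.mk' (Cfsg.fittingHall ↥M))))
    (hV : IsComplIn (fittingHallOf M) V ⁅M, M⁆) : Group.IsNilpotent V := by
  obtain ⟨hF, hVD, hFV, -⟩ := hV
  have hDM : ⁅M, M⁆ ≤ M := Subgroup.commutator_le_self M
  have hVM : V ≤ M := hVD.trans hDM
  have h1 : V.subgroupOf M ≤ commutator M := by
    intro x hx
    have hx' : (x : G) ∈ V := by simpa [Subgroup.mem_subgroupOf] using hx
    have hx2 := hVD hx'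
    rw [← Subgroup.map_subtype_commutator] at hx2
    obtain ⟨y, hy, hyx⟩ := hx2
    have : y = x := Subtype.ext hyx
    rw [← this]; exact hy
  -- the restriction of the quotient map to V.subgroupOf M
  let f : (V.subgroupOf M) →* ↥((commutator ↥M).map (QuotientGroup.mk' (Cfsg.fittingHall ↥M))) :=
    ((QuotientGroup.mk' (Cfsg.fittingHall ↥M)).comp (V.subgroupOf M).subtype).codRestrict _
      (fun x => ⟨x, h1 x.2, rfl⟩)
  have hf : Function.Injective f := by
    rw [injective_iff_map_eq_one]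
    intro x hx
    have hx1 : (QuotientGroup.mk' (Cfsg.fittingHall ↥M)) (x : M) = 1 := congrArg Subtype.val hx
    rw [← MonoidHom.mem_ker, QuotientGroup.ker_mk'] at hx1
    have hx2 : ((x : M) : G) ∈ fittingHallOf M ⊓ V :=
      ⟨⟨x, hx1, rfl⟩, Subgroup.mem_subgroupOf.mp x.2⟩
    rw [hFV, Subgroup.mem_bot] at hx2
    exact Subtype.ext (Subtype.ext hx2)
  haveI := hnil
  haveI hn1 : Group.IsNilpotent (V.subgroupOf M) :=
    Group.nilpotent_of_mulEquiv (MonoidHom.ofInjective hf).symm
  exact Group.nilpotent_of_mulEquiv (Subgroup.subgroupOfEquivOfLe hVM)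

/-- For `p ∈ σ(M)` the normalizer of every Sylow `p`-subgroup of `M` lies in `M`. -/
theorem normalizer_sylow_le_of_mem_sigma {M : Subgroup G} {p : ℕ} (hp : p ∈ sigma M)
    (P : Sylow p M) :
    Subgroup.normalizer (((P : Subgroup M).map M.subtype : Subgroup G) : Set G) ≤ M := by
  obtain ⟨hpp, -, P₀, hP₀⟩ := hp
  haveI : Fact p.Prime := ⟨hpp⟩
  obtain ⟨m, hm⟩ := MulAction.exists_smul_eq M P₀ P
  intro g hg
  have key : ((P : Subgroup M).map M.subtype : Subgroup G) =
      (((P₀ : Subgroup M).map M.subtype : Subgroup G)).map (MulAut.conj (m : G)).toMonoidHom := by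
    rw [← hm]
    ext x
    constructor
    · rintro ⟨y, ⟨z, hz, rfl⟩, rfl⟩
      exact ⟨z, ⟨z, hz, rfl⟩, by simp⟩
    · rintro ⟨y, ⟨z, hz, rfl⟩, rfl⟩
      refine ⟨m * z * m⁻¹, ⟨z, hz, by simp⟩, by simp⟩
  rw [MinSimpleBasic.mem_normalizer_iff_map_conj, key] at hg
  have h2 : (m : G)⁻¹ * g * m ∈ Subgroup.normalizer
      (((P₀ : Subgroup M).map M.subtype : Subgroup G) : Set G) := by
    rw [MinSimpleBasic.mem_normalizer_iff_map_conj]
    have := congrArg (Subgroup.map (MulAut.conj (m : G)⁻¹).toMonoidHom) hg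
    rw [← MinSimpleBasic.map_conj_mul, ← MinSimpleBasic.map_conj_mul,
      ← MinSimpleBasic.map_conj_mul, inv_mul_cancel, MinSimpleBasic.map_conj_one] at this
    exact this
  have h3 := hP₀ h2
  have h4 : g = (m : G) * ((m : G)⁻¹ * g * m) * (m : G)⁻¹ := by group
  rw [h4]
  exact M.mul_mem (M.mul_mem m.2 h3) (M.inv_mem m.2)

/-- A characteristic subgroup of `V` is normalized by the normalizer of `V`. -/
theorem normalizer_le_normalizer_map {V : Subgroup G} (P : Subgroup V) [hP : P.Characteristic] :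
    Subgroup.normalizer (V : Set G) ≤
      Subgroup.normalizer ((P.map V.subtype : Subgroup G) : Set G) := by
  intro g hg
  rw [Subgroup.mem_normalizer_iff_map_conj_eq] at hg ⊢
  let e : V ≃* V := ((MulAut.conj g).subgroupMap V).trans (MulEquiv.subgroupCongr hg)
  have he : ∀ v : V, ((e v : V) : G) = g * v * g⁻¹ := fun v => rfl
  have h1 : P.map e.toMonoidHom = P := Subgroup.characteristic_iff_map_eq.mp hP e
  rw [Subgroup.map_map]
  conv_rhs => rw [← h1, Subgroup.map_map]
  congr 1

/-- A nontrivial nilpotent subgroup `V` of `M` containing Sylow subgroups of `M` for all primes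
dividing its order, these primes being in `σ(M)`, has `N_G(V) ≤ M`. -/
theorem normalizer_le_of_nilpotent_hall {M V : Subgroup G} (hVM : V ≤ M)
    (hV1 : V ≠ ⊥) (hnil : Group.IsNilpotent V)
    (hσ : ∀ p : ℕ, p.Prime → p ∣ Nat.card V → p ∈ sigma M)
    (hH : (Nat.card V).Coprime (V.relIndex M)) :
    Subgroup.normalizer (V : Set G) ≤ M := by
  have hc1 : Nat.card V ≠ 1 := by
    intro h; exact hV1 (Subgroup.eq_bot_of_card_eq V h)
  obtain ⟨p, hp, hpV⟩ := Nat.exists_prime_and_dvd hc1
  haveI : Fact p.Prime := ⟨hp⟩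
  obtain ⟨P⟩ : Nonempty (Sylow p V) := inferInstance
  -- P is characteristic in V
  haveI := hnil
  haveI hPn : (P : Subgroup V).Normal := inferInstance
  have hPchar : (P : Subgroup V).Characteristic := P.characteristic_of_normal hPn
  let Q : Subgroup G := (P : Subgroup V).map V.subtype
  -- Q is Sylow in M
  have hQM : Q ≤ M := (Subgroup.map_subtype_le _).trans hVM
  have hcardQ : Nat.card Q = p ^ (Nat.card M).factorization p := by
    have h1 : Nat.card Q = Nat.card (P : Subgroup V) :=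
      Nat.card_congr (Subgroup.equivMapOfInjective _ V.subtype V.subtype_injective).toEquiv.symm
    rw [h1, P.card_eq_multiplicity]
    congr 1
    rw [← card_mul_relIndex' hVM, Nat.factorization_mul Nat.card_pos.ne'
      (by intro h; rw [h] at hH; have := Nat.coprime_zero_right _ |>.mp hH; exact hc1 this)]
    have : ¬ p ∣ V.relIndex M := fun h => hp.one_lt.ne' (Nat.dvd_one.mp (hH ▸ Nat.dvd_gcd hpV h))
    simp [Nat.factorization_eq_zero_of_not_dvd this]
  have hcardQ' : Nat.card (Q.subgroupOf M) = p ^ (Nat.card M).factorization p := by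
    rw [Nat.card_congr (Subgroup.subgroupOfEquivOfLe hQM).toEquiv, hcardQ]
  let PM : Sylow p M := Sylow.ofCard (Q.subgroupOf M) hcardQ'
  have hPM : ((PM : Subgroup M).map M.subtype : Subgroup G) = Q := by
    show ((Q.subgroupOf M).map M.subtype) = Q
    rw [Subgroup.subgroupOf_map_subtype, inf_eq_left.mpr hQM]
  have h5 := normalizer_sylow_le_of_mem_sigma (hσ p hp hpV) PM
  rw [hPM] at h5
  refine le_trans ?_ h5
  exact normalizer_le_normalizer_map (P : Subgroup V)

end General

end Cfsg.Agent.OddOrderLocal.TypeThreeFour
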