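import Mathlib
import Cfsg.Prelude.Def_OddOrderLocal
import Cfsg.Agent.OddOrderLocal.FitAux
import Cfsg.Agent.OddOrderLocal.FittingHall
import Cfsg.Agent.OddOrderLocal.MinSimple
import Cfsg.Agent.OddOrderLocal.TypeFData
import Cfsg.Agent.OddOrderLocal.FreeAction
import Cfsg.Agent.OddOrderLocal.SigmaDecomp
import Cfsg.Agent.S1416
import Cfsg.Agent.OddOrderLocal.CyclicSub
import Cfsg.Agent.OddOrderLocal.HallPi
import Cfsg.Agent.Lib.CoprimeAbelian
import Cfsg.Agent.OddOrderLocal.Rank
import Cfsg.Agent.S1350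
import Cfsg.Agent.S1351
import Cfsg.Agent.S1352
import Cfsg.Agent.S1354
import Cfsg.Agent.S1359
import Cfsg.Agent.S1375
import Cfsg.Agent.S1417
import Cfsg.Agent.S1418
import Cfsg.Agent.S1419
import Cfsg.Agent.S1432
import Cfsg.Agent.FastGrp
import Cfsg.Agent.Prune
set_option linter.all false
prune_inst 0x7f00000000000000000000000000000000000000000000000000000000000000000000000000000000000000000000000000000000000000000000000000000000000000000000000000000000000000003fffffffffffffffffffffffffffbeffbdffffffff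
open scoped Cfsg.Agent.FastGrp

/-!
The `O_{p'}(M)` part of Type I (S1380): in the case of B & G, Theorem 15.7 (c2) the normal subgroup
`O_{p'}(M)` of `M` is cyclic.
-/

set_option autoImplicit false
open Cfsg

namespace Cfsg.Agent.OddOrderLocal.TypeITrich

open Subgroup Cfsg.Agent.OddOrderLocal.TypeFData

variable {G : Type*} [Group G] [Finite G]

theorem mem_centralizer_of_comm {G : Type*} [Group G] {a : G} {S : Set G} (h : ∀ z ∈ S, a * z = z * a) :
    a ∈ Subgroup.centralizer S := by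
  rw [Subgroup.mem_centralizer_iff]
  intro w hw
  exact (h w hw).symm

theorem mem_centralizer_singleton {G : Type*} [Group G] {a z : G} (h : a * z = z * a) :
    a ∈ Subgroup.centralizer ({z} : Set G) := by
  rw [Subgroup.mem_centralizer_iff]
  intro w hw
  rw [Set.mem_singleton_iff.mp hw]
  exact h.symm

/-- A `p`-subgroup of `M` is `M`-conjugate into every subgroup of index in `M` prime to `p`. -/
theorem exists_conj_le_of_not_dvd_relIndex {p : ℕ} [Fact p.Prime] {M W X : Subgroup G}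
    (hW : ¬ p ∣ W.relIndex M) (hXM : X ≤ M) (hX : IsPGroup p X) :
    ∃ m ∈ M, X.map (MulAut.conj m).toMonoidHom ≤ W := by
  have h1 : IsPGroup p (X.subgroupOf M) := hX.of_equiv (Subgroup.subgroupOfEquivOfLe hXM).symm
  obtain ⟨g, hg⟩ := exists_conj_le_of_not_dvd_index (G := M) (W := W.subgroupOf M) hW h1
  refine ⟨g, g.2, ?_⟩
  rintro _ ⟨x, hx, rfl⟩
  have h3 : (MulAut.conj g).toMonoidHom (⟨x, hXM hx⟩ : M) ∈ W.subgroupOf M :=
    hg (Subgroup.mem_map_of_mem _ hx)
  exact h3

theorem sylow_not_comm {p : ℕ} [Fact p.Prime] {P : Subgroup G} (hP : IsPGroup p P)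
    (hna : ¬ IsMulCommutative P) (S : Sylow p G) : ¬ IsMulCommutative (S : Subgroup G) := by
  intro hS
  obtain ⟨T, hT⟩ := hP.exists_le_sylow
  obtain ⟨g, hg⟩ := MulAction.exists_smul_eq G T S
  apply hna
  refine ⟨⟨fun a b => ?_⟩⟩
  have h1 : ∀ x ∈ P, g * x * g⁻¹ ∈ (S : Subgroup G) := by
    intro x hx
    rw [← hg]
    exact ⟨x, hT hx, rfl⟩
  have h2 := hS.is_comm.comm (⟨_, h1 a a.2⟩ : (S : Subgroup G)) ⟨_, h1 b b.2⟩
  have h3 : g * (a : G) * g⁻¹ * (g * (b : G) * g⁻¹) = g * (b : G) * g⁻¹ * (g * (a : G) * g⁻¹) :=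
    congrArg Subtype.val h2
  apply Subtype.ext
  show (a : G) * b = b * a
  have h4 := congrArg (fun z => g⁻¹ * z * g) h3
  simpa only [mul_assoc, _root_.inv_mul_cancel_left, _root_.inv_mul_cancel, _root_.mul_one] using h4

/-- A prime dividing the order of an element of a complement of `N_σ` is not in `σ(N)`. -/
theorem notMem_sigma_of_mem_compl (hG : Cfsg.IsMinSimpleOddOrder G) {N : Subgroup G}
    (hN : IsCoatom N) {E : Subgroup G} (hE : Cfsg.IsComplIn E (Cfsg.sigmaCore N) N) {t : G}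
    (ht : t ∈ E) {r : ℕ} (hr : r.Prime) (hrt : r ∣ orderOf t) : r ∉ Cfsg.sigma N := by
  intro hσ
  have h1 := (Cfsg.Agent.S1350.result hG N hN).1.2.2 r hr hσ
  rw [relIndex_right_of_isComplIn hE] at h1
  apply h1
  have h2 : orderOf t ∣ Nat.card E := by
    have := _root_.orderOf_dvd_natCard (⟨t, ht⟩ : E)
    rwa [Subgroup.orderOf_mk] at this
  exact hrt.trans h2

/-- The situation of B & G 14.4 with a nonabelian Sylow `p`-subgroup: a `p'`-subgroup `D` of `M`
centralizing the element `x` of order `p` of `M_σ` with `C_G(x) ⊄ M` acts freely on the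
nontrivial nilpotent group `N_σ`. -/
theorem free_of_centralizer (hG : Cfsg.IsMinSimpleOddOrder G) {M : Subgroup G} (hM : IsCoatom M)
    {p : ℕ} [Fact p.Prime] {P : Subgroup G} (hPp : IsPGroup p P) (hPna : ¬ IsMulCommutative P)
    {x : G} (hx : x ∈ Cfsg.sigmaCore M) (hxo : orderOf x = p)
    (hxM : ¬ Subgroup.centralizer ({x} : Set G) ≤ M) {D : Subgroup G} (hDM : D ≤ M)
    (hDx : ∀ d ∈ D, d * x = x * d) (hDp : ¬ p ∣ Nat.card D) :
    ∃ V : Subgroup G, V ≠ ⊥ ∧ Group.IsNilpotent V ∧ D ≤ Subgroup.normalizer (V : Set G) ∧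
      ∀ d ∈ D, d ≠ 1 → ∀ z ∈ V, z ≠ 1 → d * z ≠ z * d := by
  have hp : p.Prime := Fact.out
  have hx1 : x ≠ 1 := by
    rintro rfl
    rw [orderOf_one] at hxo
    exact hp.one_lt.ne hxo
  obtain ⟨N, ⟨hN, hxN⟩, huniq, hNF, -, -, hcompl, hdec⟩ :=
    Cfsg.Agent.S1375.result hG M hM x hx hx1 hxM
  obtain ⟨K', hK'⟩ := (Cfsg.Agent.S1351.result hG N hN).1
  have hK'c := (Cfsg.Agent.S1351.result hG N hN).2 K' hK'
  obtain ⟨⟨U', hKU'⟩, -⟩ := Cfsg.Agent.S1352.result hG N hN K' hK'c hK'
  obtain ⟨hU', hxA, hxnσ⟩ := hdec K' U' hKU'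
  obtain ⟨⟨hxNm, y, hy, hy1, hxy⟩, hxUσ⟩ := hxA
  have hxMN : x ∈ M ⊓ N := ⟨FitAux.sigmaCore_le M hx, hxNm⟩
  have hDN : D ≤ N := by
    intro d hd
    apply hxN
    rw [Subgroup.mem_centralizer_iff]
    intro z hz
    rw [Set.mem_singleton_iff.mp hz]
    exact (hDx d hd).symm
  -- an element of `N` which is `N`-conjugate into `K'` and lies in `U' N_σ` is trivial
  have hnormU := SigmaDecomp.le_normalizer_sup hKU'
  have hUσ : ∀ n ∈ N, n * x * n⁻¹ ∈ U' ⊔ Cfsg.sigmaCore N := fun n hn =>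
    (Subgroup.mem_normalizer_iff.mp (hnormU hn) x).mp hxUσ
  refine ⟨Cfsg.sigmaCore N, ?_, ?_, hDN.trans (FitAux.le_normalizer_sigmaCore N), ?_⟩
  · intro h
    rw [h, Subgroup.mem_bot] at hy
    exact hy1 hy
  · rw [hNF]
    exact FitAux.isNilpotent_fittingHallOf N
  intro d hd hd1 z hz hz1 hdz
  -- reduce to an element of prime order
  have hdo : orderOf d ≠ 1 := fun h => hd1 (orderOf_eq_one_iff.mp h)
  obtain ⟨q, hq, hqd⟩ := Nat.exists_prime_and_dvd hdo
  set d' : G := d ^ (orderOf d / q) with hd'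
  have hd'o : orderOf d' = q := by
    rw [hd']
    exact orderOf_pow_orderOf_div (orderOf_pos d).ne' hqd
  have hd'D : d' ∈ D := D.pow_mem hd _
  have hd'1 : d' ≠ 1 := by
    intro h
    rw [h, orderOf_one] at hd'o
    exact hq.one_lt.ne hd'o
  have hd'z : d' * z = z * d' := (Commute.pow_left (show Commute d z from hdz) _).eq
  have hd'x : d' * x = x * d' := hDx d' hd'D
  have hqp : q ≠ p := by
    rintro rfl
    apply hDp
    have := _root_.orderOf_dvd_natCard (⟨d', hd'D⟩ : D)
    rwa [Subgroup.orderOf_mk, hd'o] at this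
  have : Fact q.Prime := ⟨hq⟩
  have hd'MN : d' ∈ M ⊓ N := ⟨hDM hd'D, hDN hd'D⟩
  have hd'σ : ∀ r : ℕ, r.Prime → r ∣ orderOf d' → r ∉ Cfsg.sigma N := fun r hr hrd =>
    notMem_sigma_of_mem_compl hG hN hcompl hd'MN hr hrd
  have hd'c : d' ∈ N ⊓ Subgroup.centralizer ({z} : Set G) :=
    ⟨hDN hd'D, mem_centralizer_singleton hd'z⟩
  rcases Cfsg.Agent.S1432.result hG N hN z hz hz1 d' hd'c hd'1 hd'σ with ⟨hκ, -⟩ | ⟨hτ, -⟩
  · -- `q ∈ κ(N)`
    have hqκ : q ∈ Cfsg.kappa N := hκ q hq (by rw [hd'o])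
    obtain ⟨n, hn, hnd⟩ := exists_conj_mem_of_not_dvd_relIndex (p := q) (M := N) (W := K')
      (hK'.2.2 q hq hqκ) (hDN hd'D) (by
        refine IsPGroup.of_card (n := 1) ?_
        rw [Nat.card_zpowers, hd'o, pow_one])
    have hk1 : n * d' * n⁻¹ ≠ 1 := by
      intro h
      apply hd'1
      have := congrArg (fun w => n⁻¹ * w * n) h
      simpa [mul_assoc] using this
    have hK'1 : K' ≠ ⊥ := by
      intro h
      rw [h, Subgroup.mem_bot] at hnd
      exact hk1 hnd
    have hC := (Cfsg.Agent.S1354.result hG N hN K' hK'c hK').2 hK'1 _ hnd hk1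
    have hxC : n * x * n⁻¹ ∈ N ⊓ Subgroup.centralizer ({n * d' * n⁻¹} : Set G) := by
      refine ⟨N.mul_mem (N.mul_mem hn hxNm) (N.inv_mem hn), mem_centralizer_singleton ?_⟩
      calc n * x * n⁻¹ * (n * d' * n⁻¹) = n * (x * d') * n⁻¹ := by group
        _ = n * (d' * x) * n⁻¹ := by rw [hd'x]
        _ = n * d' * n⁻¹ * (n * x * n⁻¹) := by group
    rw [hC] at hxC
    have hxC' : n * x * n⁻¹ ∈ K' ⊔ Cfsg.sigmaCore N :=
      (sup_le_sup_left (inf_le_left) K') hxC
    obtain ⟨a, ha, b, hb, hab⟩ := (SigmaDecomp.mem_sup_iff hK'.1 _).mp hxC'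
    have ha' : a ∈ K' ⊓ (U' ⊔ Cfsg.sigmaCore N) := by
      refine ⟨ha, ?_⟩
      have h1 := hUσ n hn
      have h2 : a = (n * x * n⁻¹) * b⁻¹ := by rw [hab]; group
      rw [h2]
      exact Subgroup.mul_mem _ h1 (Subgroup.inv_mem _ (Subgroup.mem_sup_right hb))
    rw [SigmaDecomp.K_inf_sup hKU', Subgroup.mem_bot] at ha'
    rw [ha', one_mul] at hab
    apply hxnσ
    have h3 := FitAux.le_normalizer_sigmaCore N (N.inv_mem hn)
    have h4 := (Subgroup.mem_normalizer_iff.mp h3 (n * x * n⁻¹)).mp (by rw [hab]; exact hb)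
    have h5 : n⁻¹ * (n * x * n⁻¹) * n⁻¹⁻¹ = x := by group
    rwa [h5] at h4
  · -- `q ∈ τ₂(N)`
    have hqτ : q ∈ Cfsg.tau2 N := hτ q hq (by rw [hd'o])
    have hxσ : ∀ r : ℕ, r.Prime → r ∣ orderOf x → r ∉ Cfsg.sigma N := fun r hr hrd =>
      notMem_sigma_of_mem_compl hG hN hcompl hxMN hr hrd
    have hxc : x ∈ N ⊓ Subgroup.centralizer ({y} : Set G) :=
      ⟨hxNm, mem_centralizer_singleton hxy⟩
    rcases Cfsg.Agent.S1432.result hG N hN y hy hy1 x hxc hx1 hxσ with ⟨hκ, -⟩ | ⟨hτp, -⟩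
    · have hpκ : p ∈ Cfsg.kappa N := hκ p hp (by rw [hxo])
      obtain ⟨n, hn, hnx⟩ := exists_conj_mem_of_not_dvd_relIndex (p := p) (M := N) (W := K')
        (hK'.2.2 p hp hpκ) hxNm (by
          refine IsPGroup.of_card (n := 1) ?_
          rw [Nat.card_zpowers, hxo, pow_one])
      have h1 : n * x * n⁻¹ ∈ K' ⊓ (U' ⊔ Cfsg.sigmaCore N) := ⟨hnx, hUσ n hn⟩
      rw [SigmaDecomp.K_inf_sup hKU', Subgroup.mem_bot] at h1
      apply hx1
      have := congrArg (fun w => n⁻¹ * w * n) h1
      simpa [mul_assoc] using this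
    · have hpτ : p ∈ Cfsg.tau2 N := hτp p hp (by rw [hxo])
      obtain ⟨A, hAN, hA, hAc⟩ := Rank.exists_elemAb_of_not_pRankLE (p := p) (k := 1) (H := N) hpτ.2.2.2
      have hpσ : p ∉ Cfsg.sigma N := hpτ.2.1
      have hrel : ¬ p ∣ (M ⊓ N).relIndex N := by
        rw [relIndex_left_of_isComplIn hcompl]
        intro h
        exact hpσ (SigmaDecomp.mem_sigma_of_dvd hp h)
      obtain ⟨n, hn, hnA⟩ := exists_conj_le_of_not_dvd_relIndex hrel hAN (Rank.elemAb_isPGroup hA)
      have h1 := Cfsg.Agent.S1419.result hG N hN (M ⊓ N) hcompl p hpτ (sylow_not_comm hPp hPna)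
        (A.map (MulAut.conj n).toMonoidHom) ⟨hnA, Rank.elemAb_map _ hA, by
          rw [Subgroup.card_map_of_injective (MulAut.conj n).injective, hAc]⟩
      have h2 := h1.1
      rw [h2] at hqτ
      exact hqp hqτ

/-- Frattini argument, ambient form. -/
theorem frattini {r : ℕ} [Fact r.Prime] {M D : Subgroup G}
    (hn : M ≤ Subgroup.normalizer (D : Set G)) (S : Sylow r D) {m : G} (hm : m ∈ M) :
    ∃ d ∈ D, d * m ∈ Subgroup.normalizer (((S : Subgroup D).map D.subtype : Subgroup G) : Set G) := by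
  set S' : Subgroup G := (S : Subgroup D).map D.subtype with hS'
  have hS'D : S' ≤ D := Subgroup.map_subtype_le _
  have hS'p : IsPGroup r S' := S.2.map _
  have hrel : ¬ r ∣ S'.relIndex D := by
    rw [hS', HallPi.relIndex_map_subtype]
    exact S.not_dvd_index
  have hX : S'.map (MulAut.conj m).toMonoidHom ≤ D := by
    rintro _ ⟨s, hs, rfl⟩
    exact (Subgroup.mem_normalizer_iff.mp (hn hm) s).mp (hS'D hs)
  obtain ⟨d, hd, hle⟩ := exists_conj_le_of_not_dvd_relIndex hrel hX (hS'p.map _)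
  refine ⟨d, hd, ?_⟩
  rw [Subgroup.mem_normalizer_iff_map_conj_eq]
  have h1 : S'.map (MulAut.conj (d * m)).toMonoidHom ≤ S' := by
    rintro _ ⟨s, hs, rfl⟩
    have := hle (Subgroup.mem_map_of_mem _ (Subgroup.mem_map_of_mem _ hs))
    simpa [mul_assoc] using this
  exact Subgroup.eq_of_le_of_card_ge h1
    (le_of_eq (Subgroup.card_map_of_injective (MulAut.conj (d * m)).injective).symm)

/-- An `s`-element of `M` with `s ∈ σ(M)` lies in `M_σ`. -/
theorem mem_sigmaCore_of_pGroup (hG : Cfsg.IsMinSimpleOddOrder G) {M : Subgroup G}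
    (hM : IsCoatom M) {s : ℕ} (hs : s.Prime) (hsσ : s ∈ Cfsg.sigma M) {t : G} (ht : t ∈ M)
    {S : Subgroup G} (hS : IsPGroup s S) (htS : t ∈ S) : t ∈ Cfsg.sigmaCore M := by
  refine SigmaElements.mem_sigmaCore_of_orderOf (Cfsg.Agent.S1350.result hG M hM).1 ht ?_
  intro q hq hqt
  obtain ⟨k, hk⟩ := hS ⟨t, htS⟩
  have h1 : orderOf t ∣ s ^ k := by
    rw [orderOf_dvd_iff_pow_eq_one]
    have := congrArg Subtype.val hk
    simpa only [_root_.SubmonoidClass.mk_pow, _root_.OneMemClass.coe_one] using this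
  have h2 := hq.dvd_of_dvd_pow (hqt.trans h1)
  rwa [(Nat.prime_dvd_prime_iff_eq hq hs).mp h2]

/-- An injective endomorphism argument: if `S` is a finite abelian subgroup normalized by `n` and `n`
centralizes no non-identity element of `S`, then every element of `S` is a commutator `[s, n]`, `s ∈ S`. -/
theorem exists_commutator_eq {S : Subgroup G} (_hS : ∀ a ∈ S, ∀ b ∈ S, a * b = b * a) {n : G}
    (hn : n ∈ Subgroup.normalizer (S : Set G)) (hfree : ∀ s ∈ S, n * s = s * n → s = 1) {t : G}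
    (ht : t ∈ S) : ∃ s ∈ S, t = s * n * s⁻¹ * n⁻¹ := by
  have hmem : ∀ s ∈ S, s * n * s⁻¹ * n⁻¹ ∈ S := by
    intro s hs
    have h1 : n * s⁻¹ * n⁻¹ ∈ S := (Subgroup.mem_normalizer_iff.mp hn _).mp (S.inv_mem hs)
    have h2 : s * n * s⁻¹ * n⁻¹ = s * (n * s⁻¹ * n⁻¹) := by group
    rw [h2]
    exact S.mul_mem hs h1
  let f : S → S := fun s => ⟨s * n * (s : G)⁻¹ * n⁻¹, hmem s s.2⟩
  have hinj : Function.Injective f := by
    intro a b hab
    have h1 : (a : G) * n * (a : G)⁻¹ * n⁻¹ = (b : G) * n * (b : G)⁻¹ * n⁻¹ := congrArg Subtype.val hab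
    have h2 : (b : G)⁻¹ * (a : G) ∈ S := S.mul_mem (S.inv_mem b.2) a.2
    have h3 : n * ((b : G)⁻¹ * (a : G)) = ((b : G)⁻¹ * (a : G)) * n := by
      have h4 : (a : G) * n * (a : G)⁻¹ = (b : G) * n * (b : G)⁻¹ := mul_right_cancel h1
      calc n * ((b : G)⁻¹ * (a : G)) = (b : G)⁻¹ * ((b : G) * n * (b : G)⁻¹) * a := by group
        _ = (b : G)⁻¹ * ((a : G) * n * (a : G)⁻¹) * a := by rw [h4]
        _ = ((b : G)⁻¹ * (a : G)) * n := by group
    have h5 := hfree _ h2 h3
    apply Subtype.ext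
    have := congrArg (fun z => (b : G) * z) h5
    simpa using this
  obtain ⟨s, hs⟩ := Finite.surjective_of_injective hinj ⟨t, ht⟩
  exact ⟨s, s.2, (congrArg Subtype.val hs).symm⟩

/-- In the case (c2) of B & G 15.7 (with `K = 1`), the subgroup `O_{p'}(M)` is cyclic. -/
theorem isCyclic_pPrimeCore (hG : Cfsg.IsMinSimpleOddOrder G) {M : Subgroup G} (hM : IsCoatom M)
    {K U : Subgroup G} (hKU : Cfsg.IsSigmaDecomposition M K U) (hK : K = ⊥)
    (hF : Cfsg.fittingHallOf M = Cfsg.sigmaCore M) {p : ℕ} [Fact p.Prime]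
    {x : G} (hx : x ∈ Cfsg.fittingHallOf M) (hxo : orderOf x = p)
    (hxM : ¬ Subgroup.centralizer ({x} : Set G) ≤ M)
    (hPna : ¬ IsMulCommutative (Cfsg.pCore p ↥(Cfsg.fittingHallOf M)))
    (hQc : IsCyclic (Cfsg.pPrimeCore p ↥(Cfsg.fittingHallOf M)))
    (hder : ⁅M, M⁆ = Cfsg.fittingOf M) : IsCyclic (Cfsg.pPrimeCore p ↥M) := by
  have hp : p.Prime := Fact.out
  have hMsol : Group.IsSolvable M := MinSimple.isSolvable hG hM.1
  set H : Subgroup G := Cfsg.fittingHallOf M with hH
  have hHM : H ≤ M := FitAux.fittingHallOf_le M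
  have hHn : M ≤ Subgroup.normalizer (H : Set G) := FitAux.le_normalizer_fittingHallOf M
  have hHnil : Group.IsNilpotent H := FitAux.isNilpotent_fittingHallOf M
  have hUM : U ≤ M := hKU.compl.1
  have hcomp : Cfsg.IsComplIn U (Cfsg.sigmaCore M) M := by
    have := hKU.compl
    rwa [hK, bot_sup_eq] at this
  -- `κ(M)` is empty
  have hκ : ∀ q : ℕ, q.Prime → q ∉ Cfsg.kappa M := by
    intro q hq hqκ
    have h1 := hKU.hall.2.2 q hq hqκ
    rw [hK, Subgroup.relIndex_bot_left] at h1
    exact h1 hqκ.2.1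
  -- the subgroup `D`
  set D : Subgroup G := (Cfsg.pPrimeCore p ↥M).map M.subtype with hD
  have hDM : D ≤ M := Subgroup.map_subtype_le _
  have hDn : M ≤ Subgroup.normalizer (D : Set G) :=
    FitAux.le_normalizer_map_subtype (Lib.Cores.pPrimeCore_normal p)
  have hDcard : Nat.card D = Nat.card (Cfsg.pPrimeCore p ↥M) :=
    Subgroup.card_map_of_injective (Subgroup.subtype_injective M)
  have hDcop : (Nat.card D).Coprime p := by
    rw [hDcard]
    exact Lib.Cores.pPrimeCore_coprime p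
  have hDp : ¬ p ∣ Nat.card D := fun h => hp.one_lt.ne' (Nat.eq_one_of_dvd_coprimes hDcop h dvd_rfl)
  -- the subgroup `P = O_p(H)`
  set P : Subgroup G := (Cfsg.pCore p ↥H).map H.subtype with hP
  have hPH : P ≤ H := Subgroup.map_subtype_le _
  have hPp : IsPGroup p P := (Lib.Cores.pCore_isPGroup p).map _
  have hPn : M ≤ Subgroup.normalizer (P : Set G) :=
    hHn.trans (FittingHall.normalizer_le_normalizer_map H _ (Lib.Cores.pCore_characteristic p))
  have hPna' : ¬ IsMulCommutative P := by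
    intro h
    apply hPna
    refine ⟨⟨fun a b => ?_⟩⟩
    have h1 := h.is_comm.comm (⟨((a : H) : G), Subgroup.mem_map_of_mem _ a.2⟩ : P)
      ⟨((b : H) : G), Subgroup.mem_map_of_mem _ b.2⟩
    apply Subtype.ext
    apply Subtype.ext
    have h2 : ((a : H) : G) * ((b : H) : G) = ((b : H) : G) * ((a : H) : G) := congrArg Subtype.val h1
    exact h2
  -- the subgroup `Q = O_{p'}(H)`
  set Q : Subgroup G := (Cfsg.pPrimeCore p ↥H).map H.subtype with hQ
  have hQH : Q ≤ H := Subgroup.map_subtype_le _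
  have hQcard : Nat.card Q = Nat.card (Cfsg.pPrimeCore p ↥H) :=
    Subgroup.card_map_of_injective (Subgroup.subtype_injective H)
  have hQcop : (Nat.card Q).Coprime p := by
    rw [hQcard]
    exact Lib.Cores.pPrimeCore_coprime p
  have hQn : M ≤ Subgroup.normalizer (Q : Set G) :=
    hHn.trans (FittingHall.normalizer_le_normalizer_map H _ (Lib.Cores.pPrimeCore_characteristic p))
  have hQcyc : IsCyclic Q :=
    isCyclic_of_surjective ((Cfsg.pPrimeCore p ↥H).equivMapOfInjective H.subtype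
      (Subgroup.subtype_injective H)).toMonoidHom (MulEquiv.surjective _)
  have hQD : Q ≤ D := by
    have h1 : Q.subgroupOf M ≤ Cfsg.pPrimeCore p ↥M := by
      refine Lib.Cores.le_pPrimeCore (FitAux.subgroupOf_normal hQn) ?_
      rw [Nat.card_congr (Subgroup.subgroupOfEquivOfLe (hQH.trans hHM)).toEquiv]
      exact hQcop
    have h2 := Subgroup.map_mono (f := M.subtype) h1
    rwa [Subgroup.subgroupOf_map_subtype, inf_eq_left.mpr (hQH.trans hHM)] at h2
  -- `D` centralizes `P`
  have hDPdisj : D ⊓ P = ⊥ := by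
    apply (Subgroup.disjoint_of_coprime_natCard ?_).eq_bot
    obtain ⟨n, hn⟩ := (IsPGroup.iff_card).mp hPp
    rw [hn]
    exact Nat.Coprime.pow_right n hDcop
  have hDP : ∀ d ∈ D, ∀ y ∈ P, d * y = y * d := by
    intro d hd y hy
    have h1 : d * y * d⁻¹ * y⁻¹ ∈ D ⊓ P := by
      refine ⟨?_, ?_⟩
      · have h2 : y * d⁻¹ * y⁻¹ ∈ D :=
          (Subgroup.mem_normalizer_iff.mp (hDn (hHM (hPH hy))) _).mp (D.inv_mem hd)
        have h3 : d * y * d⁻¹ * y⁻¹ = d * (y * d⁻¹ * y⁻¹) := by group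
        rw [h3]
        exact D.mul_mem hd h2
      · have h2 : d * y * d⁻¹ ∈ P := (Subgroup.mem_normalizer_iff.mp (hPn (hDM hd)) _).mp hy
        exact P.mul_mem h2 (P.inv_mem hy)
    rw [hDPdisj, Subgroup.mem_bot] at h1
    calc d * y = (d * y * d⁻¹ * y⁻¹) * (y * d) := by group
      _ = y * d := by rw [h1, one_mul]
  -- `x ∈ P`
  have hnormal : ∀ (s : ℕ) [Fact s.Prime] (S : Sylow s H), (S : Subgroup H).Normal := by
    intro s _ S
    infer_instance
  have hxP : x ∈ P := by
    have h1 : IsPGroup p (Subgroup.zpowers (⟨x, hx⟩ : H)) := by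
      refine IsPGroup.of_card (n := 1) ?_
      rw [Nat.card_zpowers, Subgroup.orderOf_mk, hxo, pow_one]
    obtain ⟨S, hS⟩ := h1.exists_le_sylow
    have h2 : (S : Subgroup H) ≤ Cfsg.pCore p ↥H := Lib.Cores.le_pCore (hnormal p S) S.2
    exact ⟨⟨x, hx⟩, h2 (hS (Subgroup.mem_zpowers _)), rfl⟩
  have hx1 : x ≠ 1 := by
    rintro rfl
    rw [orderOf_one] at hxo
    exact hp.one_lt.ne hxo
  have hDx : ∀ d ∈ D, d * x = x * d := fun d hd => hDP d hd x hxP
  -- the free action
  obtain ⟨V, hV1, hVn, hDV, hfr⟩ := free_of_centralizer hG hM hPp hPna' (hF ▸ hx) hxo hxM hDM hDx hDp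
  have hZ : IsZGroup D :=
    FreeAction.isZGroup_of_free hV1 hVn hDV hfr (MinSimple.odd_card_subgroup hG D)
  have hHF : H ≤ Cfsg.fittingOf M := FitAux.fittingHallOf_le_fittingOf M
  -- the key claim
  have hstep : ∀ (r : ℕ) [Fact r.Prime] (S : Sylow r D), ∀ s : D, s ∈ (S : Subgroup D) →
      (s : G) ∈ Cfsg.fittingOf M := by
    intro r hrF S s hs
    have hr : r.Prime := hrF.out
    by_cases hrσ : r ∈ Cfsg.sigma M
    · apply hHF
      rw [hF]
      exact mem_sigmaCore_of_pGroup hG hM hr hrσ (hDM s.2) (S.2.map D.subtype)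
        (Subgroup.mem_map_of_mem _ hs)
    by_cases hs1 : s = 1
    · rw [hs1]
      exact Subgroup.one_mem _
    -- `r` divides the order of `D`
    have hrD : r ∣ Nat.card D := by
      obtain ⟨k, hk⟩ := S.2 ⟨s, hs⟩
      have hk' : s ^ r ^ k = 1 := by
        have := congrArg Subtype.val hk
        simpa only [_root_.SubmonoidClass.mk_pow, _root_.OneMemClass.coe_one] using this
      have h1 : orderOf s ∣ r ^ k := orderOf_dvd_of_pow_eq_one hk'
      have h2 : orderOf s ≠ 1 := fun h => hs1 (orderOf_eq_one_iff.mp h)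
      obtain ⟨q, hq, hqs⟩ := Nat.exists_prime_and_dvd h2
      have h3 : q = r := (Nat.prime_dvd_prime_iff_eq hq hr).mp (hq.dvd_of_dvd_pow (hqs.trans h1))
      rw [← h3]
      exact hqs.trans (_root_.orderOf_dvd_natCard s)
    obtain ⟨v, hv⟩ := exists_prime_orderOf_dvd_card' r hrD
    have hvo : orderOf (v : G) = r := by rw [Subgroup.orderOf_coe, hv]
    have hv1 : (v : G) ≠ 1 := by
      intro h
      rw [h, orderOf_one] at hvo
      exact hr.one_lt.ne hvo
    -- `r ∈ τ₂(M)`
    have hprime_of : ∀ t : G, orderOf t = r → ∀ q : ℕ, q.Prime → q ∣ orderOf t → q = r := by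
      intro t ht q hq hqt
      rw [ht] at hqt
      exact (Nat.prime_dvd_prime_iff_eq hq hr).mp hqt
    have hrτ : r ∈ Cfsg.tau2 M := by
      rcases Cfsg.Agent.S1432.result hG M hM x (hF ▸ hx) hx1 v
        ⟨hDM v.2, mem_centralizer_singleton (hDx v v.2)⟩ hv1
        (fun q hq hqv => by rw [hprime_of _ hvo q hq hqv]; exact hrσ) with ⟨hκ', -⟩ | ⟨hτ, -⟩
      · exact absurd (hκ' r hr (by rw [hvo])) (hκ r hr)
      · exact hτ r hr (by rw [hvo])
    -- elementary abelian subgroup `A` of `U` of order `r ^ 2`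
    obtain ⟨A', hA'M, hA', hA'c⟩ := Rank.exists_elemAb_of_not_pRankLE (p := r) (k := 1) (H := M) hrτ.2.2.2
    have hrelU : ¬ r ∣ U.relIndex M := by
      rw [relIndex_left_of_isComplIn hcomp]
      intro h
      exact hrσ (SigmaDecomp.mem_sigma_of_dvd hr h)
    obtain ⟨m₁, hm₁, hA'U⟩ := exists_conj_le_of_not_dvd_relIndex hrelU hA'M (Rank.elemAb_isPGroup hA')
    set A : Subgroup G := A'.map (MulAut.conj m₁).toMonoidHom with hAdef
    have hA : Cfsg.IsElementaryAbelian r A := Rank.elemAb_map _ hA'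
    have hAc : Nat.card A = r ^ 2 := by
      rw [hAdef, Subgroup.card_map_of_injective (MulAut.conj m₁).injective, hA'c]
    obtain ⟨⟨hUA, hAall⟩, -, -⟩ := Cfsg.Agent.S1418.result hG M hM U hcomp r hrτ A ⟨hA'U, hA, hAc⟩
    obtain ⟨-, hsyl, -, hCA, -, -⟩ := Cfsg.Agent.S1417.result hG M hM r hrτ A ⟨hA'U.trans hUM, hA, hAc⟩
    obtain ⟨hAcomm, hAp⟩ := Rank.elemAb_def.mp hA
    -- `A₀ = A ∩ D`
    set A₀ : Subgroup G := A ⊓ D with hA₀
    -- conjugates into `U` of elements of order `r` of `D`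
    have hconjU : ∀ t ∈ D, orderOf t = r → ∃ m ∈ M, m * t * m⁻¹ ∈ A₀ := by
      intro t ht hto
      obtain ⟨m, hm, hmt⟩ := exists_conj_mem_of_not_dvd_relIndex hrelU (hDM ht) (by
        refine IsPGroup.of_card (n := 1) ?_
        rw [Nat.card_zpowers, hto, pow_one])
      refine ⟨m, hm, ?_, ?_⟩
      · have h1 : orderOf (m * t * m⁻¹) = r := by
          rw [← hto]
          exact orderOf_injective (MulAut.conj m).toMonoidHom (MulAut.conj m).injective t
        apply hAall (Subgroup.zpowers (m * t * m⁻¹)) ((Subgroup.zpowers_le).mpr hmt)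
        · rw [Nat.card_zpowers, h1]
        · exact Subgroup.mem_zpowers _
      · exact (Subgroup.mem_normalizer_iff.mp (hDn hm) t).mp ht
    obtain ⟨m₂, hm₂, ha₀⟩ := hconjU v v.2 hvo
    set a₀ : G := m₂ * v * m₂⁻¹ with ha₀def
    have ha₀o : orderOf a₀ = r := by
      rw [← hvo]
      exact orderOf_injective (MulAut.conj m₂).toMonoidHom (MulAut.conj m₂).injective (v : G)
    have ha₀1 : a₀ ≠ 1 := by
      intro h
      rw [h, orderOf_one] at ha₀o
      exact hr.one_lt.ne ha₀o
    -- `A₀` has order `r`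
    have hA₀ne : A₀ ≠ A := by
      intro h
      have h1 : x ∈ Cfsg.sigmaCore M ⊓ Subgroup.centralizer (A : Set G) := by
        refine ⟨hF ▸ hx, mem_centralizer_of_comm ?_⟩
        intro a ha
        rw [SetLike.mem_coe, ← h] at ha
        exact (hDx a ha.2).symm
      rw [hCA, Subgroup.mem_bot] at h1
      exact hx1 h1
    have hA₀card : Nat.card A₀ = r := by
      have h1 : Nat.card A₀ ∣ r ^ 2 := hAc ▸ Subgroup.card_dvd_of_le inf_le_left
      obtain ⟨k, hk, hk'⟩ := (Nat.dvd_prime_pow hr).mp h1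
      have hk0 : k ≠ 0 := by
        rintro rfl
        rw [pow_zero, Subgroup.card_eq_one] at hk'
        rw [hk', Subgroup.mem_bot] at ha₀
        exact ha₀1 ha₀
      have hk2 : k ≠ 2 := by
        rintro rfl
        apply hA₀ne
        apply Subgroup.eq_of_le_of_card_ge inf_le_left
        rw [hk', hAc]
      have hk1 : k = 1 := by omega
      rw [hk', hk1, pow_one]
    have hA₀z : A₀ = Subgroup.zpowers a₀ := by
      symm
      apply Subgroup.eq_of_le_of_card_ge ((Subgroup.zpowers_le).mpr ha₀)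
      rw [Nat.card_zpowers, ha₀o, hA₀card]
    -- `A₀` centralizes `Q`
    have hrH : ¬ r ∣ Nat.card H := by
      intro h
      rw [hF] at h
      exact hrσ (SigmaDecomp.mem_sigma_of_dvd hr h)
    have ha₀D : a₀ ∈ D := ha₀.2
    have hQcent : A₀ ≤ Subgroup.centralizer (Q : Set G) := by
      have hQcomm : ∀ a ∈ Q, ∀ b ∈ Q, a * b = b * a := by
        intro a ha b hb
        have hc : IsMulCommutative Q := IsCyclic.isMulCommutative
        have h1 : (⟨a, ha⟩ : Q) * ⟨b, hb⟩ = ⟨b, hb⟩ * ⟨a, ha⟩ := hc.is_comm.comm _ _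
        exact congrArg Subtype.val h1
      refine Lib.CoprimeAbelian.le_centralizer_of_prime_order A₀ Q hQcomm
        ((inf_le_right.trans hDM).trans hQn) ?_ ?_
      · rw [hA₀card]
        apply (Nat.Prime.coprime_iff_not_dvd hr).mpr
        intro h
        exact hrH (h.trans (Subgroup.card_dvd_of_le hQH))
      · intro w hw hwp a ha
        have hwD : w ∈ D := hQD hw
        -- `a w a⁻¹` is a power of `w`
        have h1 : ∃ c : ℕ, a * w * a⁻¹ = w ^ c := by
          have h2 : a * w * a⁻¹ ∈ Q := (Subgroup.mem_normalizer_iff.mp (hQn (hDM ha.2)) w).mp hw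
          have h3 : (⟨a * w * a⁻¹, h2⟩ : Q) ∈ Subgroup.zpowers (⟨w, hw⟩ : Q) := by
            have h4 : Subgroup.zpowers (⟨a * w * a⁻¹, h2⟩ : Q) = Subgroup.zpowers (⟨w, hw⟩ : Q) := by
              apply CyclicSub.eq_of_card_eq_of_isCyclic
              rw [Nat.card_zpowers, Nat.card_zpowers, Subgroup.orderOf_mk, Subgroup.orderOf_mk]
              exact orderOf_injective (MulAut.conj a).toMonoidHom (MulAut.conj a).injective w
            rw [← h4]
            exact Subgroup.mem_zpowers _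
          obtain ⟨c, hc⟩ := (mem_powers_iff_mem_zpowers).mpr h3
          exact ⟨c, (congrArg Subtype.val hc).symm⟩
        obtain ⟨c, hc⟩ := h1
        by_cases ha1 : a = 1
        · rw [ha1, one_mul, mul_one]
        have hao : orderOf a = r := orderOf_eq_prime (hAp a ha.1) ha1
        exact (FreeAction.commute_of_free hV1 hVn hDV hfr hwD ha.2 hwp hr rfl hao hc).symm
    -- `A₀` centralizes `H`
    have hHcent : ∀ a ∈ A₀, ∀ h ∈ H, a * h = h * a := by
      have h1 : (Subgroup.centralizer (A₀ : Set G)).subgroupOf H = ⊤ := by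
        apply Lib.Cores.eq_top_of_sylow_le
        intro t ht
        obtain ⟨T⟩ : Nonempty (Sylow t H) := inferInstance
        refine ⟨T, fun h hh => ?_⟩
        rw [Subgroup.mem_subgroupOf]
        apply mem_centralizer_of_comm
        intro a ha
        by_cases htp : t = p
        · subst htp
          have h2 : (h : G) ∈ P :=
            ⟨h, Lib.Cores.le_pCore (hnormal t T) T.2 hh, rfl⟩
          exact (hDP a ha.2 h h2).symm
        · have h2 : (h : G) ∈ Q := by
            refine ⟨h, Lib.Cores.le_pPrimeCore (hnormal t T) ?_ hh, rfl⟩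
            obtain ⟨n, hn⟩ := (IsPGroup.iff_card).mp T.2
            rw [hn]
            exact Nat.Coprime.pow_left n ((Nat.coprime_primes ht.out hp).mpr htp)
          exact Subgroup.mem_centralizer_iff.mp (hQcent ha) h h2
      intro a ha h hh
      have h2 : (h : G) ∈ Subgroup.centralizer (A₀ : Set G) := by
        have : (⟨h, hh⟩ : H) ∈ (Subgroup.centralizer (A₀ : Set G)).subgroupOf H := by
          rw [h1]; exact Subgroup.mem_top _
        exact this
      exact Subgroup.mem_centralizer_iff.mp h2 a ha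
    -- `A₀` is normal in `M`
    have hA₀n : M ≤ Subgroup.normalizer (A₀ : Set G) := by
      have key1 : ∀ m ∈ M, ∀ a ∈ A₀, m * a * m⁻¹ ∈ A₀ := by
        intro m hm a ha
        obtain ⟨u, hu, h, hh, rfl⟩ := hcomp.2.2.2 m hm
        rw [← hF] at hh
        have h1 : u * h * a * (u * h)⁻¹ = u * a * u⁻¹ := by
          calc u * h * a * (u * h)⁻¹ = u * (h * a) * h⁻¹ * u⁻¹ := by group
            _ = u * (a * h) * h⁻¹ * u⁻¹ := by rw [hHcent a ha h hh]
            _ = u * a * u⁻¹ := by group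
        rw [h1]
        exact ⟨(Subgroup.mem_normalizer_iff.mp (hUA hu) a).mp ha.1,
          (Subgroup.mem_normalizer_iff.mp (hDn (hUM hu)) a).mp ha.2⟩
      intro m hm
      rw [Subgroup.mem_normalizer_iff]
      intro a
      constructor
      · exact key1 m hm a
      · intro h
        have := key1 m⁻¹ (M.inv_mem hm) _ h
        simpa [mul_assoc] using this
    have hA₀M : A₀ ≤ M := inf_le_right.trans hDM
    have hA₀p : IsPGroup r A₀ := IsPGroup.of_card (n := 1) (by rw [hA₀card, pow_one])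
    have hA₀nil : Group.IsNilpotent A₀ := hA₀p.isNilpotent
    have hA₀der : A₀ ≤ ⁅M, M⁆ := by
      rw [hder]
      exact FitAux.le_fittingOf hA₀M hA₀n hA₀nil
    -- all elements of order `r` of `D` are in `A₀`
    have hall : ∀ t ∈ D, orderOf t = r → t ∈ A₀ := by
      intro t ht hto
      obtain ⟨m, hm, hmt⟩ := hconjU t ht hto
      exact (Subgroup.mem_normalizer_iff.mp (hA₀n hm) t).mpr hmt
    -- `a₀` is not central in `M`
    have hnc : ∃ m ∈ M, m * a₀ ≠ a₀ * m := by
      by_contra hcon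
      push Not at hcon
      obtain ⟨R, hR⟩ := (hA₀p.of_equiv (Subgroup.subgroupOfEquivOfLe hA₀M).symm).exists_le_sylow
      have h1 : (⟨a₀, hA₀M ha₀⟩ : M) ∈ (R : Subgroup M) := hR ha₀
      have h2 : (⟨a₀, hA₀M ha₀⟩ : M) ∈ Subgroup.center M := by
        rw [Subgroup.mem_center_iff]
        intro m
        exact Subtype.ext (hcon m m.2)
      have h3 : (⟨a₀, hA₀M ha₀⟩ : M) ∈ commutator M := by
        have h4 : a₀ ∈ (commutator M).map M.subtype := by
          have h5 : (commutator M).map M.subtype = ⁅M, M⁆ := by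
            rw [commutator_def, Subgroup.map_commutator, ← MonoidHom.range_eq_map,
              Subgroup.range_subtype]
          rw [h5]
          exact hA₀der ha₀
        obtain ⟨y, hy, hya⟩ := h4
        have h6 : y = ⟨a₀, hA₀M ha₀⟩ := Subtype.ext hya
        rwa [← h6]
      have h4 := FreeAction.eq_one_of_mem_sylow_center_commutator R (hsyl R).1 h1 h2 h3
      exact ha₀1 (congrArg Subtype.val h4)
    -- `D` centralizes `A₀`
    have hDcent : ∀ d ∈ D, ∀ a ∈ A₀, d * a = a * d := by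
      have hUab := Cfsg.Agent.S1359.result hG M hM K U hKU
      have h1 : (Subgroup.centralizer (A₀ : Set G)).subgroupOf D = ⊤ := by
        apply Lib.Cores.eq_top_of_sylow_le
        intro t ht
        obtain ⟨T⟩ : Nonempty (Sylow t D) := inferInstance
        refine ⟨T, fun d hd => ?_⟩
        rw [Subgroup.mem_subgroupOf]
        apply mem_centralizer_of_comm
        intro a ha
        by_cases htσ : t ∈ Cfsg.sigma M
        · have h2 : (d : G) ∈ H := by
            rw [hF]
            exact mem_sigmaCore_of_pGroup hG hM ht.out htσ (hDM d.2) (T.2.map D.subtype)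
              (Subgroup.mem_map_of_mem _ hd)
          exact (hHcent a ha d h2).symm
        · have hrelt : ¬ t ∣ U.relIndex M := by
            rw [relIndex_left_of_isComplIn hcomp]
            intro h
            exact htσ (SigmaDecomp.mem_sigma_of_dvd ht.out h)
          have hzp : IsPGroup t (Subgroup.zpowers (d : G)) := by
            have h3 : (T : Subgroup D).map D.subtype ≥ Subgroup.zpowers (d : G) := by
              rw [ge_iff_le, Subgroup.zpowers_le]
              exact Subgroup.mem_map_of_mem _ hd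
            exact (T.2.map D.subtype).to_le h3
          obtain ⟨m, hm, hmd⟩ := exists_conj_mem_of_not_dvd_relIndex hrelt (hDM d.2) hzp
          have hmdD : m * (d : G) * m⁻¹ ∈ D := (Subgroup.mem_normalizer_iff.mp (hDn hm) d).mp d.2
          have hma : m * a * m⁻¹ ∈ A₀ := (Subgroup.mem_normalizer_iff.mp (hA₀n hm) a).mp ha
          have hhat : ∀ e ∈ D, e ∈ U → e ∈ Subgroup.closure ((U : Set G) ∩ Cfsg.sigmaHat M) := by
            intro e he heU
            exact Subgroup.subset_closure ⟨heU, hDM he, x, hF ▸ hx, hx1, hDx e he⟩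
          have h4 := hUab.is_comm.comm (⟨_, hhat _ hmdD hmd⟩ : ↥(Subgroup.closure ((U : Set G) ∩ Cfsg.sigmaHat M)))
            ⟨_, hhat _ hma.2 (hA'U hma.1)⟩
          have h5 : m * (d : G) * m⁻¹ * (m * a * m⁻¹) = m * a * m⁻¹ * (m * (d : G) * m⁻¹) :=
            congrArg Subtype.val h4
          have h6 := congrArg (fun z => m⁻¹ * z * m) h5
          simpa only [mul_assoc, _root_.inv_mul_cancel_left, _root_.inv_mul_cancel, _root_.mul_one] using h6
      intro d hd a ha
      have h2 : d ∈ Subgroup.centralizer (A₀ : Set G) := by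
        have : (⟨d, hd⟩ : D) ∈ (Subgroup.centralizer (A₀ : Set G)).subgroupOf D := by
          rw [h1]; exact Subgroup.mem_top _
        exact this
      exact (Subgroup.mem_centralizer_iff.mp h2 a ha).symm
    -- Frattini argument
    obtain ⟨m, hm, hma⟩ := hnc
    obtain ⟨d, hd, hn⟩ := frattini hDn S hm
    set S' : Subgroup G := (S : Subgroup D).map D.subtype with hS'
    have hS'D : S' ≤ D := Subgroup.map_subtype_le _
    set n : G := d * m with hndef
    have hnM : n ∈ M := M.mul_mem (hDM hd) hm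
    have hna : n * a₀ ≠ a₀ * n := by
      intro h
      apply hma
      have h1 : d * a₀ = a₀ * d := hDcent d hd a₀ ha₀
      calc m * a₀ = d⁻¹ * (n * a₀) := by rw [hndef]; group
        _ = d⁻¹ * (a₀ * n) := by rw [h]
        _ = d⁻¹ * (a₀ * d) * m := by rw [hndef]; group
        _ = d⁻¹ * (d * a₀) * m := by rw [h1]
        _ = a₀ * m := by group
    have hS'comm : ∀ a ∈ S', ∀ b ∈ S', a * b = b * a := by
      have h1 : IsCyclic (S : Subgroup D) := inferInstance
      have h2 : IsMulCommutative (S : Subgroup D) := IsCyclic.isMulCommutative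
      rintro _ ⟨a, ha, rfl⟩ _ ⟨b, hb, rfl⟩
      have h3 := h2.is_comm.comm (⟨a, ha⟩ : (S : Subgroup D)) ⟨b, hb⟩
      have h4 : a * b = b * a := congrArg Subtype.val h3
      exact congrArg Subtype.val h4
    obtain ⟨w, hw, hsw⟩ := exists_commutator_eq hS'comm hn (by
      intro w hw hnw
      by_contra hw1
      -- some power of `w` has order `r`
      have h1 : orderOf w ≠ 1 := fun h => hw1 (orderOf_eq_one_iff.mp h)
      obtain ⟨q, hq, hqw⟩ := Nat.exists_prime_and_dvd h1
      have h2 : q = r := by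
        obtain ⟨k, hk⟩ := (S.2.map D.subtype) ⟨w, hw⟩
        have hk' : w ^ r ^ k = 1 := by
          have := congrArg Subtype.val hk
          simpa only [_root_.SubmonoidClass.mk_pow, _root_.OneMemClass.coe_one] using this
        exact (Nat.prime_dvd_prime_iff_eq hq hr).mp
          (hq.dvd_of_dvd_pow (hqw.trans (orderOf_dvd_of_pow_eq_one hk')))
      have h3 : orderOf (w ^ (orderOf w / q)) = q := orderOf_pow_orderOf_div (orderOf_pos w).ne' hqw
      rw [h2] at h3
      have h4 : w ^ (orderOf w / r) ∈ A₀ := hall _ (D.pow_mem (hS'D hw) _) h3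
      -- it generates `A₀`
      have h5 : Subgroup.zpowers (w ^ (orderOf w / r)) = A₀ := by
        apply Subgroup.eq_of_le_of_card_ge ((Subgroup.zpowers_le).mpr h4)
        rw [Nat.card_zpowers, h3, hA₀card]
      have h6 : a₀ ∈ Subgroup.zpowers (w ^ (orderOf w / r)) := by rw [h5]; exact ha₀
      obtain ⟨k, hk⟩ := Subgroup.mem_zpowers_iff.mp h6
      apply hna
      rw [← hk]
      exact (((show Commute n w from hnw).pow_right _).zpow_right k).eq) (t := (s : G))
      (Subgroup.mem_map_of_mem _ hs)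
    rw [← hder, hsw]
    have h7 := Subgroup.commutator_mem_commutator (hDM (hS'D hw)) hnM
    rwa [commutatorElement_def] at h7
  have key : D ≤ Cfsg.fittingOf M := by
    have h1 : (Cfsg.fittingOf M).subgroupOf D = ⊤ := by
      apply Lib.Cores.eq_top_of_sylow_le
      intro r hr
      obtain ⟨S⟩ : Nonempty (Sylow r D) := inferInstance
      exact ⟨S, fun s hs => hstep r S s hs⟩
    rwa [Subgroup.subgroupOf_eq_top] at h1
  have hDnil : Group.IsNilpotent D := FitAux.isNilpotent_of_le key (FitAux.isNilpotent_fittingOf M)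
  have hDcyc : IsCyclic D := inferInstance
  exact isCyclic_of_surjective ((Cfsg.pPrimeCore p ↥M).equivMapOfInjective M.subtype
      (Subgroup.subtype_injective M)).symm.toMonoidHom (MulEquiv.surjective _)

end Cfsg.Agent.OddOrderLocal.TypeITrich
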