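import Mathlib
import Cfsg.Agent.S0016
import Cfsg.Agent.OddOrderLocal.CNBasic
set_option linter.all false

/-!
A finite nilpotent group with at most one subgroup of each prime order is cyclic, or the product of
a cyclic group of odd order and a generalized quaternion group.
-/

set_option autoImplicit false

namespace Cfsg.Agent.OddOrderLocal.NilpotentUnique

open Subgroup
open Cfsg.Agent.OddOrderLocal.CNBasic

/-- Sylow subgroups. -/
theorem sylow_cyclic_or {E : Type*} [Group E] [Finite E]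
    (hu : ∀ r : ℕ, r.Prime → ∀ x y : E, orderOf x = r → y ^ r = 1 → y ∈ zpowers x)
    {r : ℕ} (hr : r.Prime) {P : Subgroup E} (hP : IsPGroup r P) :
    IsCyclic P ∨ (r = 2 ∧ ∃ n : ℕ, Nonempty (P ≃* QuaternionGroup (2 ^ n))) := by
  have := Fact.mk hr
  refine Cfsg.Agent.S0016.result r hP ?_
  have key : ∀ H K : Subgroup P, Nat.card H = r → Nat.card K = r → K ≤ H := by
    intro H K hH hK y hy
    have hy1 : y ^ r = 1 := by
      have h1 : (⟨y, hy⟩ : K) ^ Nat.card K = 1 := pow_card_eq_one'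
      rw [hK] at h1
      exact congrArg Subtype.val h1
    obtain ⟨x, hx⟩ := exists_prime_orderOf_dvd_card' (G := H) r (dvd_of_eq hH.symm)
    have hx' : orderOf (((x : H) : P) : E) = r := by
      rw [Subgroup.orderOf_coe, Subgroup.orderOf_coe, hx]
    have h2 : ((y : P) : E) ∈ zpowers (((x : H) : P) : E) :=
      hu r hr _ _ hx' (congrArg Subtype.val hy1)
    obtain ⟨k, hk⟩ := mem_zpowers_iff.mp h2
    have h3 : ((x : H) : P) ^ k = y := Subtype.ext hk
    rw [← h3]
    exact zpow_mem x.2 k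
  intro H K hH hK
  exact le_antisymm (key K H hK hH) (key H K hH hK)

/-- Odd order: the group is cyclic. -/
theorem isCyclic_of_odd {E : Type*} [Group E] [Finite E] [Group.IsNilpotent E]
    (hu : ∀ r : ℕ, r.Prime → ∀ x y : E, orderOf x = r → y ^ r = 1 → y ∈ zpowers x)
    (hodd : Odd (Nat.card E)) : IsCyclic E := by
  have hZ : IsZGroup E := by
    constructor
    intro r hr P
    have := Fact.mk hr
    rcases sylow_cyclic_or hu hr P.isPGroup' with h | ⟨h2, n, ⟨e⟩⟩
    · exact h
    · exfalso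
      subst h2
      have h3 : Nat.card (P : Subgroup E) = 4 * 2 ^ n := by
        rw [Nat.card_congr e.toEquiv, Nat.card_eq_fintype_card, QuaternionGroup.card]
      have h4 : Nat.card (P : Subgroup E) ∣ Nat.card E := card_subgroup_dvd_card _
      rw [h3] at h4
      have h5 : 2 ∣ Nat.card E := (Dvd.intro (2 * 2 ^ n) (by ring)).trans h4
      exact (Nat.not_even_iff_odd.mpr hodd) (even_iff_two_dvd.mpr h5)
  infer_instance

/-- General case. -/
theorem cyclic_or {E : Type*} [Group E] [Finite E] [Group.IsNilpotent E]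
    (hu : ∀ r : ℕ, r.Prime → ∀ x y : E, orderOf x = r → y ^ r = 1 → y ∈ zpowers x) :
    IsCyclic E ∨ ∃ C Q : Subgroup E, C ⊔ Q = ⊤ ∧ (∀ a ∈ C, ∀ b ∈ Q, a * b = b * a) ∧
      IsCyclic C ∧ Odd (Nat.card C) ∧ ∃ n : ℕ, Nonempty (↥Q ≃* QuaternionGroup (2 ^ n)) := by
  have h2p := Fact.mk Nat.prime_two
  let P : Sylow 2 E := default
  rcases sylow_cyclic_or hu Nat.prime_two P.isPGroup' with h | ⟨_, n, ⟨e⟩⟩
  · left
    have hZ : IsZGroup E := by
      constructor
      intro r hr R
      have := Fact.mk hr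
      rcases sylow_cyclic_or hu hr R.isPGroup' with h1 | ⟨h2, n, ⟨e⟩⟩
      · exact h1
      · subst h2
        exact isCyclic_of_surjective _ (Sylow.equiv P R).surjective
    infer_instance
  · right
    have hcop : (Nat.card (P : Subgroup E)).Coprime (P : Subgroup E).index := P.card_coprime_index
    obtain ⟨C, hC⟩ := exists_right_complement'_of_coprime (N := (P : Subgroup E)) hcop
    have hCodd : Odd (Nat.card C) := by
      rw [← Nat.not_even_iff_odd, even_iff_two_dvd, ← hC.symm.index_eq_card]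
      exact P.not_dvd_index
    refine ⟨C, P, ?_, ?_, ?_, hCodd, n, ⟨e⟩⟩
    · rw [sup_comm]; exact hC.sup_eq_top
    · intro a ha b hb
      apply commute_of_coprime_orderOf
      have h1 : orderOf a ∣ Nat.card C := by
        rw [← Subgroup.orderOf_mk a ha]; exact orderOf_dvd_natCard _
      obtain ⟨k, hk⟩ := (IsPGroup.iff_orderOf.mp P.isPGroup') ⟨b, hb⟩
      rw [Subgroup.orderOf_mk] at hk
      rw [hk]
      apply Nat.Coprime.pow_right
      exact Nat.Coprime.coprime_dvd_left h1 (hCodd.coprime_two_right)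
    · apply isCyclic_of_odd _ hCodd
      intro r hr x y hx hy
      have h1 : (y : E) ∈ zpowers (x : E) :=
        hu r hr x y (by rw [Subgroup.orderOf_coe]; exact hx) (congrArg Subtype.val hy)
      obtain ⟨k, hk⟩ := mem_zpowers_iff.mp h1
      exact mem_zpowers_iff.mpr ⟨k, Subtype.ext hk⟩

/-- The form for a subgroup of a group. -/
theorem subgroup_cyclic_or {G : Type*} [Group G] [Finite G] {E : Subgroup G}
    (hn : Group.IsNilpotent E)
    (hu : ∀ r : ℕ, r.Prime → ∀ x ∈ E, ∀ y ∈ E, orderOf x = r → y ^ r = 1 → y ∈ zpowers x) :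
    IsCyclic E ∨ ∃ C Q : Subgroup G, C ⊔ Q = E ∧ (∀ a ∈ C, ∀ b ∈ Q, a * b = b * a) ∧
      IsCyclic C ∧ Odd (Nat.card C) ∧ ∃ n : ℕ, Nonempty (↥Q ≃* QuaternionGroup (2 ^ n)) := by
  have hu' : ∀ r : ℕ, r.Prime → ∀ x y : E, orderOf x = r → y ^ r = 1 → y ∈ zpowers x := by
    intro r hr x y hx hy
    have h1 : (y : G) ∈ zpowers (x : G) :=
      hu r hr x x.2 y y.2 (by rw [Subgroup.orderOf_coe]; exact hx) (congrArg Subtype.val hy)
    obtain ⟨k, hk⟩ := mem_zpowers_iff.mp h1
    exact mem_zpowers_iff.mpr ⟨k, Subtype.ext hk⟩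
  rcases cyclic_or hu' with h | ⟨C, Q, h1, h2, h3, h4, n, ⟨e⟩⟩
  · exact Or.inl h
  · right
    have eC : C ≃* C.map E.subtype := Subgroup.equivMapOfInjective C E.subtype E.subtype_injective
    have eQ : Q ≃* Q.map E.subtype := Subgroup.equivMapOfInjective Q E.subtype E.subtype_injective
    refine ⟨C.map E.subtype, Q.map E.subtype, ?_, ?_, ?_, ?_, n, ⟨eQ.symm.trans e⟩⟩
    · rw [← Subgroup.map_sup, h1, ← MonoidHom.range_eq_map, Subgroup.range_subtype]
    · rintro _ ⟨a, ha, rfl⟩ _ ⟨b, hb, rfl⟩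
      show (a : G) * b = b * a
      exact congrArg Subtype.val (h2 a ha b hb)
    · exact isCyclic_of_surjective _ eC.surjective
    · rw [← Nat.card_congr eC.toEquiv]; exact h4

end Cfsg.Agent.OddOrderLocal.NilpotentUnique
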