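import Mathlib
import Cfsg.Agent.Lib.Cores
import Cfsg.Agent.Lib.SolvableMinNormal
import Cfsg.Agent.Lib.ProductSet
import Cfsg.Agent.Lib.CoprimeCommutator
import Cfsg.Prelude.Def_LieExceptional
import Cfsg.Prelude.Def_OddOrderLocal
import Cfsg.Agent.OddOrderLocal.MinSimpleBasic
import Cfsg.Agent.OddOrderLocal.CNMaxNilpotent
set_option linter.all false

-- part: OddOrderLocal/CNFpf
section
/-!
A commutative group of exponent `r` acting fixed point freely on a nontrivial commutative group of
order prime to `r` is cyclic (element-wise form, inside a group).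
-/

set_option autoImplicit false
set_option linter.style.haveILetI false
set_option linter.unusedSectionVars false

namespace Cfsg.Agent.OddOrderLocal.CNFpf

open Finset

section Ring

variable {E : Type*} [Ring E]

theorem natCast_eq_zero_of_sums {r : ℕ} (hr : 0 < r) (X Y : E) (hXY : Commute X Y)
    (h1 : ∀ k < r, ∑ i ∈ range r, (X * Y ^ k) ^ i = 0)
    (h2 : ∀ i < r, 0 < i → ∑ k ∈ range r, (Y ^ i) ^ k = 0) : (r : E) = 0 := by
  have e1 : ∑ k ∈ range r, ∑ i ∈ range r, X ^ i * (Y ^ i) ^ k = 0 := by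
    apply Finset.sum_eq_zero
    intro k hk
    rw [← h1 k (Finset.mem_range.mp hk)]
    apply Finset.sum_congr rfl
    intro i _
    rw [(hXY.pow_right k).mul_pow, ← pow_mul, ← pow_mul, mul_comm i k]
  rw [Finset.sum_comm] at e1
  have e2 : ∀ i ∈ range r, (∑ k ∈ range r, X ^ i * (Y ^ i) ^ k) = if i = 0 then (r : E) else 0 := by
    intro i hi
    by_cases h0 : i = 0
    · subst h0
      simp
    · rw [if_neg h0, ← Finset.mul_sum, h2 i (Finset.mem_range.mp hi) (Nat.pos_of_ne_zero h0),
        mul_zero]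
  rw [Finset.sum_congr rfl e2] at e1
  simpa [hr] using e1

end Ring

section Group

variable {N : Type*} [Group N]

/-- If `V` is a commutative normal subgroup, `x` and `y` commute and have order dividing the prime
`r`, and no nontrivial product `x ^ i * y ^ j` centralizes a nontrivial element of `V`, then
`x` is a power of `y`, provided `V` contains a non-identity element `v` with `v ^ r ≠ 1`. -/
theorem mem_zpowers_of_fpf {r : ℕ} (hr : r.Prime) (V : Subgroup N) [V.Normal]
    [IsMulCommutative V] {x y : N} (hxy : Commute x y) (hx : x ^ r = 1) (hy : y ^ r = 1)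
    (hfpf : ∀ z ∈ Subgroup.closure ({x, y} : Set N), z ≠ 1 → ∀ v ∈ V, z * v = v * z → v = 1)
    (hV : ∃ v ∈ V, v ^ r ≠ 1) (hy1 : y ≠ 1) : x ∈ Subgroup.zpowers y := by
  classical
  by_contra hcon
  letI : CommGroup V := { (inferInstance : Group V) with mul_comm := fun a b => mul_comm' a b }
  -- the conjugation action
  let φ : N →* AddMonoid.End (Additive V) :=
    { toFun := fun g =>
        { toFun := fun v => Additive.ofMul ((MulAut.conjNormal g : MulAut V) v.toMul)
          map_zero' := by simp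
          map_add' := fun v w => by
            change Additive.ofMul ((MulAut.conjNormal g : MulAut V) (v.toMul * w.toMul)) = _
            rw [map_mul]; rfl }
      map_one' := by
        refine AddMonoidHom.ext fun v => ?_
        change Additive.ofMul ((MulAut.conjNormal (1 : N) : MulAut V) v.toMul) = v
        rw [map_one]; rfl
      map_mul' := fun g h => by
        refine AddMonoidHom.ext fun v => ?_
        change Additive.ofMul ((MulAut.conjNormal (g * h) : MulAut V) v.toMul) =
          Additive.ofMul ((MulAut.conjNormal g : MulAut V) ((MulAut.conjNormal h : MulAut V) v.toMul))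
        rw [map_mul]; rfl }
  have hφ : ∀ (g : N) (v : Additive V), ((φ g v).toMul : N) = g * (v.toMul : N) * g⁻¹ := by
    intro g v
    exact MulAut.conjNormal_apply g v.toMul
  have hx_mem : x ∈ Subgroup.closure ({x, y} : Set N) := Subgroup.subset_closure (by simp)
  have hy_mem : y ∈ Subgroup.closure ({x, y} : Set N) := Subgroup.subset_closure (by simp)
  -- norms vanish
  have hnorm : ∀ z ∈ Subgroup.closure ({x, y} : Set N), z ≠ 1 → z ^ r = 1 →
      ∑ i ∈ range r, (φ z) ^ i = 0 := by
    intro z hz hz1 hzr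
    have hfix : φ z * ∑ i ∈ range r, (φ z) ^ i = ∑ i ∈ range r, (φ z) ^ i := by
      have e1 := Finset.sum_range_succ (fun i => (φ z) ^ i) r
      have e2 := Finset.sum_range_succ' (fun i => (φ z) ^ i) r
      have e3 : (φ z) ^ r = 1 := by rw [← map_pow, hzr, map_one]
      simp only [pow_succ'] at e2
      rw [e1, e3, pow_zero, ← Finset.mul_sum] at e2
      exact (add_right_cancel e2).symm
    refine AddMonoidHom.ext fun v => ?_
    have h1 : φ z ((∑ i ∈ range r, (φ z) ^ i) v) = (∑ i ∈ range r, (φ z) ^ i) v := by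
      conv_rhs => rw [← hfix]
      rfl
    set w := (∑ i ∈ range r, (φ z) ^ i) v with hw
    have h2 := congrArg (fun u : Additive V => (u.toMul : N)) h1
    simp only [hφ] at h2
    have h3 : z * (w.toMul : N) = (w.toMul : N) * z := by
      rw [← h2]; simp [mul_assoc]
      rw [← mul_assoc z, h2]
    have h4 := hfpf z hz hz1 w.toMul w.toMul.2 h3
    have h5 : w = 0 := by
      have : w.toMul = 1 := Subtype.ext h4
      exact this
    exact h5
  have hXY : Commute (φ x) (φ y) := by
    show φ x * φ y = φ y * φ x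
    rw [← map_mul, ← map_mul, hxy.eq]
  have key := natCast_eq_zero_of_sums hr.pos (φ x) (φ y) hXY
    (fun k _ => by
      rw [← map_pow, ← map_mul]
      apply hnorm
      · exact mul_mem hx_mem (pow_mem hy_mem k)
      · intro h
        apply hcon
        rw [eq_inv_of_mul_eq_one_left h]
        exact inv_mem (pow_mem (Subgroup.mem_zpowers y) k)
      · rw [(hxy.pow_right k).mul_pow, hx, ← pow_mul, mul_comm k r, pow_mul, hy, one_pow, one_mul])
    (fun i hi hi0 => by
      rw [← map_pow]
      apply hnorm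
      · exact pow_mem hy_mem i
      · intro h
        have h1 : orderOf y ∣ i := orderOf_dvd_of_pow_eq_one h
        have h2 : orderOf y = r := by
          have := (Nat.dvd_prime hr).mp (orderOf_dvd_of_pow_eq_one hy)
          rcases this with h | h
          · exact absurd (orderOf_eq_one_iff.mp h) hy1
          · exact h
        rw [h2] at h1
        exact absurd (Nat.le_of_dvd hi0 h1) (by omega)
      · rw [← pow_mul, mul_comm, pow_mul, hy, one_pow])
  obtain ⟨v, hv, hvr⟩ := hV
  apply hvr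
  have h1 := congrArg (fun e : AddMonoid.End (Additive V) => e (Additive.ofMul ⟨v, hv⟩)) key
  have h2 : ((r : AddMonoid.End (Additive V)) (Additive.ofMul ⟨v, hv⟩)) =
      r • (Additive.ofMul (⟨v, hv⟩ : V)) := by
    simp
  simp only [h2] at h1
  have h3 := congrArg (fun u : Additive V => (u.toMul : N)) h1
  simpa using h3

end Group

end Cfsg.Agent.OddOrderLocal.CNFpf
end

-- part: OddOrderLocal/CNThompsonJ
section
/-!
The subgroup `J(T)` generated by the abelian subgroups of largest order of a subgroup `T` of a finite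
group, with the few properties needed for CN-groups.
-/

set_option autoImplicit false
set_option linter.style.haveILetI false
set_option linter.unusedSectionVars false

namespace Cfsg.Agent.OddOrderLocal.CNThompsonJ

open Subgroup
open scoped Pointwise

variable {G : Type*} [Group G]

/-- `B` is an abelian subgroup of `T` of largest order. -/
def IsMaxAb (T B : Subgroup G) : Prop :=
  B ≤ T ∧ IsMulCommutative B ∧ ∀ C : Subgroup G, C ≤ T → IsMulCommutative C →
    Nat.card C ≤ Nat.card B

theorem isMaxAb_iff (T B : Subgroup G) : IsMaxAb T B ↔ (B ≤ T ∧ IsMulCommutative B ∧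
    ∀ C : Subgroup G, C ≤ T → IsMulCommutative C → Nat.card C ≤ Nat.card B) := Iff.rfl

/-- The subgroup generated by the abelian subgroups of largest order. -/
def J (T : Subgroup G) : Subgroup G := sSup {B | IsMaxAb T B}

theorem J_def (T : Subgroup G) : J T = sSup {B | IsMaxAb T B} := rfl

theorem J_le (T : Subgroup G) : J T ≤ T := sSup_le fun _ hB => hB.1

theorem le_J {T B : Subgroup G} (hB : IsMaxAb T B) : B ≤ J T := le_sSup hB

theorem exists_isMaxAb [Finite G] (T : Subgroup G) : ∃ B, IsMaxAb T B := by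
  classical
  have hfin : ({B : Subgroup G | B ≤ T ∧ IsMulCommutative B}).Finite := Set.toFinite _
  have hne : ({B : Subgroup G | B ≤ T ∧ IsMulCommutative B}).Nonempty :=
    ⟨⊥, bot_le, inferInstance⟩
  obtain ⟨B, hB, hmax⟩ := Set.exists_max_image _ (fun B : Subgroup G => Nat.card B) hfin hne
  exact ⟨B, hB.1, hB.2, fun C hC hCc => hmax C ⟨hC, hCc⟩⟩

theorem J_ne_bot [Finite G] {T : Subgroup G} (hT : T ≠ ⊥) : J T ≠ ⊥ := by
  intro h
  obtain ⟨B, hB⟩ := exists_isMaxAb T
  have hB1 : B = ⊥ := le_bot_iff.mp (h ▸ le_J hB)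
  subst hB1
  obtain ⟨⟨x, hxT⟩, hx⟩ := (Subgroup.ne_bot_iff_exists_ne_one).mp hT
  have hle := hB.2.2 (zpowers x) (by rw [zpowers_le]; exact hxT) inferInstance
  rw [Subgroup.card_bot, Nat.card_zpowers] at hle
  have hx1 : x ≠ 1 := fun h => hx (Subtype.ext h)
  have h1 : orderOf x ≠ 1 := fun h => hx1 (orderOf_eq_one_iff.mp h)
  have h2 := orderOf_pos x
  omega

theorem J_eq_of_le [Finite G] {T D : Subgroup G} (h1 : J T ≤ D) (h2 : D ≤ T) : J T = J D := by
  obtain ⟨B₀, hB₀⟩ := exists_isMaxAb T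
  have hB₀D : B₀ ≤ D := (le_J hB₀).trans h1
  apply le_antisymm
  · refine sSup_le fun B hB => le_J ⟨(le_J hB).trans h1, hB.2.1, fun C hC hCc =>
      hB.2.2 C (hC.trans h2) hCc⟩
  · refine sSup_le fun B hB => le_J ⟨hB.1.trans h2, hB.2.1, fun C hC hCc => ?_⟩
    exact (hB₀.2.2 C hC hCc).trans (hB.2.2 B₀ hB₀D hB₀.2.1)

theorem isMulCommutative_map {H : Type*} [Group H] {B : Subgroup G} (h : IsMulCommutative B)
    (f : G →* H) : IsMulCommutative (B.map f) := inferInstance

theorem card_map_conj (g : G) (B : Subgroup G) :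
    Nat.card (MulAut.conj g • B : Subgroup G) = Nat.card B :=
  Nat.card_congr (Subgroup.equivSMul (MulAut.conj g) B).toEquiv.symm

theorem isMaxAb_conj {T B : Subgroup G} (g : G) (h : IsMaxAb T B) :
    IsMaxAb (MulAut.conj g • T) (MulAut.conj g • B) := by
  refine ⟨pointwise_smul_le_pointwise_smul_iff.mpr h.1, ?_, ?_⟩
  · haveI := h.2.1
    exact isMulCommutative_map h.2.1 _
  · intro C hC hCc
    rw [card_map_conj]
    have h1 : MulAut.conj g⁻¹ • C ≤ T := by
      rw [map_inv]
      rwa [subset_pointwise_smul_iff] at hC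
    have := h.2.2 (MulAut.conj g⁻¹ • C) h1 (isMulCommutative_map hCc _)
    rwa [card_map_conj] at this

theorem J_conj (g : G) (T : Subgroup G) : J (MulAut.conj g • T) = MulAut.conj g • J T := by
  have key : ∀ (g : G) (T : Subgroup G), MulAut.conj g • J T ≤ J (MulAut.conj g • T) := by
    intro g T
    rw [pointwise_smul_subset_iff]
    refine sSup_le fun B hB => ?_
    rw [← pointwise_smul_subset_iff]
    exact le_J (isMaxAb_conj g hB)
  apply le_antisymm
  · have := key g⁻¹ (MulAut.conj g • T)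
    rw [map_inv, inv_smul_smul, ← pointwise_smul_le_pointwise_smul_iff (a := MulAut.conj g),
      smul_inv_smul] at this
    exact this
  · exact key g T

end Cfsg.Agent.OddOrderLocal.CNThompsonJ
end

-- part: OddOrderLocal/CNLocal
section
/-!
Finite solvable groups `N` with `O_p(N) ≠ 1` in which the centralizer of every non-identity
`p`-element is a `p`-group: abelian subgroups of largest order of a Sylow `p`-subgroup lie in
`O_p(N)` if the order of `N` is odd, and a Sylow `p`-subgroup contained in `N'` is normal.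
-/

set_option autoImplicit false
set_option linter.style.haveILetI false
set_option linter.unusedSectionVars false

namespace Cfsg.Agent.OddOrderLocal.CNLocal

open Subgroup Cfsg
open scoped Pointwise

variable {N : Type*} [Group N] [Finite N] {p : ℕ} [Fact p.Prime]

/-- The centralizer of every non-identity `p`-element is a `p`-group. -/
def CP (p : ℕ) (N : Type*) [Group N] : Prop :=
  ∀ x y : N, x ≠ 1 → (∃ k, orderOf x = p ^ k) → Commute x y → ∃ k, orderOf y = p ^ k

theorem CP_iff (p : ℕ) (N : Type*) [Group N] : CP p N ↔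
    ∀ x y : N, x ≠ 1 → (∃ k, orderOf x = p ^ k) → Commute x y → ∃ k, orderOf y = p ^ k := Iff.rfl

theorem CP.subgroup {G : Type*} [Group G] (h : CP p G) (N : Subgroup G) : CP p N := by
  intro x y hx ⟨k, hk⟩ hxy
  obtain ⟨j, hj⟩ := h x y (fun h => hx (Subtype.ext h)) ⟨k, by rw [Subgroup.orderOf_coe, hk]⟩
    (congrArg Subtype.val hxy)
  exact ⟨j, by rw [← hj, Subgroup.orderOf_coe]⟩

theorem not_prime_pow {r : ℕ} (hr : r.Prime) (hrp : r ≠ p) {j : ℕ} : r ≠ p ^ j := by
  intro h
  have h1 : r ∣ p ^ j := by rw [← h]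
  have h2 := hr.dvd_of_dvd_pow h1
  exact hrp ((Nat.prime_dvd_prime_iff_eq hr (Fact.out)).mp h2)

/-- key lemma: a normal subgroup of prime order `r ≠ p` of `N / O_p(N)`. -/
theorem exists_normal_prime [Group.IsSolvable N] (hO : pCore p N ≠ ⊥) (hCP : CP p N)
    (hne : pCore p N ≠ ⊤) :
    ∃ r, r.Prime ∧ r ≠ p ∧ ∃ a : N, orderOf a = r ∧
      (zpowers (QuotientGroup.mk' (pCore p N) a)).Normal := by
  haveI : Nontrivial (N ⧸ pCore p N) := QuotientGroup.nontrivial_iff.mpr hne
  obtain ⟨r, hr, E, hEchar, hEc, hEr, hEne⟩ :=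
    Lib.SolvableMinNormal.exists_characteristic_pgroup (G := N ⧸ pCore p N)
  haveI := Fact.mk hr
  have hrp : r ≠ p := by
    rintro rfl
    have : E ≤ pCore r (N ⧸ pCore r N) := Lib.Cores.le_pCore inferInstance hEr
    rw [Lib.Cores.pCore_quotient_pCore] at this
    exact hEne (le_bot_iff.mp this)
  obtain ⟨R⟩ := (inferInstance : Nonempty (Sylow r N))
  have hsurj := QuotientGroup.mk'_surjective (pCore p N)
  haveI : E.Normal := inferInstance
  have hER : E ≤ (R : Subgroup N).map (QuotientGroup.mk' (pCore p N)) :=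
    hEr.le_sylow_of_normal (R.mapSurjective hsurj)
  have hRO : ∀ x ∈ (R : Subgroup N), x ∈ pCore p N → x = 1 := by
    intro x hx hxO
    have := IsPGroup.disjoint_of_ne r p hrp _ _ R.isPGroup' (Lib.Cores.pCore_isPGroup (G := N) p)
    exact (Subgroup.disjoint_def.mp this) hx hxO
  -- an element of order `r` of `E`
  have hrE : r ∣ Nat.card E := by
    rcases hEr.card_eq_or_dvd with h | h
    · exact absurd (Subgroup.eq_bot_of_card_eq E h) hEne
    · exact h
  obtain ⟨e, he⟩ := exists_prime_orderOf_dvd_card' (G := E) r hrE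
  obtain ⟨a, haR, hae⟩ := hER e.2
  have hlift : ∀ x ∈ (R : Subgroup N), (QuotientGroup.mk' (pCore p N) x) ^ r = 1 → x ^ r = 1 := by
    intro x hx h
    apply hRO _ (pow_mem hx r)
    rw [← map_pow] at h
    exact (QuotientGroup.eq_one_iff _).mp h
  have ha_r : a ^ r = 1 := by
    apply hlift a haR
    rw [hae, ← Subgroup.coe_pow, ← he, pow_orderOf_eq_one]; rfl
  have ha1 : a ≠ 1 := by
    rintro rfl
    rw [map_one] at hae
    have : e = 1 := Subtype.ext hae.symm
    rw [this, orderOf_one] at he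
    exact hr.one_lt.ne he
  have hao : orderOf a = r := orderOf_eq_prime ha_r ha1
  -- the centre of `O_p(N)`
  haveI hOn : (pCore p N).Normal := inferInstance
  let Z : Subgroup N := (center (pCore p N)).map (pCore p N).subtype
  haveI hZn : Z.Normal := inferInstance
  haveI hZc : IsMulCommutative Z := inferInstance
  have hZO : Z ≤ pCore p N := Subgroup.map_subtype_le _
  have hOp : IsPGroup p (pCore p N) := Lib.Cores.pCore_isPGroup p
  haveI : Nontrivial (pCore p N) := (Subgroup.nontrivial_iff_ne_bot _).mpr hO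
  haveI : Nontrivial (center (pCore p N)) := hOp.center_nontrivial
  obtain ⟨v, hv⟩ := exists_ne (1 : center (pCore p N))
  have hvZ : ((v : pCore p N) : N) ∈ Z := ⟨v, v.2, rfl⟩
  have hv1 : ((v : pCore p N) : N) ≠ 1 := fun h => hv (Subtype.ext (Subtype.ext h))
  have hZp : ∀ w ∈ Z, ∃ k, orderOf w = p ^ k := by
    intro w hw
    obtain ⟨k, hk⟩ := IsPGroup.iff_orderOf.mp hOp ⟨w, hZO hw⟩
    exact ⟨k, by rw [← hk, ← Subgroup.orderOf_coe]⟩
  have hRr : ∀ w ∈ (R : Subgroup N), ∃ k, orderOf w = r ^ k := by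
    intro w hw
    obtain ⟨k, hk⟩ := IsPGroup.iff_orderOf.mp R.isPGroup' ⟨w, hw⟩
    exact ⟨k, by rw [← hk]; exact (Subgroup.orderOf_coe (⟨w, hw⟩ : (R : Subgroup N)))⟩
  refine ⟨r, hr, hrp, a, hao, ⟨fun n hn g => ?_⟩⟩
  have hnE : n ∈ E := by
    have : zpowers (QuotientGroup.mk' (pCore p N) a) ≤ E := by
      rw [zpowers_le, hae]; exact e.2
    exact this hn
  have hnr : n ^ r = 1 := by
    obtain ⟨i, rfl⟩ := hn
    simp only
    rw [← zpow_natCast, ← zpow_mul, mul_comm, zpow_mul, zpow_natCast, ← map_pow, ha_r, map_one,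
      one_zpow]
  have hcE : g * n * g⁻¹ ∈ E := (inferInstance : E.Normal).conj_mem n hnE g
  have hcr : (g * n * g⁻¹) ^ r = 1 := by
    rw [conj_pow, hnr, mul_one, mul_inv_cancel]
  obtain ⟨x, hxR, hx⟩ := hER hcE
  rw [← hx] at hcE hcr ⊢
  have hxr : x ^ r = 1 := hlift x hxR hcr
  have hxa : Commute x a := by
    have h1 : x * a * x⁻¹ * a⁻¹ = 1 := by
      apply hRO
      · exact mul_mem (mul_mem (mul_mem hxR haR) (inv_mem hxR)) (inv_mem haR)
      · have h2 : (QuotientGroup.mk' (pCore p N)) (x * a * x⁻¹ * a⁻¹) = 1 := by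
          simp only [map_mul, map_inv]
          have haE : QuotientGroup.mk' (pCore p N) a ∈ E := by rw [hae]; exact e.2
          have h3 := congrArg Subtype.val (mul_comm' (⟨_, hcE⟩ : E) ⟨_, haE⟩)
          simp only [Subgroup.coe_mul] at h3
          rw [h3]; group
        exact (QuotientGroup.eq_one_iff _).mp h2
    have h4 : x * a = a * x := by
      calc x * a = (x * a * x⁻¹ * a⁻¹) * (a * x) := by group
        _ = a * x := by rw [h1, one_mul]
    exact h4
  have hmem : x ∈ zpowers a := by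
    refine CNFpf.mem_zpowers_of_fpf hr Z hxa hxr ha_r ?_ ⟨_, hvZ, ?_⟩ ha1
    · intro z hz hz1 w hw hzw
      by_contra hw1
      have hzR : z ∈ (R : Subgroup N) := by
        have : closure ({x, a} : Set N) ≤ (R : Subgroup N) := by
          rw [closure_le]
          rintro y (rfl | rfl)
          · exact hxR
          · exact haR
        exact this hz
      obtain ⟨j, hj⟩ := hCP w z hw1 (hZp w hw) hzw.symm
      obtain ⟨k, hk⟩ := hRr z hzR
      have hd : orderOf z = 1 := by
        have hcop : Nat.Coprime (p ^ j) (r ^ k) :=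
          Nat.Coprime.pow _ _ ((Nat.coprime_primes Fact.out hr).mpr hrp.symm)
        rw [← hj, ← hk, Nat.coprime_self] at hcop
        exact hcop
      exact hz1 (orderOf_eq_one_iff.mp hd)
    · intro h
      obtain ⟨k, hk⟩ := hZp _ hvZ
      have h1 : p ^ k ∣ r := by rw [← hk]; exact orderOf_dvd_of_pow_eq_one h
      rcases (Nat.dvd_prime hr).mp h1 with h2 | h2
      · rw [h2] at hk
        exact hv1 (orderOf_eq_one_iff.mp hk)
      · exact not_prime_pow hr hrp h2.symm
  obtain ⟨i, hi⟩ := hmem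
  exact ⟨i, by rw [← hi]; simp⟩

/-- A `p`-element commuting modulo `O_p(N)` with an element of prime order `r ≠ p` lies in
`O_p(N)`. -/
theorem mem_pCore_of_commute (hCP : CP p N) {r : ℕ} (hr : r.Prime) (hrp : r ≠ p) {a : N}
    (ha : orderOf a = r) {x : N} (T : Sylow p N) (hx : x ∈ (T : Subgroup N))
    (hxa : Commute (QuotientGroup.mk' (pCore p N) x) (QuotientGroup.mk' (pCore p N) a)) :
    x ∈ pCore p N := by
  haveI := Fact.mk hr
  have hOp : IsPGroup p (pCore p N) := Lib.Cores.pCore_isPGroup p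
  haveI hOn : (pCore p N).Normal := inferInstance
  have hrO : ¬ r ∣ Nat.card (pCore p N) := by
    intro h
    obtain ⟨n, hn⟩ := IsPGroup.iff_card.mp hOp
    rw [hn] at h
    exact hrp ((Nat.prime_dvd_prime_iff_eq hr (Fact.out)).mp (hr.dvd_of_dvd_pow h))
  have hcomm : ∀ b ∈ zpowers a, x⁻¹ * (b * x * b⁻¹) ∈ pCore p N := by
    rintro b ⟨i, rfl⟩
    have h2 : (QuotientGroup.mk' (pCore p N)) (x⁻¹ * (a ^ i * x * (a ^ i)⁻¹)) = 1 := by
      simp only [map_mul, map_inv, map_zpow]
      have h3 := (hxa.zpow_right i).eq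
      rw [← h3]; group
    exact (QuotientGroup.eq_one_iff _).mp h2
  obtain ⟨c, hc, hxc⟩ := Lib.CoprimeCommutator.exists_fixed_in_coset r (zpowers a) (pCore p N)
    (IsPGroup.of_card (n := 1) (by rw [Nat.card_zpowers, ha, pow_one]))
    (by rw [normalizer_eq_top]; exact le_top) hrO x hcomm
  have hcT : c ∈ (T : Subgroup N) := by
    have h1 : x * (x⁻¹ * c) ∈ (T : Subgroup N) :=
      mul_mem hx (Lib.Cores.pCore_le_sylow T hxc)
    rwa [mul_inv_cancel_left] at h1
  by_cases hc1 : c = 1
  · rw [hc1, mul_one] at hxc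
    exact (inv_mem_iff).mp hxc
  · exfalso
    have hca : Commute c a := (mem_centralizer_iff.mp hc a (mem_zpowers a)).symm
    obtain ⟨k, hk⟩ := IsPGroup.iff_orderOf.mp T.isPGroup' ⟨c, hcT⟩
    obtain ⟨j, hj⟩ := hCP c a hc1
      ⟨k, by rw [← hk]; exact (Subgroup.orderOf_coe (⟨c, hcT⟩ : (T : Subgroup N)))⟩ hca
    rw [ha] at hj
    exact not_prime_pow hr hrp hj

/-- A Sylow `p`-subgroup contained in the derived subgroup is normal. -/
theorem sylow_le_pCore_of_le_commutator [Group.IsSolvable N] (hO : pCore p N ≠ ⊥)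
    (hCP : CP p N) (T : Sylow p N) (hT : (T : Subgroup N) ≤ commutator N) :
    (T : Subgroup N) ≤ pCore p N := by
  by_cases hne : pCore p N = ⊤
  · rw [hne]; exact le_top
  obtain ⟨r, hr, hrp, a, ha, hn⟩ := exists_normal_prime hO hCP hne
  intro x hx
  refine mem_pCore_of_commute hCP hr hrp ha T hx ?_
  let Q := zpowers (QuotientGroup.mk' (pCore p N) a)
  haveI : Q.Normal := hn
  let f : N →* MulAut Q := (MulAut.conjNormal (H := Q)).comp (QuotientGroup.mk' (pCore p N))
  let e := IsCyclic.mulAutMulEquiv Q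
  have h1 : commutator N ≤ (e.toMonoidHom.comp f).ker := Abelianization.commutator_subset_ker _
  have h2 := h1 (hT hx)
  rw [MonoidHom.mem_ker] at h2
  have h3 : f x = 1 := e.injective (by rw [map_one]; exact h2)
  have h4 := congrArg (fun α : MulAut Q => ((α ⟨_, mem_zpowers _⟩ : Q) : N ⧸ pCore p N)) h3
  have h5 : QuotientGroup.mk' (pCore p N) x * QuotientGroup.mk' (pCore p N) a *
      (QuotientGroup.mk' (pCore p N) x)⁻¹ = QuotientGroup.mk' (pCore p N) a := h4
  exact mul_inv_eq_iff_eq_mul.mp h5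

/-- the arithmetic: `m` a power of the odd prime `p`, `r` an odd number with `m ∣ r - 1`, and
`v` a larger power of `p` with `r ∣ v - 1`; then `v > m ^ 2`. -/
theorem arith {m r v k n : ℕ} (hp2 : p ≠ 2) (hm : m = p ^ k) (hv : v = p ^ n) (hm1 : 1 < m)
    (hr : Odd r) (hr1 : 1 < r) (hmr : m ∣ r - 1) (hv1 : 1 < v) (hrv : r ∣ v - 1) : m ^ 2 < v := by
  obtain ⟨c, hc⟩ := hmr
  obtain ⟨t, ht⟩ := hrv
  have hodd : Odd m := by
    rw [hm]; exact ((Fact.out : p.Prime).odd_of_ne_two hp2).pow
  have hc2 : 2 ≤ c := by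
    have hcpos : 0 < c := by
      rcases Nat.eq_zero_or_pos c with h | h
      · subst h; omega
      · exact h
    by_contra hlt
    have : c = 1 := by omega
    subst this
    rw [mul_one] at hc
    have : r = m + 1 := by omega
    rw [this] at hr
    exact (Nat.not_odd_iff_even.mpr hodd.add_one) hr
  have hrle : 2 * m + 1 ≤ r := by
    have : 2 * m ≤ m * c := by nlinarith
    omega
  have htpos : 0 < t := by
    rcases Nat.eq_zero_or_pos t with h | h
    · subst h; omega
    · exact h
  have hvr : r ≤ v - 1 := by rw [ht]; exact Nat.le_mul_of_pos_right r htpos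
  have hmv : m ∣ v := by
    rw [hm, hv]
    apply pow_dvd_pow
    by_contra hlt
    have h1 : p ^ n ≤ p ^ k := Nat.pow_le_pow_right (Fact.out : p.Prime).pos (by omega)
    rw [← hm, ← hv] at h1
    omega
  -- `v = 1 + r t = 1 + t + m c t`
  have hveq : v = 1 + t + m * (c * t) := by
    have h1 : v = 1 + r * t := by omega
    have h2 : r = 1 + m * c := by omega
    rw [h1, h2]; ring
  have hmt : m ∣ 1 + t := by
    rw [hveq] at hmv
    exact (Nat.dvd_add_left (Dvd.intro _ rfl)).mp hmv
  have hmt' : m ≤ 1 + t := Nat.le_of_dvd (by omega) hmt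
  have h1 : v = 1 + r * t := by omega
  rw [h1]
  obtain ⟨m', rfl⟩ : ∃ m', m = m' + 1 := ⟨m - 1, by omega⟩
  have ht' : m' ≤ t := by omega
  calc (m' + 1) ^ 2 < 1 + (2 * (m' + 1) + 1) * m' := by nlinarith
    _ ≤ 1 + r * t := by
      apply Nat.add_le_add_left
      exact Nat.mul_le_mul hrle ht'

/-- **The abelian subgroups of largest order of a Sylow `p`-subgroup lie in `O_p(N)`**. -/
theorem isMaxAb_le [Group.IsSolvable N] (hodd : Odd (Nat.card N)) (hO : pCore p N ≠ ⊥)
    (hCP : CP p N) (T : Sylow p N) {B : Subgroup N}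
    (hB : CNThompsonJ.IsMaxAb (T : Subgroup N) B) : B ≤ pCore p N := by
  by_contra hBO
  have hne : pCore p N ≠ ⊤ := fun h => hBO (h ▸ le_top)
  obtain ⟨r, hr, hrp, a, ha, hn⟩ := exists_normal_prime hO hCP hne
  haveI := Fact.mk hr
  obtain ⟨hBT, hBc, hBmax⟩ := hB
  have hOp : IsPGroup p (pCore p N) := Lib.Cores.pCore_isPGroup p
  have hOT : pCore p N ≤ (T : Subgroup N) := Lib.Cores.pCore_le_sylow T
  haveI hOn : (pCore p N).Normal := inferInstance
  let Z : Subgroup N := (center (pCore p N)).map (pCore p N).subtype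
  haveI hZn : Z.Normal := inferInstance
  haveI hZc : IsMulCommutative Z := inferInstance
  have hZO : Z ≤ pCore p N := Subgroup.map_subtype_le _
  haveI : Nontrivial (pCore p N) := (Subgroup.nontrivial_iff_ne_bot _).mpr hO
  haveI : Nontrivial (center (pCore p N)) := hOp.center_nontrivial
  have hZcomm : ∀ z ∈ Z, ∀ o ∈ pCore p N, o * z = z * o := by
    rintro z ⟨w, hw, rfl⟩ o ho
    exact congrArg Subtype.val (mem_center_iff.mp hw ⟨o, ho⟩)
  -- orders
  have hpe : ∀ w ∈ (T : Subgroup N), ∃ k, orderOf w = p ^ k := by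
    intro w hw
    obtain ⟨k, hk⟩ := IsPGroup.iff_orderOf.mp T.isPGroup' ⟨w, hw⟩
    exact ⟨k, by rw [← hk]; exact (Subgroup.orderOf_coe (⟨w, hw⟩ : (T : Subgroup N)))⟩
  have hp2 : p ≠ 2 := by
    intro h2
    have h3 : p ∣ Nat.card N := by
      have h4 : p ∣ Nat.card (pCore p N) := by
        rcases hOp.card_eq_or_dvd with h | h
        · exact absurd (Subgroup.eq_bot_of_card_eq _ h) hO
        · exact h
      exact h4.trans (Subgroup.card_subgroup_dvd_card _)
    rw [h2] at h3
    exact (Nat.not_even_iff_odd.mpr hodd) (even_iff_two_dvd.mpr h3)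
  have hrodd : Odd r := by
    have : r ∣ Nat.card N := by rw [← ha]; exact orderOf_dvd_natCard a
    exact Odd.of_dvd_nat hodd this
  have haO : a ∉ pCore p N := by
    intro h
    obtain ⟨k, hk⟩ := hpe a (hOT h)
    rw [ha] at hk
    exact not_prime_pow hr hrp hk
  have hamk : orderOf (QuotientGroup.mk' (pCore p N) a) = r := by
    apply orderOf_eq_prime
    · rw [← map_pow, ← ha, pow_orderOf_eq_one, map_one]
    · intro h
      exact haO ((QuotientGroup.eq_one_iff _).mp h)
  let Q := zpowers (QuotientGroup.mk' (pCore p N) a)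
  haveI : Q.Normal := hn
  let f : N →* MulAut Q := (MulAut.conjNormal (H := Q)).comp (QuotientGroup.mk' (pCore p N))
  have hfa : ∀ x : N, f x = 1 →
      Commute (QuotientGroup.mk' (pCore p N) x) (QuotientGroup.mk' (pCore p N) a) := by
    intro x hx
    have h4 := congrArg (fun α : MulAut Q => ((α ⟨_, mem_zpowers _⟩ : Q) : N ⧸ pCore p N)) hx
    have h5 : QuotientGroup.mk' (pCore p N) x * QuotientGroup.mk' (pCore p N) a *
        (QuotientGroup.mk' (pCore p N) x)⁻¹ = QuotientGroup.mk' (pCore p N) a := h4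
    exact mul_inv_eq_iff_eq_mul.mp h5
  -- the index of `B ⊓ O`
  let g : B →* MulAut Q := f.comp B.subtype
  have hker : g.ker = (pCore p N).subgroupOf B := by
    ext x
    rw [MonoidHom.mem_ker, mem_subgroupOf]
    constructor
    · intro h
      exact mem_pCore_of_commute hCP hr hrp ha T (hBT x.2) (hfa x h)
    · intro h
      have h1 : QuotientGroup.mk' (pCore p N) (x : N) = 1 := (QuotientGroup.eq_one_iff _).mpr h
      show (MulAut.conjNormal (H := Q)) (QuotientGroup.mk' (pCore p N) (x : N)) = 1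
      rw [h1, map_one]
  have hmr : (pCore p N).relIndex B ∣ r - 1 := by
    have h1 : (pCore p N).relIndex B = Nat.card g.range := by
      rw [relIndex, ← hker, index_ker]
    have h2 : Nat.card (MulAut Q) = r - 1 := by
      rw [IsCyclic.card_mulAut, Nat.card_zpowers, hamk, Nat.totient_prime hr]
    rw [h1, ← h2]
    exact Subgroup.card_subgroup_dvd_card _
  obtain ⟨k, hk⟩ : ∃ k, (pCore p N).relIndex B = p ^ k := by
    have hBp : IsPGroup p B := T.isPGroup'.to_le hBT
    exact hBp.index _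
  have hm1 : 1 < (pCore p N).relIndex B := by
    have h0 : (pCore p N).relIndex B ≠ 0 := by rw [hk]; exact pow_ne_zero _ (Fact.out : p.Prime).ne_zero
    have h1 : (pCore p N).relIndex B ≠ 1 := by
      rw [Ne, relIndex_eq_one]; exact hBO
    omega
  obtain ⟨n, hn'⟩ : ∃ n, Nat.card Z = p ^ n := IsPGroup.iff_card.mp (hOp.to_le hZO)
  have hZ1 : 1 < Nat.card Z := by
    rw [Subgroup.one_lt_card_iff_ne_bot]
    intro h
    rw [Subgroup.map_eq_bot_iff_of_injective _ (subtype_injective _)] at h
    exact (Subgroup.nontrivial_iff_ne_bot _).mp inferInstance h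
  -- nothing in `Z` commutes with an element outside `O` of order prime to `p`
  have hfix : ∀ z ∈ Z, ∀ y : N, y ∉ (pCore p N) → Commute z y →
      (∀ k, orderOf y ≠ p ^ k) → z = 1 := by
    intro z hz y _ hzy hy
    by_contra hz1
    obtain ⟨j, hj⟩ := hCP z y hz1 (hpe z (hOT (hZO hz))) hzy
    exact hy j hj
  -- `r ∣ |Z| - 1`
  have hrZ : r ∣ Nat.card Z - 1 := by
    let A : Subgroup (ConjAct N) := zpowers (ConjAct.toConjAct a)
    have hA : IsPGroup r A := by
      apply IsPGroup.of_card (n := 1)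
      rw [Nat.card_zpowers, pow_one, ← ha]
      exact orderOf_injective (ConjAct.toConjAct (G := N)).toMonoidHom
        (ConjAct.toConjAct (G := N)).injective a
    have h1 := hA.card_modEq_card_fixedPoints Z
    have h2 : Nat.card (MulAction.fixedPoints A Z) = 1 := by
      rw [Nat.card_eq_one_iff_unique]
      refine ⟨⟨?_⟩, ⟨⟨1, ?_⟩⟩⟩
      · have key : ∀ z : Z, z ∈ MulAction.fixedPoints A Z → z = 1 := by
          intro z hz
          have h3 := hz ⟨ConjAct.toConjAct a, mem_zpowers _⟩
          have h4 : a * (z : N) * a⁻¹ = z := congrArg Subtype.val h3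
          have h5 : Commute (z : N) a := (mul_inv_eq_iff_eq_mul.mp h4).symm
          exact Subtype.ext (hfix z z.2 a haO h5 (fun j => by rw [ha]; exact not_prime_pow hr hrp))
        rintro ⟨z, hz⟩ ⟨w, hw⟩
        exact Subtype.ext ((key z hz).trans (key w hw).symm)
      · intro b
        exact smul_one b
    rw [h2] at h1
    exact (Nat.modEq_iff_dvd' hZ1.le).mp h1.symm
  have harith := arith hp2 hk hn' hm1 hrodd hr.one_lt hmr hZ1 hrZ
  -- `|B ⊓ Z| ^ 2 ≤ |Z|`
  have hsq : Nat.card (B ⊓ Z : Subgroup N) ^ 2 ≤ Nat.card Z := by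
    obtain ⟨b, hbB, hbO⟩ := SetLike.not_le_iff_exists.mp hBO
    have hdisj : (B ⊓ Z) ⊓ (MulAut.conj a • (B ⊓ Z) : Subgroup N) = ⊥ := by
      rw [eq_bot_iff]
      rintro w ⟨⟨hwB, hwZ⟩, hw2⟩
      rw [Subgroup.mem_bot]
      have hw3 : a⁻¹ * w * a ∈ B := by
        have : w ∈ MulAut.conj a • (B ⊓ Z) := hw2
        rw [Subgroup.mem_pointwise_smul_iff_inv_smul_mem, ← map_inv, MulAut.smul_def,
          MulAut.conj_apply, inv_inv] at this
        exact this.1
      have hcomm : ∀ x ∈ B, ∀ y ∈ B, x * y = y * x := fun x hx y hy =>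
        congrArg Subtype.val (mul_comm' (⟨x, hx⟩ : B) ⟨y, hy⟩)
      have h1 : Commute w b := hcomm w hwB b hbB
      have h2 : Commute w (a * b * a⁻¹) := by
        have h3 := hcomm _ hw3 b hbB
        show w * (a * b * a⁻¹) = a * b * a⁻¹ * w
        calc w * (a * b * a⁻¹) = a * (a⁻¹ * w * a * b) * a⁻¹ := by group
          _ = a * (b * (a⁻¹ * w * a)) * a⁻¹ := by rw [h3]
          _ = a * b * a⁻¹ * w := by group
      -- the commutator `c = b⁻¹ a b a⁻¹`
      have h4 : Commute w (b⁻¹ * (a * b * a⁻¹)) := (h1.inv_right).mul_right h2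
      by_contra hw1
      obtain ⟨j, hj⟩ := hCP w _ hw1 (hpe w (hBT hwB)) h4
      apply hbO
      refine mem_pCore_of_commute hCP hr hrp ha T (hBT hbB) ?_
      -- the image of `c` lies in `Q` and has order a power of `p`
      have h5 : QuotientGroup.mk' (pCore p N) (b⁻¹ * (a * b * a⁻¹)) ∈ Q := by
        have h6 : QuotientGroup.mk' (pCore p N) (b⁻¹ * (a * b * a⁻¹)) =
            ((QuotientGroup.mk' (pCore p N) b)⁻¹ * QuotientGroup.mk' (pCore p N) a *
              ((QuotientGroup.mk' (pCore p N) b)⁻¹)⁻¹) * (QuotientGroup.mk' (pCore p N) a)⁻¹ := by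
          simp only [map_mul, map_inv]; group
        rw [h6]
        exact mul_mem (hn.conj_mem _ (mem_zpowers _) _) (inv_mem (mem_zpowers _))
      have h7 : QuotientGroup.mk' (pCore p N) (b⁻¹ * (a * b * a⁻¹)) = 1 := by
        have h8 : orderOf (QuotientGroup.mk' (pCore p N) (b⁻¹ * (a * b * a⁻¹))) ∣ p ^ j := by
          rw [← hj]; exact orderOf_map_dvd _ _
        have h9 : orderOf (QuotientGroup.mk' (pCore p N) (b⁻¹ * (a * b * a⁻¹))) ∣ r := by
          have := Subgroup.orderOf_dvd_natCard _ h5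
          rwa [Nat.card_zpowers, hamk] at this
        have h10 : Nat.Coprime (p ^ j) r :=
          Nat.Coprime.pow_left _ ((Nat.coprime_primes Fact.out hr).mpr hrp.symm)
        have h11 := Nat.eq_one_of_dvd_coprimes h10 h8 h9
        exact orderOf_eq_one_iff.mp h11
      have h12 : (QuotientGroup.mk' (pCore p N) b)⁻¹ * (QuotientGroup.mk' (pCore p N) a *
          QuotientGroup.mk' (pCore p N) b * (QuotientGroup.mk' (pCore p N) a)⁻¹) = 1 := by
        simpa only [map_mul, map_inv] using h7
      have h13 := inv_mul_eq_one.mp h12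
      exact eq_mul_inv_iff_mul_eq.mp h13
    have hle2 : (MulAut.conj a • (B ⊓ Z) : Subgroup N) ≤ Z := by
      have h1 : MulAut.conj a • Z = Z := Subgroup.Normal.conj_smul_eq_self a Z
      have h2 : (MulAut.conj a • (B ⊓ Z) : Subgroup N) ≤ MulAut.conj a • Z :=
        pointwise_smul_le_pointwise_smul_iff.mpr inf_le_right
      rwa [h1] at h2
    have h1 := Lib.ProductSet.card_mul_card_inf (B ⊓ Z) (MulAut.conj a • (B ⊓ Z) : Subgroup N)
    rw [hdisj, Subgroup.card_bot, mul_one, CNThompsonJ.card_map_conj] at h1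
    rw [sq, ← h1]
    apply Nat.card_mono (Set.toFinite _)
    rintro _ ⟨x, hx, y, hy, rfl⟩
    exact mul_mem hx.2 (hle2 hy)
  -- the abelian group `(B ⊓ O) Z`
  have hBZ : Nat.card ((B ⊓ pCore p N) ⊔ Z : Subgroup N) ≤ Nat.card B := by
    apply hBmax
    · exact sup_le (inf_le_left.trans hBT) (hZO.trans hOT)
    · rw [← Subgroup.le_centralizer_iff_isMulCommutative]
      have hcomm : ∀ x ∈ B, ∀ y ∈ B, x * y = y * x := fun x hx y hy =>
        congrArg Subtype.val (mul_comm' (⟨x, hx⟩ : B) ⟨y, hy⟩)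
      apply sup_le
      · intro x hx
        have : ((B ⊓ pCore p N) ⊔ Z) ≤ centralizer ({x} : Set N) := by
          apply sup_le
          · intro y hy
            exact mem_centralizer_singleton_iff.mpr (hcomm y hy.1 x hx.1)
          · intro y hy
            exact mem_centralizer_singleton_iff.mpr (hZcomm y hy x hx.2).symm
        rw [mem_centralizer_iff]
        intro y hy
        exact mem_centralizer_singleton_iff.mp (this hy)
      · intro x hx
        have : ((B ⊓ pCore p N) ⊔ Z) ≤ centralizer ({x} : Set N) := by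
          apply sup_le
          · intro y hy
            exact mem_centralizer_singleton_iff.mpr (hZcomm x hx y hy.2)
          · intro y hy
            exact mem_centralizer_singleton_iff.mpr (hZcomm x hx y (hZO hy))
        rw [mem_centralizer_iff]
        intro y hy
        exact mem_centralizer_singleton_iff.mp (this hy)
  have hprod : Nat.card ((B ⊓ pCore p N) ⊔ Z : Subgroup N) * Nat.card (B ⊓ Z : Subgroup N) =
      Nat.card (B ⊓ pCore p N : Subgroup N) * Nat.card Z := by
    have h1 := Lib.ProductSet.card_mul_card_inf (B ⊓ pCore p N) Z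
    have h2 : (B ⊓ pCore p N) ⊓ Z = B ⊓ Z := by
      rw [inf_assoc, inf_eq_right.mpr hZO]
    rw [h2, ← Subgroup.mul_normal] at h1
    exact h1
  have hcardB : Nat.card B = Nat.card (B ⊓ pCore p N : Subgroup N) * (pCore p N).relIndex B := by
    have h1 := relIndex_mul_relIndex ⊥ (B ⊓ pCore p N) B bot_le inf_le_left
    rw [relIndex_bot_left, relIndex_bot_left, inf_relIndex_left] at h1
    exact h1.symm
  set m := (pCore p N).relIndex B with hmdef
  set W := Nat.card (B ⊓ Z : Subgroup N)
  set V := Nat.card Z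
  set B₀ := Nat.card (B ⊓ pCore p N : Subgroup N)
  have hB₀ : 0 < B₀ := Nat.card_pos
  have h1 : B₀ * V ≤ B₀ * (m * W) := by
    rw [← hprod]
    calc _ ≤ Nat.card B * W := Nat.mul_le_mul_right _ hBZ
      _ = B₀ * (m * W) := by rw [hcardB, mul_assoc]
  have h2 : V ≤ m * W := Nat.le_of_mul_le_mul_left h1 hB₀
  have h3 : V ^ 2 ≤ m ^ 2 * V := by
    calc V ^ 2 ≤ (m * W) ^ 2 := Nat.pow_le_pow_left h2 2
      _ = m ^ 2 * W ^ 2 := by ring
      _ ≤ m ^ 2 * V := Nat.mul_le_mul_left _ hsq
  have h4 : V ≤ m ^ 2 := by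
    rw [sq V] at h3
    exact Nat.le_of_mul_le_mul_right h3 (by omega)
  omega

end Cfsg.Agent.OddOrderLocal.CNLocal
end

-- part: OddOrderLocal/CNSylowTI
section
/-!
Sylow subgroups of a minimal simple CN-group of odd order are TI-subgroups.
-/

set_option autoImplicit false
set_option linter.style.haveILetI false
set_option linter.unusedSectionVars false

namespace Cfsg.Agent.OddOrderLocal.CNSylowTI

open Subgroup Cfsg Cfsg.Agent.OddOrderLocal.CNThompsonJ Cfsg.Agent.OddOrderLocal.CNLocal
open scoped Pointwise commutatorElement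

variable {G : Type*} [Group G] [Finite G] {p : ℕ} [Fact p.Prime]

/-- A proper subgroup of a `p`-group is properly contained in its normalizer. -/
theorem lt_inf_normalizer {P D : Subgroup G} (hP : IsPGroup p P) (hD : D ≤ P) (hne : D ≠ P) :
    D < P ⊓ normalizer (D : Set G) := by
  haveI : Group.IsNilpotent P := hP.isNilpotent
  have hnc := Group.normalizerCondition_of_isNilpotent (G := P)
  have h1 : D.subgroupOf P < ⊤ := by
    rw [lt_top_iff_ne_top, Ne, subgroupOf_eq_top]
    exact fun h => hne (le_antisymm hD h)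
  have h2 := hnc _ h1
  obtain ⟨x, hx, hxD⟩ := SetLike.exists_of_lt h2
  refine lt_of_le_of_ne (le_inf hD le_normalizer) ?_
  intro h
  apply hxD
  rw [mem_subgroupOf, h]
  refine ⟨x.2, ?_⟩
  show (x : G) ∈ normalizer (D : Set G)
  rw [Subgroup.mem_normalizer_iff] at hx ⊢
  intro y
  constructor
  · intro hy
    have := (hx ⟨y, hD hy⟩).mp hy
    exact this
  · intro hy
    have hyP : y ∈ P := by
      have h3 : (x : G)⁻¹ * ((x : G) * y * (x : G)⁻¹) * x ∈ P :=
        mul_mem (mul_mem (inv_mem x.2) (hD hy)) x.2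
      have h4 : (x : G)⁻¹ * ((x : G) * y * (x : G)⁻¹) * x = y := by group
      rwa [h4] at h3
    exact (hx ⟨y, hyP⟩).mpr hy

/-- a `p`-subgroup of `N` is contained in (the image of) a Sylow subgroup of `N`. -/
theorem exists_sylow_of_le {S N : Subgroup G} (hS : IsPGroup p S) (hSN : S ≤ N) :
    ∃ T : Sylow p N, S ≤ (T : Subgroup N).map N.subtype := by
  have h1 : IsPGroup p (S.subgroupOf N) := hS.comap_subtype
  obtain ⟨T, hT⟩ := h1.exists_le_sylow
  refine ⟨T, fun x hx => ⟨⟨x, hSN hx⟩, hT hx, rfl⟩⟩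

theorem map_smul_sylow {N : Subgroup G} (T : Sylow p N) (n : N) :
    ((n • T : Sylow p N) : Subgroup N).map N.subtype =
      MulAut.conj (n : G) • ((T : Subgroup N).map N.subtype) := by
  ext x
  rw [Subgroup.mem_pointwise_smul_iff_inv_smul_mem, Sylow.coe_subgroup_smul]
  simp only [Subgroup.mem_map]
  constructor
  · rintro ⟨y, hy, rfl⟩
    rw [Subgroup.mem_pointwise_smul_iff_inv_smul_mem] at hy
    exact ⟨_, hy, by simp [← map_inv]⟩
  · rintro ⟨y, hy, h⟩
    refine ⟨n * y * n⁻¹, ?_, ?_⟩
    · rw [Subgroup.mem_pointwise_smul_iff_inv_smul_mem, ← map_inv, MulAut.smul_def,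
        MulAut.conj_apply]
      convert hy using 1
      group
    · rw [← map_inv, MulAut.smul_def, MulAut.conj_apply] at h
      simp only [Subgroup.subtype_apply, Subgroup.coe_mul, Subgroup.coe_inv] at h ⊢
      rw [h]; group

theorem pCore_map_le_sylow {N : Subgroup G} (T : Sylow p N) :
    (pCore p N).map N.subtype ≤ (T : Subgroup N).map N.subtype :=
  Subgroup.map_mono (Lib.Cores.pCore_le_sylow T)

theorem conj_pCore_map {N : Subgroup G} {n : G} (hn : n ∈ N) :
    MulAut.conj n • (pCore p N).map N.subtype = (pCore p N).map N.subtype := by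
  have key : ∀ n ∈ N, ∀ x ∈ (pCore p N).map N.subtype, n * x * n⁻¹ ∈ (pCore p N).map N.subtype := by
    rintro n hn _ ⟨y, hy, rfl⟩
    exact ⟨⟨n, hn⟩ * y * ⟨n, hn⟩⁻¹, (inferInstance : (pCore p N).Normal).conj_mem y hy _, rfl⟩
  ext x
  rw [Subgroup.mem_pointwise_smul_iff_inv_smul_mem, ← map_inv, MulAut.smul_def,
    MulAut.conj_apply, inv_inv]
  constructor
  · intro h
    have := key n hn _ h
    have h2 : n * (n⁻¹ * x * n) * n⁻¹ = x := by group
    rwa [h2] at this
  · intro h
    have := key n⁻¹ (inv_mem hn) _ h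
    rwa [inv_inv] at this

/-- `J(T) ≤ O_p(N)` for a Sylow `p`-subgroup `T` of `N`. -/
theorem J_map_le (hodd : Odd (Nat.card G)) (hCP : CP p G) {N : Subgroup G}
    (hN : Group.IsSolvable N) (hO : pCore p N ≠ ⊥) (T : Sylow p N) :
    J ((T : Subgroup N).map N.subtype) ≤ (pCore p N).map N.subtype := by
  refine sSup_le fun B hB => ?_
  have hBN : B ≤ N := hB.1.trans (Subgroup.map_subtype_le _)
  have h1 : IsMaxAb (T : Subgroup N) (B.subgroupOf N) := by
    refine ⟨?_, ?_, ?_⟩
    · intro x hx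
      obtain ⟨y, hy, hyx⟩ := hB.1 hx
      have : y = x := Subtype.ext hyx
      rwa [← this]
    · haveI := hB.2.1
      exact inferInstance
    · intro C hC hCc
      have h2 := hB.2.2 (C.map N.subtype) (Subgroup.map_mono hC) (isMulCommutative_map hCc _)
      have h3 : Nat.card (C.map N.subtype) = Nat.card C :=
        Nat.card_congr (C.equivMapOfInjective _ N.subtype_injective).toEquiv.symm
      have h4 : Nat.card (B.subgroupOf N) = Nat.card B :=
        Nat.card_congr (Subgroup.subgroupOfEquivOfLe hBN).toEquiv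
      rw [h4, ← h3]
      exact h2
  have hoddN : Odd (Nat.card N) := Odd.of_dvd_nat hodd (Subgroup.card_subgroup_dvd_card N)
  have h2 := isMaxAb_le hoddN hO (hCP.subgroup N) T h1
  intro x hx
  exact ⟨⟨x, hBN hx⟩, h2 hx, rfl⟩

theorem smul_normalizer_fixed {D : Subgroup G} {n : G} (hn : n ∈ normalizer (D : Set G)) :
    MulAut.conj n • D = D := by
  ext x
  rw [Subgroup.mem_pointwise_smul_iff_inv_smul_mem, ← map_inv, MulAut.smul_def,
    MulAut.conj_apply, inv_inv]
  have := (Subgroup.mem_normalizer_iff.mp hn) (n⁻¹ * x * n)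
  rw [this]
  have h2 : n * (n⁻¹ * x * n) * n⁻¹ = x := by group
  rw [h2]

theorem mem_normalizer_of_smul {D : Subgroup G} {n : G} (h : MulAut.conj n • D = D) :
    n ∈ normalizer (D : Set G) := by
  rw [Subgroup.mem_normalizer_iff]
  intro x
  conv_rhs => rw [← h]
  rw [Subgroup.mem_pointwise_smul_iff_inv_smul_mem, ← map_inv, MulAut.smul_def,
    MulAut.conj_apply, inv_inv]
  have h2 : n⁻¹ * (n * x * n⁻¹) * n = x := by group
  rw [h2]

theorem le_pCore_map_of_normal {N D : Subgroup G} (hD : IsPGroup p D) (hDN : D ≤ N)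
    (hN : N ≤ normalizer (D : Set G)) : D ≤ (pCore p N).map N.subtype := by
  have h1 : (D.subgroupOf N).Normal := by
    constructor
    intro x hx g
    rw [mem_subgroupOf] at hx ⊢
    exact ((Subgroup.mem_normalizer_iff.mp (hN g.2)) x).mp hx
  have h2 : D.subgroupOf N ≤ pCore p N := Lib.Cores.le_pCore h1 hD.comap_subtype
  intro x hx
  exact ⟨⟨x, hDN hx⟩, h2 hx, rfl⟩

/-- Sylow subgroups with nontrivial intersection have the same `J`. -/
theorem J_eq_of_inf_ne_bot (hG : IsMinSimpleOddOrder G) (hCP : CP p G) :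
    ∀ (k : ℕ) (P Q : Sylow p G), Nat.card G - Nat.card ((P : Subgroup G) ⊓ Q : Subgroup G) < k →
      (P : Subgroup G) ⊓ Q ≠ ⊥ → J (P : Subgroup G) = J (Q : Subgroup G) := by
  intro k
  induction k with
  | zero => intro P Q h; omega
  | succ k ih =>
    intro P Q hk hPQ
    by_contra hne
    have hodd : Odd (Nat.card G) := hG.1
    set D : Subgroup G := (P : Subgroup G) ⊓ Q with hD
    have hDcard : 0 < Nat.card D := Nat.card_pos
    have IH : ∀ P' Q' : Sylow p G, D < (P' : Subgroup G) ⊓ Q' →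
        J (P' : Subgroup G) = J (Q' : Subgroup G) := by
      intro P' Q' hlt
      have hc : Nat.card D < Nat.card ((P' : Subgroup G) ⊓ Q' : Subgroup G) := by
        have := Set.ncard_lt_ncard (SetLike.coe_ssubset_coe.mpr hlt) (Set.toFinite _)
        rw [← Nat.card_coe_set_eq, ← Nat.card_coe_set_eq] at this
        exact this
      apply ih P' Q'
      · have : Nat.card ((P' : Subgroup G) ⊓ Q' : Subgroup G) ≤ Nat.card G :=
          Subgroup.card_le_card_group _
        omega
      · rintro h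
        rw [h, Subgroup.card_bot] at hc
        omega
    have hPneQ : P ≠ Q := by rintro rfl; exact hne rfl
    have hDP : D ≤ (P : Subgroup G) := inf_le_left
    have hDQ : D ≤ (Q : Subgroup G) := inf_le_right
    have hDneP : D ≠ (P : Subgroup G) := by
      intro h
      have h1 : (P : Subgroup G) ≤ Q := by rw [← h]; exact inf_le_right
      exact hPneQ (Sylow.ext (P.3 Q.2 h1).symm)
    have hDneQ : D ≠ (Q : Subgroup G) := by
      intro h
      have h1 : (Q : Subgroup G) ≤ P := by rw [← h]; exact inf_le_left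
      exact hPneQ (Sylow.ext (Q.3 P.2 h1))
    have hDp : IsPGroup p D := P.isPGroup'.to_le hDP
    obtain ⟨N, hN⟩ : ∃ N : Subgroup G, N = normalizer (D : Set G) := ⟨_, rfl⟩
    have hDN : D ≤ N := hN ▸ le_normalizer
    have hDtop : D ≠ ⊤ := MinSimpleBasic.ne_top_of_isPGroup hG hDp
    have hNtop : N ≠ ⊤ := hN ▸ MinSimpleBasic.normalizer_ne_top hG hPQ hDtop
    have hNsol : Group.IsSolvable N := MinSimpleBasic.isSolvable_of_ne_top hG hNtop
    have hDO : D ≤ (pCore p N).map N.subtype := le_pCore_map_of_normal hDp hDN hN.le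
    have hO : pCore p N ≠ ⊥ := by
      intro h
      rw [h, Subgroup.map_bot] at hDO
      exact hPQ (le_bot_iff.mp hDO)
    have hltP : D < (P : Subgroup G) ⊓ N := hN ▸ lt_inf_normalizer P.isPGroup' hDP hDneP
    have hltQ : D < (Q : Subgroup G) ⊓ N := hN ▸ lt_inf_normalizer Q.isPGroup' hDQ hDneQ
    obtain ⟨T, hT⟩ := exists_sylow_of_le (S := (P : Subgroup G) ⊓ N)
      (P.isPGroup'.to_le inf_le_left) inf_le_right
    obtain ⟨P₁, hP₁⟩ := (T.isPGroup'.map N.subtype).exists_le_sylow
    have hJ1 : J (P : Subgroup G) = J (P₁ : Subgroup G) :=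
      IH P P₁ (hltP.trans_le (le_inf inf_le_left (hT.trans hP₁)))
    obtain ⟨R, hR⟩ := exists_sylow_of_le (S := (Q : Subgroup G) ⊓ N)
      (Q.isPGroup'.to_le inf_le_left) inf_le_right
    obtain ⟨Q₁, hQ₁⟩ := (R.isPGroup'.map N.subtype).exists_le_sylow
    have hJ2 : J (Q : Subgroup G) = J (Q₁ : Subgroup G) :=
      IH Q Q₁ (hltQ.trans_le (le_inf inf_le_left (hR.trans hQ₁)))
    obtain ⟨n, hn⟩ := MulAction.exists_smul_eq N T R
    have hR' : (R : Subgroup N).map N.subtype =
        MulAut.conj (n : G) • ((T : Subgroup N).map N.subtype) := by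
      rw [← hn, map_smul_sylow]
    have hP₁n : (R : Subgroup N).map N.subtype ≤ (((n : G) • P₁ : Sylow p G) : Subgroup G) := by
      rw [hR', Sylow.coe_subgroup_smul]
      exact pointwise_smul_le_pointwise_smul_iff.mpr hP₁
    have hJ3 : J (Q₁ : Subgroup G) = J (((n : G) • P₁ : Sylow p G) : Subgroup G) :=
      IH Q₁ ((n : G) • P₁) (hltQ.trans_le (le_inf (hR.trans hQ₁) (hR.trans hP₁n)))
    rw [Sylow.coe_subgroup_smul, J_conj] at hJ3
    have hJQ : J (Q : Subgroup G) = MulAut.conj (n : G) • J (P : Subgroup G) := by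
      rw [hJ2, hJ3, hJ1]
    have hnN : (n : G) ∈ N := n.2
    have hnD : MulAut.conj (n : G) • D = D := smul_normalizer_fixed (hN ▸ hnN)
    have key : ∀ S : Sylow p G, J (S : Subgroup G) = J (P : Subgroup G) →
        D ≤ (S : Subgroup G) →
        ((S : Subgroup G) ⊓ (MulAut.conj (n : G) • (S : Subgroup G)) : Subgroup G) = D := by
      intro S hS hDS
      by_contra hne2
      have hle : D ≤ (S : Subgroup G) ⊓ MulAut.conj (n : G) • (S : Subgroup G) := by
        refine le_inf hDS ?_
        rw [← hnD]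
        exact pointwise_smul_le_pointwise_smul_iff.mpr hDS
      have := IH S ((n : G) • S) (by
        rw [Sylow.coe_subgroup_smul]
        exact lt_of_le_of_ne hle (Ne.symm hne2))
      rw [Sylow.coe_subgroup_smul, J_conj, hS, ← hJQ] at this
      exact hne this
    have hDT : D ≤ (T : Subgroup N).map N.subtype := hltP.le.trans hT
    have hO1 : (pCore p N).map N.subtype ≤ D := by
      rw [← key P₁ hJ1.symm (hDT.trans hP₁)]
      refine le_inf ((pCore_map_le_sylow T).trans hP₁) ?_
      rw [← conj_pCore_map hnN]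
      exact pointwise_smul_le_pointwise_smul_iff.mpr ((pCore_map_le_sylow T).trans hP₁)
    have hJT : J ((T : Subgroup N).map N.subtype) = J D :=
      J_eq_of_le ((J_map_le hodd hCP hNsol hO T).trans hO1) hDT
    -- the normalizer of `J(D)`
    obtain ⟨N₁, hN₁⟩ : ∃ N₁ : Subgroup G, N₁ = normalizer (J D : Set G) := ⟨_, rfl⟩
    have hNN₁ : N ≤ N₁ := by
      intro g hg
      rw [hN₁]
      apply mem_normalizer_of_smul
      rw [← J_conj, smul_normalizer_fixed (hN ▸ hg)]
    have hJD : J D ≠ ⊥ := J_ne_bot hPQ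
    have hJDp : IsPGroup p (J D) := hDp.to_le (J_le D)
    have hJDtop : J D ≠ ⊤ := MinSimpleBasic.ne_top_of_isPGroup hG hJDp
    have hN₁top : N₁ ≠ ⊤ := hN₁ ▸ MinSimpleBasic.normalizer_ne_top hG hJD hJDtop
    have hN₁sol : Group.IsSolvable N₁ := MinSimpleBasic.isSolvable_of_ne_top hG hN₁top
    have hJO₁ : J D ≤ (pCore p N₁).map N₁.subtype :=
      le_pCore_map_of_normal hJDp (hN₁ ▸ le_normalizer) hN₁.le
    have hO₁ : pCore p N₁ ≠ ⊥ := by
      intro h
      rw [h, Subgroup.map_bot] at hJO₁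
      exact hJD (le_bot_iff.mp hJO₁)
    obtain ⟨T₁, hT₁⟩ := exists_sylow_of_le (S := (T : Subgroup N).map N.subtype) (N := N₁)
      (T.isPGroup'.map N.subtype) ((Subgroup.map_subtype_le _).trans hNN₁)
    obtain ⟨P₂, hP₂⟩ := (T₁.isPGroup'.map N₁.subtype).exists_le_sylow
    have hJ4 : J (P₂ : Subgroup G) = J (P₁ : Subgroup G) :=
      IH P₂ P₁ ((hltP.trans_le hT).trans_le (le_inf (hT₁.trans hP₂) hP₁))
    have hk2 := key P₂ (hJ4.trans hJ1.symm) (hDT.trans (hT₁.trans hP₂))
    have hO₁D : (pCore p N₁).map N₁.subtype ≤ D := by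
      rw [← hk2]
      refine le_inf ((pCore_map_le_sylow T₁).trans hP₂) ?_
      rw [← conj_pCore_map (hNN₁ hnN)]
      exact pointwise_smul_le_pointwise_smul_iff.mpr ((pCore_map_le_sylow T₁).trans hP₂)
    have hJT₁ : J ((T₁ : Subgroup N₁).map N₁.subtype) = J D :=
      J_eq_of_le ((J_map_le hodd hCP hN₁sol hO₁ T₁).trans hO₁D) (hDT.trans hT₁)
    have hT₁P₂ : (T₁ : Subgroup N₁).map N₁.subtype = (P₂ : Subgroup G) := by
      by_contra hne3
      have hlt := lt_inf_normalizer P₂.isPGroup' hP₂ hne3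
      have h1 : normalizer (((T₁ : Subgroup N₁).map N₁.subtype : Subgroup G) : Set G) ≤ N₁ := by
        intro g hg
        rw [hN₁]
        apply mem_normalizer_of_smul
        rw [← hJT₁, ← J_conj, smul_normalizer_fixed hg]
      obtain ⟨x, ⟨hxP, hxN⟩, hxT⟩ := SetLike.exists_of_lt hlt
      have h2 : IsPGroup p (((P₂ : Subgroup G) ⊓ N₁).subgroupOf N₁) :=
        (P₂.isPGroup'.to_le inf_le_left).comap_subtype
      have h3 : (T₁ : Subgroup N₁) ≤ ((P₂ : Subgroup G) ⊓ N₁).subgroupOf N₁ := by
        intro y hy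
        exact ⟨hP₂ ⟨y, hy, rfl⟩, y.2⟩
      have h4 := T₁.3 h2 h3
      apply hxT
      have hxN₁ : x ∈ N₁ := h1 hxN
      have h5 : (⟨x, hxN₁⟩ : N₁) ∈ ((P₂ : Subgroup G) ⊓ N₁).subgroupOf N₁ := ⟨hxP, hxN₁⟩
      rw [h4] at h5
      exact ⟨⟨x, hxN₁⟩, h5, rfl⟩
    have hJP₂ : J (P₂ : Subgroup G) = J D := by rw [← hT₁P₂, hJT₁]
    apply hne
    rw [hJQ, hJ1, ← hJ4, hJP₂, ← J_conj, hnD]

/-- The relation between the two forms of conjugation. -/
theorem map_conj_eq (g : G) (H : Subgroup G) :
    H.map (MulAut.conj g).toMonoidHom = MulAut.conj g • H := rfl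

/-- In a CN-group either centralizers of non-identity `p`-elements are `p`-groups, or
Sylow `p`-subgroups are TI-subgroups. -/
theorem cp_or_ti (hCN : IsCNGroup G) (p : ℕ) [Fact p.Prime] : CP p G ∨
    ∀ (P : Sylow p G) (g : G), MulAut.conj g • (P : Subgroup G) ≠ P →
      (P : Subgroup G) ⊓ MulAut.conj g • (P : Subgroup G) = ⊥ := by
  by_cases hCP : CP p G
  · exact Or.inl hCP
  right
  have hp : p.Prime := Fact.out
  rw [CP_iff] at hCP
  push Not at hCP
  obtain ⟨x, y, hx1, ⟨k, hk⟩, hxy, hy⟩ := hCP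
  -- a prime `q ≠ p` dividing the order of `y`
  obtain ⟨q, hq, hqp, hqy⟩ : ∃ q, q.Prime ∧ q ≠ p ∧ q ∣ orderOf y := by
    by_contra hcon
    push Not at hcon
    exact hy _ (Nat.eq_prime_pow_of_unique_prime_dvd (orderOf_pos y).ne'
      (fun {d} hd hdn => by_contra fun h => hcon d hd h hdn))
  obtain ⟨y', hy'o, hxy'⟩ : ∃ y' : G, orderOf y' = q ∧ Commute x y' :=
    ⟨y ^ (orderOf y / q), orderOf_pow_orderOf_div (orderOf_pos y).ne' hqy, hxy.pow_right _⟩
  obtain ⟨P, hP⟩ := (CNNil.isPGroup_zpowers hk).exists_le_sylow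
  have hxP : x ∈ (P : Subgroup G) := hP (mem_zpowers x)
  haveI : Nontrivial P := ⟨⟨⟨x, hxP⟩, 1, fun h => hx1 (congrArg Subtype.val h)⟩⟩
  haveI : Nontrivial (center P) := P.isPGroup'.center_nontrivial
  obtain ⟨z', hz'⟩ := exists_ne (1 : center P)
  obtain ⟨z, hz⟩ : ∃ z : G, z = z'.1.1 := ⟨_, rfl⟩
  have hzP : z ∈ (P : Subgroup G) := hz ▸ z'.1.2
  have hz1 : z ≠ 1 := by
    intro h
    rw [hz] at h
    exact hz' (Subtype.ext (Subtype.ext h))
  have hzc : ∀ w ∈ (P : Subgroup G), Commute w z := by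
    intro w hw
    rw [hz]
    exact congrArg Subtype.val (mem_center_iff.mp z'.2 ⟨w, hw⟩)
  obtain ⟨j, hj⟩ : ∃ j, orderOf z = p ^ j := by
    obtain ⟨j, hj⟩ := IsPGroup.iff_orderOf.mp P.isPGroup' ⟨z, hzP⟩
    exact ⟨j, by rw [← hj]; exact (Subgroup.orderOf_coe (⟨z, hzP⟩ : (P : Subgroup G)))⟩
  have hzy' : Commute y' z := by
    refine CNNil.commute_of_ne_subgroup (hCN x hx1) hq hp hqp (j := 1) (by rw [hy'o, pow_one]) hj
      (mem_centralizer_singleton_iff.mpr hxy'.symm.eq)
      (mem_centralizer_singleton_iff.mpr (hzc x hxP).symm.eq)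
  -- a maximal nilpotent subgroup containing the centralizer of `z`
  obtain ⟨L, hLge, hL, hLmax⟩ : ∃ L : Subgroup G, centralizer ({z} : Set G) ≤ L ∧
      Group.IsNilpotent L ∧ ∀ K : Subgroup G, Group.IsNilpotent K → L ≤ K → K = L := by
    have hfin : ({L : Subgroup G | Group.IsNilpotent L}).Finite := Set.toFinite _
    obtain ⟨L, hle, hLm⟩ := hfin.exists_le_maximal (a := centralizer ({z} : Set G)) (hCN z hz1)
    exact ⟨L, hle, hLm.1, fun K hK hLK => le_antisymm (hLm.2 hK hLK) hLK⟩
  have hPL : (P : Subgroup G) ≤ L := fun w hw =>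
    hLge (mem_centralizer_singleton_iff.mpr (hzc w hw).eq)
  have hy'L : y' ∈ L := hLge (mem_centralizer_singleton_iff.mpr hzy'.eq)
  have hqL : q ∣ Nat.card L := by
    rw [← hy'o]; exact Subgroup.orderOf_dvd_natCard _ hy'L
  have hpL : p ∣ Nat.card L := by
    have h1 : p ∣ Nat.card (P : Subgroup G) := by
      rcases P.isPGroup'.card_eq_or_dvd with h | h
      · exact absurd h (Finite.one_lt_card).ne'
      · exact h
    exact h1.trans (Subgroup.card_dvd_of_le hPL)
  have hnpp : ¬ IsPrimePow (Nat.card L) := by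
    intro h
    rw [isPrimePow_nat_iff] at h
    obtain ⟨s, i, hs, -, hi⟩ := h
    rw [← hi] at hqL hpL
    have h1 := (Nat.prime_dvd_prime_iff_eq hq hs).mp (hq.dvd_of_dvd_pow hqL)
    have h2 := (Nat.prime_dvd_prime_iff_eq hp hs).mp (hp.dvd_of_dvd_pow hpL)
    exact hqp (h1.trans h2.symm)
  have hL1 : Nat.card L ≠ 1 := by
    intro h
    rw [h] at hpL
    exact hp.one_lt.ne' (Nat.dvd_one.mp hpL)
  have hPTI : ∀ g : G, MulAut.conj g • (P : Subgroup G) ≠ P →
      (P : Subgroup G) ⊓ MulAut.conj g • (P : Subgroup G) = ⊥ := by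
    intro g hg
    by_contra hne
    have hLg : L.map (MulAut.conj g).toMonoidHom = L := by
      by_contra hne2
      have h1 := CNMaxNilpotent.inf_conj_eq_bot hCN hL hLmax hnpp hL1 g hne2
      apply hne
      rw [eq_bot_iff, ← h1]
      exact inf_le_inf hPL (pointwise_smul_le_pointwise_smul_iff.mpr hPL)
    have hgPL : ((g • P : Sylow p G) : Subgroup G) ≤ L := by
      rw [Sylow.coe_subgroup_smul]
      conv_rhs => rw [← hLg]
      exact pointwise_smul_le_pointwise_smul_iff.mpr hPL
    haveI := hL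
    haveI : ((P.subtype hPL : Sylow p L) : Subgroup L).Normal := inferInstance
    haveI := Sylow.unique_of_normal (P.subtype hPL) inferInstance
    have h2 : P.subtype hPL = (g • P : Sylow p G).subtype hgPL := Subsingleton.elim _ _
    have h3 := Sylow.subtype_injective h2
    apply hg
    rw [← Sylow.coe_subgroup_smul, ← h3]
  intro P' g hg
  obtain ⟨h, rfl⟩ := MulAction.exists_smul_eq G P P'
  rw [Sylow.coe_subgroup_smul] at hg ⊢
  have e1 : MulAut.conj g • MulAut.conj h • (P : Subgroup G) =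
      MulAut.conj h • MulAut.conj (h⁻¹ * g * h) • (P : Subgroup G) := by
    rw [← mul_smul, ← mul_smul, ← map_mul, ← map_mul]
    congr 2; group
  rw [e1] at hg ⊢
  have h1 := hPTI (h⁻¹ * g * h) (fun h2 => hg (by rw [h2]))
  rw [← Subgroup.smul_inf, h1, Subgroup.smul_bot]

/-- **Sylow subgroups of a minimal simple CN-group of odd order are TI-subgroups.** -/
theorem sylow_inf_conj_eq_bot (hG : IsMinSimpleOddOrder G) (hCN : IsCNGroup G) (p : ℕ)
    [Fact p.Prime] (P : Sylow p G) (g : G) (h : MulAut.conj g • (P : Subgroup G) ≠ P) :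
    (P : Subgroup G) ⊓ MulAut.conj g • (P : Subgroup G) = ⊥ := by
  rcases cp_or_ti hCN p with hCP | hTI
  swap
  · exact hTI P g h
  by_contra hne
  have hP : (P : Subgroup G) ≠ ⊥ := by
    intro h0
    apply hne
    rw [h0, bot_inf_eq]
  have hJP : J (P : Subgroup G) ≠ ⊥ := J_ne_bot hP
  have hJPp : IsPGroup p (J (P : Subgroup G)) := P.isPGroup'.to_le (J_le _)
  obtain ⟨M, hM⟩ : ∃ M : Subgroup G, M = normalizer (J (P : Subgroup G) : Set G) := ⟨_, rfl⟩
  have hMtop : M ≠ ⊤ := hM ▸ MinSimpleBasic.normalizer_ne_top hG hJP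
    (MinSimpleBasic.ne_top_of_isPGroup hG hJPp)
  haveI hMsol : Group.IsSolvable M := MinSimpleBasic.isSolvable_of_ne_top hG hMtop
  have hfus : ∀ u : G, (P : Subgroup G) ⊓ MulAut.conj u • (P : Subgroup G) ≠ ⊥ → u ∈ M := by
    intro u hu
    rw [hM]
    apply mem_normalizer_of_smul
    rw [← J_conj]
    have := J_eq_of_inf_ne_bot hG hCP (Nat.card G + 1) P (u • P)
      (by omega) (by rw [Sylow.coe_subgroup_smul]; exact hu)
    rw [Sylow.coe_subgroup_smul] at this
    exact this.symm
  have hPM : (P : Subgroup G) ≤ M := by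
    intro x hx
    rw [hM]
    apply mem_normalizer_of_smul
    rw [← J_conj, Subgroup.conj_smul_eq_self_of_mem hx]
  have hfoc : (P : Subgroup G).focalSubgroup ≤ ⁅M, M⁆ := by
    rw [Subgroup.focalSubgroup_def, closure_le]
    rintro c ⟨hc, x, hx, u, rfl⟩
    by_cases hx1 : x = 1
    · rw [hx1, commutatorElement_one_left]
      exact one_mem _
    · have hu : u ∈ M := by
        apply hfus
        intro hbot
        have h1 : u * x⁻¹ * u⁻¹ ∈ (P : Subgroup G) ⊓ MulAut.conj u • (P : Subgroup G) := by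
          refine Subgroup.mem_inf.mpr ⟨?_, ?_⟩
          · have h2 : x⁻¹ * ⁅x, u⁆ ∈ (P : Subgroup G) := mul_mem (inv_mem hx) hc
            have h3 : x⁻¹ * ⁅x, u⁆ = u * x⁻¹ * u⁻¹ := by
              rw [commutatorElement_def]; group
            rwa [h3] at h2
          · rw [Subgroup.mem_pointwise_smul_iff_inv_smul_mem, ← map_inv, MulAut.smul_def,
              MulAut.conj_apply, inv_inv]
            have h3 : u⁻¹ * (u * x⁻¹ * u⁻¹) * u = x⁻¹ := by group
            rw [h3]; exact inv_mem hx
        rw [hbot, Subgroup.mem_bot] at h1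
        apply hx1
        have h4 : x = (u⁻¹ * (u * x⁻¹ * u⁻¹) * u)⁻¹ := by group
        rw [h4, h1]; group
      exact commutator_mem_commutator (hPM hx) hu
  have h1 := Subgroup.commutator_inf_eq_focalSubgroup P
  rw [MinSimpleBasic.commutator_eq_top hG, top_inf_eq] at h1
  have h2 : (P : Subgroup G) ≤ ⁅M, M⁆ := by rw [h1]; exact hfoc
  have hJO : J (P : Subgroup G) ≤ (pCore p M).map M.subtype :=
    le_pCore_map_of_normal hJPp (hM ▸ le_normalizer) hM.le
  have hO : pCore p M ≠ ⊥ := by
    intro h0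
    rw [h0, Subgroup.map_bot] at hJO
    exact hJP (le_bot_iff.mp hJO)
  have h3 : ((P.subtype hPM : Sylow p M) : Subgroup M) ≤ commutator M := by
    intro x hx
    have hxP : (x : G) ∈ (P : Subgroup G) := hx
    have h4 := h2 hxP
    rw [← Subgroup.map_subtype_commutator] at h4
    obtain ⟨y, hy, hyx⟩ := h4
    have : y = x := Subtype.ext hyx
    rwa [← this]
  have h4 := sylow_le_pCore_of_le_commutator hO (hCP.subgroup M) (P.subtype hPM) h3
  have h5 : (P : Subgroup G) ≤ (pCore p M).map M.subtype := by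
    intro x hx
    exact ⟨⟨x, hPM hx⟩, h4 hx, rfl⟩
  have h6 : (pCore p M).map M.subtype = (P : Subgroup G) :=
    P.3 ((Lib.Cores.pCore_isPGroup p).map _) h5
  apply h
  rw [← h6]
  exact conj_pCore_map (hfus g hne)

end Cfsg.Agent.OddOrderLocal.CNSylowTI
end
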