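import Mathlib
set_option linter.all false

/-!
# Frobenius groups acting on vector spaces

`K` and `R` finite groups acting on a finite-dimensional vector space `V` over a field `F` of
characteristic not dividing `|K|`, where `R` acts on `K` compatibly and fixed-point-freely
(so `K ⋊ R` is a Frobenius group when both are nontrivial) and `C_V(K) = 0`.
Then `dim V = |R| * dim C_V(R)` (no assumption on `|R|`), and if `dim V = |R|` then the elements of
`K` commute on `V`.  Main result: `finrank_eq`.  Over an algebraically closed field, `V` is the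
direct sum of the `R`-translates of a `K`-submodule: `exists_free`, `exists_equiv`.
-/

set_option autoImplicit false
namespace Cfsg.Agent.OddOrderLocal.FrobRep

open Module TensorProduct

/-- The trace form on endomorphisms is nondegenerate. -/
theorem eq_zero_of_trace_comp_eq_zero {E W : Type*} [Field E] [AddCommGroup W] [Module E W]
    [FiniteDimensional E W] (T : W →ₗ[E] W)
    (h : ∀ f : W →ₗ[E] W, LinearMap.trace E W (f ∘ₗ T) = 0) : T = 0 := by
  refine LinearMap.ext fun w => ?_
  rw [LinearMap.zero_apply, ← Module.forall_dual_apply_eq_zero_iff E]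
  intro φ
  have := h (φ.smulRight w)
  rw [show (φ.smulRight w) ∘ₗ T = (φ ∘ₗ T).smulRight w from rfl,
    LinearMap.trace_smulRight] at this
  exact this

/-- If `W` is a nontrivial simple module for `K` over an algebraically closed field and `σ` is a
fixed-point-free automorphism of `K`, then there is no nonzero `σ`-semilinear endomorphism. -/
theorem twisted_end_eq_zero {E : Type*} [Field E] [IsAlgClosed E] {K : Type*} [Group K]
    [Finite K] (hK : (Nat.card K : E) ≠ 0)
    {W : Type*} [AddCommGroup W] [Module E W] [Module (MonoidAlgebra E K) W]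
    [IsScalarTower E (MonoidAlgebra E K) W] [FiniteDimensional E W]
    [IsSimpleModule (MonoidAlgebra E K) W]
    (hfix : ∀ w : W, (∀ k : K, (MonoidAlgebra.of E K k) • w = w) → w = 0)
    (σ : K →* K) (hσ : ∀ k, σ k = k → k = 1)
    (T : W →ₗ[E] W)
    (hT : ∀ k w, T (MonoidAlgebra.of E K k • w) = MonoidAlgebra.of E K (σ k) • T w) : T = 0 := by
  classical
  have : Fintype K := Fintype.ofFinite K
  set L : MonoidAlgebra E K →ₐ[E] Module.End E W := Algebra.lsmul E E W with hL
  have hLa : ∀ a w, L a w = a • w := fun a w => rfl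
  -- the map `k ↦ k * σ k⁻¹` is bijective
  have hinj : Function.Injective (fun k : K => k * (σ k)⁻¹) := by
    intro a b hab
    have h1 : a * (σ a)⁻¹ = b * (σ b)⁻¹ := hab
    have h2 : σ (b⁻¹ * a) = b⁻¹ * a := by
      rw [map_mul, map_inv]
      have : a = b * (σ b)⁻¹ * σ a := by rw [← h1]; group
      calc (σ b)⁻¹ * σ a = b⁻¹ * (b * (σ b)⁻¹ * σ a) := by group
        _ = b⁻¹ * a := by rw [← this]
    have h3 := hσ _ h2
    exact (inv_mul_eq_one.mp h3).symm
  have hsurj : Function.Surjective (fun k : K => k * (σ k)⁻¹) := Finite.surjective_of_injective hinj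
  have hTk : ∀ k, T ∘ₗ L (MonoidAlgebra.of E K k) = L (MonoidAlgebra.of E K (σ k)) ∘ₗ T := by
    intro k
    ext w
    exact hT k w
  -- the traces of `k T` are all equal
  have htr : ∀ k : K, LinearMap.trace E W (L (MonoidAlgebra.of E K k) ∘ₗ T) =
      LinearMap.trace E W T := by
    intro k
    obtain ⟨a, rfl⟩ := hsurj k
    have h1 : L (MonoidAlgebra.of E K (a * (σ a)⁻¹)) ∘ₗ T =
        L (MonoidAlgebra.of E K a) ∘ₗ (T ∘ₗ L (MonoidAlgebra.of E K a⁻¹)) := by
      rw [hTk, map_inv, map_mul, map_mul]
      rfl
    rw [h1, LinearMap.trace_comp_comm', LinearMap.comp_assoc]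
    have h2 : L (MonoidAlgebra.of E K a⁻¹) ∘ₗ L (MonoidAlgebra.of E K a) = LinearMap.id := by
      have : L (MonoidAlgebra.of E K a⁻¹) * L (MonoidAlgebra.of E K a) = 1 := by
        rw [← map_mul, ← map_mul, inv_mul_cancel, map_one, map_one]
      exact this
    rw [h2, LinearMap.comp_id]
  -- `∑ k` acts as zero
  have hsum : ∑ k : K, L (MonoidAlgebra.of E K k) = 0 := by
    ext w
    rw [LinearMap.sum_apply, LinearMap.zero_apply]
    apply hfix
    intro k
    rw [Finset.smul_sum]
    refine Fintype.sum_bijective (fun x => k * x) (Group.mulLeft_bijective k) _ _ fun x => ?_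
    rw [hLa, hLa, smul_smul, ← map_mul]
  have hT0 : LinearMap.trace E W T = 0 := by
    have h1 : ∑ k : K, LinearMap.trace E W (L (MonoidAlgebra.of E K k) ∘ₗ T) = 0 := by
      have h2 : ∑ k : K, (L (MonoidAlgebra.of E K k) ∘ₗ T) =
          (∑ k : K, L (MonoidAlgebra.of E K k)) ∘ₗ T := by
        ext w
        simp [LinearMap.sum_apply]
      rw [← map_sum, h2, hsum, LinearMap.zero_comp, map_zero]
    simp only [htr, Finset.sum_const, Finset.card_univ, nsmul_eq_mul] at h1
    rw [← Nat.card_eq_fintype_card] at h1
    exact (mul_eq_zero.mp h1).resolve_left hK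
  have hall : ∀ a : MonoidAlgebra E K, LinearMap.trace E W (L a ∘ₗ T) = 0 := by
    intro a
    induction a using MonoidAlgebra.induction_linear with
    | zero => simp
    | add f g hf hg => rw [map_add, LinearMap.add_comp, map_add, hf, hg, add_zero]
    | single k r =>
      have : MonoidAlgebra.single k r = r • MonoidAlgebra.of E K k := by
        simp [MonoidAlgebra.of_apply, MonoidAlgebra.smul_single]
      rw [this, map_smul, LinearMap.smul_comp, map_smul, htr, hT0, smul_zero]
  apply eq_zero_of_trace_comp_eq_zero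
  intro f
  -- Burnside: `f` is in the image of the group algebra
  have hbij := IsSimpleModule.algebraMap_end_bijective_of_isAlgClosed (A := MonoidAlgebra E K)
    (V := W) E
  let f' : Module.End (Module.End (MonoidAlgebra E K) W) W :=
    { toFun := f
      map_add' := f.map_add
      map_smul' := by
        intro g w
        obtain ⟨c, rfl⟩ := hbij.2 g
        simp }
  let b := Module.finBasis E W
  obtain ⟨a, ha⟩ := jacobson_density f' (Finset.univ.image b)
  have hfa : f = L a := by
    apply b.ext
    intro i
    exact ha (b i) (by simp)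
  rw [hfa]
  exact hall a


/-! ### The structure theorem over an algebraically closed field -/

section Structure

variable {E : Type*} [Field E] {K : Type*} [Group K] {R : Type*} [Group R]
  {V : Type*} [AddCommGroup V] [Module E V] [Module (MonoidAlgebra E K) V]
  [IsScalarTower E (MonoidAlgebra E K) V]

/-- `τ r` is semilinear with respect to the automorphism `σ r` of `K`. -/
def Compat (σ : R →* MulAut K) (τ : R →* Module.End E V) : Prop :=
  ∀ r k v, τ r (MonoidAlgebra.of E K k • v) = MonoidAlgebra.of E K (σ r k) • τ r v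

variable {σ : R →* MulAut K} {τ : R →* Module.End E V}

theorem compat_smul (h : Compat σ τ) (r : R) (a : MonoidAlgebra E K) (v : V) :
    τ r (a • v) = MonoidAlgebra.mapDomainAlgHom E E (σ r : K →* K) a • τ r v := by
  induction a using MonoidAlgebra.induction_linear with
  | zero => simp
  | add f g hf hg => rw [add_smul, map_add, hf, hg, map_add, add_smul]
  | single k c =>
    have h1 : MonoidAlgebra.single k c = c • MonoidAlgebra.of E K k := by
      simp [MonoidAlgebra.of_apply, MonoidAlgebra.smul_single]
    have h2 : MonoidAlgebra.mapDomainAlgHom E E (σ r : K →* K) (MonoidAlgebra.of E K k) =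
      MonoidAlgebra.of E K (σ r k) := by simp
    rw [h1, smul_assoc, map_smul, h, map_smul, h2, smul_assoc]

theorem tau_inv_tau (r : R) (v : V) : τ r⁻¹ (τ r v) = v := by
  rw [← Module.End.mul_apply, ← map_mul, inv_mul_cancel, map_one, Module.End.one_apply]

theorem tau_tau_inv (r : R) (v : V) : τ r (τ r⁻¹ v) = v := by
  rw [← Module.End.mul_apply, ← map_mul, mul_inv_cancel, map_one, Module.End.one_apply]

/-- The translate of a `K`-submodule by `r`. -/
def tw (h : Compat σ τ) (r : R) (m : Submodule (MonoidAlgebra E K) V) :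
    Submodule (MonoidAlgebra E K) V where
  carrier := {v | τ r⁻¹ v ∈ m}
  add_mem' := by
    intro a b ha hb
    change τ r⁻¹ (a + b) ∈ m
    rw [map_add]
    exact m.add_mem ha hb
  zero_mem' := by
    change τ r⁻¹ 0 ∈ m
    rw [map_zero]
    exact m.zero_mem
  smul_mem' := by
    intro a v hv
    change τ r⁻¹ (a • v) ∈ m
    rw [compat_smul h]
    exact m.smul_mem _ hv

theorem mem_tw (h : Compat σ τ) (r : R) (m : Submodule (MonoidAlgebra E K) V) (v : V) :
    v ∈ tw h r m ↔ τ r⁻¹ v ∈ m := Iff.rfl

theorem tw_one (h : Compat σ τ) (m : Submodule (MonoidAlgebra E K) V) : tw h 1 m = m := by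
  ext v
  rw [mem_tw, inv_one, map_one, Module.End.one_apply]

theorem tw_mul (h : Compat σ τ) (r s : R) (m : Submodule (MonoidAlgebra E K) V) :
    tw h (r * s) m = tw h r (tw h s m) := by
  ext v
  rw [mem_tw, mem_tw, mem_tw, mul_inv_rev, map_mul, Module.End.mul_apply]

theorem tw_mono (h : Compat σ τ) (r : R) {m n : Submodule (MonoidAlgebra E K) V} (hmn : m ≤ n) :
    tw h r m ≤ tw h r n := fun _ hv => hmn hv

/-- translation is an order isomorphism -/
def twIso (h : Compat σ τ) (r : R) :
    Submodule (MonoidAlgebra E K) V ≃o Submodule (MonoidAlgebra E K) V where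
  toFun := tw h r
  invFun := tw h r⁻¹
  left_inv m := by
    rw [← tw_mul, inv_mul_cancel, tw_one]
  right_inv m := by
    rw [← tw_mul, mul_inv_cancel, tw_one]
  map_rel_iff' := by
    intro m n
    constructor
    · intro hmn
      have := tw_mono h r⁻¹ hmn
      change tw h r⁻¹ (tw h r m) ≤ tw h r⁻¹ (tw h r n) at this
      rwa [← tw_mul, ← tw_mul, inv_mul_cancel, tw_one, tw_one] at this
    · exact tw_mono h r

theorem twIso_apply (h : Compat σ τ) (r : R) (m : Submodule (MonoidAlgebra E K) V) :
    twIso h r m = tw h r m := rfl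

theorem tau_mem_tw (h : Compat σ τ) (r : R) {m : Submodule (MonoidAlgebra E K) V} {v : V}
    (hv : v ∈ m) : τ r v ∈ tw h r m := by
  rw [mem_tw, tau_inv_tau]
  exact hv

/-- transport of an isomorphism -/
noncomputable def twEquiv (h : Compat σ τ) (r : R) {m n : Submodule (MonoidAlgebra E K) V}
    (e : m ≃ₗ[MonoidAlgebra E K] n) : tw h r m ≃ₗ[MonoidAlgebra E K] tw h r n where
  toFun x := ⟨τ r (e ⟨τ r⁻¹ x.1, x.2⟩ : n), tau_mem_tw h r (e ⟨τ r⁻¹ x.1, x.2⟩ : n).2⟩
  invFun x := ⟨τ r (e.symm ⟨τ r⁻¹ x.1, x.2⟩ : m), tau_mem_tw h r (e.symm ⟨τ r⁻¹ x.1, x.2⟩ : m).2⟩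
  left_inv x := by
    apply Subtype.ext
    simp only [tau_inv_tau, tau_tau_inv, Subtype.coe_eta, LinearEquiv.symm_apply_apply]
  right_inv x := by
    apply Subtype.ext
    simp only [tau_inv_tau, tau_tau_inv, Subtype.coe_eta, LinearEquiv.apply_symm_apply]
  map_add' x y := by
    apply Subtype.ext
    change τ r (e ⟨τ r⁻¹ (x.1 + y.1), (x + y).2⟩ : n) =
      τ r (e ⟨τ r⁻¹ x.1, x.2⟩ : n) + τ r (e ⟨τ r⁻¹ y.1, y.2⟩ : n)
    have h1 : (⟨τ r⁻¹ (x.1 + y.1), (tw h r m).add_mem x.2 y.2⟩ : m) =
        ⟨τ r⁻¹ x.1, x.2⟩ + ⟨τ r⁻¹ y.1, y.2⟩ := by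
      apply Subtype.ext
      exact map_add _ _ _
    rw [h1, map_add, Submodule.coe_add, map_add]
  map_smul' a x := by
    apply Subtype.ext
    change τ r (e ⟨τ r⁻¹ (a • x.1), (a • x).2⟩ : n) = a • τ r (e ⟨τ r⁻¹ x.1, x.2⟩ : n)
    have h1 : (⟨τ r⁻¹ (a • x.1), (tw h r m).smul_mem a x.2⟩ : m) =
        MonoidAlgebra.mapDomainAlgHom E E (σ r⁻¹ : K →* K) a • ⟨τ r⁻¹ x.1, x.2⟩ := by
      apply Subtype.ext
      exact compat_smul h _ _ _
    rw [h1, map_smul, Submodule.coe_smul, compat_smul h]
    congr 1
    have : ∀ b : MonoidAlgebra E K, MonoidAlgebra.mapDomainAlgHom E E (σ r : K →* K)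
        (MonoidAlgebra.mapDomainAlgHom E E (σ r⁻¹ : K →* K) b) = b := by
      intro b
      induction b using MonoidAlgebra.induction_linear with
      | zero => simp
      | add f g hf hg => rw [map_add, map_add, hf, hg]
      | single k c => simp
    exact this a

theorem tw_isotypicComponent (h : Compat σ τ) (r : R) (S : Submodule (MonoidAlgebra E K) V) :
    tw h r (isotypicComponent (MonoidAlgebra E K) V S) =
      isotypicComponent (MonoidAlgebra E K) V (tw h r S) := by
  rw [isotypicComponent, isotypicComponent, ← twIso_apply, (twIso h r).map_sSup, ← sSup_image]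
  congr 1
  ext m
  constructor
  · rintro ⟨n, ⟨e⟩, rfl⟩
    exact ⟨twEquiv h r e⟩
  · rintro ⟨e⟩
    refine ⟨tw h r⁻¹ m, ⟨?_⟩, ?_⟩
    · have e' := twEquiv h r⁻¹ e
      rw [← tw_mul h r⁻¹ r S, inv_mul_cancel, tw_one] at e'
      exact e'
    · rw [twIso_apply, ← tw_mul, mul_inv_cancel, tw_one]

theorem isSimpleModule_tw (h : Compat σ τ) (r : R) (S : Submodule (MonoidAlgebra E K) V)
    [hS : IsSimpleModule (MonoidAlgebra E K) S] :
    IsSimpleModule (MonoidAlgebra E K) (tw h r S) := by
  rw [isSimpleModule_iff_isAtom] at hS ⊢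
  rw [← twIso_apply, OrderIso.isAtom_iff]
  exact hS

theorem tw_mem_isotypicComponents (h : Compat σ τ) (r : R)
    {c : Submodule (MonoidAlgebra E K) V} (hc : c ∈ isotypicComponents (MonoidAlgebra E K) V) :
    tw h r c ∈ isotypicComponents (MonoidAlgebra E K) V := by
  obtain ⟨S, hS, rfl⟩ := hc
  exact ⟨tw h r S, isSimpleModule_tw h r S, tw_isotypicComponent h r S⟩

end Structure

section Free

variable {E : Type*} [Field E] {K : Type*} [Group K] {R : Type*} [Group R]
  {V : Type*} [AddCommGroup V] [Module E V] [Module (MonoidAlgebra E K) V]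
  [IsScalarTower E (MonoidAlgebra E K) V]
  {σ : R →* MulAut K} {τ : R →* Module.End E V}

theorem not_equiv_tw [IsAlgClosed E] [Finite K] (hK : (Nat.card K : E) ≠ 0)
    [FiniteDimensional E V] (h : Compat σ τ)
    (hfix : ∀ v : V, (∀ k : K, MonoidAlgebra.of E K k • v = v) → v = 0)
    (hσ : ∀ r : R, r ≠ 1 → ∀ k, σ r k = k → k = 1) (r : R) (hr : r ≠ 1)
    (S : Submodule (MonoidAlgebra E K) V) [IsSimpleModule (MonoidAlgebra E K) S]
    (e : tw h r S ≃ₗ[MonoidAlgebra E K] S) : False := by
  let T : S →ₗ[E] S :=
    { toFun := fun w => e ⟨τ r w, tau_mem_tw h r w.2⟩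
      map_add' := by
        intro x y
        rw [← map_add]
        congr 1
        apply Subtype.ext
        exact map_add _ _ _
      map_smul' := by
        intro c x
        have h1 : (⟨τ r ((c • x : S) : V), tau_mem_tw h r (c • x : S).2⟩ : tw h r S) =
            c • ⟨τ r x, tau_mem_tw h r x.2⟩ := by
          apply Subtype.ext
          exact map_smul _ _ _
        rw [h1]
        exact (e.toLinearMap.restrictScalars E).map_smul c _ }
  have : FiniteDimensional E S :=
    FiniteDimensional.of_injective (S.subtype.restrictScalars E) Subtype.val_injective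
  have hT : T = 0 := by
    refine twisted_end_eq_zero hK (σ := (σ r : K →* K)) ?_ (hσ r hr) T ?_
    · intro w hw
      apply Subtype.ext
      apply hfix
      intro k
      exact congrArg Subtype.val (hw k)
    · intro k w
      change e ⟨τ r ((MonoidAlgebra.of E K k • w : S) : V), _⟩ =
        MonoidAlgebra.of E K (σ r k) • e ⟨τ r w, _⟩
      rw [← map_smul]
      congr 1
      apply Subtype.ext
      exact h r k w
  have := IsSimpleModule.nontrivial (MonoidAlgebra E K) S
  obtain ⟨w, hw⟩ := exists_ne (0 : S)
  have h1 : T w = 0 := by rw [hT]; rfl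
  have h2 : e ⟨τ r w, tau_mem_tw h r w.2⟩ = 0 := h1
  rw [LinearEquiv.map_eq_zero_iff] at h2
  have h3 : τ r w = 0 := congrArg Subtype.val h2
  apply hw
  apply Subtype.ext
  rw [← tau_inv_tau (τ := τ) r (w : V), h3, map_zero]
  rfl

theorem exists_free [IsAlgClosed E] [Finite K] (hK : (Nat.card K : E) ≠ 0)
    [FiniteDimensional E V] (h : Compat σ τ)
    (hfix : ∀ v : V, (∀ k : K, MonoidAlgebra.of E K k • v = v) → v = 0)
    (hσ : ∀ r : R, r ≠ 1 → ∀ k, σ r k = k → k = 1) :
    ∃ U : Submodule (MonoidAlgebra E K) V,
      iSupIndep (fun r : R => tw h r U) ∧ ⨆ r : R, tw h r U = ⊤ := by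
  classical
  have : NeZero (Nat.card K : E) := ⟨hK⟩
  let act : MulAction R (isotypicComponents (MonoidAlgebra E K) V) :=
    { smul := fun r c => ⟨tw h r c, tw_mem_isotypicComponents h r c.2⟩
      one_smul := fun c => Subtype.ext (tw_one h c.1)
      mul_smul := fun r s c => Subtype.ext (tw_mul h r s c.1) }
  have hact : ∀ (r : R) (c : isotypicComponents (MonoidAlgebra E K) V),
    ((r • c : isotypicComponents (MonoidAlgebra E K) V) :
      Submodule (MonoidAlgebra E K) V) = tw h r c := fun r c => rfl
  have hfree : ∀ (r : R) (c : isotypicComponents (MonoidAlgebra E K) V), r • c = c → r = 1 := by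
    intro r c hrc
    by_contra hr
    obtain ⟨S, hS, hSc⟩ :=
      (IsSemisimpleModule.eq_bot_or_exists_simple_le c.1).resolve_left
        (bot_lt_isotypicComponents c.2).ne'
    have h1 : tw h r S ≤ c.1 := by
      have h2 := tw_mono h r hS
      rw [← hact, hrc] at h2
      exact h2
    have hiso := IsIsotypic.isotypicComponents c.2
    rw [isIsotypic_submodule_iff] at hiso
    have h2 := isIsotypicOfType_submodule_iff.mp (hiso S hS)
    have := isSimpleModule_tw h r S
    obtain ⟨e⟩ := h2 (tw h r S) h1
    exact not_equiv_tw hK h hfix hσ r hr S e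
  let Ω := MulAction.orbitRel.Quotient R (isotypicComponents (MonoidAlgebra E K) V)
  let F : R × Ω → isotypicComponents (MonoidAlgebra E K) V := fun p => p.1 • (Quotient.out p.2)
  have hFinj : Function.Injective F := by
    rintro ⟨r, ω⟩ ⟨r', ω'⟩ hF
    change r • (Quotient.out ω) = r' • (Quotient.out ω') at hF
    have h1 : ω = ω' := by
      rw [← Quotient.out_eq ω, ← Quotient.out_eq ω']
      apply Quotient.sound
      change Quotient.out ω ∈ MulAction.orbit R (Quotient.out ω')
      refine ⟨r⁻¹ * r', ?_⟩
      change (r⁻¹ * r') • (Quotient.out ω') = Quotient.out ω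
      rw [mul_smul, ← hF, inv_smul_smul]
    subst h1
    have h2 : (r'⁻¹ * r) • (Quotient.out ω) = Quotient.out ω := by
      rw [mul_smul, hF, inv_smul_smul]
    have h3 := hfree _ _ h2
    rw [inv_mul_eq_one] at h3
    rw [h3]
  have hFsurj : ∀ c, ∃ p, F p = c := by
    intro c
    have h1 : (MulAction.orbitRel R _) (Quotient.out (Quotient.mk _ c : Ω)) c :=
      Quotient.mk_out (s := MulAction.orbitRel R _) c
    have h2 : c ∈ MulAction.orbit R (Quotient.out (Quotient.mk _ c : Ω)) :=
      (MulAction.orbitRel R _).symm h1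
    obtain ⟨r, hr⟩ := h2
    exact ⟨(r, Quotient.mk _ c), hr⟩
  have hind : iSupIndep (fun p : R × Ω => (F p : Submodule (MonoidAlgebra E K) V)) :=
    ((sSupIndep_iff _).mp (sSupIndep_isotypicComponents (MonoidAlgebra E K) V)).comp hFinj
  let U : Submodule (MonoidAlgebra E K) V := ⨆ ω : Ω, (Quotient.out ω : isotypicComponents (MonoidAlgebra E K) V).1
  have hU : ∀ r, tw h r U = ⨆ ω : Ω, (F (r, ω) : Submodule (MonoidAlgebra E K) V) := by
    intro r
    rw [← twIso_apply, OrderIso.map_iSup]
    rfl
  refine ⟨U, ?_, ?_⟩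
  · intro r
    have hdis : Disjoint {p : R × Ω | p.1 = r} {p : R × Ω | p.1 ≠ r} := by
      rw [Set.disjoint_left]
      intro p hp hp'
      exact hp' hp
    have h1 := hind.disjoint_biSup_biSup hdis
    refine h1.mono ?_ ?_
    · change tw h r U ≤ _
      rw [hU]
      refine iSup_le fun ω => ?_
      exact le_iSup₂_of_le (r, ω) rfl le_rfl
    · refine iSup₂_le fun s hs => ?_
      change tw h s U ≤ _
      rw [hU]
      refine iSup_le fun ω => ?_
      exact le_iSup₂_of_le (s, ω) hs le_rfl
  · rw [eq_top_iff, ← sSup_isotypicComponents (MonoidAlgebra E K) V]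
    refine sSup_le fun c hc => ?_
    obtain ⟨⟨r, ω⟩, hp⟩ := hFsurj ⟨c, hc⟩
    have : c = (F (r, ω) : Submodule (MonoidAlgebra E K) V) := by rw [hp]
    rw [this]
    refine le_iSup_of_le r ?_
    rw [hU]
    exact le_iSup (fun ω : Ω => (F (r, ω) : Submodule (MonoidAlgebra E K) V)) ω

end Free

/-! ### Dimension formulas -/

section Dim

variable {E : Type*} [Field E] {K : Type*} [Group K] {R : Type*} [Group R]
  {V : Type*} [AddCommGroup V] [Module E V] [Module (MonoidAlgebra E K) V]
  [IsScalarTower E (MonoidAlgebra E K) V]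
  {σ : R →* MulAut K} {τ : R →* Module.End E V}

theorem exists_equiv [IsAlgClosed E] [Finite K] [Fintype R] (hK : (Nat.card K : E) ≠ 0)
    [FiniteDimensional E V] (h : Compat σ τ)
    (hfix : ∀ v : V, (∀ k : K, MonoidAlgebra.of E K k • v = v) → v = 0)
    (hσ : ∀ r : R, r ≠ 1 → ∀ k, σ r k = k → k = 1) :
    ∃ (U : Submodule (MonoidAlgebra E K) V) (Φ : (R → U) ≃ₗ[E] V),
      ∀ u, Φ u = ∑ r, τ r (u r) := by
  classical
  obtain ⟨U, hind, htop⟩ := exists_free hK h hfix hσ
  let Φ : (R → U) →ₗ[E] V :=
    { toFun := fun u => ∑ r, τ r (u r)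
      map_add' := by
        intro u v
        simp only [Pi.add_apply, Submodule.coe_add, map_add, Finset.sum_add_distrib]
      map_smul' := by
        intro c u
        simp only [Pi.smul_apply, RingHom.id_apply, Finset.smul_sum]
        refine Finset.sum_congr rfl fun r _ => ?_
        exact map_smul _ _ _ }
  have hΦ : ∀ u, Φ u = ∑ r, τ r (u r) := fun u => rfl
  have hinj : Function.Injective Φ := by
    rw [← LinearMap.ker_eq_bot, LinearMap.ker_eq_bot']
    intro u hu
    rw [hΦ] at hu
    rw [iSupIndep_iff_finsetSum_eq_zero_imp_eq_zero] at hind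
    have h1 := hind Finset.univ (fun r => τ r (u r)) (fun r _ => tau_mem_tw h r (u r).2) hu
    funext r
    apply Subtype.ext
    have h2 := h1 r (Finset.mem_univ r)
    have h3 : τ r (u r) = 0 := h2
    rw [← tau_inv_tau (τ := τ) r (u r : V), h3, map_zero]
    rfl
  have hsurj : Function.Surjective Φ := by
    intro v
    have hv : v ∈ ⨆ r : R, tw h r U := by rw [htop]; exact Submodule.mem_top
    change v ∈ LinearMap.range Φ
    refine Submodule.iSup_induction (fun r : R => tw h r U) (motive := fun v => v ∈ LinearMap.range Φ)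
      hv ?_ (Submodule.zero_mem _) (fun x y hx hy => Submodule.add_mem _ hx hy)
    intro r x hx
    refine ⟨Pi.single r ⟨τ r⁻¹ x, hx⟩, ?_⟩
    rw [hΦ, Finset.sum_eq_single r]
    · rw [Pi.single_eq_same, tau_tau_inv]
    · intro s _ hs
      rw [Pi.single_eq_of_ne hs]
      exact map_zero _
    · intro hr
      exact absurd (Finset.mem_univ r) hr
  exact ⟨U, LinearEquiv.ofBijective Φ ⟨hinj, hsurj⟩, hΦ⟩

theorem finrank_eq_alg [IsAlgClosed E] [Finite K] [Finite R] (hK : (Nat.card K : E) ≠ 0)
    [FiniteDimensional E V] (h : Compat σ τ)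
    (hfix : ∀ v : V, (∀ k : K, MonoidAlgebra.of E K k • v = v) → v = 0)
    (hσ : ∀ r : R, r ≠ 1 → ∀ k, σ r k = k → k = 1) :
    finrank E V = Nat.card R * finrank E (Representation.invariants (τ : Representation E R V)) ∧
    (finrank E V = Nat.card R → ∀ (k k' : K) (v : V), MonoidAlgebra.of E K k •
      MonoidAlgebra.of E K k' • v = MonoidAlgebra.of E K k' • MonoidAlgebra.of E K k • v) := by
  classical
  have : Fintype R := Fintype.ofFinite R
  obtain ⟨U, Φ, hΦ⟩ := exists_equiv hK h hfix hσ
  have hUfin : FiniteDimensional E U :=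
    FiniteDimensional.of_injective (U.subtype.restrictScalars E) Subtype.val_injective
  have hdim : finrank E V = Nat.card R * finrank E U := by
    rw [← Φ.finrank_eq, Nat.card_eq_fintype_card, Module.finrank_pi_fintype, Finset.sum_const,
      Finset.card_univ, smul_eq_mul]
  have htr : ∀ (s : R) (u : R → U), Φ (fun r => u (s⁻¹ * r)) = τ s (Φ u) := by
    intro s u
    rw [hΦ, hΦ, map_sum]
    refine (Fintype.sum_bijective (fun x => s * x) (Group.mulLeft_bijective s) _ _ fun x => ?_).symm
    rw [map_mul, Module.End.mul_apply, inv_mul_cancel_left]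
  let Ψ : U →ₗ[E] Representation.invariants (τ : Representation E R V) :=
    { toFun := fun x => ⟨Φ (fun _ => x), by
        rw [Representation.mem_invariants]
        intro s
        exact (htr s (fun _ => x)).symm⟩
      map_add' := by
        intro x y
        apply Subtype.ext
        change Φ (fun _ => x + y) = Φ (fun _ => x) + Φ (fun _ => y)
        rw [← map_add]
        rfl
      map_smul' := by
        intro c x
        apply Subtype.ext
        change Φ (fun _ => c • x) = c • Φ (fun _ => x)
        rw [← map_smul]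
        rfl }
  have hΨ : Function.Bijective Ψ := by
    constructor
    · intro x y hxy
      have h1 : Φ (fun _ => x) = Φ (fun _ => y) := congrArg Subtype.val hxy
      exact congrFun (Φ.injective h1) 1
    · rintro ⟨v, hv⟩
      rw [Representation.mem_invariants] at hv
      obtain ⟨u, rfl⟩ := Φ.surjective v
      refine ⟨u 1, ?_⟩
      apply Subtype.ext
      change Φ (fun _ => u 1) = Φ u
      congr 1
      funext s
      have h1 := hv s
      rw [← htr] at h1
      have h2 := congrFun (Φ.injective h1) s
      rwa [inv_mul_cancel] at h2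
  have hinv : finrank E (Representation.invariants (τ : Representation E R V)) = finrank E U :=
    (LinearEquiv.ofBijective Ψ hΨ).finrank_eq.symm
  refine ⟨by rw [hinv, hdim], ?_⟩
  intro hV k k' v
  have hU1 : finrank E U = 1 := by
    have hR : 0 < Nat.card R := Nat.card_pos
    rw [hV] at hdim
    exact (Nat.eq_of_mul_eq_mul_left hR (by rw [mul_one]; exact hdim)).symm
  -- on `U` all elements of `K` act as scalars
  have hUcomm : ∀ (k k' : K) (x : U), MonoidAlgebra.of E K k • MonoidAlgebra.of E K k' • x =
      MonoidAlgebra.of E K k' • MonoidAlgebra.of E K k • x := by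
    obtain ⟨x0, hx0, hspan⟩ := finrank_eq_one_iff'.mp hU1
    intro k k' x
    obtain ⟨c, rfl⟩ := hspan x
    obtain ⟨a, ha⟩ := hspan (MonoidAlgebra.of E K k • x0)
    obtain ⟨b, hb⟩ := hspan (MonoidAlgebra.of E K k' • x0)
    have hc : ∀ (k : K) (c : E) (y : U), MonoidAlgebra.of E K k • c • y =
        c • MonoidAlgebra.of E K k • y := fun k c y => smul_comm _ _ _
    rw [hc, hc, hc, hc, ← ha, ← hb, hc, hc, ← ha, ← hb, smul_comm a b]
  obtain ⟨u, rfl⟩ := Φ.surjective v
  rw [hΦ]
  simp only [Finset.smul_sum]
  refine Finset.sum_congr rfl fun r _ => ?_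
  have h1 : ∀ (k : K) (x : V), MonoidAlgebra.of E K k • τ r x =
      τ r (MonoidAlgebra.of E K (σ r⁻¹ k) • x) := by
    intro k x
    rw [h, ← MulAut.mul_apply, ← map_mul, mul_inv_cancel, map_one, MulAut.one_apply]
  rw [h1, h1, h1, h1]
  have h2 := hUcomm (σ r⁻¹ k) (σ r⁻¹ k') (u r)
  have h3 := congrArg Subtype.val h2
  simp only [Submodule.coe_smul] at h3
  rw [h3]

end Dim

section Rep

/-- **Main theorem.**  `K` and `R` finite groups acting on the finite-dimensional space `V` over a
field of characteristic not dividing `|K|`, where `R` acts on `K` (compatibly) fixed point freely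
and `C_V(K) = 0`.  Then `dim V = |R| dim C_V(R)`, and if `dim V = |R|` then `K` acts on `V` as an
abelian group. -/
theorem finrank_eq {F : Type*} [Field F] {K : Type*} [Group K] [Finite K]
    {R : Type*} [Group R] [Finite R] {V : Type*} [AddCommGroup V] [Module F V]
    [FiniteDimensional F V] (hK : (Nat.card K : F) ≠ 0)
    (ρ : Representation F K V) (τ : Representation F R V) (σ : R →* MulAut K)
    (hcompat : ∀ r k v, τ r (ρ k v) = ρ (σ r k) (τ r v))
    (hfix : ∀ v : V, (∀ k : K, ρ k v = v) → v = 0)
    (hσ : ∀ r : R, r ≠ 1 → ∀ k, σ r k = k → k = 1) :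
    finrank F V = Nat.card R * finrank F τ.invariants ∧
    (finrank F V = Nat.card R → ∀ (k k' : K) (v : V), ρ k (ρ k' v) = ρ k' (ρ k v)) := by
  classical
  have : Fintype K := Fintype.ofFinite K
  have : Fintype R := Fintype.ofFinite R
  let E := AlgebraicClosure F
  let W := TensorProduct F E V
  let ρE : Representation E K W :=
    { toFun := fun k => (ρ k).baseChange E
      map_one' := by
        rw [map_one]
        exact LinearMap.baseChange_id
      map_mul' := by
        intro a b
        rw [map_mul]
        exact LinearMap.baseChange_comp _ _ }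
  let τE : Representation E R W :=
    { toFun := fun k => (τ k).baseChange E
      map_one' := by
        rw [map_one]
        exact LinearMap.baseChange_id
      map_mul' := by
        intro a b
        rw [map_mul]
        exact LinearMap.baseChange_comp _ _ }
  have hρE : ∀ k, ρE k = (ρ k).baseChange E := fun k => rfl
  have hτE : ∀ k, τE k = (τ k).baseChange E := fun k => rfl
  let instM : Module (MonoidAlgebra E K) W := Module.compHom W ρE.asAlgebraHom.toRingHom
  have hsm : ∀ (a : MonoidAlgebra E K) (w : W), a • w = ρE.asAlgebraHom a w := fun a w => rfl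
  have hof : ∀ (k : K) (w : W), MonoidAlgebra.of E K k • w = ρE k w := by
    intro k w
    rw [hsm, MonoidAlgebra.of_apply, Representation.asAlgebraHom_single, one_smul]
  have instT : IsScalarTower E (MonoidAlgebra E K) W := by
    constructor
    intro c a w
    rw [hsm, hsm, map_smul]
    rfl
  have hKE : (Nat.card K : E) ≠ 0 := by
    intro h0
    apply hK
    have : algebraMap F E (Nat.card K : F) = 0 := by
      rw [map_natCast]
      exact h0
    exact (map_eq_zero _).mp this
  have hcE : Compat (V := W) σ τE := by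
    intro r k w
    rw [hof, hof, hρE, hρE, hτE]
    have h1 : (τ r) ∘ₗ (ρ k) = (ρ (σ r k)) ∘ₗ (τ r) := LinearMap.ext (hcompat r k)
    have h2 := congrArg (LinearMap.baseChange E) h1
    rw [LinearMap.baseChange_comp, LinearMap.baseChange_comp] at h2
    exact LinearMap.congr_fun h2 w
  have hsum0 : ∑ k : K, ρ k = 0 := by
    ext v
    rw [LinearMap.sum_apply, LinearMap.zero_apply]
    apply hfix
    intro k
    rw [map_sum]
    refine Fintype.sum_bijective (fun x => k * x) (Group.mulLeft_bijective k) _ _ fun x => ?_
    rw [map_mul, Module.End.mul_apply]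
  have hfixE : ∀ w : W, (∀ k : K, MonoidAlgebra.of E K k • w = w) → w = 0 := by
    intro w hw
    have h1 : ∑ k : K, ρE k w = 0 := by
      have h2 : ∑ k : K, ρE k = 0 := by
        have h3 : ∑ k : K, ρE k = (∑ k : K, ρ k).baseChange E := by
          simp only [hρE]
          exact (map_sum (LinearMap.baseChangeHom F E V V) _ _).symm
        rw [h3, hsum0, LinearMap.baseChange_zero]
      rw [← LinearMap.sum_apply, h2, LinearMap.zero_apply]
    have h2 : ∑ k : K, ρE k w = (Nat.card K : E) • w := by
      rw [Nat.card_eq_fintype_card, Nat.cast_smul_eq_nsmul, ← Finset.card_univ, ← Finset.sum_const]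
      exact Finset.sum_congr rfl fun k _ => by rw [← hof, hw]
    rw [h1] at h2
    exact (smul_eq_zero.mp h2.symm).resolve_left hKE
  obtain ⟨hA, hB⟩ := finrank_eq_alg (V := W) hKE hcE hfixE hσ
  have hdimV : finrank E W = finrank F V := Module.finrank_baseChange
  have hinv : finrank E (Representation.invariants τE) = finrank F τ.invariants := by
    -- the invariants are the kernel of a linear map
    let f : V →ₗ[F] (R → V) := LinearMap.pi fun r => τ r - LinearMap.id
    have hf : τ.invariants = LinearMap.ker f := by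
      ext v
      rw [Representation.mem_invariants, LinearMap.mem_ker]
      constructor
      · intro hv
        funext r
        simp [f, hv r]
      · intro hv r
        have := congrFun hv r
        simpa [f, sub_eq_zero] using this
    have hfE : Representation.invariants τE =
        LinearMap.ker (TensorProduct.AlgebraTensorModule.lTensor E E f) := by
      have hpi : ∀ (w : W) (r : R), TensorProduct.piRight F E E (fun _ : R => V)
          (TensorProduct.AlgebraTensorModule.lTensor E E f w) r = τE r w - w := by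
        intro w r
        rw [hτE]
        induction w using TensorProduct.induction_on with
        | zero => simp
        | tmul x v =>
          rw [LinearMap.baseChange_tmul]
          simp [f, TensorProduct.tmul_sub]
        | add x y hx hy =>
          rw [map_add, map_add, Pi.add_apply, hx, hy, map_add]
          abel
      ext w
      rw [Representation.mem_invariants, LinearMap.mem_ker,
        ← (TensorProduct.piRight F E E (fun _ : R => V)).map_eq_zero_iff]
      constructor
      · intro hw
        funext r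
        rw [hpi, hw r, sub_self]
        rfl
      · intro hw r
        have := congrFun hw r
        rw [hpi] at this
        exact sub_eq_zero.mp this
    rw [hfE, hf, ← (LinearMap.tensorKerEquiv E E f).finrank_eq]
    exact Module.finrank_baseChange
  constructor
  · rw [← hdimV, ← hinv, hA]
  · intro hV k k' v
    have h1 := hB (by rw [hdimV, hV]) k k' (1 ⊗ₜ[F] v)
    rw [hof, hof, hof, hof] at h1
    simp only [hρE] at h1
    rw [LinearMap.baseChange_tmul, LinearMap.baseChange_tmul, LinearMap.baseChange_tmul,
      LinearMap.baseChange_tmul] at h1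
    have hinj : Function.Injective (fun v : V => (1 : E) ⊗ₜ[F] v) :=
      Module.FaithfullyFlat.tensorProduct_mk_injective (A := F) (B := E) V
    exact hinj h1

end Rep
end Cfsg.Agent.OddOrderLocal.FrobRep
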